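import Groth.Agent.FlatMorDevissage.UInjFinite

/-!
# Specialization of associated points of fibres
-/

set_option autoImplicit false
set_option backward.isDefEq.respectTransparency false

universe u

open TensorProduct Function

namespace Groth.Agent.FlatMorDevissage

open Groth.Agent

attribute [local instance] Algebra.TensorProduct.rightAlgebra

variable {R S : Type u} [CommRing R] [CommRing S] [Algebra R S]

theorem comap_fiberIdeal (p : Ideal R) [p.IsPrime] (q : Ideal S) [q.IsPrime] [hq : q.LiesOver p] :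
    (FlatCA.fiberIdeal p q).comap (algebraMap S (p.Fiber S)) = q := by
  refine le_antisymm (fun x hx => ?_) Ideal.le_comap_map
  let f : p.Fiber S →ₐ[R] q.ResidueField := Algebra.TensorProduct.lift
    (Ideal.ResidueField.mapₐ p q (Algebra.ofId R S) hq.over) (IsScalarTower.toAlgHom R S q.ResidueField)
    (fun _ _ => Commute.all _ _)
  have h1 : ∀ y : S, f (algebraMap S (p.Fiber S) y) = algebraMap S q.ResidueField y := fun y => by
    show f ((1 : p.ResidueField) ⊗ₜ[R] y) = _
    rw [Algebra.TensorProduct.lift_tmul, map_one, one_mul]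
    rfl
  have h2 : FlatCA.fiberIdeal p q ≤ RingHom.ker f.toRingHom := Ideal.map_le_iff_le_comap.2 fun y hy => by
    show f (algebraMap S (p.Fiber S) y) = 0
    rw [h1]
    exact Ideal.algebraMap_residueField_eq_zero.2 hy
  have h3 := h2 hx
  rw [RingHom.mem_ker] at h3
  exact Ideal.algebraMap_residueField_eq_zero.1 ((h1 x).symm.trans h3)

theorem fiberPrime_spec (p : Ideal R) [p.IsPrime] (P' : Ideal (p.Fiber S)) [hP' : P'.IsPrime] :
    (P'.comap (algebraMap S (p.Fiber S))).LiesOver p ∧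
      FlatCA.fiberIdeal p (P'.comap (algebraMap S (p.Fiber S))) = P' := by
  refine ⟨⟨?_⟩, le_antisymm (Ideal.map_le_iff_le_comap.2 fun a ha => ha) fun f hf => ?_⟩
  · ext r
    refine ⟨fun hr => ?_, fun hr => ?_⟩
    · show algebraMap S (p.Fiber S) (algebraMap R S r) ∈ P'
      rw [CAlgH3.FiberMod.ι_eq_zero p hr]
      exact P'.zero_mem
    · by_contra hrp
      exact hP'.ne_top (P'.eq_top_of_isUnit_mem hr (CAlgH3.FiberMod.isUnit_ι p hrp))
  · obtain ⟨s, hs, t, ht⟩ := CAlgH3.FiberMod.exists_ι_mul_eq p f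
    refine (Ideal.unit_mul_mem_iff_mem _ (CAlgH3.FiberMod.isUnit_ι (S := S) p hs)).1 ?_
    rw [ht]
    refine Ideal.mem_map_of_mem _ ?_
    rw [Ideal.mem_comap, ← ht]
    exact P'.mul_mem_left _ hf

/-- **Specialization of associated points of fibres**: if `q'` is associated in its fibre and
specializes into the fibre at `p`, it specializes to an associated point of that fibre. -/
theorem exists_assFibre_specialization [Algebra.FiniteType R S] {N : Type u} [AddCommGroup N]
    [Module S N] [Module R N] [IsScalarTower R S N] [Module.Finite S N] (p : Ideal R) [p.IsPrime]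
    (p' : Ideal R) [p'.IsPrime] (q' : Ideal S) [q'.IsPrime] [q'.LiesOver p']
    (hass : FlatCA.fiberIdeal p' q' ∈ associatedPrimes (p'.Fiber S) (FlatCA.fiberMod p' S N))
    (t : PrimeSpectrum S) (htp : t.asIdeal.comap (algebraMap R S) = p) (hq't : q' ≤ t.asIdeal)
    (hflat : FlatCA.FlatAt R t.asIdeal N) :
    ∃ (q : Ideal S) (_ : q.IsPrime), q' ≤ q ∧ q ≤ t.asIdeal ∧ q.LiesOver p ∧
      FlatCA.fiberIdeal p q ∈ associatedPrimes (p.Fiber S) (FlatCA.fiberMod p S N) := by
  classical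
  by_contra! hcon
  have : IsNoetherianRing (p.Fiber S) := Algebra.FiniteType.isNoetherianRing p.ResidueField _
  have : IsNoetherianRing (p.Fiber S) := Algebra.FiniteType.isNoetherianRing p.ResidueField _
  have : Module.Finite (p.Fiber S) (FlatCA.fiberMod p S N) :=
    inferInstanceAs (Module.Finite (p.Fiber S) ((p.Fiber S) ⊗[S] N))
  have hfin := associatedPrimes.finite (p.Fiber S) (FlatCA.fiberMod p S N)
  let W := hfin.toFinset.image (Ideal.comap (algebraMap S (p.Fiber S)))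
  have hWp : ∀ P ∈ W, P.IsPrime := fun P hP => by
    obtain ⟨P', hP', rfl⟩ := Finset.mem_image.1 hP
    have := (hfin.mem_toFinset.1 hP').isPrime
    infer_instance
  obtain ⟨s, hs, hsW⟩ : ∃ s ∈ q', ∀ P ∈ W, P ≤ t.asIdeal → s ∉ P := by
    by_contra! h
    have hsub : (q' : Set S) ⊆ ⋃ P ∈ (↑(W.filter (· ≤ t.asIdeal)) : Set (Ideal S)), (P : Set S) :=
      fun x hx => by
        obtain ⟨P, hP, hPt, hxP⟩ := h x hx
        exact Set.mem_iUnion₂.2 ⟨P, Finset.mem_filter.2 ⟨hP, hPt⟩, hxP⟩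
    obtain ⟨P, hP, hle⟩ := (Ideal.subset_union_prime ⊥ ⊥ fun P hP _ _ =>
      hWp P (Finset.mem_filter.1 hP).1).1 hsub
    obtain ⟨hPW, hPt⟩ := Finset.mem_filter.1 hP
    obtain ⟨P', hP', rfl⟩ := Finset.mem_image.1 hPW
    have hP'ass := hfin.mem_toFinset.1 hP'
    have := hP'ass.isPrime
    obtain ⟨hover, heq⟩ := fiberPrime_spec p P'
    exact hcon _ inferInstance hle hPt hover (by rw [heq]; exact hP'ass)
  have hfib : EGA43.InjFibre.FibInjAt R S (LinearMap.lsmul S N s) t := by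
    refine fibInjAt_lsmul (p := p) (Z := W) hWp (fun z Q _ hzQ => ?_) t htp s fun P hP hPt => hsW P hP hPt
    obtain ⟨P, _, hover, hP, hzP, hPQ⟩ := exists_assFibre_prime p z Q hzQ
    exact ⟨P, Finset.mem_image.2 ⟨_, hfin.mem_toFinset.2 hP, comap_fiberIdeal p P⟩, hzP, hPQ⟩
  have hU := uInjAt_lsmul t hflat s hfib
  have : IsNoetherianRing (p'.Fiber S) := Algebra.FiniteType.isNoetherianRing p'.ResidueField _
  obtain ⟨hprime, w, hw⟩ := isAssociatedPrime_iff.1 hass
  obtain ⟨n, hn⟩ := CAlgH3.FiberMod.exists_annEl_eq_toFiberMod (S := S) p' w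
  have hann : CAlgH3.annEl S (FlatCA.toFiberMod p' S N n) = q' := by
    rw [hn, CAlgH3.FiberMod.annEl_fiber, ← CAlgH3.colon_bot_singleton, ← hw, comap_fiberIdeal]
  have hsn : FlatCA.toFiberMod p' S N (s • n) = 0 := by
    rw [map_smul]
    exact CAlgH3.mem_annEl.1 (hann.ge hs)
  obtain ⟨r, hr, hrn⟩ := (CAlgH3.FiberMod.toFiberMod_eq_zero_iff N p' _).1 hsn
  obtain ⟨c, hc, hcz⟩ := hU (X := R ⧸ p') ((algebraMap R S r • n) ⊗ₜ[R] (1 : R ⧸ p')) (by
    rw [AlgebraTensorModule.rTensor_tmul, EGA43.InjFibre.tmul_one_quotient_eq_zero_iff,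
      smul_top_restrict (B := S), LinearMap.lsmul_apply, smul_comm]
    exact hrn)
  rw [TensorProduct.smul_tmul', EGA43.InjFibre.tmul_one_quotient_eq_zero_iff,
    smul_top_restrict (B := S), smul_comm] at hcz
  have hcn : FlatCA.toFiberMod p' S N (c • n) = 0 :=
    (CAlgH3.FiberMod.toFiberMod_eq_zero_iff N p' _).2 ⟨r, hr, hcz⟩
  rw [map_smul] at hcn
  exact hc (hq't (hann.le (CAlgH3.mem_annEl.2 hcn)))

/-- **Weakly associated points of a tensor product are associated in their fibres.** -/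
theorem fiberIdeal_mem_of_minimal [Algebra.FiniteType R S] {N : Type u} [AddCommGroup N]
    [Module S N] [Module R N] [IsScalarTower R S N] [Module.Finite S N] {X : Type u} [AddCommGroup X]
    [Module R X] (z : N ⊗[R] X) (P : Ideal S) (hP : P ∈ (CAlgH3.annEl S z).minimalPrimes)
    [P.IsPrime] (p : Ideal R) [p.IsPrime] [hPp : P.LiesOver p] (hflat : FlatCA.FlatAt R P N) :
    FlatCA.fiberIdeal p P ∈ associatedPrimes (p.Fiber S) (FlatCA.fiberMod p S N) := by
  classical
  by_contra hcon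
  have : IsNoetherianRing (p.Fiber S) := Algebra.FiniteType.isNoetherianRing p.ResidueField _
  have : Module.Finite (p.Fiber S) (FlatCA.fiberMod p S N) :=
    inferInstanceAs (Module.Finite (p.Fiber S) ((p.Fiber S) ⊗[S] N))
  have hfin := associatedPrimes.finite (p.Fiber S) (FlatCA.fiberMod p S N)
  let W := (hfin.toFinset.image (Ideal.comap (algebraMap S (p.Fiber S)))).filter (· ≤ P)
  have hWp : ∀ P' ∈ W, P'.IsPrime := fun P' hP' => by
    obtain ⟨Q, hQ, rfl⟩ := Finset.mem_image.1 (Finset.mem_filter.1 hP').1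
    have := (hfin.mem_toFinset.1 hQ).isPrime
    infer_instance
  obtain ⟨s, hs, hsW⟩ : ∃ s ∈ P, ∀ P' ∈ W, s ∉ P' := by
    by_contra! h
    have hsub : (P : Set S) ⊆ ⋃ P' ∈ (↑W : Set (Ideal S)), (P' : Set S) := fun x hx => by
      obtain ⟨P', hP', hxP⟩ := h x hx
      exact Set.mem_iUnion₂.2 ⟨P', hP', hxP⟩
    obtain ⟨P', hP', hle⟩ := (Ideal.subset_union_prime ⊥ ⊥ fun P' hP' _ _ => hWp P' hP').1 hsub
    obtain ⟨hP'1, hP'2⟩ := Finset.mem_filter.1 hP'
    obtain ⟨Q, hQ, hQP⟩ := Finset.mem_image.1 hP'1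
    have hQass := hfin.mem_toFinset.1 hQ
    have := hQass.isPrime
    obtain ⟨-, heq⟩ := fiberPrime_spec p Q
    refine hcon ?_
    rw [le_antisymm hle hP'2, ← hQP, heq]
    exact hQass
  have hfib : EGA43.InjFibre.FibInjAt R S (LinearMap.lsmul S N s) ⟨P, inferInstance⟩ := by
    refine fibInjAt_lsmul (p := p) (Z := hfin.toFinset.image (Ideal.comap (algebraMap S (p.Fiber S))))
      (fun P' hP' => ?_) (fun w Q _ hwQ => ?_) ⟨P, inferInstance⟩ hPp.over.symm s
      fun P' hP' hle => hsW P' (Finset.mem_filter.2 ⟨hP', hle⟩)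
    · obtain ⟨Q, hQ, rfl⟩ := Finset.mem_image.1 hP'
      have := (hfin.mem_toFinset.1 hQ).isPrime
      infer_instance
    · obtain ⟨P', _, hover, hP', hwP, hPQ⟩ := exists_assFibre_prime p w Q hwQ
      exact ⟨P', Finset.mem_image.2 ⟨_, hfin.mem_toFinset.2 hP', comap_fiberIdeal p P'⟩, hwP, hPQ⟩
  have hU := uInjAt_lsmul ⟨P, inferInstance⟩ hflat s hfib
  obtain ⟨y, hy, m, hm⟩ : ∃ y ∉ P, ∃ m : ℕ, y * s ^ m ∈ CAlgH3.annEl S z := by
    by_contra! h
    obtain ⟨Q, hQ, hIQ, hdisj⟩ := Ideal.exists_le_prime_disjoint (CAlgH3.annEl S z)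
      (P.primeCompl ⊔ Submonoid.powers s) (Set.disjoint_left.2 fun x hx hx' => by
        obtain ⟨y, hy, _, ⟨m, rfl⟩, rfl⟩ := Submonoid.mem_sup.1 hx'
        exact h y hy m hx)
    have hQP : Q ≤ P := fun x hx => by
      by_contra hxP
      exact Set.disjoint_left.1 hdisj hx (Submonoid.mem_sup_left hxP)
    exact Set.disjoint_left.1 hdisj (hP.2 ⟨hQ, hIQ⟩ hQP hs)
      (Submonoid.mem_sup_right ⟨1, pow_one s⟩)
  have hls : ∀ w : N ⊗[R] X, AlgebraTensorModule.rTensor R X (LinearMap.lsmul S N s) w = s • w :=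
    fun w => by
      induction w using TensorProduct.induction_on with
      | zero => simp
      | tmul a b => rw [AlgebraTensorModule.rTensor_tmul, TensorProduct.smul_tmul']; rfl
      | add a b ha hb => rw [map_add, ha, hb, smul_add]
  obtain ⟨c, hc, hcz⟩ : ∃ c ∉ P, c • z = 0 := by
    suffices ∀ k : ℕ, ∀ c ∉ P, (c * s ^ k) • z = 0 → ∃ d ∉ P, d • z = 0 from
      this m y hy (CAlgH3.mem_annEl.1 hm)
    intro k
    induction k with
    | zero => exact fun c hc h => ⟨c, hc, by simpa using h⟩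
    | succ k ih =>
      intro c hc h
      obtain ⟨d, hd, hdz⟩ := hU ((c * s ^ k) • z) (by
        rw [hls, smul_smul, ← h, pow_succ]
        congr 1
        ring)
      exact ih (d * c) (P.primeCompl.mul_mem hd hc) (by rw [mul_assoc, mul_smul]; exact hdz)
  exact hc (hP.1.2 (CAlgH3.mem_annEl.2 hcz))

end Groth.Agent.FlatMorDevissage
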