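import Groth.Agent.FlatMorDevissage.Content
import Groth.Agent.FlatMorDevissage.AssSpec

/-!
# Projective modules are pure
-/

set_option autoImplicit false
set_option backward.isDefEq.respectTransparency false

universe u

open TensorProduct Function

namespace Groth.Agent.FlatMorDevissage

open Groth.Agent

attribute [local instance] Algebra.TensorProduct.rightAlgebra

set_option maxHeartbeats 800000 in
/-- In a projective module an associated point of a fibre specializes to every smaller fibre. -/
theorem exists_specialization_of_projective {A B N : Type u} [CommRing A] [CommRing B] [Algebra A B]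
    [Algebra.FiniteType A B] [AddCommGroup N] [Module B N] [Module A N] [IsScalarTower A B N]
    [Module.Projective A N] (t' t : Ideal A) [t'.IsPrime] [t.IsPrime] (htt : t' ≤ t) (P : Ideal B)
    [P.IsPrime] [P.LiesOver t']
    (hass : FlatCA.fiberIdeal t' P ∈ associatedPrimes (t'.Fiber B) (FlatCA.fiberMod t' B N)) :
    ∃ Q : Ideal B, Q.IsPrime ∧ P ≤ Q ∧ Q.LiesOver t := by
  by_contra! hno
  obtain ⟨a, haP, s, hs, has⟩ : ∃ a ∈ P, ∃ s ∉ t, a - algebraMap A B s ∈ t.map (algebraMap A B) := by
    by_contra! h
    have hdisj : Disjoint ((P ⊔ t.map (algebraMap A B) : Ideal B) : Set B)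
        (Algebra.algebraMapSubmonoid B t.primeCompl : Set B) := Set.disjoint_left.2 fun x hx hx' => by
      obtain ⟨a, ha, b, hb, rfl⟩ := Submodule.mem_sup.1 hx
      obtain ⟨s, hs, hsx⟩ := hx'
      refine h a ha s hs ?_
      rw [hsx, sub_add_cancel_left]
      exact neg_mem hb
    obtain ⟨Q, hQ, hle, hQd⟩ := Ideal.exists_le_prime_disjoint _ _ hdisj
    refine hno Q hQ (le_sup_left.trans hle) ⟨le_antisymm
      (Ideal.map_le_iff_le_comap.1 (le_sup_right.trans hle)) fun x hx => ?_⟩
    by_contra hxt
    exact Set.disjoint_left.1 hQd hx ⟨x, hxt, rfl⟩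
  let L := Localization.AtPrime t
  let m := IsLocalRing.maximalIdeal L
  let u : N →ₗ[A] N := (LinearMap.lsmul B N a).restrictScalars A
  let v : L ⊗[A] N →ₗ[L] L ⊗[A] N := u.baseChange L
  have hsu : IsUnit (algebraMap A L s) := IsLocalization.map_units L (⟨s, hs⟩ : t.primeCompl)
  have hv : ∀ (m' : Ideal L) [m'.IsMaximal], Injective (v.lTensor (L ⧸ m')) := fun m' hm' => by
    obtain rfl : m' = m := IsLocalRing.eq_maximalIdeal hm'
    have hzero : ∀ (k : L ⧸ m) (x : L ⊗[A] N), x ∈ m • (⊤ : Submodule L (L ⊗[A] N)) → k ⊗ₜ[L] x = 0 :=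
      fun k x hx => by
        refine Submodule.smul_induction_on hx (fun c hc y _ => ?_) (fun a b ha hb => by
          rw [TensorProduct.tmul_add, ha, hb, add_zero])
        rw [← TensorProduct.smul_tmul, Algebra.smul_def, Ideal.Quotient.algebraMap_eq,
          Ideal.Quotient.eq_zero_iff_mem.2 hc, zero_mul, TensorProduct.zero_tmul]
    have hkey : ∀ y : (L ⧸ m) ⊗[L] (L ⊗[A] N), v.lTensor (L ⧸ m) y = algebraMap A L s • y := fun y => by
      induction y using TensorProduct.induction_on with
      | zero => simp
      | add x y hx hy => rw [map_add, smul_add, hx, hy]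
      | tmul k x =>
        induction x using TensorProduct.induction_on with
        | zero => simp
        | add x y hx hy => simp only [TensorProduct.tmul_add, map_add, smul_add, hx, hy]
        | tmul l n =>
          rw [LinearMap.lTensor_tmul, ← TensorProduct.tmul_smul, ← sub_eq_zero, ← TensorProduct.tmul_sub,
            LinearMap.baseChange_tmul, TensorProduct.smul_tmul', algebraMap_smul, ← TensorProduct.smul_tmul',
            ← TensorProduct.tmul_smul, ← TensorProduct.tmul_sub]
          apply hzero
          have h1 : u n - s • n ∈ t • (⊤ : Submodule A N) := by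
            rw [smul_top_restrict (B := B)]
            show a • n - s • n ∈ _
            rw [← algebraMap_smul B s n, ← sub_smul]
            exact Submodule.smul_mem_smul has trivial
          refine Submodule.smul_induction_on h1 (fun c hc w _ => ?_) (fun x y hx hy => by
            rw [TensorProduct.tmul_add]; exact add_mem hx hy)
          rw [TensorProduct.tmul_smul, ← algebraMap_smul L c]
          refine Submodule.smul_mem_smul ?_ trivial
          show algebraMap A L c ∈ IsLocalRing.maximalIdeal (Localization.AtPrime t)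
          rw [← Localization.AtPrime.map_eq_maximalIdeal]
          exact Ideal.mem_map_of_mem _ hc
    intro x y hxy
    rw [hkey, hkey] at hxy
    exact hsu.smul_left_cancel.1 hxy
  have hrefl : Reflects v := reflects_of_content v
    (fun x => exists_content_of_projective (R := L) x) hv
  have : IsNoetherianRing (t'.Fiber B) := Algebra.FiniteType.isNoetherianRing t'.ResidueField _
  obtain ⟨-, w, hw⟩ := isAssociatedPrime_iff.1 hass
  obtain ⟨n, hn⟩ := CAlgH3.FiberMod.exists_annEl_eq_toFiberMod (S := B) t' w
  have hann : CAlgH3.annEl B (FlatCA.toFiberMod t' B N n) = P := by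
    rw [hn, CAlgH3.FiberMod.annEl_fiber, ← CAlgH3.colon_bot_singleton, ← hw, comap_fiberIdeal]
  have han : FlatCA.toFiberMod t' B N (a • n) = 0 := by
    rw [map_smul]
    exact CAlgH3.mem_annEl.1 (hann.ge haP)
  obtain ⟨r, hr, hran⟩ := (CAlgH3.FiberMod.toFiberMod_eq_zero_iff N t' _).1 han
  rw [smul_comm, algebraMap_smul, ← smul_top_restrict] at hran
  let j : N →ₗ[A] L ⊗[A] N := TensorProduct.mk A L N 1
  have : IsLocalizedModule t.primeCompl j :=
    (isLocalizedModule_iff_isBaseChange t.primeCompl L j).2 (TensorProduct.isBaseChange A N L)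
  have hvj : v (j (r • n)) ∈ (t'.map (algebraMap A L)) • (⊤ : Submodule L (L ⊗[A] N)) := by
    rw [← smul_top_restrict]
    exact map_mem_smul_top j t' hran
  have h2 := hrefl _ _ hvj
  rw [← smul_top_restrict] at h2
  obtain ⟨c, hc⟩ := exists_smul_mem_of_map_mem t.primeCompl j t' (r • n) h2
  have h3 : FlatCA.toFiberMod t' B N n = 0 :=
    (CAlgH3.FiberMod.toFiberMod_eq_zero_iff N t' n).2 ⟨(c : A) * r,
      fun h => ((Ideal.IsPrime.mem_or_mem ‹t'.IsPrime› h).elim (fun h => c.2 (htt h)) hr), by
        rw [algebraMap_smul, ← smul_top_restrict, mul_smul]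
        exact hc⟩
  exact (‹P.IsPrime›).ne_top (hann.symm.trans ((CAlgH3.annEl_eq_top (R := B)).2 h3))

/-- **Projective modules are pure.** -/
theorem isPure_of_projective {A B N : Type u} [CommRing A] [CommRing B] [Algebra A B]
    [Algebra.FiniteType A B] [AddCommGroup N] [Module B N] [Module A N] [IsScalarTower A B N]
    [Module.Projective A N] : FlatCA.IsPure A B N := by
  intro p _ A' B' N' _ _ _ _ _ _ _ _ _ _ _ _ _ _ f t' t _ _ P _ _ ⟨hpo, hf, htt, _, hover, hass, hno⟩
  have : Algebra.FiniteType A' B' := by
    have : Algebra.IsPushout A A' B B' := hpo.symm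
    exact Algebra.FiniteType.equiv (Algebra.FiniteType.baseChange (A := B) A')
      (Algebra.IsPushout.equiv A A' B B')
  have : Algebra.IsPushout A A' B B' := hpo.symm
  have : Module.Projective A' N' :=
    Module.Projective.of_equiv
      ((Algebra.IsPushout.cancelBaseChange A A' B B' N).symm.trans (hf.equiv.restrictScalars A'))
  obtain ⟨Q, hQ, hPQ, hQt⟩ := exists_specialization_of_projective t' t htt P hass
  exact hno Q hPQ hQt

end Groth.Agent.FlatMorDevissage
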