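import Groth.Agent.EGA43.InjFibre.InjLimit
import Groth.Agent.EGA43.FlatDescent.Global

/-!
# The locus where a map of finitely presented modules is injective with flat cokernel is open
-/

set_option autoImplicit false
set_option backward.isDefEq.respectTransparency false

universe u

open TensorProduct Function

namespace Groth.Agent.FlatMorDevissage

open Groth.Agent Groth.Agent.EGA43 EGA43.InjFibre
attribute [local instance] EGA43.FlatDescent.bcModule

theorem isOpen_injFlatAt_noetherian {A B M' M : Type u} [CommRing A] [IsNoetherianRing A] [CommRing B]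
    [Algebra A B] [Algebra.FiniteType A B] [AddCommGroup M'] [Module B M'] [Module.Finite B M']
    [AddCommGroup M] [Module B M] [Module A M] [IsScalarTower A B M] [Module.Finite B M]
    (u : M' →ₗ[B] M) : IsOpen {q : PrimeSpectrum B | InjFlatAt A B u q} := by
  classical
  have : IsNoetherianRing B := Algebra.FiniteType.isNoetherianRing A B
  have : Algebra.FinitePresentation A B := Algebra.FinitePresentation.of_finiteType.1 inferInstance
  obtain ⟨s, hs⟩ := (IsNoetherian.noetherian (LinearMap.ker u) :)
  have hset : {q : PrimeSpectrum B | InjFlatAt A B u q} =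
      {q : PrimeSpectrum B | Module.Flat A (LocalizedModule q.asIdeal.primeCompl (M ⧸ LinearMap.range u))} ∩
        ⋂ k ∈ s, (PrimeSpectrum.zeroLocus ((Submodule.span B {k}).annihilator : Set B))ᶜ := by
    ext q
    simp only [Set.mem_setOf_eq, Set.mem_inter_iff, Set.mem_iInter, Set.mem_compl_iff,
      PrimeSpectrum.mem_zeroLocus, SetLike.coe_subset_coe]
    constructor
    · rintro ⟨h1, h2⟩
      refine ⟨h2, fun k hk hle => ?_⟩
      obtain ⟨c, hc, hck⟩ := h1 k (LinearMap.mem_ker.1 (hs ▸ Submodule.subset_span hk))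
      exact hc (hle ((Submodule.mem_annihilator_span_singleton k c).2 hck))
    · rintro ⟨h2, h1⟩
      refine ⟨fun m hm => ?_, h2⟩
      have hm' : m ∈ Submodule.span B (s : Set M') := hs.symm ▸ (LinearMap.mem_ker.2 hm)
      clear hm
      induction hm' using Submodule.span_induction with
      | zero => exact ⟨1, q.asIdeal.primeCompl.one_mem, smul_zero _⟩
      | mem x hx =>
        obtain ⟨c, hc, hcq⟩ := SetLike.not_le_iff_exists.1 (h1 x hx)
        exact ⟨c, hcq, (Submodule.mem_annihilator_span_singleton x c).1 hc⟩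
      | add x y _ _ hx hy =>
        obtain ⟨c, hc, hcx⟩ := hx
        obtain ⟨d, hd, hdy⟩ := hy
        refine ⟨c * d, q.asIdeal.primeCompl.mul_mem hc hd, ?_⟩
        rw [smul_add, mul_smul, mul_smul, smul_comm c d x, hcx, hdy, smul_zero, smul_zero, add_zero]
      | smul a x _ hx =>
        obtain ⟨c, hc, hcx⟩ := hx
        exact ⟨c, hc, by rw [smul_comm, hcx, smul_zero]⟩
  rw [hset]
  refine IsOpen.inter ?_ (isOpen_biInter_finset fun k _ =>
    (PrimeSpectrum.isClosed_zeroLocus _).isOpen_compl)
  have : Module.FinitePresentation B (M ⧸ LinearMap.range u) :=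
    Module.finitePresentation_of_finite B _
  exact FlatDescent.isOpen_setOf_flat

set_option maxHeartbeats 1600000 in
/-- The locus where a map of finitely presented modules is injective with flat cokernel is open. -/
theorem isOpen_injFlatAt {A B M' M : Type u} [CommRing A] [CommRing B] [Algebra A B]
    [Algebra.FinitePresentation A B] [AddCommGroup M'] [Module B M'] [Module A M']
    [IsScalarTower A B M'] [AddCommGroup M] [Module B M] [Module A M] [IsScalarTower A B M]
    [Module.FinitePresentation B M'] [Module.FinitePresentation B M] (u : M' →ₗ[B] M) :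
    IsOpen {q : PrimeSpectrum B | InjFlatAt A B u q} := by
  obtain ⟨W⟩ := nonempty_mapModel (A := A) u
  obtain ⟨R₀, hR₀, P₀, L', L, u₀, θ, ν', ν, hν', hν, hν'P, hνP, hcomm, hθspan⟩ := W
  have hθ : Surjective (modelHom (A' := A) θ : A ⊗[R₀] P₀ → B) := fun b => by
    induction hθspan b using Submodule.span_induction with
    | zero => exact ⟨0, map_zero _⟩
    | mem x hx =>
      obtain ⟨p, rfl⟩ := hx
      exact ⟨(1 : A) ⊗ₜ[R₀] p, by rw [modelHom_tmul, map_one, one_mul]⟩
    | add x y _ _ hx hy =>
      obtain ⟨s, hs⟩ := hx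
      obtain ⟨t, ht⟩ := hy
      exact ⟨s + t, by rw [map_add, hs, ht]⟩
    | smul a x _ hx =>
      obtain ⟨s, hs⟩ := hx
      exact ⟨a • s, by rw [map_smul, hs]⟩
  refine isOpen_iff_mem_nhds.2 fun q hq => ?_
  obtain ⟨D, hD, hDq⟩ := exists_stage_injFlatAt u₀ _
    (InjFlatAt.to_model hν' hν θ hν'P hνP hcomm q hθ hq)
  have := FlatDescent.isNoetherianRing_of_fg hD
  have : Algebra.FiniteType D (D ⊗[R₀] P₀) := Algebra.FiniteType.baseChange (A := P₀) D
  have : Module.Finite (D ⊗[R₀] P₀) (D ⊗[R₀] L') := FlatDescent.finite_bc R₀ P₀ L' D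
  have : Module.Finite (D ⊗[R₀] P₀) (D ⊗[R₀] L) := FlatDescent.finite_bc R₀ P₀ L D
  have hopen := isOpen_injFlatAt_noetherian (A := D) (B := D ⊗[R₀] P₀) (M' := D ⊗[R₀] L') (M := D ⊗[R₀] L) (bcMap R₀ D u₀)
  let f := (modelHom (A' := A) θ).toRingHom.comp
    (Algebra.TensorProduct.map D.val (AlgHom.id R₀ P₀)).toRingHom
  exact Filter.mem_of_superset (((hopen.preimage (PrimeSpectrum.continuous_comap f))).mem_nhds hDq)
    fun q' hq' => InjFlatAt.of_model hν' hν θ hν'P hνP hcomm q' D.val hq'

end Groth.Agent.FlatMorDevissage
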