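import Groth.Agent.FlatMorDevissage.CoverProjective
import Groth.Agent.FlatMorDevissage.AssSpec
import Groth.Agent.FlatMorDevissage.InjFlatOpen
import Groth.Agent.CAlgSmall.FPFlatLocal
import Groth.Agent.CAlgML.Projective
import Groth.Agent.CAlgML.Countable
import Groth.Agent.CommAlg4.UnivInjCompl

/-!
# Pure modules are projective
-/

set_option autoImplicit false
set_option backward.isDefEq.respectTransparency false

universe u

open TensorProduct Function

namespace Groth.Agent.FlatMorDevissage

open Groth.Agent Groth.Agent.EGA43 EGA43.InjFibre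

attribute [local instance] Algebra.TensorProduct.rightAlgebra

variable {R S : Type u} [CommRing R] [CommRing S] [Algebra R S]

/-- A tuple avoiding the associated primes of a fibre is injective on the fibre. -/
theorem fibInjAt_mulTuple [Algebra.FiniteType R S] {N : Type u} [AddCommGroup N] [Module S N]
    [Module R N] [IsScalarTower R S N] (p : Ideal R) [p.IsPrime] {ι : Type u} [Fintype ι] (g : ι → S)
    (Q : PrimeSpectrum S) (hQ : Q.asIdeal.comap (algebraMap R S) = p)
    (hg : ∀ (P : Ideal S) [P.IsPrime], P.LiesOver p → P ≤ Q.asIdeal →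
      FlatCA.fiberIdeal p P ∈ associatedPrimes (p.Fiber S) (FlatCA.fiberMod p S N) → ∃ i, g i ∉ P) :
    FibInjAt R S (mulTuple N g) Q := by
  rintro m ⟨c, hc, hcm⟩
  rw [hQ] at hcm ⊢
  have hcomp : ∀ i, c • g i • m ∈ p • (⊤ : Submodule R N) := fun i =>
    (Submodule.map_smul'' p ⊤ ((LinearMap.proj i).restrictScalars R)).trans_le
      (Submodule.smul_mono le_rfl le_top)
      (Submodule.mem_map_of_mem (f := (LinearMap.proj (R := S) (φ := fun _ : ι => N) i).restrictScalars R) hcm)
  have hz : ∀ i, (c * g i) • FlatCA.toFiberMod p S N m = 0 := fun i => by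
    rw [← map_smul, mul_smul]
    exact CAlgH3.FiberMod.toFiberMod_mk_eq_zero p ((smul_top_restrict (B := S) p _).1 (hcomp i))
  obtain ⟨d, hd, hdm⟩ : ∃ d ∉ Q.asIdeal, d • FlatCA.toFiberMod p S N m = 0 := by
    by_contra! h
    obtain ⟨P, hP, hover, hass, hzP, hPQ⟩ := exists_assFibre_prime p (FlatCA.toFiberMod p S N m)
      Q.asIdeal fun a ha => by
        by_contra haQ
        exact h a haQ (CAlgH3.mem_annEl.1 ha)
    obtain ⟨i, hi⟩ := hg P hover hPQ hass
    exact (hP.mem_or_mem (hzP (CAlgH3.mem_annEl.2 (hz i)))).elim (fun h' => hc (hPQ h')) hi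
  rw [← map_smul] at hdm
  obtain ⟨s, hs, hsm⟩ := (CAlgH3.FiberMod.toFiberMod_eq_zero_iff N p _).1 hdm
  refine ⟨algebraMap R S s * d, Q.asIdeal.primeCompl.mul_mem (fun h => hs (hQ ▸ h)) hd, ?_⟩
  rw [smul_top_restrict (B := S), mul_smul]
  exact hsm

set_option maxHeartbeats 800000 in
/-- Avoidance of the associated points of fibres by an open set spreads out over the base. -/
theorem exists_away_assFibre [Algebra.FinitePresentation R S] {N : Type u} [AddCommGroup N]
    [Module S N] [Module R N] [IsScalarTower R S N] [Module.FinitePresentation S N] [Module.Flat R N]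
    (p₀ : Ideal R) [p₀.IsPrime] {ι : Type u} [Fintype ι] (g : ι → S)
    (h : ∀ (p : Ideal R) [p.IsPrime] (P : Ideal S) [P.IsPrime], p ≤ p₀ → P.LiesOver p →
      FlatCA.fiberIdeal p P ∈ associatedPrimes (p.Fiber S) (FlatCA.fiberMod p S N) → ∃ i, g i ∉ P) :
    ∃ f ∉ p₀, ∀ (p : Ideal R) [p.IsPrime] (P : Ideal S) [P.IsPrime], f ∉ p → P.LiesOver p →
      FlatCA.fiberIdeal p P ∈ associatedPrimes (p.Fiber S) (FlatCA.fiberMod p S N) → ∃ i, g i ∉ P := by
  classical
  let u := mulTuple N g
  have hA : ∀ Q : PrimeSpectrum S, Module.Flat R (LocalizedModule Q.asIdeal.primeCompl (ι → N)) :=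
    fun Q => EGA43.InjFibre.flat_localized_pi (A := R) Q.asIdeal.primeCompl (flatAt_of_flat (R := R) N Q.asIdeal)
  have hgood : ∀ Q : PrimeSpectrum S, Q.asIdeal.comap (algebraMap R S) ≤ p₀ →
      Q ∈ {q : PrimeSpectrum S | InjFlatAt R S u q} := fun Q hQ => by
    have hfib : FibInjAt R S u Q := fibInjAt_mulTuple (Q.asIdeal.comap (algebraMap R S)) g Q rfl
      fun P hP hover _ hass => h _ P hQ hover hass
    have hU := uInjAt_of_fibInjAt (hA Q) hfib
    exact ⟨fun m hm => hU.exists_smul_eq_zero hm, hU.flat_coker (hA Q) (LinearMap.range u).mkQ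
      (Submodule.mkQ_surjective _) (LinearMap.exact_map_mkQ_range u)⟩
  obtain ⟨f, hf, hU⟩ := CAlgSmall.FPFlatLocal.exists_basicOpen_subset (isOpen_injFlatAt u) p₀ hgood
  refine ⟨f, hf, fun p _ P hP hfp hover hass => ?_⟩
  by_contra! hcon
  have hPc : P.comap (algebraMap R S) = p := hover.over.symm
  have hfib := (InjFlatAt.uInjAt (hU ⟨P, hP⟩ fun h' => hfp (hPc ▸ h'))).fibInjAt
  have : IsNoetherianRing (p.Fiber S) := Algebra.FiniteType.isNoetherianRing p.ResidueField _
  obtain ⟨-, w, hw⟩ := isAssociatedPrime_iff.1 hass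
  obtain ⟨n, hn⟩ := CAlgH3.FiberMod.exists_annEl_eq_toFiberMod (S := S) p w
  have hann : CAlgH3.annEl S (FlatCA.toFiberMod p S N n) = P := by
    rw [hn, CAlgH3.FiberMod.annEl_fiber, ← CAlgH3.colon_bot_singleton, ← hw, comap_fiberIdeal]
  have hr : ∀ i, ∃ r ∉ p, algebraMap R S r • g i • n ∈
      p.map (algebraMap R S) • (⊤ : Submodule S N) := fun i => by
    refine (CAlgH3.FiberMod.toFiberMod_eq_zero_iff N p _).1 ?_
    rw [map_smul]
    exact CAlgH3.mem_annEl.1 (hann.ge (hcon i))
  choose r hrp hrn using hr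
  let c := ∏ i, algebraMap R S (r i)
  have hc : c ∉ P := fun h' => by
    obtain ⟨i, -, hi⟩ := (hP.prod_mem_iff).1 h'
    exact hrp i (hPc ▸ hi)
  have hmem : c • u n ∈ p • (⊤ : Submodule R (ι → N)) := by
    have h1 : c • u n = ∑ i, LinearMap.single R (fun _ : ι => N) i (c • g i • n) := by
      simp only [LinearMap.single_apply]
      rw [Finset.univ_sum_single]
      rfl
    rw [h1]
    refine Submodule.sum_mem _ fun i _ => ?_
    refine (Submodule.map_smul'' p ⊤ _).trans_le (Submodule.smul_mono le_rfl le_top)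
      (Submodule.mem_map_of_mem (f := LinearMap.single R (fun _ : ι => N) i) ?_)
    rw [smul_top_restrict (B := S)]
    show (∏ j, algebraMap R S (r j)) • g i • n ∈ _
    rw [← Finset.mul_prod_erase _ _ (Finset.mem_univ i), mul_comm, mul_smul]
    exact Submodule.smul_mem _ _ (hrn i)
  obtain ⟨c', hc', hc'n⟩ := hfib n ⟨c, hc, by rw [hPc]; exact hmem⟩
  rw [hPc] at hc'n
  refine hc' (hann.le (CAlgH3.mem_annEl.2 ?_))
  rw [← map_smul]
  exact CAlgH3.FiberMod.toFiberMod_mk_eq_zero p ((smul_top_restrict (B := S) p _).1 hc'n)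

set_option maxHeartbeats 1600000 in
/-- Projectivity over `R_f` from a flat cover containing the associated points of the fibres. -/
theorem projective_away_of_cover [Algebra.FiniteType R S] {N : Type u} [AddCommGroup N] [Module S N]
    [Module R N] [IsScalarTower R S N] [Module.Finite S N] [Module.Flat R N]
    {S' : Type u} [CommRing S'] [Algebra S S'] [Algebra R S'] [IsScalarTower R S S'] [Module.Flat S S']
    [Module.Projective R (S' ⊗[S] N)] (f : R)
    (h : ∀ (p : Ideal R) [p.IsPrime] (P : Ideal S) [P.IsPrime], f ∉ p → P.LiesOver p →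
      FlatCA.fiberIdeal p P ∈ associatedPrimes (p.Fiber S) (FlatCA.fiberMod p S N) →
      ∃ q' : Ideal S', q'.IsPrime ∧ q'.comap (algebraMap S S') = P)
    (L : Type u) [CommRing L] [Algebra R L] [IsLocalization.Away f L] :
    Module.Projective L (L ⊗[R] N) := by
  let u : N →ₗ[R] S' ⊗[S] N := (TensorProduct.mk S S' N 1).restrictScalars R
  have hkill : ∀ (X : Type u) [AddCommGroup X] [Module R X] (z : N ⊗[R] X), u.rTensor X z = 0 →
      ∃ k : ℕ, f ^ k • z = 0 := fun X _ _ z hz => by
    by_contra! hne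
    have hdisj : Disjoint (CAlgH3.annEl S z : Set S) (Submonoid.powers (algebraMap R S f) : Set S) :=
      Set.disjoint_left.2 fun x hx ⟨k, hk⟩ => hne k (by
        rw [← algebraMap_smul S (f ^ k) z, map_pow]
        have := CAlgH3.mem_annEl.1 hx
        rwa [← hk] at this)
    obtain ⟨Q, hQ, hzQ, hQf⟩ := Ideal.exists_le_prime_disjoint _ _ hdisj
    obtain ⟨P, hP, hPQ⟩ := Ideal.exists_minimalPrimes_le hzQ
    have := hP.1.1
    have : P.LiesOver (P.comap (algebraMap R S)) := ⟨rfl⟩
    obtain ⟨q', _, hq'P⟩ := h (P.comap (algebraMap R S)) P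
      (fun hf => Set.disjoint_left.1 hQf (hPQ hf) (Submonoid.mem_powers _))
      inferInstance (fiberIdeal_mem_of_minimal z P hP _ (flatAt_of_flat N P))
    have h1 : (1 : S') ⊗ₜ[S] z = 0 := by
      refine (TensorProduct.AlgebraTensorModule.assoc R S S S' N X).symm.injective ?_
      rw [map_zero, ← hz]
      clear hz hne hdisj hzQ hP
      induction z using TensorProduct.induction_on with
      | zero => simp
      | tmul n a => rfl
      | add a b ha hb => simp only [TensorProduct.tmul_add, map_add, ha, hb]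
    exact not_annEl_le_comap z h1 q' (hq'P.symm ▸ hP.1.2)
  let v : L ⊗[R] N →ₗ[L] L ⊗[R] (S' ⊗[S] N) := u.baseChange L
  have hv : CAlgX.UniversallyInjective L v := fun Q _ _ => by
    let _ : Module R Q := Module.compHom Q (algebraMap R L)
    have : IsScalarTower R L Q := .of_algebraMap_smul fun _ _ => rfl
    let e₁ : (L ⊗[R] N) ⊗[L] Q ≃ₗ[L] Q ⊗[R] N :=
      (TensorProduct.comm L _ _).trans (AlgebraTensorModule.cancelBaseChange R L L Q N)
    let e₂ : (L ⊗[R] (S' ⊗[S] N)) ⊗[L] Q ≃ₗ[L] Q ⊗[R] (S' ⊗[S] N) :=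
      (TensorProduct.comm L _ _).trans (AlgebraTensorModule.cancelBaseChange R L L Q _)
    have hnat : ∀ w, e₂ (v.rTensor Q w) = u.lTensor Q (e₁ w) := fun w => by
      induction w using TensorProduct.induction_on with
      | zero => simp
      | add a b ha hb => simp only [map_add, ha, hb]
      | tmul a x =>
        induction a using TensorProduct.induction_on with
        | zero => simp
        | add a b ha hb => simp only [TensorProduct.add_tmul, map_add, ha, hb]
        | tmul l n => simp [e₁, e₂, v]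
    rw [injective_iff_map_eq_zero]
    intro w hw
    have h2 : u.lTensor Q (e₁ w) = 0 := by rw [← hnat, hw, map_zero]
    have hcomm : ∀ y : Q ⊗[R] N, u.rTensor Q ((TensorProduct.comm R Q N) y) =
        (TensorProduct.comm R Q _) (u.lTensor Q y) := fun y => by
      induction y using TensorProduct.induction_on with
      | zero => simp
      | tmul a b => rfl
      | add a b ha hb => simp only [map_add, ha, hb]
    have h3 : u.rTensor Q ((TensorProduct.comm R Q N) (e₁ w)) = 0 := by
      rw [hcomm, h2, map_zero]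
    obtain ⟨k, hk⟩ := hkill Q _ h3
    rw [← map_smul, LinearEquiv.map_eq_zero_iff] at hk
    rw [← algebraMap_smul L (f ^ k), map_pow] at hk
    exact e₁.map_eq_zero_iff.1 (((IsLocalization.Away.algebraMap_isUnit f).pow k).smul_eq_zero.1 hk)
  let LS := L ⊗[R] S
  let LN := LS ⊗[S] N
  let e : LN ≃ₗ[L] L ⊗[R] N := Algebra.IsPushout.cancelBaseChange R L S LS N
  have : Algebra.FiniteType L LS := Algebra.FiniteType.baseChange (A := S) L
  have : Module.Finite LS LN := inferInstance
  have hc : CAlg.IsCountablyGenerated L LN :=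
    CommAlg4.isCountablyGenerated_of_finiteType (R := L) (S := LS) (N := LN)
  have : Module.Flat L LN := Module.Flat.of_linearEquiv e
  have hv' : CAlgX.UniversallyInjective L (v ∘ₗ e.toLinearMap) := fun Q _ _ => by
    rw [LinearMap.rTensor_comp, LinearMap.coe_comp]
    exact (hv Q).comp (LinearEquiv.rTensor Q e).injective
  have := CAlgML.projective_of_flat_ml
    (CAlgML.ml_of_ui _ hv' (CAlgML.ml_of_projective (R := L) (M := L ⊗[R] (S' ⊗[S] N)))) hc
  exact Module.Projective.of_equiv e

set_option maxHeartbeats 1600000 in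
/-- Near a point where the module is pure it becomes projective after etale base change. -/
theorem exists_etale_projective_of_pure [Algebra.FinitePresentation R S] (N : Type u) [AddCommGroup N]
    [Module S N] [Module R N] [IsScalarTower R S N] [Module.FinitePresentation S N] [Module.Flat R N]
    (p : Ideal R) [p.IsPrime] (hpure : FlatCA.IsPureAlong R S N p) :
    ∃ (L : Type u) (_ : CommRing L) (_ : Algebra R L), Algebra.Etale R L ∧
      (∃ m : Ideal L, m.IsPrime ∧ m.comap (algebraMap R L) = p) ∧
      Module.Projective L (L ⊗[R] N) := by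
  obtain ⟨R', S', _, _, _, _, _, _, _, _, p', _, hR, hS, hcov, hproj⟩ :=
    exists_projective_cover N p fun q _ _ => flatAt_of_flat (R := R) (S := S) N q
  obtain ⟨hRe, hRo, hRb⟩ := id hR
  let SA := R' ⊗[R] S
  let NA := SA ⊗[S] N
  let θ : SA →ₐ[R'] S' := Algebra.TensorProduct.lift (Algebra.ofId R' S')
    (IsScalarTower.toAlgHom R S S') fun _ _ => .all _ _
  let _ : Algebra SA S' := θ.toRingHom.toAlgebra
  have : IsScalarTower R' SA S' := .of_algebraMap_eq fun r => (θ.commutes r).symm
  have : IsScalarTower S SA S' := .of_algebraMap_eq fun b => by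
    show _ = θ ((1 : R') ⊗ₜ[R] b)
    rw [Algebra.TensorProduct.lift_tmul, map_one, one_mul]
    rfl
  have : Algebra.Etale S SA := etale_rightAlgebra
  have : Algebra.Etale SA S' := Algebra.Etale.of_restrictScalars S _ _
  let eA : NA ≃ₗ[R'] R' ⊗[R] N := Algebra.IsPushout.cancelBaseChange R R' S SA N
  have : Module.Flat R' NA := Module.Flat.of_linearEquiv eA
  let eS : S' ⊗[SA] NA ≃ₗ[S'] S' ⊗[S] N :=
    TensorProduct.AlgebraTensorModule.cancelBaseChange S SA S' S' N
  have : Module.Projective R' (S' ⊗[SA] NA) :=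
    Module.Projective.of_equiv (eS.restrictScalars R').symm
  -- the image of the cover
  let φ := PrimeSpectrum.comap (algebraMap SA S')
  have hopen : IsOpen (Set.range φ) := by
    rw [← Set.image_univ]
    exact PrimeSpectrum.isOpenMap_comap_of_hasGoingDown_of_finitePresentation _ isOpen_univ
  obtain ⟨T, hT⟩ := PrimeSpectrum.isCompact_isOpen_iff.1
    ⟨isCompact_range (PrimeSpectrum.continuous_comap _), hopen⟩
  let g : {x // x ∈ T} → SA := fun x => x.1
  have hrange : ∀ (P : Ideal SA) [hP : P.IsPrime],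
      (∃ i, g i ∉ P) ↔ ∃ q' : Ideal S', q'.IsPrime ∧ q'.comap (algebraMap SA S') = P := fun P hP => by
    constructor
    · rintro ⟨⟨x, hx⟩, hxP⟩
      obtain ⟨Q, hQ⟩ := (hT ▸ fun h => hxP (h hx) : (⟨P, hP⟩ : PrimeSpectrum SA) ∈ Set.range φ)
      exact ⟨Q.asIdeal, Q.2, congrArg PrimeSpectrum.asIdeal hQ⟩
    · rintro ⟨q', hq', rfl⟩
      have : φ ⟨q', hq'⟩ ∈ Set.range φ := ⟨_, rfl⟩
      rw [← hT, Set.mem_compl_iff, PrimeSpectrum.mem_zeroLocus] at this
      obtain ⟨x, hx, hxq⟩ := Set.not_subset.1 this
      exact ⟨⟨x, hx⟩, hxq⟩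
  have hcover : ∀ (t : Ideal R') [t.IsPrime] (P : Ideal SA) [P.IsPrime], t ≤ p' → P.LiesOver t →
      FlatCA.fiberIdeal t P ∈ associatedPrimes (t.Fiber SA) (FlatCA.fiberMod t SA NA) →
      ∃ i, g i ∉ P := by
    intro t _ P _ htp hover hass
    rw [hrange]
    let fN : N →ₗ[S] NA := TensorProduct.mk S SA N 1
    obtain ⟨w, hw, hPw, hwp⟩ : ∃ w : Ideal SA, w.IsPrime ∧ P ≤ w ∧ w.LiesOver p' := by
      by_contra! hno
      exact hpure R' SA NA fN t p' P hR ⟨inferInstance, TensorProduct.isBaseChange S N SA, htp,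
        hRo, hover, hass, fun P' _ hle hov => hno P' inferInstance hle hov⟩
    obtain ⟨q, hq, hPq, -, hqp, -⟩ := exists_assFibre_specialization p' t P hass ⟨w, hw⟩
      hwp.over.symm hPw (flatAt_of_flat NA w)
    let q₀ := q.comap (algebraMap S SA)
    have : q₀.LiesOver p := ⟨by
      rw [Ideal.under_def, Ideal.comap_comap, ← IsScalarTower.algebraMap_eq,
        IsScalarTower.algebraMap_eq R R' SA, ← Ideal.comap_comap, ← Ideal.under_def _ q, ← hqp.over]
      exact hRo.over⟩
    obtain ⟨q₁, hq₁, hq₁q, hq₁p⟩ := hcov q₀ this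
    have : (q₁.comap (algebraMap SA S')).LiesOver p' := ⟨by
      rw [Ideal.under_def, Ideal.comap_comap, ← IsScalarTower.algebraMap_eq, hq₁p]⟩
    have heq : q₁.comap (algebraMap SA S') = q := by
      refine eq_of_isPushout (S := S) (S' := SA) p p' hRb _ q ?_
      rw [Ideal.comap_comap, ← IsScalarTower.algebraMap_eq, hq₁q]
    have : q₁.LiesOver q := ⟨heq.symm⟩
    obtain ⟨P', -, hP', hP'over⟩ := Ideal.exists_ideal_le_liesOver_of_le q₁ hPq
    exact ⟨P', hP', hP'over.over.symm⟩
  obtain ⟨f, hf, hmain⟩ := exists_away_assFibre p' g hcover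
  let L := Localization.Away f
  have hpr : Module.Projective L (L ⊗[R'] NA) := projective_away_of_cover (S' := S') f
    (fun t _ P _ hft hover hass => (hrange P).1 (hmain t P hft hover hass)) L
  refine ⟨L, inferInstance, inferInstance, Algebra.Etale.comp R R' L,
    ⟨p'.map (algebraMap R' L), ?_, ?_⟩, ?_⟩
  · exact IsLocalization.isPrime_of_isPrime_disjoint (Submonoid.powers f) L p' inferInstance
      ((Ideal.disjoint_powers_iff_notMem f (Ideal.IsPrime.isRadical inferInstance)).2 hf)
  · rw [IsScalarTower.algebraMap_eq R R' L, ← Ideal.comap_comap, ← Ideal.under_def R' (Ideal.map _ p'),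
      IsLocalization.under_map_of_isPrime_disjoint (Submonoid.powers f) L inferInstance
        ((Ideal.disjoint_powers_iff_notMem f (Ideal.IsPrime.isRadical inferInstance)).2 hf)]
    exact hRo.over.symm
  · exact Module.Projective.of_equiv
      ((AlgebraTensorModule.congr (LinearEquiv.refl L L) eA).trans
        (AlgebraTensorModule.cancelBaseChange R R' L L N))

/-- **Flat finitely presented pure modules are projective.** -/
theorem projective_of_isPure [Algebra.FinitePresentation R S] (N : Type u) [AddCommGroup N]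
    [Module S N] [Module R N] [IsScalarTower R S N] [Module.FinitePresentation S N] [Module.Flat R N]
    (hpure : FlatCA.IsPure R S N) : Module.Projective R N := by
  classical
  have hpiece : ∀ x : PrimeSpectrum R, _ := fun x =>
    exists_etale_projective_of_pure N x.asIdeal (hpure x.asIdeal)
  choose L iL iRL hLet hLm hLproj using hpiece
  let U : PrimeSpectrum R → Set (PrimeSpectrum R) := fun x =>
    Set.range (PrimeSpectrum.comap (algebraMap R (L x)))
  have hUo : ∀ x, IsOpen (U x) := fun x => by
    have := hLet x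
    show IsOpen (Set.range _)
    rw [← Set.image_univ]
    exact PrimeSpectrum.isOpenMap_comap_of_hasGoingDown_of_finitePresentation _ isOpen_univ
  have hUx : ∀ x, x ∈ U x := fun x => by
    obtain ⟨m, hm, hmx⟩ := hLm x
    exact ⟨⟨m, hm⟩, PrimeSpectrum.ext hmx⟩
  obtain ⟨t, ht⟩ := isCompact_univ.elim_finite_subcover U hUo fun x _ => Set.mem_iUnion.2 ⟨x, hUx x⟩
  let idx : Fin t.card → PrimeSpectrum R := fun i => (t.equivFin.symm i).1
  let C : Fin t.card → Type u := fun i => L (idx i)
  have : ∀ i, Algebra.Etale R (C i) := fun i => hLet (idx i)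
  let P := Π i, C i
  let _ : ∀ i, Algebra P (C i) := fun i => (Pi.evalRingHom C i).toAlgebra
  have : ∀ i, IsScalarTower R P (C i) := fun i => .of_algebraMap_eq fun _ => rfl
  have hsurj : Surjective (PrimeSpectrum.comap (algebraMap R P)) := fun x => by
    obtain ⟨y, hy, hxy⟩ := Set.mem_iUnion₂.1 (ht (Set.mem_univ x))
    let i := t.equivFin ⟨y, hy⟩
    have hidx : idx i = y := by simp [idx, i]
    clear_value i
    subst hidx
    obtain ⟨Q, hQ⟩ := hxy
    refine ⟨⟨Q.asIdeal.comap (Pi.evalRingHom C i), inferInstance⟩, PrimeSpectrum.ext ?_⟩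
    rw [← hQ]
    show (Q.asIdeal.comap (Pi.evalRingHom C i)).comap (algebraMap R P) = _
    rw [Ideal.comap_comap]
    rfl
  have : Module.FaithfullyFlat R P := Module.FaithfullyFlat.of_comap_surjective hsurj
  have : ∀ i, Module.Projective P (C i) := fun i => by
    refine Module.Projective.of_split
      (M := P) { toFun := Pi.single i, map_add' := fun a b => Pi.single_add i a b,
                 map_smul' := fun c a => funext fun j => ?_ }
      (Algebra.linearMap P (C i)) (LinearMap.ext fun a => Pi.single_eq_same i a)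
    show Pi.single i (c i * a) j = c j * Pi.single i a j
    by_cases hj : j = i
    · subst hj
      rw [Pi.single_eq_same, Pi.single_eq_same]
    · rw [Pi.single_eq_of_ne hj, Pi.single_eq_of_ne hj, mul_zero]
  have hP : Module.Projective P (P ⊗[R] N) := projective_pi_tensor C fun i => by
    have : Module.Projective (C i) (C i ⊗[R] N) := hLproj (idx i)
    exact projective_trans P (C i) _
  exact CAlgML.projective_descent (S := P)

end Groth.Agent.FlatMorDevissage
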