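import Groth.Agent.FlatMorDevissage.FPOpen

/-!
# Flat modules of finite type are finitely presented
-/

set_option autoImplicit false
set_option backward.isDefEq.respectTransparency false

universe u

open TensorProduct Function

namespace Groth.Agent.FlatMorDevissage

open Groth.Agent

variable {R S : Type u} [CommRing R] [CommRing S] [Algebra R S]

theorem weakAss_finite_of_isDomain (R : Type u) [CommRing R] [IsDomain R] :
    (FlatCA.weakAss R R).Finite := by
  rw [CAlgH3.weakAss_self_of_isReduced, IsDomain.minimalPrimes_eq_singleton_bot]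
  exact Set.finite_singleton _

theorem flatAt_of_flat (M : Type u) [AddCommGroup M] [Module S M] [Module R M]
    [IsScalarTower R S M] [Module.Flat R M] (P : Ideal S) [P.IsPrime] : FlatCA.FlatAt R P M :=
  Props12.flat_localizedModule _ _

theorem flat_away_of_forall (M : Type u) [AddCommGroup M] [Module S M] [Module R M]
    [IsScalarTower R S M] (g : S) (h : ∀ (P : Ideal S) [P.IsPrime], g ∉ P → FlatCA.FlatAt R P M) :
    Module.Flat R (LocalizedModule (Submonoid.powers g) M) :=
  (flat_away_iff g).2 h

/-- Flatness at a prime at which a surjection is bijective. -/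
theorem flatAt_iff_of_killed {G M : Type u} [AddCommGroup G] [Module S G] [Module R G]
    [IsScalarTower R S G] [AddCommGroup M] [Module S M] [Module R M] [IsScalarTower R S M]
    (π : G →ₗ[S] M) (hπ : Surjective π) (P : Ideal S) [P.IsPrime]
    (hP : ∀ h : G, π h = 0 → ∃ t ∉ P, t • h = 0) :
    FlatCA.FlatAt R P G ↔ FlatCA.FlatAt R P M := by
  let πP := IsLocalizedModule.map P.primeCompl (LocalizedModule.mkLinearMap P.primeCompl G)
    (LocalizedModule.mkLinearMap P.primeCompl M) π
  have hbij : Bijective πP := by
    refine ⟨(injective_iff_map_eq_zero _).2 fun z hz => ?_,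
      IsLocalizedModule.map_surjective _ _ _ _ hπ⟩
    obtain ⟨⟨y, t⟩, rfl⟩ := IsLocalizedModule.mk'_surjective P.primeCompl
      (LocalizedModule.mkLinearMap P.primeCompl G) z
    simp only [πP, Function.uncurry_apply_pair, IsLocalizedModule.map_mk'] at hz ⊢
    obtain ⟨c, hc⟩ := (IsLocalizedModule.mk'_eq_zero'
      (LocalizedModule.mkLinearMap P.primeCompl M) t).1 hz
    obtain ⟨u, hu, huy⟩ := hP ((c : S) • y) (by rw [map_smul]; exact hc)
    rw [IsLocalizedModule.mk'_eq_zero']
    exact ⟨⟨u, hu⟩ * c, by rw [Submonoid.smul_def, Submonoid.coe_mul, mul_smul]; exact huy⟩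
  let e : LocalizedModule P.primeCompl G ≃ₗ[R] LocalizedModule P.primeCompl M :=
    (LinearEquiv.ofBijective πP hbij).restrictScalars R
  exact ⟨fun h => @Module.Flat.of_linearEquiv R (LocalizedModule P.primeCompl G)
      (LocalizedModule P.primeCompl M) _ _ _ _ _ h e.symm,
    fun h => @Module.Flat.of_linearEquiv R (LocalizedModule P.primeCompl M)
      (LocalizedModule P.primeCompl G) _ _ _ _ _ h e⟩

/-- Glueing finite presentation over a cover by basic opens. -/
theorem finitePresentation_of_kerFG {F M : Type u} [AddCommGroup F] [Module S F]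
    [Module.FinitePresentation S F] [AddCommGroup M] [Module S M] (π : F →ₗ[S] M)
    (hπ : Surjective π)
    (h : ∀ (q : Ideal S) [q.IsPrime], ∃ g ∉ q, KerFG π (Submonoid.powers g : Set S)) :
    Module.FinitePresentation S M := by
  classical
  choose g hg K hfg hle hK using fun q : PrimeSpectrum S => h q.asIdeal
  have hspan : Ideal.span (Set.range g) = ⊤ := by
    by_contra hne
    obtain ⟨m, hm, hle'⟩ := Ideal.exists_le_maximal _ hne
    exact hg ⟨m, hm.isPrime⟩ (hle' (Ideal.subset_span ⟨_, rfl⟩))
  obtain ⟨T, hTsub, hT⟩ := Submodule.mem_span_finite_of_mem_span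
    ((Ideal.eq_top_iff_one _).1 hspan)
  have hT' : ∀ t : T, ∃ q, g q = t := fun t => hTsub t.2
  choose q hq using hT'
  refine Module.finitePresentation_of_surjective π hπ ?_
  have hW : LinearMap.ker π = T.attach.sup fun t => K (q t) := by
    refine le_antisymm (fun x hx => ?_) (Finset.sup_le fun t _ => hle _)
    refine Submodule.mem_of_span_eq_top_of_smul_pow_mem _ (T : Set S)
      ((Ideal.eq_top_iff_one _).2 hT) x fun t => ?_
    obtain ⟨_, ⟨k, rfl⟩, hk⟩ := hK (q ⟨t.1, t.2⟩) x hx
    refine ⟨k, Finset.le_sup (f := fun t : T => K (q t)) (Finset.mem_attach T ⟨t.1, t.2⟩) ?_⟩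
    simpa [hq] using hk
  rw [hW]
  exact Submodule.fg_finset_sup _ _ fun t _ => hfg _

/-- A finite flat module over a finitely presented algebra is finitely presented, if the base has
finitely many weakly associated primes. -/
theorem finitePresentation_of_flat [Algebra.FinitePresentation R S] (M : Type u) [AddCommGroup M]
    [Module S M] [Module R M] [IsScalarTower R S M] [Module.Finite S M] [Module.Flat R M]
    (hR : (FlatCA.weakAss R R).Finite) : Module.FinitePresentation S M := by
  obtain ⟨n, π, hπ⟩ := Module.Finite.exists_fin' S M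
  refine finitePresentation_of_kerFG π hπ fun q _ => ?_
  obtain ⟨g, hg, hfp, -⟩ := exists_nbhd_fp_flat hR q (flatAt_of_flat M q)
  exact ⟨g, hg, (fp_localized_iff π hπ _).1 hfp⟩

/-- The finite type case. -/
theorem finitePresentation_of_flat_finiteType [Algebra.FiniteType R S] (M : Type u) [AddCommGroup M]
    [Module S M] [Module R M] [IsScalarTower R S M] [Module.Finite S M] [Module.Flat R M]
    (hR : (FlatCA.weakAss R R).Finite) : Module.FinitePresentation S M := by
  obtain ⟨s, φ, hφ⟩ := Algebra.FiniteType.iff_quotient_mvPolynomial''.1 ‹Algebra.FiniteType R S›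
  let P := MvPolynomial (Fin s) R
  let _ : Algebra P S := φ.toRingHom.toAlgebra
  have : IsScalarTower R P S := .of_algebraMap_eq fun r => (φ.commutes r).symm
  let _ : Module P M := Module.compHom M φ.toRingHom
  have : IsScalarTower P S M := .of_algebraMap_smul fun _ _ => rfl
  have : IsScalarTower R P M := .of_algebraMap_smul fun r m => by
    show φ (algebraMap R P r) • m = r • m
    rw [AlgHom.commutes, algebraMap_smul]
  have : Module.Finite P S := Module.Finite.of_surjective (Algebra.linearMap P S) hφ
  have : Module.Finite P M := Module.Finite.trans S M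
  have : Module.FinitePresentation P M := finitePresentation_of_flat M hR
  obtain ⟨n, π, hπ⟩ := Module.Finite.exists_fin' S M
  exact Module.finitePresentation_of_surjective π hπ
    (Submodule.FG.of_restrictScalars P
      (Module.FinitePresentation.fg_ker (π.restrictScalars P) hπ))

/-- A flat algebra of finite type is finitely presented. -/
theorem algebra_finitePresentation_of_flat [Algebra.FiniteType R S] [Module.Flat R S]
    (hR : (FlatCA.weakAss R R).Finite) : Algebra.FinitePresentation R S := by
  obtain ⟨s, φ, hφ⟩ := Algebra.FiniteType.iff_quotient_mvPolynomial''.1 ‹Algebra.FiniteType R S›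
  let P := MvPolynomial (Fin s) R
  let _ : Algebra P S := φ.toRingHom.toAlgebra
  have : IsScalarTower R P S := .of_algebraMap_eq fun r => (φ.commutes r).symm
  have : Module.Finite P S := Module.Finite.of_surjective (Algebra.linearMap P S) hφ
  have : Module.FinitePresentation P S := finitePresentation_of_flat S hR
  refine Algebra.FinitePresentation.of_surjective hφ ?_
  exact Module.FinitePresentation.fg_ker (Algebra.linearMap P S) hφ

/-- The flat locus of a finite module over a finite type algebra is open. -/
theorem isOpen_flatAt [Algebra.FiniteType R S] (M : Type u) [AddCommGroup M]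
    [Module S M] [Module R M] [IsScalarTower R S M] [Module.Finite S M]
    (hR : (FlatCA.weakAss R R).Finite) :
    IsOpen {q : PrimeSpectrum S | FlatCA.FlatAt R q.asIdeal M} := by
  obtain ⟨s, φ, hφ⟩ := Algebra.FiniteType.iff_quotient_mvPolynomial''.1 ‹Algebra.FiniteType R S›
  let P := MvPolynomial (Fin s) R
  let _ : Algebra P S := φ.toRingHom.toAlgebra
  have : IsScalarTower R P S := .of_algebraMap_eq fun r => (φ.commutes r).symm
  let _ : Module P M := Module.compHom M φ.toRingHom
  have : IsScalarTower P S M := .of_algebraMap_smul fun _ _ => rfl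
  have : IsScalarTower R P M := .of_algebraMap_smul fun r m => by
    show φ (algebraMap R P r) • m = r • m
    rw [AlgHom.commutes, algebraMap_smul]
  have : Module.Finite P S := Module.Finite.of_surjective (Algebra.linearMap P S) hφ
  have : Module.Finite P M := Module.Finite.trans S M
  have hiff : ∀ (q : Ideal S) [q.IsPrime],
      FlatCA.FlatAt R (q.comap (algebraMap P S)) M ↔ FlatCA.FlatAt R q M := fun q _ => by
    have : (q.comap (algebraMap P S)).primeCompl.map (algebraMap P S) = q.primeCompl := by
      ext x
      obtain ⟨y, rfl⟩ := hφ x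
      exact ⟨fun ⟨z, hz, hzy⟩ h => hz (show algebraMap P S z ∈ q by rw [hzy]; exact h),
        fun h => ⟨y, h, rfl⟩⟩
    rw [FlatCA.FlatAt, FlatCA.FlatAt, flat_localized_algebraMap_iff (S := S), this]
  refine isOpen_iff_forall_mem_open.2 fun q hq => ?_
  obtain ⟨g, hg, -, hflat⟩ := exists_nbhd_fp_flat (S := P) hR (q.asIdeal.comap (algebraMap P S))
    ((hiff q.asIdeal).2 hq)
  refine ⟨PrimeSpectrum.basicOpen (algebraMap P S g), fun x hx => ?_,
    (PrimeSpectrum.basicOpen _).isOpen, hg⟩
  exact (hiff x.asIdeal).1 (hflat _ hx)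

/-- Flat algebras of finite type are finitely presented near each point of flatness. -/
theorem exists_nbhd_algebra_fp_flat [Algebra.FiniteType R S] (hR : (FlatCA.weakAss R R).Finite)
    (q : Ideal S) [q.IsPrime] [Module.Flat R (Localization.AtPrime q)] :
    ∃ g ∉ q, Algebra.FinitePresentation R (Localization.Away g) ∧
      Module.Flat R (Localization.Away g) := by
  obtain ⟨s, φ, hφ⟩ := Algebra.FiniteType.iff_quotient_mvPolynomial''.1 ‹Algebra.FiniteType R S›
  let P := MvPolynomial (Fin s) R
  let _ : Algebra P S := φ.toRingHom.toAlgebra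
  have : IsScalarTower R P S := .of_algebraMap_eq fun r => (φ.commutes r).symm
  have : Module.Finite P S := Module.Finite.of_surjective (Algebra.linearMap P S) hφ
  have hiff : ∀ (q : Ideal S) [q.IsPrime],
      FlatCA.FlatAt R (q.comap (algebraMap P S)) S ↔ FlatCA.FlatAt R q S := fun q _ => by
    have : (q.comap (algebraMap P S)).primeCompl.map (algebraMap P S) = q.primeCompl := by
      ext x
      obtain ⟨y, rfl⟩ := hφ x
      exact ⟨fun ⟨z, hz, hzy⟩ h => hz (show algebraMap P S z ∈ q by rw [hzy]; exact h),
        fun h => ⟨y, h, rfl⟩⟩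
    rw [FlatCA.FlatAt, FlatCA.FlatAt, flat_localized_algebraMap_iff (S := S), this]
  obtain ⟨g, hg, hfp, hflat⟩ := exists_nbhd_fp_flat (S := P) hR (q.comap (algebraMap P S))
    ((hiff q).2 ‹Module.Flat R (Localization.AtPrime q)›)
  refine ⟨algebraMap P S g, hg, finitePresentation_away_of_module hφ g hfp, ?_⟩
  have h : Module.Flat R (LocalizedModule (Submonoid.powers g) S) := flat_away_of_forall S g hflat
  rw [flat_localized_algebraMap_iff (S := S), Submonoid.map_powers] at h
  exact h

/-- A finite flat module which is finitely presented over a dense union of basic opens of the base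
is finitely presented. -/
theorem finitePresentation_of_flat_of_dense [Algebra.FinitePresentation R S] (M : Type u)
    [AddCommGroup M] [Module S M] [Module R M] [IsScalarTower R S M] [Module.Finite S M]
    [Module.Flat R M] {n : ℕ} (f : Fin n → R)
    (hdense : Function.Injective (RingHom.pi (fun i => algebraMap R (Localization.Away (f i)))))
    (hfp : ∀ i, Module.FinitePresentation (Localization.Away (algebraMap R S (f i)))
      (LocalizedModule (Submonoid.powers (algebraMap R S (f i))) M)) :
    Module.FinitePresentation S M := by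
  classical
  obtain ⟨m, π, hπ⟩ := Module.Finite.exists_fin' S M
  choose Ki hKifg hKile hKi using fun i => (fp_localized_iff π hπ _).1 (hfp i)
  refine finitePresentation_of_kerFG π hπ fun q _ => ?_
  obtain ⟨K₁, hfg, hle, hK⟩ :=
    (fp_localized_iff π hπ q.primeCompl).1 (fp_localization_of_flatAt M q (flatAt_of_flat (R := R) M q))
  let K₀ := K₁ ⊔ Finset.univ.sup Ki
  have hK₀fg : K₀.FG := hfg.sup (Submodule.fg_finset_sup _ _ fun i _ => hKifg i)
  have hK₀le : K₀ ≤ LinearMap.ker π := sup_le hle (Finset.sup_le fun i _ => hKile i)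
  let G := (Fin m → S) ⧸ K₀
  have : Module.FinitePresentation S G :=
    Module.finitePresentation_of_surjective K₀.mkQ K₀.mkQ_surjective (by rwa [Submodule.ker_mkQ])
  let πb : G →ₗ[S] M := K₀.liftQ π hK₀le
  have hπb : Surjective πb := fun w => by
    obtain ⟨y, rfl⟩ := hπ w
    exact ⟨Submodule.Quotient.mk y, rfl⟩
  have hflatq : FlatCA.FlatAt R q G :=
    (flatAt_iff_of_killed πb hπb q fun h hh => by
      obtain ⟨x, rfl⟩ := K₀.mkQ_surjective h
      obtain ⟨t, ht, htx⟩ := hK x hh
      refine ⟨t, ht, ?_⟩
      rw [← map_smul, Submodule.mkQ_apply, Submodule.Quotient.mk_eq_zero]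
      exact le_sup_left (b := Finset.univ.sup Ki) htx).2 (flatAt_of_flat M q)
  obtain ⟨W, ⟨g, rfl⟩, hgq, hsub⟩ := PrimeSpectrum.isTopologicalBasis_basic_opens.exists_subset_of_mem_open
    (show (⟨q, inferInstance⟩ : PrimeSpectrum S) ∈ {Q : PrimeSpectrum S |
      Module.Flat R (LocalizedModule Q.asIdeal.primeCompl G)} from hflatq)
    EGA43.FlatDescent.isOpen_setOf_flat
  refine ⟨g, hgq, K₀, hK₀fg, hK₀le, fun x hx => ?_⟩
  have hki : ∀ i : ULift.{u} (Fin n), ∃ k : ℕ,
      algebraMap R S (f i.down ^ k) • (K₀.mkQ x) = 0 := fun i => by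
    obtain ⟨_, ⟨k, rfl⟩, hk⟩ := hKi i.down x hx
    refine ⟨k, ?_⟩
    rw [map_pow, ← map_smul, Submodule.mkQ_apply, Submodule.Quotient.mk_eq_zero]
    exact le_sup_right (a := K₁) (Finset.le_sup (f := Ki) (Finset.mem_univ i.down) hk)
  choose k hk using hki
  obtain ⟨e, he⟩ := CAlgSmall.FPFlatLocal.exists_pow_smul_eq_zero (K₀.mkQ x) g fun Q hgQ => by
    have : Module.Flat R (LocalizedModule Q.asIdeal.primeCompl G) := hsub hgQ
    refine CAlgSmall.FPFlatLocal.eq_zero_of_forall_smul_eq_zero
      (a := fun i : ULift.{u} (Fin n) => f i.down ^ k i) (fun r hr => hdense ?_) _ fun i => ?_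
    · rw [map_zero]
      funext i
      show algebraMap R (Localization.Away (f i)) r = 0
      exact (IsLocalization.map_eq_zero_iff (Submonoid.powers (f i)) _ r).2
        ⟨⟨f i ^ k ⟨i⟩, _, rfl⟩, by rw [mul_comm]; exact hr ⟨i⟩⟩
    · rw [← algebraMap_smul S (f i.down ^ k i), ← map_smul, hk i, map_zero]
  refine ⟨g ^ e, ⟨e, rfl⟩, ?_⟩
  rwa [← map_smul, Submodule.mkQ_apply, Submodule.Quotient.mk_eq_zero] at he

end Groth.Agent.FlatMorDevissage
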