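import Groth.Agent.FlatMorDevissage.LocalApps

/-!
# Finite presentation at a point of flatness
-/

set_option autoImplicit false
set_option backward.isDefEq.respectTransparency false

universe u

open TensorProduct Function

namespace Groth.Agent.FlatMorDevissage

open Groth.Agent

attribute [local instance] Algebra.TensorProduct.rightAlgebra

/-- A model of the base change of a module along a base change. -/
theorem exists_model (R A S N : Type u) [CommRing R] [CommRing A] [CommRing S] [Algebra R A]
    [Algebra R S] [AddCommGroup N] [Module S N] :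
    ∃ (SA NA : Type u) (_ : CommRing SA) (_ : Algebra R SA) (_ : Algebra S SA) (_ : Algebra A SA)
      (_ : IsScalarTower R S SA) (_ : IsScalarTower R A SA) (_ : Algebra.IsPushout R S A SA)
      (_ : AddCommGroup NA) (_ : Module SA NA) (_ : Module S NA) (_ : IsScalarTower S SA NA)
      (_ : Module A NA) (_ : IsScalarTower A SA NA) (f : N →ₗ[S] NA), IsBaseChange SA f :=
  ⟨S ⊗[R] A, (S ⊗[R] A) ⊗[S] N, inferInstance, inferInstance, inferInstance, inferInstance,
    inferInstance, inferInstance, inferInstance, inferInstance, inferInstance, inferInstance,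
    inferInstance, Module.compHom _ (algebraMap A (S ⊗[R] A)),
    letI := Module.compHom ((S ⊗[R] A) ⊗[S] N) (algebraMap A (S ⊗[R] A))
    .of_algebraMap_smul fun _ _ => rfl,
    TensorProduct.mk S (S ⊗[R] A) N 1, TensorProduct.isBaseChange S N (S ⊗[R] A)⟩

/-- Finite presentation descends from a neighbourhood of the point over a flat base change. -/
theorem fp_localization_of_model {R A S SA N NA : Type u} [CommRing R] [CommRing A] [CommRing S]
    [CommRing SA] [Algebra R A] [Module.Flat R A] [Algebra R S] [Algebra R SA] [Algebra S SA]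
    [Algebra A SA] [IsScalarTower R S SA] [IsScalarTower R A SA] [Algebra.IsPushout R S A SA]
    [AddCommGroup N] [Module S N] [Module.Finite S N] [AddCommGroup NA] [Module SA NA] [Module S NA]
    [IsScalarTower S SA NA] {f : N →ₗ[S] NA} (hf : IsBaseChange SA f) (q : Ideal S) [q.IsPrime]
    (Q : Ideal SA) [Q.IsPrime] [Q.LiesOver q] {g : SA} (hg : g ∉ Q)
    (hfp : Module.FinitePresentation (Localization.Away g) (LocalizedModule (Submonoid.powers g) NA)) :
    Module.FinitePresentation (Localization.AtPrime q) (LocalizedModule q.primeCompl N) := by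
  have : Module.Flat S SA :=
    Module.Flat.of_linearEquiv (R := S) (M := S ⊗[R] A)
      (Algebra.IsPushout.equiv R S A SA).toLinearEquiv.symm
  refine fp_localized_of_baseChange (T' := Submonoid.powers g) hf (fun P hP hd => ?_) hfp
  have hPq : P ≤ q := fun a ha => by
    by_contra haq
    exact Set.disjoint_left.1 hd haq ha
  obtain ⟨P', hP'Q, hP', hP'P⟩ := Ideal.exists_ideal_le_liesOver_of_le (p := P) (q := q) Q hPq
  refine ⟨P', hP', Set.disjoint_left.2 ?_, hP'P.over.symm⟩
  rintro _ ⟨k, rfl⟩ hk
  exact hg (Ideal.IsPrime.mem_of_pow_mem ‹_› k (hP'Q hk))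

/-- A finite module over a finitely presented algebra is finitely presented where it is flat. -/
theorem fp_localization_of_flatAt {R S : Type u} [CommRing R] [CommRing S] [Algebra R S]
    [Algebra.FinitePresentation R S] (N : Type u) [AddCommGroup N] [Module S N] [Module R N]
    [IsScalarTower R S N] [Module.Finite S N] (q : Ideal S) [q.IsPrime] (h : FlatCA.FlatAt R q N) :
    Module.FinitePresentation (Localization.AtPrime q) (LocalizedModule q.primeCompl N) := by
  have : q.LiesOver (q.comap (algebraMap R S)) := ⟨rfl⟩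
  obtain ⟨R', _, _, p', _, hR, hmain⟩ := exists_flat_away_local N (q.comap (algebraMap R S)) q h
  obtain ⟨SA, NA, _, _, _, _, _, _, _, _, _, _, _, _, _, f, hf⟩ :=
    exists_model R (Localization.AtPrime p') S N
  obtain ⟨g, hg, -, hfp⟩ := hmain SA NA f hf
  obtain ⟨_, hpA⟩ := bijective_residueField_localRing hR
  have : Algebra.IsPushout R (Localization.AtPrime p') S SA := Algebra.IsPushout.symm ‹_›
  obtain ⟨Q, hQ, hQq, hQm⟩ := exists_prime_isPushout (S' := SA) (q.comap (algebraMap R S))
    (IsLocalRing.maximalIdeal (Localization.AtPrime p')) hpA q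
  have := hR.1
  have : Module.Flat R (Localization.AtPrime p') := Module.Flat.trans R R' _
  exact fp_localization_of_model (R := R) (A := Localization.AtPrime p') hf q Q (hg Q hQq hQm) (hfp inferInstance)

/-- A local ring of a finite type algebra which is flat over the base is essentially of finite
presentation. -/
theorem essFinitePresentation_of_flat {R S : Type u} [CommRing R] [CommRing S] [Algebra R S]
    [Algebra.FiniteType R S] (q : Ideal S) [q.IsPrime] [Module.Flat R (Localization.AtPrime q)] :
    FlatCA.EssFinitePresentation R (Localization.AtPrime q) := by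
  classical
  obtain ⟨s, φ, hφ⟩ := Algebra.FiniteType.iff_quotient_mvPolynomial''.1 ‹Algebra.FiniteType R S›
  let P := MvPolynomial (Fin s) R
  let _ : Algebra P S := φ.toRingHom.toAlgebra
  have : IsScalarTower R P S := .of_algebraMap_eq fun r => (φ.commutes r).symm
  have : Module.Finite P S := Module.Finite.of_surjective (Algebra.linearMap P S) hφ
  let qP := q.comap (algebraMap P S)
  have hflat : FlatCA.FlatAt R qP S := by
    rw [FlatCA.FlatAt, flat_localized_algebraMap_iff (S := S)]
    refine (flat_localized_iff _).2 fun Q _ hQ => (flatAt_iff_kerKilled Q).2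
      fun X Y _ _ _ _ i hi x hx => ?_
    have hQq : Q ≤ q := fun b hb => by
      obtain ⟨c, rfl⟩ := hφ b
      by_contra hbq
      exact Set.disjoint_left.1 hQ ⟨c, hbq, rfl⟩ hb
    have hq : FlatCA.FlatAt R q S := ‹Module.Flat R (Localization.AtPrime q)›
    obtain ⟨t, ht, htx⟩ := (flatAt_iff_kerKilled q).1 hq i hi x hx
    exact ⟨t, fun h => ht (hQq h), htx⟩
  have hfp := fp_localization_of_flatAt S qP hflat
  obtain ⟨K₀, hfg, hle, hK⟩ :=
    (fp_localized_iff (Algebra.linearMap P S) hφ qP.primeCompl).1 hfp
  let I₀ : Ideal P := K₀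
  have hI : ∀ a ∈ I₀, algebraMap P S a = 0 := fun a ha => hle ha
  let S₀ := P ⧸ I₀
  let ψ : S₀ →ₐ[R] S := Ideal.Quotient.liftₐ I₀ φ hI
  let _ : Algebra S₀ (Localization.AtPrime q) :=
    ((algebraMap S (Localization.AtPrime q)).comp ψ.toRingHom).toAlgebra
  have : IsScalarTower R S₀ (Localization.AtPrime q) := .of_algebraMap_eq fun r => by
    show _ = algebraMap S (Localization.AtPrime q) (ψ (algebraMap R S₀ r))
    rw [AlgHom.commutes, ← IsScalarTower.algebraMap_apply]
  refine ⟨S₀, inferInstance, inferInstance, inferInstance, inferInstance,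
    (q.comap ψ.toRingHom).primeCompl,
    Algebra.FinitePresentation.quotient hfg, ?_⟩
  constructor
  constructor
  · rintro ⟨c, hc⟩
    exact IsLocalization.map_units (Localization.AtPrime q) (⟨ψ c, hc⟩ : q.primeCompl)
  · intro z
    obtain ⟨⟨a, ⟨b, hb⟩⟩, hab⟩ := IsLocalization.surj q.primeCompl z
    obtain ⟨a, rfl⟩ := hφ a
    obtain ⟨b, rfl⟩ := hφ b
    exact ⟨⟨Ideal.Quotient.mk I₀ a, ⟨Ideal.Quotient.mk I₀ b, hb⟩⟩, hab⟩
  · intro x y hxy
    obtain ⟨⟨c, hc⟩, hcxy⟩ := IsLocalization.exists_of_eq (M := q.primeCompl) hxy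
    obtain ⟨c, rfl⟩ := hφ c
    obtain ⟨x, rfl⟩ := Ideal.Quotient.mk_surjective x
    obtain ⟨y, rfl⟩ := Ideal.Quotient.mk_surjective y
    have hker : c * x - c * y ∈ LinearMap.ker (Algebra.linearMap P S) := by
      show φ (c * x - c * y) = 0
      rw [map_sub, map_mul, map_mul, sub_eq_zero]
      exact hcxy
    obtain ⟨t, ht, htx⟩ := hK _ hker
    refine ⟨⟨Ideal.Quotient.mk I₀ (t * c), ?_⟩, ?_⟩
    · show φ (t * c) ∉ q
      rw [map_mul]
      exact fun h => (Ideal.IsPrime.mem_or_mem ‹_› h).elim ht hc
    · show Ideal.Quotient.mk I₀ (t * c) * Ideal.Quotient.mk I₀ x =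
        Ideal.Quotient.mk I₀ (t * c) * Ideal.Quotient.mk I₀ y
      rw [← map_mul, ← map_mul, Ideal.Quotient.eq]
      have h2 : t * (c * x - c * y) ∈ I₀ := htx
      rwa [show t * c * x - t * c * y = t * (c * x - c * y) by ring]

/-- An algebra that is finitely presented as a module on a basic open is finitely presented there as
an algebra. -/
theorem finitePresentation_away_of_module {A P T : Type u} [CommRing A] [CommRing P] [CommRing T]
    [Algebra A P] [Algebra.FinitePresentation A P] [Algebra A T] [Algebra P T] [IsScalarTower A P T]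
    (hPT : Surjective (algebraMap P T)) (g : P)
    (hfp : Module.FinitePresentation (Localization (Submonoid.powers g))
      (LocalizedModule (Submonoid.powers g) T)) :
    Algebra.FinitePresentation A (Localization.Away (algebraMap P T g)) := by
  obtain ⟨K₀, hfg, hle, hK⟩ :=
    (fp_localized_iff (Algebra.linearMap P T) hPT (Submonoid.powers g)).1 hfp
  let I₀ : Ideal P := K₀
  let B := P ⧸ I₀
  let L := Localization.Away (algebraMap P T g)
  let ψ : B →ₐ[A] T := Ideal.Quotient.liftₐ I₀ (IsScalarTower.toAlgHom A P T) fun a ha => hle ha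
  let _ : Algebra B L := ((algebraMap T L).comp ψ.toRingHom).toAlgebra
  have : IsScalarTower A B L := .of_algebraMap_eq fun r => by
    show _ = algebraMap T L (ψ (algebraMap A B r))
    rw [AlgHom.commutes, ← IsScalarTower.algebraMap_apply]
  have : IsLocalization.Away (Ideal.Quotient.mk I₀ g) L := by
    constructor
    constructor
    · rintro ⟨_, k, rfl⟩
      show IsUnit (algebraMap T L (ψ (Ideal.Quotient.mk I₀ g ^ k)))
      rw [map_pow, map_pow]
      exact (IsLocalization.Away.algebraMap_isUnit (algebraMap P T g)).pow k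
    · intro z
      obtain ⟨⟨a, ⟨_, k, rfl⟩⟩, hab⟩ := IsLocalization.surj (Submonoid.powers (algebraMap P T g)) z
      obtain ⟨a, rfl⟩ := hPT a
      refine ⟨⟨Ideal.Quotient.mk I₀ a, ⟨_, k, rfl⟩⟩, ?_⟩
      show z * algebraMap T L (ψ (Ideal.Quotient.mk I₀ g ^ k)) = algebraMap T L (algebraMap P T a)
      rw [map_pow ψ]
      exact hab
    · intro x y hxy
      obtain ⟨⟨_, k, rfl⟩, hcxy⟩ :=
        IsLocalization.exists_of_eq (M := Submonoid.powers (algebraMap P T g)) hxy
      obtain ⟨x, rfl⟩ := Ideal.Quotient.mk_surjective x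
      obtain ⟨y, rfl⟩ := Ideal.Quotient.mk_surjective y
      have hker : g ^ k * x - g ^ k * y ∈ LinearMap.ker (Algebra.linearMap P T) := by
        show algebraMap P T (g ^ k * x - g ^ k * y) = 0
        rw [map_sub, map_mul, map_mul, map_pow, sub_eq_zero]
        exact hcxy
      obtain ⟨_, ⟨l, rfl⟩, htx⟩ := hK _ hker
      refine ⟨⟨Ideal.Quotient.mk I₀ g ^ (l + k), ⟨_, rfl⟩⟩, ?_⟩
      show Ideal.Quotient.mk I₀ g ^ (l + k) * Ideal.Quotient.mk I₀ x =
        Ideal.Quotient.mk I₀ g ^ (l + k) * Ideal.Quotient.mk I₀ y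
      rw [← map_pow, ← map_mul, ← map_mul, Ideal.Quotient.eq]
      have h2 : g ^ l * (g ^ k * x - g ^ k * y) ∈ I₀ := htx
      rwa [show g ^ (l + k) * x - g ^ (l + k) * y = g ^ l * (g ^ k * x - g ^ k * y) by ring]
  have : Algebra.FinitePresentation A B := Algebra.FinitePresentation.quotient hfg
  have : Algebra.FinitePresentation B L :=
    IsLocalization.Away.finitePresentation (Ideal.Quotient.mk I₀ g)
  exact Algebra.FinitePresentation.trans A B L

/-- Transfer of a basic open along a surjection of base changed rings. -/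
theorem exists_away_of_surjective {R A P PA S SA : Type u} [CommRing R] [CommRing A] [CommRing P]
    [CommRing PA] [CommRing S] [CommRing SA] [Algebra R A] [Algebra R P] [Algebra R S] [Algebra R PA]
    [Algebra R SA] [Algebra P PA] [Algebra A PA] [Algebra P S] [Algebra S SA] [Algebra A SA]
    [IsScalarTower R P PA] [IsScalarTower R A PA] [Algebra.IsPushout R P A PA]
    [IsScalarTower R P S] [IsScalarTower R S SA] [IsScalarTower R A SA]
    [Algebra.IsPushout R S A SA] [Algebra.FinitePresentation A PA]
    (hφ : Surjective (algebraMap P S)) (q : Ideal S) [q.IsPrime] (m : Ideal A)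
    (h : ∀ (NA : Type u) [AddCommGroup NA] [Module PA NA] [Module P NA] [IsScalarTower P PA NA]
      [Module A NA] [IsScalarTower A PA NA] (f : S →ₗ[P] NA), IsBaseChange PA f →
      ∃ g : PA, (∀ (Q : Ideal PA) [Q.IsPrime], Q.LiesOver (q.comap (algebraMap P S)) → Q.LiesOver m →
          g ∉ Q) ∧
        Module.Flat A (LocalizedModule (Submonoid.powers g) NA) ∧
        Module.FinitePresentation (Localization (Submonoid.powers g))
          (LocalizedModule (Submonoid.powers g) NA)) :
    ∃ g : SA, (∀ (Q : Ideal SA) [Q.IsPrime], Q.LiesOver q → Q.LiesOver m → g ∉ Q) ∧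
      Module.Flat A (Localization.Away g) ∧
      Algebra.FinitePresentation A (Localization.Away g) := by
  let _ : Algebra P SA := ((algebraMap S SA).comp (algebraMap P S)).toAlgebra
  have : IsScalarTower P S SA := .of_algebraMap_eq' rfl
  have : IsScalarTower R P SA := .of_algebraMap_eq fun r => by
    rw [IsScalarTower.algebraMap_apply P S SA, ← IsScalarTower.algebraMap_apply R P S,
      ← IsScalarTower.algebraMap_apply R S SA]
  let θ : PA →ₐ[R] SA := Algebra.pushoutDesc PA (IsScalarTower.toAlgHom R P SA)
    (IsScalarTower.toAlgHom R A SA) fun _ _ => mul_comm _ _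
  let _ : Algebra PA SA := θ.toRingHom.toAlgebra
  have : IsScalarTower P PA SA := .of_algebraMap_eq fun b => by
    show _ = θ (algebraMap P PA b)
    simp only [θ, Algebra.pushoutDesc_left]
    rfl
  have : IsScalarTower A PA SA := .of_algebraMap_eq fun a => by
    show _ = θ (algebraMap A PA a)
    simp only [θ, Algebra.pushoutDesc_right]
    rfl
  have : IsScalarTower R PA SA := .of_algebraMap_eq fun r => (θ.commutes r).symm
  have : Algebra.IsPushout R A S SA := Algebra.IsPushout.symm ‹_›
  have hpo : Algebra.IsPushout P S PA SA := (Algebra.IsPushout.comp_iff R P A PA).1 ‹_›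
  have hbc : IsBaseChange PA (IsScalarTower.toAlgHom P S SA).toLinearMap := hpo.symm.out
  have hsurj : Surjective (algebraMap PA SA) := by
    intro z
    induction z using hbc.inductionOn with
    | zero => exact ⟨0, map_zero _⟩
    | tmul b =>
      obtain ⟨b, rfl⟩ := hφ b
      exact ⟨algebraMap P PA b, (IsScalarTower.algebraMap_apply P PA SA b).symm.trans
        (IsScalarTower.algebraMap_apply P S SA b)⟩
    | smul a z hz =>
      obtain ⟨c, rfl⟩ := hz
      exact ⟨a * c, by rw [map_mul, Algebra.smul_def]⟩
    | add y z hy hz =>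
      obtain ⟨a, rfl⟩ := hy
      obtain ⟨b, rfl⟩ := hz
      exact ⟨a + b, map_add _ _ _⟩
  obtain ⟨g, hg, hgflat, hgfp⟩ := h SA (IsScalarTower.toAlgHom P S SA).toLinearMap hbc
  refine ⟨algebraMap PA SA g, fun Q hQ hQq hQm hmem => ?_, ?_, ?_⟩
  · refine hg (Q.comap (algebraMap PA SA)) ⟨?_⟩ ⟨?_⟩ hmem
    · rw [Ideal.under, Ideal.comap_comap, ← IsScalarTower.algebraMap_eq,
        IsScalarTower.algebraMap_eq P S SA, ← Ideal.comap_comap]
      exact congrArg _ hQq.over
    · rw [Ideal.under, Ideal.comap_comap, ← IsScalarTower.algebraMap_eq]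
      exact hQm.over
  · rw [flat_localized_algebraMap_iff (S := SA), Submonoid.map_powers] at hgflat
    exact hgflat
  · exact finitePresentation_away_of_module (P := PA) hsurj g hgfp

set_option maxHeartbeats 400000 in
/-- A flat point of a finite type algebra has, over the local ring of an etale neighbourhood of the
base, a flat finitely presented neighbourhood. -/
theorem exists_flat_fp_away_local {R S : Type u} [CommRing R] [CommRing S] [Algebra R S]
    [Algebra.FiniteType R S] (p : Ideal R) [p.IsPrime] (q : Ideal S) [q.IsPrime] [q.LiesOver p]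
    (hflat : Module.Flat R (Localization.AtPrime q)) :
    ∃ (R' : Type u) (_ : CommRing R') (_ : Algebra R R') (p' : Ideal R') (_ : p'.IsPrime),
      FlatCA.IsEtaleNhd R R' p p' ∧
      ∀ (SA : Type u) [CommRing SA] [Algebra R SA] [Algebra S SA]
        [Algebra (Localization.AtPrime p') SA]
        [IsScalarTower R S SA] [IsScalarTower R (Localization.AtPrime p') SA]
        [Algebra.IsPushout R S (Localization.AtPrime p') SA],
        ∃ g : SA, (∀ (Q : Ideal SA) [Q.IsPrime], Q.LiesOver q →
            Q.LiesOver (IsLocalRing.maximalIdeal (Localization.AtPrime p')) → g ∉ Q) ∧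
          Module.Flat (Localization.AtPrime p') (Localization.Away g) ∧
          Algebra.FinitePresentation (Localization.AtPrime p') (Localization.Away g) := by
  obtain ⟨s, φ, hφ⟩ := Algebra.FiniteType.iff_quotient_mvPolynomial''.1 ‹Algebra.FiniteType R S›
  let P := MvPolynomial (Fin s) R
  let _ : Algebra P S := φ.toRingHom.toAlgebra
  have : IsScalarTower R P S := .of_algebraMap_eq fun r => (φ.commutes r).symm
  have : Module.Finite P S := Module.Finite.of_surjective (Algebra.linearMap P S) hφ
  let qP := q.comap (algebraMap P S)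
  have : qP.LiesOver p := ⟨by
    rw [Ideal.under, Ideal.comap_comap, ← IsScalarTower.algebraMap_eq]
    exact q.over_def p⟩
  have hflat' : FlatCA.FlatAt R qP S := by
    rw [FlatCA.FlatAt, flat_localized_algebraMap_iff (S := S)]
    refine (flat_localized_iff _).2 fun Q _ hQ => (flatAt_iff_kerKilled Q).2
      fun X Y _ _ _ _ i hi x hx => ?_
    have hQq : Q ≤ q := fun b hb => by
      obtain ⟨c, rfl⟩ := hφ b
      by_contra hbq
      exact Set.disjoint_left.1 hQ ⟨c, hbq, rfl⟩ hb
    obtain ⟨t, ht, htx⟩ :=
      (flatAt_iff_kerKilled q).1 (hflat : FlatCA.FlatAt R q S) i hi x hx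
    exact ⟨t, fun h => ht (hQq h), htx⟩
  obtain ⟨R', _, _, p', _, hR, hmain⟩ := exists_flat_away_local S p qP hflat'
  refine ⟨R', inferInstance, inferInstance, p', inferInstance, hR, ?_⟩
  intro SA _ _ _ _ _ _ _
  have : Algebra.FinitePresentation (Localization.AtPrime p') (P ⊗[R] Localization.AtPrime p') :=
    Algebra.FinitePresentation.equiv (Algebra.TensorProduct.commRight R (Localization.AtPrime p') P)
  refine exists_away_of_surjective (R := R) (A := Localization.AtPrime p') (P := P)
    (PA := P ⊗[R] Localization.AtPrime p') hφ q (IsLocalRing.maximalIdeal (Localization.AtPrime p')) ?_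
  intro NA _ _ _ _ _ _ f hf
  obtain ⟨g, hg, hgflat, hgfp⟩ := hmain (P ⊗[R] Localization.AtPrime p') NA f hf
  exact ⟨g, hg, hgflat, hgfp inferInstance⟩

end Groth.Agent.FlatMorDevissage
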