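import Groth.Agent.FlatMorDevissage.InjModLocal
import Groth.Agent.FlatMorDevissage.LocalFP

/-!
# Injective modulo the maximal ideal into a flat module: essentially of finite type form
-/

set_option autoImplicit false
set_option backward.isDefEq.respectTransparency false

universe u

open TensorProduct Function IsLocalRing

namespace Groth.Agent.FlatMorDevissage

open Groth.Agent

/-- A polynomial ring covering a local algebra essentially of finite type. -/
theorem exists_polynomial_model {A B : Type u} [CommRing A] [CommRing B] [IsLocalRing B] [Algebra A B]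
    [Algebra.EssFiniteType A B] :
    ∃ (P : Type u) (_ : CommRing P) (_ : Algebra A P) (_ : Algebra P B) (_ : IsScalarTower A P B),
      Algebra.FinitePresentation A P ∧
        ∀ b : B, ∃ s t : P, IsUnit (algebraMap P B t) ∧ b * algebraMap P B t = algebraMap P B s := by
  let S₀ := Algebra.EssFiniteType.subalgebra A B
  obtain ⟨k, f, hf⟩ :=
    Algebra.FiniteType.iff_quotient_mvPolynomial''.1 (inferInstance : Algebra.FiniteType A S₀)
  let P := MvPolynomial (Fin k) A
  let g : P →ₐ[A] B := S₀.val.comp f
  let _ : Algebra P B := g.toRingHom.toAlgebra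
  refine ⟨P, inferInstance, inferInstance, inferInstance, .of_algebraMap_eq fun r => (g.commutes r).symm,
    inferInstance, fun b => ?_⟩
  obtain ⟨⟨x, t⟩, h⟩ := IsLocalization.surj (Algebra.EssFiniteType.submonoid A B) b
  obtain ⟨s, hs⟩ := hf x
  obtain ⟨t', ht'⟩ := hf t.1
  refine ⟨s, t', ?_, ?_⟩
  · show IsUnit ((f t' : S₀) : B)
    rw [ht']
    exact t.2
  · show b * ((f t' : S₀) : B) = ((f s : S₀) : B)
    rw [ht', hs]
    exact h

/-- A finite model of a finite module over a polynomial cover. -/
theorem exists_finite_model {P B N : Type u} [CommRing P] [CommRing B] [IsLocalRing B] [Algebra P B]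
    (hP : ∀ b : B, ∃ s t : P, IsUnit (algebraMap P B t) ∧ b * algebraMap P B t = algebraMap P B s)
    [AddCommGroup N] [Module B N] [Module P N] [IsScalarTower P B N] [Module.Finite B N] :
    ∃ N₀ : Submodule P N, Module.Finite P N₀ ∧
      IsLocalizedModule ((maximalIdeal B).comap (algebraMap P B)).primeCompl N₀.subtype := by
  classical
  obtain ⟨G, hG⟩ := (Module.finite_def (R := B) (M := N)).1 inferInstance
  let N₀ : Submodule P N := Submodule.span P G
  have hunit : ∀ c : ((maximalIdeal B).comap (algebraMap P B)).primeCompl,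
      IsUnit (algebraMap P B c.1) :=
    fun c => of_not_not fun h => c.2 ((mem_maximalIdeal _).2 h)
  refine ⟨N₀, Module.Finite.iff_fg.2 (Submodule.fg_span G.finite_toSet),
    { map_units := fun c => ?_, surj := fun n => ?_, exists_of_eq := fun {a b} hab => ?_ }⟩
  · rw [Module.End.isUnit_iff]
    obtain ⟨v, hv⟩ := hunit c
    refine ⟨fun x y hxy => ?_, fun y => ⟨(↑v⁻¹ : B) • y, ?_⟩⟩
    · have h : (c : P) • x = (c : P) • y := hxy
      rw [← algebraMap_smul B, ← algebraMap_smul B (c : P) y, ← hv] at h
      exact v.isUnit.smul_left_cancel.1 h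
    · show (c : P) • (↑v⁻¹ : B) • y = y
      rw [← algebraMap_smul B, ← hv, smul_smul, Units.mul_inv, one_smul]
  · have hn : n ∈ Submodule.span B (G : Set N) := hG ▸ Submodule.mem_top
    induction hn using Submodule.span_induction with
    | zero => exact ⟨(0, 1), by simp⟩
    | mem x hx => exact ⟨(⟨x, Submodule.subset_span hx⟩, 1), by simp⟩
    | add x y _ _ hx hy =>
      obtain ⟨⟨x₀, t₁⟩, h₁⟩ := hx
      obtain ⟨⟨y₀, t₂⟩, h₂⟩ := hy
      refine ⟨(t₂.1 • x₀ + t₁.1 • y₀, t₁ * t₂), ?_⟩
      simp only [Submonoid.smul_def, Submonoid.coe_mul, map_add, map_smul] at h₁ h₂ ⊢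
      rw [← h₁, ← h₂, smul_add, smul_smul, smul_smul, mul_comm t₁.1]
    | smul b x _ hx =>
      obtain ⟨⟨x₀, t₁⟩, h₁⟩ := hx
      obtain ⟨s, t, ht, hbt⟩ := hP b
      have htq : t ∈ ((maximalIdeal B).comap (algebraMap P B)).primeCompl :=
        fun h => (mem_maximalIdeal _).1 h ht
      refine ⟨(s • x₀, ⟨t, htq⟩ * t₁), ?_⟩
      simp only [Submonoid.smul_def, Submonoid.coe_mul, map_smul] at h₁ ⊢
      rw [← h₁, mul_smul, ← algebraMap_smul B s, ← algebraMap_smul B t, smul_comm t₁.1 b x,
        smul_smul, mul_comm _ b, hbt]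
  · exact ⟨1, by rw [Subtype.val_injective hab]⟩

/-- **Injective modulo the maximal ideal into a flat module** (essentially of finite type). -/
theorem injMod_of_essFiniteType {A B : Type u} [CommRing A] [IsLocalRing A] [CommRing B]
    [IsLocalRing B] [Algebra A B] [IsLocalHom (algebraMap A B)] [Algebra.EssFiniteType A B]
    {N M : Type u} [AddCommGroup N] [Module B N] [Module A N] [IsScalarTower A B N] [Module.Finite B N]
    [AddCommGroup M] [Module B M] [Module A M] [IsScalarTower A B M] [Module.Flat A M]
    (u : N →ₗ[B] M) (hu : ModInj (u.restrictScalars A)) :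
    Injective u ∧ Module.Flat A (M ⧸ LinearMap.range u) ∧
      FlatCA.UnivInj A (u.restrictScalars A) ∧ Module.Flat A N ∧ Module.FinitePresentation B N := by
  obtain ⟨P, _, _, _, _, hfpP, hP⟩ := exists_polynomial_model (A := A) (B := B)
  let _ : Module P N := Module.compHom N (algebraMap P B)
  have : IsScalarTower P B N := .of_algebraMap_smul fun _ _ => rfl
  let _ : Module P M := Module.compHom M (algebraMap P B)
  have : IsScalarTower P B M := .of_algebraMap_smul fun _ _ => rfl
  have : IsScalarTower A P N := isScalarTower_of_top A P B N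
  have : IsScalarTower A P M := isScalarTower_of_top A P B M
  let q := (maximalIdeal B).comap (algebraMap P B)
  have : q.LiesOver (maximalIdeal A) := ⟨by
    rw [Ideal.under, Ideal.comap_comap, ← IsScalarTower.algebraMap_eq]
    exact Eq.symm (((local_hom_TFAE (algebraMap A B)).out 0 4).1 ‹IsLocalHom (algebraMap A B)›)⟩
  obtain ⟨N₀, _, hloc⟩ := exists_finite_model (N := N) hP
  have hM : ∀ c ∉ q, Bijective fun x : M => c • x := fun c hc => by
    obtain ⟨v, hv⟩ := of_not_not fun h : ¬ IsUnit (algebraMap P B c) => hc ((mem_maximalIdeal _).2 h)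
    refine ⟨fun x y hxy => ?_, fun y => ⟨(↑v⁻¹ : B) • y, ?_⟩⟩
    · have h : c • x = c • y := hxy
      rw [← algebraMap_smul B, ← algebraMap_smul B c y, ← hv] at h
      exact v.isUnit.smul_left_cancel.1 h
    · show c • (↑v⁻¹ : B) • y = y
      rw [← algebraMap_smul B, ← hv, smul_smul, Units.mul_inv, one_smul]
  obtain ⟨hinj, hflat⟩ := injMod_of_finiteType q N₀.subtype hM (u.restrictScalars P) hu
  have hflat' : Module.Flat A (M ⧸ LinearMap.range (u.restrictScalars A)) := hflat
  have hui : FlatCA.UnivInj A (u.restrictScalars A) := univInj_of_flat_coker _ hinj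
  have hN : Module.Flat A N := flat_of_univInj _ hui
  refine ⟨hinj, hflat, hui, hN, ?_⟩
  have hat : FlatCA.FlatAt A q N₀ :=
    Module.Flat.of_linearEquiv ((IsLocalizedModule.iso q.primeCompl N₀.subtype).restrictScalars A)
  have hfp := fp_localization_of_flatAt (R := A) (↥N₀) q hat
  let Pq := Localization.AtPrime q
  let ι : Pq →+* B := IsLocalization.lift (M := q.primeCompl) (g := algebraMap P B)
    fun c => of_not_not fun h => c.2 ((mem_maximalIdeal _).2 h)
  let _ : Algebra Pq B := ι.toAlgebra
  have : IsScalarTower P Pq B := .of_algebraMap_eq fun x => (IsLocalization.lift_eq _ x).symm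
  have hsurj : Surjective (algebraMap Pq B) := fun b => by
    obtain ⟨s, t, ht, hbt⟩ := hP b
    have htq : t ∈ q.primeCompl := fun h => (mem_maximalIdeal _).1 h ht
    refine ⟨IsLocalization.mk' Pq s (⟨t, htq⟩ : q.primeCompl), ?_⟩
    show ι _ = b
    rw [IsLocalization.lift_mk'_spec, mul_comm]
    exact hbt.symm
  have : Module.Finite Pq B := Module.Finite.of_surjective (Algebra.linearMap Pq B) hsurj
  let _ : Module Pq N := Module.compHom N (algebraMap Pq B)
  have : IsScalarTower Pq B N := .of_algebraMap_smul fun _ _ => rfl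
  have : IsScalarTower P Pq N := isScalarTower_of_top P Pq B N
  have : Module.FinitePresentation Pq N := Module.FinitePresentation.of_equiv
    ((IsLocalizedModule.iso q.primeCompl N₀.subtype).extendScalarsOfIsLocalization q.primeCompl Pq)
  exact finitePresentation_of_restrictScalars Pq B N

end Groth.Agent.FlatMorDevissage
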