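import Groth.Agent.FlatMorDevissage.FreeUnion
import Groth.Agent.FlatMorDevissage.InjModEss
import Groth.Agent.HenselLib.Pair
import Groth.Agent.HenselLib.Perm
import Groth.Agent.HenselLib.WEtNoeth

/-!
# A local etale model in which a flat module is a union of free modules
-/

set_option autoImplicit false
set_option backward.isDefEq.respectTransparency false

universe u

open TensorProduct Function IsLocalRing

namespace Groth.Agent.FlatMorDevissage

open Groth.Agent

attribute [local instance] Algebra.TensorProduct.rightAlgebra

/-- The local ring of an etale neighbourhood with trivial residue extension of a henselian ring is the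
ring itself. -/
theorem bijective_of_henselian {A R' : Type u} [CommRing A] [HenselianLocalRing A] [CommRing R']
    [Algebra A R'] (p' : Ideal R') [p'.IsPrime] (h : FlatCA.IsEtaleNhd A R' (maximalIdeal A) p') :
    Bijective (algebraMap A (Localization.AtPrime p')) := by
  obtain ⟨he, ho, hb⟩ := h
  have : HenselianRing A (maximalIdeal A) := HenselLib.henselianRing_maximalIdeal A
  let π : R' →ₐ[A] (maximalIdeal A).ResidueField :=
    (AlgEquiv.ofBijective (Ideal.ResidueField.mapₐ (maximalIdeal A) p' (Algebra.ofId A R')
      (p'.over_def (maximalIdeal A))) hb).symm.toAlgHom.comp (IsScalarTower.toAlgHom A R' p'.ResidueField)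
  let e : (A ⧸ maximalIdeal A) ≃ₐ[A] (maximalIdeal A).ResidueField :=
    AlgEquiv.ofBijective (IsScalarTower.toAlgHom A (A ⧸ maximalIdeal A) (maximalIdeal A).ResidueField)
      (Ideal.bijective_algebraMap_quotient_residueField (maximalIdeal A))
  obtain ⟨τ, hτ⟩ := HenselLib.exists_lift_of_etale (maximalIdeal A) (e.symm.toAlgHom.comp π)
  have hker : ∀ c ∈ p'.primeCompl, IsUnit (τ c) := fun c hc => of_not_not fun hu => by
    have h1 : Ideal.Quotient.mk (maximalIdeal A) (τ c) = 0 :=
      Ideal.Quotient.eq_zero_iff_mem.2 ((mem_maximalIdeal _).2 hu)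
    have h2 : e.symm (π c) = 0 := (congr($hτ c)).symm.trans h1
    rw [map_eq_zero_iff _ e.symm.injective] at h2
    have h3 : algebraMap R' p'.ResidueField c = 0 :=
      (AlgEquiv.ofBijective _ hb).symm.injective (h2.trans (map_zero _).symm)
    exact hc (Ideal.algebraMap_residueField_eq_zero.1 h3)
  let B := Localization.AtPrime p'
  let σ : B →ₐ[A] A := IsLocalization.liftAlgHom (M := p'.primeCompl) (f := τ) fun c => hker c.1 c.2
  refine ⟨fun a b hab => (σ.commutes a).symm.trans ((congrArg σ hab).trans (σ.commutes b)), fun z => ⟨σ z, ?_⟩⟩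
  have : Algebra.EssFiniteType A R' := inferInstance
  have : Algebra.EssFiniteType R' B := Algebra.EssFiniteType.of_isLocalization B p'.primeCompl
  have : Algebra.EssFiniteType A B := Algebra.EssFiniteType.comp A R' B
  have : Algebra.FormallyUnramified A B := Algebra.FormallyUnramified.comp A R' B
  have key : (Algebra.ofId A B).comp σ = AlgHom.id A B := by
    refine HenselLib.algHom_ext_of_le_jacobson (J := maximalIdeal B)
      (le_of_eq (jacobson_eq_maximalIdeal ⊥ bot_ne_top).symm) fun x => ?_
    have hx : ∀ r : R', algebraMap A B (τ r) - algebraMap R' B r ∈ maximalIdeal B := fun r => by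
      rw [IsScalarTower.algebraMap_apply A R' B, ← map_sub,
        IsLocalization.AtPrime.to_map_mem_maximal_iff B p',
        ← Ideal.algebraMap_residueField_eq_zero, map_sub, sub_eq_zero]
      have h4 : π (algebraMap A R' (τ r)) = π r := by
        rw [AlgHom.commutes]
        apply e.symm.injective
        rw [AlgEquiv.commutes]
        exact congr($hτ r)
      exact (AlgEquiv.ofBijective _ hb).symm.injective h4
    obtain ⟨⟨r, c⟩, hrc⟩ := IsLocalization.surj p'.primeCompl x
    have hc1 : σ (algebraMap R' B c.1) = τ c.1 := IsLocalization.lift_eq _ _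
    have hr1 : σ (algebraMap R' B r) = τ r := IsLocalization.lift_eq _ _
    have hu : IsUnit (algebraMap R' B c.1) := IsLocalization.map_units B c
    refine (Ideal.unit_mul_mem_iff_mem _ hu).1 ?_
    show algebraMap R' B c.1 * (algebraMap A B (σ x) - x) ∈ maximalIdeal B
    have h5 : algebraMap R' B c.1 * (algebraMap A B (σ x) - x) =
        (algebraMap R' B c.1 - algebraMap A B (τ c.1)) * algebraMap A B (σ x) +
          (algebraMap A B (τ r) - algebraMap R' B r) := by
      have h6 : algebraMap A B (τ c.1) * algebraMap A B (σ x) = algebraMap A B (τ r) := by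
        rw [← map_mul, ← hc1, ← map_mul, ← hr1, ← hrc, mul_comm]
      rw [sub_mul, h6, ← hrc]
      ring
    rw [h5]
    refine add_mem (Ideal.mul_mem_right _ _ ?_) (hx r)
    rw [← neg_sub]
    exact neg_mem (hx c.1)
  exact congr($key z)

set_option maxHeartbeats 1600000 in
/-- **A local etale model in which a flat module is a union of free modules.** -/
theorem exists_locFree_model {A S : Type u} [CommRing A] [IsLocalRing A] [CommRing S] [Algebra A S]
    [Algebra.FiniteType A S] (q : Ideal S) [q.IsPrime] [q.LiesOver (maximalIdeal A)]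
    {N₀ N : Type u} [AddCommGroup N₀] [Module S N₀] [Module.Finite S N₀]
    [AddCommGroup N] [Module S N] [Module A N] [IsScalarTower A S N] (φ : N₀ →ₗ[S] N)
    [IsLocalizedModule q.primeCompl φ] [Module.Flat A N] :
    ∃ (B L : Type u) (_ : CommRing B) (_ : IsLocalRing B) (_ : Algebra A B) (_ : CommRing L)
      (_ : IsLocalRing L) (_ : Algebra B L) (_ : Algebra A L) (_ : IsScalarTower A B L)
      (_ : Algebra S L) (_ : IsScalarTower A S L) (_ : Module.Flat S L),
      Module.Flat A B ∧ Algebra.WeaklyEtale A B ∧
      (maximalIdeal A).map (algebraMap A B) = maximalIdeal B ∧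
      (∀ [HenselianLocalRing A], Bijective (algebraMap A B)) ∧
      q = (maximalIdeal L).comap (algebraMap S L) ∧
      LocFree B (L ⊗[S] N) ∧ Module.Flat B (L ⊗[S] N) := by
  by_cases hNq : Module.annihilator S N₀ ≤ q
  swap
  · obtain ⟨a, haN, haq⟩ := SetLike.not_le_iff_exists.1 hNq
    have : Subsingleton N := subsingleton_of_forall_eq 0 fun n => by
      obtain ⟨⟨n₀, t⟩, ht⟩ := IsLocalizedModule.surj q.primeCompl φ n
      apply ((Module.End.isUnit_iff _).1 (IsLocalizedModule.map_units φ t)).1
      apply ((Module.End.isUnit_iff _).1 (IsLocalizedModule.map_units φ (⟨a, haq⟩ : q.primeCompl))).1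
      simp only [Module.algebraMap_end_apply, smul_zero]
      rw [show (t : S) • n = φ n₀ from ht, ← map_smul, Module.mem_annihilator.1 haN, map_zero]
    let L := Localization.AtPrime q
    have : Subsingleton (L ⊗[S] N) := subsingleton_of_forall_eq 0 fun z => by
      induction z using TensorProduct.induction_on with
      | zero => rfl
      | tmul l n => rw [Subsingleton.elim n 0, tmul_zero]
      | add x y hx hy => rw [hx, hy, add_zero]
    exact ⟨A, L, inferInstance, inferInstance, inferInstance, inferInstance, inferInstance,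
      inferInstance, inferInstance, inferInstance, inferInstance, inferInstance, inferInstance,
      inferInstance, inferInstance, by rw [Algebra.algebraMap_self, Ideal.map_id],
      fun {_} => bijective_id, (IsLocalization.AtPrime.under_maximalIdeal L q).symm,
      .of_subsingleton, inferInstance⟩
  obtain ⟨n, hd⟩ : ∃ n : ℕ, ∀ w : PrimeSpectrum S, EGA43.FibDepth.trd A w ≤ n := by
    obtain ⟨s, f, hf⟩ :=
      Algebra.FiniteType.iff_quotient_mvPolynomial''.1 ‹Algebra.FiniteType A S›
    refine ⟨s, fun w => ?_⟩
    rw [← EGA43.FibDepth.trd_comap_of_surjectiveOnStalks f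
      (RingHom.surjectiveOnStalks_of_surjective hf) w]
    exact EGA43.FibDepth.trd_mvPolynomial_le _
  obtain ⟨R', S', _, _, _, _, _, _, _, _, p', q', _, _, hR, hS, ho, hch⟩ :=
    exists_hasChainNhd n N₀ (maximalIdeal A) q (fun w _ _ _ => hd w) hNq
  have hbij : ∀ [HenselianLocalRing A], Bijective (algebraMap A (Localization.AtPrime p')) :=
    fun {_} => bijective_of_henselian p' hR
  obtain ⟨hRe, hRo, -⟩ := hR
  obtain ⟨hSe, hSo, -⟩ := hS
  let B := Localization.AtPrime p'
  let m := maximalIdeal B
  have hmp' : m.LiesOver p' := ⟨(IsLocalization.AtPrime.under_maximalIdeal B p').symm⟩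
  obtain ⟨T, NT, _, _, _, _, _, _, _, _, _, _, _, _, _, μ, hμ⟩ :=
    exists_model R' B S' (S' ⊗[S] N₀)
  have : Algebra.IsPushout R' B S' T := Algebra.IsPushout.symm ‹_›
  obtain ⟨q'', hq'', hq''q', hq''m⟩ := exists_prime_isPushout (S' := T) p' m
    ((RingHom.surjectiveOnStalks_of_isLocalization (M := p'.primeCompl)
      B).residueFieldMap_bijective p' m (m.over_def p')) q'
  have hchain : Chain B m T NT q'' :=
    (hch _ (TensorProduct.mk S S' N₀ 1) (TensorProduct.isBaseChange S N₀ S')).localize m T q'' NT μ hμ
  let _ : Algebra S T := ((algebraMap S' T).comp (algebraMap S S')).toAlgebra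
  have : IsScalarTower S S' T := .of_algebraMap_eq' rfl
  let _ : Algebra A T := ((algebraMap S T).comp (algebraMap A S)).toAlgebra
  have : IsScalarTower A S T := .of_algebraMap_eq' rfl
  have : IsScalarTower A B T := .of_algebraMap_eq fun a => by
    show algebraMap S' T (algebraMap S S' (algebraMap A S a)) = _
    rw [← IsScalarTower.algebraMap_apply A S S', IsScalarTower.algebraMap_apply A R' S',
      ← IsScalarTower.algebraMap_apply R' S' T, IsScalarTower.algebraMap_apply A R' B,
      ← IsScalarTower.algebraMap_apply R' B T]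
  let _ : Module S NT := Module.compHom NT (algebraMap S T)
  have : IsScalarTower S T NT := .of_algebraMap_smul fun _ _ => rfl
  have : IsScalarTower S S' NT := .of_algebraMap_smul fun c x => by
    rw [← algebraMap_smul T (algebraMap S S' c) x]
    rfl
  let _ : Module B NT := Module.compHom NT (algebraMap B T)
  have : IsScalarTower B T NT := .of_algebraMap_smul fun _ _ => rfl
  have : Module.Flat S' T :=
    Module.Flat.of_linearEquiv (R := S') (M := S' ⊗[R'] B)
      (Algebra.IsPushout.equiv R' S' B T).toLinearEquiv.symm
  have : Module.Flat R' B := IsLocalization.flat B p'.primeCompl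
  have : Module.Flat S T := Module.Flat.trans S S' T
  have : Module.Flat A B := Module.Flat.trans A R' B
  have : Algebra.FormallyUnramified A B := Algebra.FormallyUnramified.comp A R' B
  have : Algebra.EssFiniteType A B := Algebra.EssFiniteType.comp A R' B
  have : Algebra.WeaklyEtale R' B := HenselLib.WEtNoeth.weaklyEtale_of_isLocalization p'.primeCompl
  have : Algebra.WeaklyEtale A B := Algebra.WeaklyEtale.trans A R' B
  have hm : (maximalIdeal A).map (algebraMap A B) = maximalIdeal B := by
    have : IsLocalHom (algebraMap A B) :=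
      ((local_hom_TFAE (algebraMap A B)).out 0 4).2 (by
        rw [IsScalarTower.algebraMap_eq A R' B, ← Ideal.comap_comap]
        exact (congrArg (Ideal.comap (algebraMap A R')) hmp'.over.symm).trans hRo.over.symm)
    exact Algebra.FormallyUnramified.map_maximalIdeal
  let L := Localization.AtPrime q''
  have : Module.Flat S L := Module.Flat.trans S T L
  have hqL : q = (maximalIdeal L).comap (algebraMap S L) := by
    rw [IsScalarTower.algebraMap_eq S T L, ← Ideal.comap_comap]
    refine Eq.trans ?_ (congrArg (Ideal.comap (algebraMap S T))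
      (IsLocalization.AtPrime.under_maximalIdeal L q'').symm)
    rw [IsScalarTower.algebraMap_eq S S' T, ← Ideal.comap_comap]
    exact hSo.over.trans (congrArg (Ideal.comap (algebraMap S S')) hq''q'.over)
  let f₁ : N₀ →ₗ[S] NT := (μ.restrictScalars S) ∘ₗ TensorProduct.mk S S' N₀ 1
  have hf₁ : IsBaseChange T f₁ := (TensorProduct.isBaseChange S N₀ S').comp hμ
  let f₂ : N₀ →ₗ[S] LocalizedModule q''.primeCompl NT :=
    ((LocalizedModule.mkLinearMap q''.primeCompl NT).restrictScalars S) ∘ₗ f₁
  have hf₂ : IsBaseChange L f₂ :=
    hf₁.comp (IsLocalizedModule.isBaseChange q''.primeCompl L _)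
  have hφ : Bijective (φ.lTensor L) :=
    bijective_lTensor_localized q.primeCompl (fun t ht => by
      by_contra h
      exact ht (hqL ▸ (mem_maximalIdeal _).2 h)) φ
  let e₂ : L ⊗[S] N₀ ≃ₗ[L] L ⊗[S] N :=
    LinearEquiv.ofBijective (AlgebraTensorModule.lTensor L L φ) hφ
  let e := (hf₂.equiv.symm.trans e₂).restrictScalars B
  have : Module.Flat A (L ⊗[S] N) := flat_tensor_flat L N
  have hflat : Module.Flat B (L ⊗[S] N) := Algebra.FormallyUnramified.flat_of_restrictScalars A B _
  have hat : FlatCA.FlatAt B q'' NT := Module.Flat.of_linearEquiv e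
  exact ⟨B, L, inferInstance, inferInstance, inferInstance, inferInstance, inferInstance,
    inferInstance, inferInstance, inferInstance, inferInstance, inferInstance, inferInstance,
    inferInstance, inferInstance, hm, hbij, hqL, (hchain.locFree hat).of_equiv e, hflat⟩

end Groth.Agent.FlatMorDevissage
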