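import Groth.Agent.FlatMorDevissage.Local

/-!
# Chains covering a whole fibre over one etale neighbourhood
-/

set_option autoImplicit false
set_option backward.isDefEq.respectTransparency false

universe u

open TensorProduct Function

namespace Groth.Agent.FlatMorDevissage

open Groth.Agent

attribute [local instance] Algebra.TensorProduct.rightAlgebra

/-- An element singling out a prime in the fibre of an etale algebra. -/
theorem exists_unique_over {R R' : Type u} [CommRing R] [CommRing R'] [Algebra R R']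
    [Algebra.QuasiFinite R R'] (p : Ideal R) [p.IsPrime] (p' : Ideal R') [p'.IsPrime] [p'.LiesOver p] :
    ∃ e ∉ p', ∀ Q : Ideal R', Q.IsPrime → Q.LiesOver p → e ∉ Q → Q = p' := by
  classical
  have hfin := Algebra.QuasiFinite.finite_primesOver (S := R') p
  let F := hfin.toFinset.erase p'
  have hF : ∀ Q ∈ F, ∃ e ∈ Q, e ∉ p' := by
    intro Q hQ
    obtain ⟨hne, hQ⟩ := Finset.mem_erase.1 hQ
    obtain ⟨hQp, hQo⟩ := hfin.mem_toFinset.1 hQ
    refine SetLike.not_le_iff_exists.1 fun hle => hne ?_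
    exact Algebra.QuasiFinite.eq_of_le_of_under_eq (R := R) Q p' hle
      (hQo.over.symm.trans (p'.over_def p))
  choose! e he he' using hF
  refine ⟨∏ Q ∈ F, e Q, fun h => ?_, fun Q hQ hQo hne => ?_⟩
  · obtain ⟨Q, hQ, hQe⟩ := (Ideal.IsPrime.prod_mem_iff (hp := ‹p'.IsPrime›)).1 h
    exact he' Q hQ hQe
  · by_contra hQp
    have hQF : Q ∈ F := Finset.mem_erase.2 ⟨hQp, hfin.mem_toFinset.2 ⟨hQ, hQo⟩⟩
    exact hne (Q.mem_of_dvd (Finset.dvd_prod_of_mem e hQF) (he Q hQF))

/-- Finitely many etale neighbourhoods have a common refinement. -/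
theorem exists_common_nhd {R : Type u} [CommRing R] (p : Ideal R) [p.IsPrime] :
    ∀ (k : ℕ) (Rf : Fin k → Type u) [∀ i, CommRing (Rf i)] [∀ i, Algebra R (Rf i)]
      (pf : ∀ i, Ideal (Rf i)) [∀ i, (pf i).IsPrime],
      (∀ i, FlatCA.IsEtaleNhd R (Rf i) p (pf i)) →
      ∃ (R' : Type u) (_ : CommRing R') (_ : Algebra R R') (p' : Ideal R') (_ : p'.IsPrime),
        FlatCA.IsEtaleNhd R R' p p' ∧
        ∀ i, ∃ φ : Rf i →ₐ[R] R', p'.comap φ.toRingHom = pf i := by
  intro k
  induction k with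
  | zero =>
    intro Rf _ _ pf _ _
    obtain ⟨p', hp', hR⟩ := isEtaleNhd_away (L := Localization.Away (1 : R)) (1 : R) p
      (Ideal.one_notMem p)
    exact ⟨_, inferInstance, inferInstance, p', hp', hR, fun i => i.elim0⟩
  | succ k ih =>
    intro Rf _ _ pf _ hpf
    obtain ⟨R₁, _, _, p₁, _, hR₁, hmap⟩ :=
      ih (fun i => Rf i.succ) (fun i => pf i.succ) (fun i => hpf i.succ)
    obtain ⟨he₁, ho₁, hb₁⟩ := id hR₁
    obtain ⟨he, ho, hb⟩ := id (hpf 0)
    let T := R₁ ⊗[R] Rf 0
    obtain ⟨Q, hQ, hQ0, hQ1⟩ := exists_prime_isPushout (S' := T) p p₁ hb₁ (pf 0)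
    have hQp : Q.LiesOver p := Ideal.LiesOver.trans Q p₁ p
    have hbij : Bijective (Ideal.ResidueField.mapₐ p₁ Q (Algebra.ofId R₁ T) (Q.over_def p₁)) := by
      have hc := residueField_comp_bijective p (pf 0) Q hb
        (by
          have : IsLocalization ((⊥ : Submonoid (Rf 0)).map (algebraMap (Rf 0) (R₁ ⊗[R] Rf 0))) T :=
            IsLocalization.of_le_isUnit
              (by rintro _ ⟨_, hm, rfl⟩; rw [Submonoid.mem_bot.1 hm, map_one]; exact isUnit_one)
          exact bijective_residueField_pushout (S' := T) p p₁ hb₁ ⊥ (pf 0) Q)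
      let f₁ := Ideal.ResidueField.mapₐ p p₁ (Algebra.ofId R R₁) (p₁.over_def p)
      let f₂ := Ideal.ResidueField.mapₐ p₁ Q (Algebra.ofId R₁ T) (Q.over_def p₁)
      let f := Ideal.ResidueField.mapₐ p Q (Algebra.ofId R T) (Q.over_def p)
      have key : f.toRingHom = f₂.toRingHom.comp f₁.toRingHom := by
        refine Ideal.ResidueField.ringHom_ext (RingHom.ext fun a => ?_)
        simp [f, f₁, f₂, Ideal.ResidueField.mapₐ_apply, Ideal.ResidueField.map_algebraMap,
          ← IsScalarTower.algebraMap_apply R R₁ T]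
      have key' : (f : _ → _) = f₂ ∘ f₁ := funext fun z => RingHom.congr_fun key z
      exact (Function.Bijective.of_comp_iff f₂ hb₁).1 (key' ▸ hc)
    have hT : FlatCA.IsEtaleNhd R₁ T p₁ Q := ⟨inferInstance, hQ1, hbij⟩
    refine ⟨T, inferInstance, inferInstance, Q, hQ, isEtaleNhd_comp hR₁ hT, fun i => ?_⟩
    refine Fin.cases ?_ (fun i => ?_) i
    · exact ⟨Algebra.TensorProduct.includeRight, hQ0.over.symm⟩
    · obtain ⟨φ, hφ⟩ := hmap i
      refine ⟨(Algebra.TensorProduct.includeLeft (S := R)).comp φ, ?_⟩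
      rw [← hφ]
      show Q.comap ((algebraMap R₁ T).comp φ.toRingHom) = _
      rw [← Ideal.comap_comap, ← Ideal.under, ← hQ1.over]

/-- A module killed by `a` vanishes on the localisation at `a`. -/
theorem subsingleton_piece {R' R'' S S' T N N'' : Type u} [CommRing R'] [CommRing R''] [CommRing S]
    [CommRing S'] [CommRing T] [Algebra R' R''] [Algebra R' S'] [Algebra S S']
    [Algebra (R'' ⊗[R'] S') T] [Algebra S' T] [IsScalarTower S' (R'' ⊗[R'] S') T]
    [AddCommGroup N] [Module S N] [AddCommGroup N''] [Module T N''] [Module S' N'']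
    [IsScalarTower S' T N''] {a : S} (ha : a ∈ Module.annihilator S N)
    [IsLocalization.Away ((1 : R'') ⊗ₜ[R'] algebraMap S S' a) T] {μ : S' ⊗[S] N →ₗ[S'] N''}
    (hμ : IsBaseChange T μ) : Subsingleton N'' := by
  have hann : algebraMap S S' a ∈ Module.annihilator S' (S' ⊗[S] N) := by
    rw [Module.mem_annihilator]
    intro x
    induction x with
    | zero => rw [smul_zero]
    | tmul s m =>
      rw [algebraMap_smul, ← TensorProduct.tmul_smul, Module.mem_annihilator.1 ha m,
        TensorProduct.tmul_zero]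
    | add x y hx hy => rw [smul_add, hx, hy, add_zero]
  have hunit : IsUnit (algebraMap S' T (algebraMap S S' a)) := by
    rw [IsScalarTower.algebraMap_apply S' (R'' ⊗[R'] S') T]
    exact IsLocalization.Away.algebraMap_isUnit ((1 : R'') ⊗ₜ[R'] algebraMap S S' a)
  have := subsingleton_tensor_of_isUnit hann hunit
  exact hμ.equiv.symm.toEquiv.subsingleton

set_option maxHeartbeats 1000000 in
/-- A piece of the fibre: an etale algebra carrying a chain (or a zero module) after any refinement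
of its neighbourhood. -/
theorem exists_piece {R S : Type u} [CommRing R] [CommRing S] [Algebra R S]
    [Algebra.FiniteType R S] (N : Type u) [AddCommGroup N] [Module S N] [Module.Finite S N]
    (p : Ideal R) [p.IsPrime] (q : Ideal S) [q.IsPrime] [q.LiesOver p] :
    ∃ (R' S' : Type u) (_ : CommRing R') (_ : CommRing S') (_ : Algebra R R') (_ : Algebra S S')
      (_ : Algebra R' S') (_ : Algebra R S') (_ : IsScalarTower R R' S') (_ : IsScalarTower R S S')
      (p' : Ideal R') (_ : p'.IsPrime) (f : R') (h : S') (h₀ : S'),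
      FlatCA.IsEtaleNhd R R' p p' ∧ Algebra.Etale S S' ∧ f ∉ p' ∧
      (∃ q' : Ideal S', q'.IsPrime ∧ h₀ ∉ q' ∧ q'.comap (algebraMap S S') = q) ∧
      (∀ Q : Ideal S', Q.IsPrime → Q.LiesOver p → h₀ ∉ Q → h ∉ Q ∧ Q.LiesOver p') ∧
      ∀ (R'' : Type u) [CommRing R''] [Algebra R' R''] [Algebra.Etale R' R''] (p'' : Ideal R'')
        [p''.IsPrime] [p''.LiesOver p'],
        Bijective (Ideal.ResidueField.mapₐ p' p'' (Algebra.ofId R' R'') (p''.over_def p')) →
        IsUnit (algebraMap R' R'' f) →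
        ∀ (T : Type u) [CommRing T] [Algebra (R'' ⊗[R'] S') T] [Algebra S' T] [Algebra R'' T]
          [Algebra R' T] [IsScalarTower S' (R'' ⊗[R'] S') T] [IsScalarTower R'' (R'' ⊗[R'] S') T]
          [IsScalarTower R' S' T] [IsScalarTower R' R'' T]
          [IsLocalization.Away ((1 : R'') ⊗ₜ[R'] h) T]
          (N'' : Type u) [AddCommGroup N''] [Module T N''] [Module S' N''] [IsScalarTower S' T N'']
          (μ : S' ⊗[S] N →ₗ[S'] N''), IsBaseChange T μ →
          Subsingleton N'' ∨ ∃ (q'' : Ideal T) (_ : q''.IsPrime), q''.LiesOver p'' ∧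
            Chain R'' p'' T N'' q'' := by
  classical
  by_cases hNq : Module.annihilator S N ≤ q
  · obtain ⟨n, hd⟩ : ∃ n : ℕ, ∀ w : PrimeSpectrum S, EGA43.FibDepth.trd R w ≤ n := by
      obtain ⟨s, φ, hφ⟩ :=
        Algebra.FiniteType.iff_quotient_mvPolynomial''.1 ‹Algebra.FiniteType R S›
      refine ⟨s, fun w => ?_⟩
      rw [← EGA43.FibDepth.trd_comap_of_surjectiveOnStalks φ
        (RingHom.surjectiveOnStalks_of_surjective hφ) w]
      exact EGA43.FibDepth.trd_mvPolynomial_le _
    obtain ⟨R', S', _, _, _, _, _, _, _, _, p', q', _, _, hR, hS, ho, hch⟩ :=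
      exists_hasChainNhd n N p q (fun w _ _ _ => hd w) hNq
    obtain ⟨f, hf, h, hh, -, htr⟩ :=
      (hch _ (TensorProduct.mk S S' N 1) (TensorProduct.isBaseChange S N S')).transport 1
        (Ideal.one_notMem q')
    have := hR.1
    have := hR.2.1
    obtain ⟨e, he, hu⟩ := exists_unique_over p p'
    have heq : algebraMap R' S' e ∉ q' := fun hm => he (by rw [ho.over]; exact hm)
    refine ⟨R', S', inferInstance, inferInstance, inferInstance, inferInstance, inferInstance,
      inferInstance, inferInstance, inferInstance, p', inferInstance, f, h, h * algebraMap R' S' e,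
      hR, hS.1, hf, ⟨q', inferInstance, fun hm => (Ideal.IsPrime.mem_or_mem ‹_› hm).elim hh heq,
        hS.2.1.over.symm⟩, fun Q hQ hQp hne => ⟨fun hm => hne (Q.mul_mem_right _ hm), ?_⟩, ?_⟩
    · refine ⟨(hu (Q.comap (algebraMap R' S')) inferInstance ⟨?_⟩ fun hm =>
        hne (Q.mul_mem_left h hm)).symm⟩
      rw [Ideal.under, Ideal.comap_comap, ← IsScalarTower.algebraMap_eq]
      exact hQp.over
    intro R'' _ _ _ p'' _ _ hb hfu T _ _ _ _ _ _ _ _ _ _ N'' _ _ _ _ μ hμ
    obtain ⟨Q, hQ, hT, hQp⟩ := exists_prime_away_tensor p' p''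
      (h := h) (L := T) ⟨inferInstance, inferInstance, hb⟩ q' hh
    have := hT.2.1
    exact Or.inr ⟨Q, hQ, hQp, htr R'' p'' hb hfu T Q N'' μ hμ⟩
  · obtain ⟨a, haN, haq⟩ := SetLike.not_le_iff_exists.1 hNq
    obtain ⟨p', hp', hR⟩ := isEtaleNhd_away (L := Localization.Away (1 : R)) (1 : R) p
      (Ideal.one_notMem p)
    let R' := Localization.Away (1 : R)
    obtain ⟨he, ho, hb⟩ := id hR
    let S' := R' ⊗[R] S
    obtain ⟨Q, hQ, hQq, hQp⟩ := exists_prime_isPushout (S' := S') p p' hb q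
    obtain ⟨e, he', hu⟩ := exists_unique_over p p'
    refine ⟨R', S', inferInstance, inferInstance, inferInstance, inferInstance, inferInstance,
      inferInstance, inferInstance, inferInstance, p', hp', 1, algebraMap S S' a,
      algebraMap S S' a * algebraMap R' S' e, hR, etale_rightAlgebra, Ideal.one_notMem p',
      ⟨Q, hQ, fun hm => (hQ.mem_or_mem hm).elim (fun h => haq (by rw [hQq.over]; exact h))
        (fun h => he' (by rw [hQp.over]; exact h)), hQq.over.symm⟩,
      fun Q' hQ' hQ'p hne => ⟨fun hm => hne (Q'.mul_mem_right _ hm), ?_⟩, ?_⟩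
    · refine ⟨(hu (Q'.comap (algebraMap R' S')) inferInstance ⟨?_⟩ fun hm =>
        hne (Q'.mul_mem_left _ hm)).symm⟩
      rw [Ideal.under, Ideal.comap_comap, ← IsScalarTower.algebraMap_eq]
      exact hQ'p.over
    intro R'' _ _ _ p'' _ _ _ _ T _ _ _ _ _ _ _ _ _ _ N'' _ _ _ _ μ hμ
    exact Or.inl (subsingleton_piece (R' := R') (R'' := R'') haN hμ)

set_option maxHeartbeats 1000000 in
/-- One etale neighbourhood of `p` carries chains covering the fibre. -/
theorem exists_chain_cover {R S : Type u} [CommRing R] [CommRing S] [Algebra R S]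
    [Algebra.FiniteType R S] (N : Type u) [AddCommGroup N] [Module S N] [Module.Finite S N]
    (p : Ideal R) [p.IsPrime] :
    ∃ (R' : Type u) (_ : CommRing R') (_ : Algebra R R') (p' : Ideal R') (_ : p'.IsPrime)
      (k : ℕ) (C : Fin k → Type u) (_ : ∀ i, CommRing (C i)) (_ : ∀ i, Algebra S (C i))
      (_ : ∀ i, Algebra R' (C i)) (_ : ∀ i, Algebra R (C i)) (_ : ∀ i, IsScalarTower R R' (C i))
      (_ : ∀ i, IsScalarTower R S (C i)),
      FlatCA.IsEtaleNhd R R' p p' ∧
      (∀ i, Algebra.Etale S (C i) ∧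
        ∀ (N' : Type u) [AddCommGroup N'] [Module (C i) N'] [Module S N'] [IsScalarTower S (C i) N']
          (μ : N →ₗ[S] N'), IsBaseChange (C i) μ →
          Subsingleton N' ∨ ∃ (q' : Ideal (C i)) (_ : q'.IsPrime), q'.LiesOver p' ∧
            Chain R' p' (C i) N' q') ∧
      ∀ (q : Ideal S) [q.IsPrime], q.LiesOver p →
        ∃ (i : Fin k) (Q : Ideal (C i)), Q.IsPrime ∧ Q.LiesOver p' ∧
          Q.comap (algebraMap S (C i)) = q := by
  classical
  let F : Set (PrimeSpectrum S) := {x | x.asIdeal.LiesOver p}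
  have hFc : IsCompact F := by
    have : F = Set.range (PrimeSpectrum.comap
        (Algebra.TensorProduct.includeRight (R := R) (A := p.ResidueField) (B := S)).toRingHom) := by
      refine Set.ext fun x => ⟨fun hx => ?_, ?_⟩
      · obtain ⟨Q, hQ⟩ := EGA43.FibDepth.exists_prime_over (A := R) (p := p) (p.Fiber S) x
          (hx : x.asIdeal.LiesOver p).over
        exact ⟨Q, hQ⟩
      · rintro ⟨Q, rfl⟩
        exact ⟨EGA43.FibDepth.comap_algebraMap_eq (R := S) p Q⟩
    rw [this]
    exact isCompact_range (PrimeSpectrum.continuous_comap _)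
  have hpiece : ∀ x : F, _ := fun x => by
    have : x.1.asIdeal.LiesOver p := x.2
    exact exists_piece N p x.1.asIdeal
  choose R₀ S₀ iR₀ iS₀ iRR₀ iSS₀ iR₀S₀ iRS₀ tRR₀ tRS₀ p₀ hp₀ f₀ h₀ e₀ hnhd hSe hf₀ hq₀ hmem hprop
    using hpiece
  let U : F → Set (PrimeSpectrum S) := fun x =>
    PrimeSpectrum.comap (algebraMap S (S₀ x)) '' (PrimeSpectrum.basicOpen (e₀ x) : Set _)
  have hUo : ∀ x, IsOpen (U x) := fun x => by
    have := hSe x
    exact PrimeSpectrum.isOpenMap_comap_of_hasGoingDown_of_finitePresentation _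
      (PrimeSpectrum.isOpen_basicOpen (a := e₀ x))
  have hcov : F ⊆ ⋃ x, U x := fun x hx => by
    obtain ⟨q', hq', he, hq⟩ := hq₀ ⟨x, hx⟩
    exact Set.mem_iUnion.2 ⟨⟨x, hx⟩, ⟨q', hq'⟩, he, PrimeSpectrum.ext hq⟩
  obtain ⟨t, ht⟩ := hFc.elim_finite_subcover U hUo hcov
  let k := t.card
  let idx : Fin k → F := fun i => (t.equivFin.symm i).1
  obtain ⟨R₁, _, _, p₁, _, hR₁, hmaps⟩ := exists_common_nhd p k (fun i => R₀ (idx i))
    (fun i => p₀ (idx i)) fun i => hnhd (idx i)
  choose φ hφ using hmaps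
  let fprod : R₁ := ∏ i, φ i (f₀ (idx i))
  have hfprod : fprod ∉ p₁ := fun h => by
    obtain ⟨i, -, hi⟩ := (Ideal.IsPrime.prod_mem_iff (hp := ‹p₁.IsPrime›)).1 h
    exact hf₀ (idx i) ((hφ i).le hi)
  let R' := Localization.Away fprod
  obtain ⟨p', hp', hR'⟩ := isEtaleNhd_away (L := R') fprod p₁ hfprod
  have hnhd' : FlatCA.IsEtaleNhd R R' p p' := isEtaleNhd_comp hR₁ hR'
  let ψ : ∀ i, R₀ (idx i) →ₐ[R] R' := fun i => (IsScalarTower.toAlgHom R R₁ R').comp (φ i)
  let iAlg : ∀ i, Algebra (R₀ (idx i)) R' := fun i => (ψ i).toRingHom.toAlgebra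
  let Z : Fin k → Type u := fun i => R' ⊗[R₀ (idx i)] S₀ (idx i)
  let C : Fin k → Type u := fun i =>
    Localization.Away ((1 : R') ⊗ₜ[R₀ (idx i)] h₀ (idx i) : Z i)
  let aSC : ∀ i, Algebra S (C i) := fun i =>
    (((algebraMap (Z i) (C i)).comp (algebraMap (S₀ (idx i)) (Z i))).comp
      (algebraMap S (S₀ (idx i)))).toAlgebra
  let aR'C : ∀ i, Algebra R' (C i) := fun i => inferInstance
  have tψ : ∀ i, IsScalarTower R (R₀ (idx i)) R' := fun i =>
    .of_algebraMap_eq fun r => ((ψ i).commutes r).symm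
  let aRC : ∀ i, Algebra R (C i) := fun i => inferInstance
  have tRR'C : ∀ i, IsScalarTower R R' (C i) := fun i => inferInstance
  have tRSC : ∀ i, IsScalarTower R S (C i) := fun i => .of_algebraMap_eq fun r => by
    show algebraMap (Z i) (C i) (algebraMap R' (Z i) (algebraMap R R' r)) =
      algebraMap (Z i) (C i) (algebraMap (S₀ (idx i)) (Z i)
        (algebraMap S (S₀ (idx i)) (algebraMap R S r)))
    congr 1
    rw [← IsScalarTower.algebraMap_apply R S (S₀ (idx i)),
      IsScalarTower.algebraMap_apply R (R₀ (idx i)) (S₀ (idx i)),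
      ← IsScalarTower.algebraMap_apply (R₀ (idx i)) (S₀ (idx i)) (Z i),
      IsScalarTower.algebraMap_apply (R₀ (idx i)) R' (Z i)]
    congr 1
    exact ((ψ i).commutes r).symm
  refine ⟨R', inferInstance, inferInstance, p', hp', k, C, inferInstance, aSC, aR'C, aRC, tRR'C,
    tRSC, hnhd', ?_, ?_⟩
  · intro i
    have := hSe (idx i)
    obtain ⟨he₀, ho₀, hb₀⟩ := id (hnhd (idx i))
    obtain ⟨he', ho', hb'⟩ := id hnhd'
    have hover : p'.LiesOver (p₀ (idx i)) := ⟨by
      rw [Ideal.under, show algebraMap (R₀ (idx i)) R' = (algebraMap R₁ R').comp (φ i).toRingHom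
        from rfl, ← Ideal.comap_comap]
      exact (hφ i).symm.trans (congrArg _ hR'.2.1.over)⟩
    have := tψ i
    have hbij : Bijective (Ideal.ResidueField.mapₐ (p₀ (idx i)) p' (Algebra.ofId _ R')
        (p'.over_def (p₀ (idx i)))) := by
      let f₁ := Ideal.ResidueField.mapₐ p (p₀ (idx i)) (Algebra.ofId R (R₀ (idx i)))
        ((p₀ (idx i)).over_def p)
      let f₂ := Ideal.ResidueField.mapₐ (p₀ (idx i)) p' (Algebra.ofId (R₀ (idx i)) R')
        (p'.over_def (p₀ (idx i)))
      let f' := Ideal.ResidueField.mapₐ p p' (Algebra.ofId R R') (p'.over_def p)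
      have key : f'.toRingHom = f₂.toRingHom.comp f₁.toRingHom := by
        refine Ideal.ResidueField.ringHom_ext (RingHom.ext fun a => ?_)
        simp [f', f₁, f₂, Ideal.ResidueField.mapₐ_apply,
          ← IsScalarTower.algebraMap_apply R (R₀ (idx i)) R']
      have key' : (f' : _ → _) = f₂ ∘ f₁ := funext fun z => RingHom.congr_fun key z
      exact (Function.Bijective.of_comp_iff f₂ hb₀).1 (key' ▸ hb')
    have : Algebra.Etale (R₀ (idx i)) R' := Algebra.Etale.of_restrictScalars R _ _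
    have : Algebra.Etale (S₀ (idx i)) (Z i) := etale_rightAlgebra
    have : Algebra.Etale (Z i) (C i) :=
      Algebra.Etale.of_isLocalizationAway ((1 : R') ⊗ₜ[R₀ (idx i)] h₀ (idx i) : Z i)
    have : IsScalarTower (S₀ (idx i)) (Z i) (C i) := inferInstance
    have : Algebra.Etale (S₀ (idx i)) (C i) := Algebra.Etale.comp (S₀ (idx i)) (Z i) (C i)
    have : IsScalarTower S (S₀ (idx i)) (C i) := .of_algebraMap_eq' rfl
    refine ⟨Algebra.Etale.comp S (S₀ (idx i)) (C i), fun N' _ _ _ _ μ hμ => ?_⟩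
    let _ : Module (S₀ (idx i)) N' := Module.compHom N' (algebraMap (S₀ (idx i)) (C i))
    have : IsScalarTower (S₀ (idx i)) (C i) N' := .of_algebraMap_smul fun _ _ => rfl
    have : IsScalarTower S (S₀ (idx i)) N' := .of_algebraMap_smul fun a x => by
      show algebraMap (S₀ (idx i)) (C i) (algebraMap S (S₀ (idx i)) a) • x = a • x
      rw [← IsScalarTower.algebraMap_apply S (S₀ (idx i)) (C i), algebraMap_smul]
    have hfu : IsUnit (algebraMap (R₀ (idx i)) R' (f₀ (idx i))) :=
      isUnit_of_dvd_unit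
        (map_dvd (algebraMap R₁ R')
          (Finset.dvd_prod_of_mem (fun j => φ j (f₀ (idx j))) (Finset.mem_univ i)))
        (IsLocalization.Away.algebraMap_isUnit fprod)
    let _ : Algebra (R₀ (idx i)) (C i) := inferInstance
    have : IsScalarTower (R₀ (idx i)) (S₀ (idx i)) (C i) := .of_algebraMap_eq fun r => by
      show _ = algebraMap (Z i) (C i) (algebraMap (S₀ (idx i)) (Z i) _)
      rw [← IsScalarTower.algebraMap_apply (R₀ (idx i)) (S₀ (idx i)) (Z i),
        ← IsScalarTower.algebraMap_apply (R₀ (idx i)) (Z i) (C i)]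
    refine hprop (idx i) R' p' hbij hfu (C i) N'
      ((TensorProduct.isBaseChange S N (S₀ (idx i))).lift μ)
      ((TensorProduct.isBaseChange S N (S₀ (idx i))).of_comp ?_)
    rw [(TensorProduct.isBaseChange S N (S₀ (idx i))).lift_comp μ]
    exact hμ
  · intro q _ hq
    obtain ⟨x, hx, hxU⟩ := Set.mem_iUnion₂.1 (ht (show (⟨q, inferInstance⟩ : PrimeSpectrum S) ∈ F from hq))
    obtain ⟨q', he, hq'⟩ := hxU
    let i : Fin k := t.equivFin ⟨x, hx⟩
    have hidx : idx i = x := by simp [idx, i]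
    clear_value i
    subst hidx
    obtain ⟨he₀, ho₀, hb₀⟩ := id (hnhd (idx i))
    have hq'q : q'.asIdeal.comap (algebraMap S (S₀ (idx i))) = q :=
      congrArg PrimeSpectrum.asIdeal hq'
    have hq'p : q'.asIdeal.LiesOver p := ⟨by
      rw [Ideal.under, IsScalarTower.algebraMap_eq R S (S₀ (idx i)), ← Ideal.comap_comap, hq'q]
      exact hq.over⟩
    obtain ⟨hh, hq'p₀⟩ := hmem (idx i) q'.asIdeal q'.isPrime hq'p he
    obtain ⟨he', ho', hb'⟩ := id hnhd'
    have hover : p'.LiesOver (p₀ (idx i)) := ⟨by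
      rw [Ideal.under, show algebraMap (R₀ (idx i)) R' = (algebraMap R₁ R').comp (φ i).toRingHom
        from rfl, ← Ideal.comap_comap]
      exact (hφ i).symm.trans (congrArg _ hR'.2.1.over)⟩
    have := tψ i
    have : Algebra.Etale (R₀ (idx i)) R' := Algebra.Etale.of_restrictScalars R _ _
    have hbij : Bijective (Ideal.ResidueField.mapₐ (p₀ (idx i)) p' (Algebra.ofId _ R')
        (p'.over_def (p₀ (idx i)))) := by
      let f₁ := Ideal.ResidueField.mapₐ p (p₀ (idx i)) (Algebra.ofId R (R₀ (idx i)))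
        ((p₀ (idx i)).over_def p)
      let f₂ := Ideal.ResidueField.mapₐ (p₀ (idx i)) p' (Algebra.ofId (R₀ (idx i)) R')
        (p'.over_def (p₀ (idx i)))
      let f' := Ideal.ResidueField.mapₐ p p' (Algebra.ofId R R') (p'.over_def p)
      have key : f'.toRingHom = f₂.toRingHom.comp f₁.toRingHom := by
        refine Ideal.ResidueField.ringHom_ext (RingHom.ext fun a => ?_)
        simp [f', f₁, f₂, Ideal.ResidueField.mapₐ_apply,
          ← IsScalarTower.algebraMap_apply R (R₀ (idx i)) R']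
      have key' : (f' : _ → _) = f₂ ∘ f₁ := funext fun z => RingHom.congr_fun key z
      exact (Function.Bijective.of_comp_iff f₂ hb₀).1 (key' ▸ hb')
    have : IsScalarTower (S₀ (idx i)) (Z i) (C i) := inferInstance
    have : IsScalarTower (R₀ (idx i)) (S₀ (idx i)) (C i) := .of_algebraMap_eq fun r => by
      show _ = algebraMap (Z i) (C i) (algebraMap (S₀ (idx i)) (Z i) _)
      rw [← IsScalarTower.algebraMap_apply (R₀ (idx i)) (S₀ (idx i)) (Z i),
        ← IsScalarTower.algebraMap_apply (R₀ (idx i)) (Z i) (C i)]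
    obtain ⟨Q, hQ, hQe, hQp⟩ := exists_prime_away_tensor (p₀ (idx i)) p'
      (h := h₀ (idx i)) (L := C i) ⟨inferInstance, hover, hbij⟩ q'.asIdeal hh
    refine ⟨i, Q, hQ, hQp, ?_⟩
    rw [show algebraMap S (C i) = (algebraMap (S₀ (idx i)) (C i)).comp (algebraMap S (S₀ (idx i)))
      from rfl, ← Ideal.comap_comap]
    exact (congrArg _ hQe.2.1.over.symm).trans hq'q

end Groth.Agent.FlatMorDevissage
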