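import Groth.Agent.FlatMorDevissage.Spread
import Groth.Agent.FlatMorDevissage.Cover
import Groth.Agent.EGA43.FlatDescent.Global

/-!
# Flatness at a point gives projectivity over an etale neighbourhood
-/

set_option autoImplicit false
set_option backward.isDefEq.respectTransparency false

universe u

open TensorProduct Function

namespace Groth.Agent.FlatMorDevissage

open Groth.Agent

attribute [local instance] Algebra.TensorProduct.rightAlgebra

/-- Flatness at every prime is flatness. -/
theorem flat_of_forall_flatAt {R B M : Type u} [CommRing R] [CommRing B] [Algebra R B]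
    [AddCommGroup M] [Module B M] [Module R M] [IsScalarTower R B M]
    (h : ∀ (P : Ideal B) [P.IsPrime], FlatCA.FlatAt R P M) : Module.Flat R M := by
  refine Module.Flat.iff_lTensor_preserves_injective_linearMap.2 fun X Y _ _ _ _ i hi => ?_
  refine (injective_iff_map_eq_zero _).2 fun x hx => ?_
  obtain ⟨t, ht, htx⟩ := (kerKilled_iff_forall_flatAt (⊥ : Submonoid B)).2 (fun P _ _ => h P) i hi x hx
  rw [Submonoid.mem_bot.1 ht, one_smul] at htx
  exact htx

/-- A last localisation of the base. -/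
theorem exists_nhd_of_projective {R S R₀ S₀ : Type u} [CommRing R] [CommRing S] [CommRing R₀]
    [CommRing S₀] [Algebra R S] [Algebra R R₀] [Algebra S S₀] [Algebra R₀ S₀] [Algebra R S₀]
    [IsScalarTower R R₀ S₀] [IsScalarTower R S S₀] (N : Type u) [AddCommGroup N] [Module S N]
    (p : Ideal R) [p.IsPrime] (q : Ideal S) [q.IsPrime] {p₀ : Ideal R₀} [p₀.IsPrime] {q₀ : Ideal S₀}
    [q₀.IsPrime] (hR : FlatCA.IsEtaleNhd R R₀ p p₀) (hS : FlatCA.IsEtaleNhd S S₀ q q₀)
    (ho : q₀.LiesOver p₀) (L : Type u) [CommRing L] [Algebra R₀ L] (p₂ : Ideal L) [p₂.IsPrime]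
    (hL : FlatCA.IsEtaleNhd R₀ L p₀ p₂) [Module.Projective L (L ⊗[R₀] (S₀ ⊗[S] N))] :
    ∃ (R' S' : Type u) (_ : CommRing R') (_ : CommRing S') (_ : Algebra R R') (_ : Algebra S S')
      (_ : Algebra R' S') (_ : Algebra R S') (_ : IsScalarTower R R' S') (_ : IsScalarTower R S S')
      (p' : Ideal R') (q' : Ideal S') (_ : p'.IsPrime) (_ : q'.IsPrime),
      FlatCA.IsEtaleNhd R R' p p' ∧ FlatCA.IsEtaleNhd S S' q q' ∧ q'.LiesOver p' ∧
      Module.Projective R' (S' ⊗[S] N) := by
  obtain ⟨hLe, hLo, hLb⟩ := id hL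
  let _ : Algebra R L := ((algebraMap R₀ L).comp (algebraMap R R₀)).toAlgebra
  have : IsScalarTower R R₀ L := .of_algebraMap_eq' rfl
  let S₂ := L ⊗[R₀] S₀
  obtain ⟨q₂, _, hq₂q, hq₂p⟩ := exists_prime_isPushout (S' := S₂) p₀ p₂ hLb q₀
  have hS₂ : FlatCA.IsEtaleNhd S₀ S₂ q₀ q₂ :=
    ⟨etale_rightAlgebra, hq₂q, bijective_residueField_isPushout p₀ p₂ hLb q₀ q₂⟩
  let _ : Algebra S S₂ := ((algebraMap S₀ S₂).comp (algebraMap S S₀)).toAlgebra
  have : IsScalarTower S S₀ S₂ := .of_algebraMap_eq' rfl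
  have : IsScalarTower R S S₂ := IsScalarTower.of_algebraMap_eq (R := R) (S := S) (A := S₂) fun r => by
    rw [IsScalarTower.algebraMap_apply R L S₂, IsScalarTower.algebraMap_apply R R₀ L,
      IsScalarTower.algebraMap_apply S S₀ S₂, ← IsScalarTower.algebraMap_apply R S S₀,
      IsScalarTower.algebraMap_apply R R₀ S₀, ← IsScalarTower.algebraMap_apply R₀ S₀ S₂,
      ← IsScalarTower.algebraMap_apply R₀ L S₂]
  refine ⟨L, S₂, inferInstance, inferInstance, inferInstance, inferInstance, inferInstance,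
    inferInstance, inferInstance, inferInstance, p₂, q₂, inferInstance, inferInstance,
    isEtaleNhd_comp hR hL, isEtaleNhd_comp hS hS₂, hq₂p, ?_⟩
  let e₁ : S₂ ⊗[S₀] (S₀ ⊗[S] N) ≃ₗ[L] L ⊗[R₀] (S₀ ⊗[S] N) :=
    Algebra.IsPushout.cancelBaseChange R₀ L S₀ S₂ (S₀ ⊗[S] N)
  let e₂ : S₂ ⊗[S₀] (S₀ ⊗[S] N) ≃ₗ[S₂] S₂ ⊗[S] N :=
    TensorProduct.AlgebraTensorModule.cancelBaseChange S S₀ S₂ S₂ N
  exact Module.Projective.of_equiv (e₁.symm.trans (e₂.restrictScalars L))

set_option maxHeartbeats 2000000 in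
/-- Raynaud-Gruson: flatness of a finitely presented module at a point gives projectivity over the
base after etale localisation of base and point. -/
theorem exists_projective_nhd {R S : Type u} [CommRing R] [CommRing S] [Algebra R S]
    [Algebra.FinitePresentation R S] (N : Type u) [AddCommGroup N] [Module S N] [Module R N]
    [IsScalarTower R S N] [Module.FinitePresentation S N] (p : Ideal R) [p.IsPrime] (q : Ideal S)
    [q.IsPrime] [q.LiesOver p] (hflat : FlatCA.FlatAt R q N) :
    ∃ (R' S' : Type u) (_ : CommRing R') (_ : CommRing S') (_ : Algebra R R') (_ : Algebra S S')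
      (_ : Algebra R' S') (_ : Algebra R S') (_ : IsScalarTower R R' S') (_ : IsScalarTower R S S')
      (p' : Ideal R') (q' : Ideal S') (_ : p'.IsPrime) (_ : q'.IsPrime),
      FlatCA.IsEtaleNhd R R' p p' ∧ FlatCA.IsEtaleNhd S S' q q' ∧ q'.LiesOver p' ∧
      Module.Projective R' (S' ⊗[S] N) := by
  by_cases hNq : Module.annihilator S N ≤ q
  swap
  · obtain ⟨a, haN, haq⟩ := SetLike.not_le_iff_exists.1 hNq
    obtain ⟨q', hq', hS⟩ := isEtaleNhd_away (L := Localization.Away a) a q haq
    obtain ⟨hSe, hSo, hSb⟩ := id hS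
    have : q'.LiesOver p := Ideal.LiesOver.trans q' q p
    have : Subsingleton (Localization.Away a ⊗[S] N) :=
      subsingleton_tensor_of_isUnit haN (IsLocalization.Away.algebraMap_isUnit a)
    refine ⟨R, Localization.Away a, inferInstance, inferInstance, inferInstance, inferInstance,
      inferInstance, inferInstance, inferInstance, inferInstance, p, q', inferInstance, hq', ?_, hS,
      inferInstance, Module.Projective.of_free⟩
    exact ⟨inferInstance, ⟨rfl⟩, ⟨(Ideal.ResidueField.mapₐ p p (Algebra.ofId R R) rfl).toRingHom.injective,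
      fun z => ⟨z, by
        have : (Ideal.ResidueField.mapₐ p p (Algebra.ofId R R) rfl).toRingHom =
            RingHom.id p.ResidueField :=
          Ideal.ResidueField.ringHom_ext (RingHom.ext fun r => by simp)
        exact RingHom.congr_fun this z⟩⟩⟩
  -- a chain after an etale localisation
  obtain ⟨n, hd⟩ : ∃ n : ℕ, ∀ w : PrimeSpectrum S, EGA43.FibDepth.trd R w ≤ n := by
    obtain ⟨s, f, hf⟩ :=
      Algebra.FiniteType.iff_quotient_mvPolynomial''.1 (inferInstance : Algebra.FiniteType R S)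
    refine ⟨s, fun w => ?_⟩
    rw [← EGA43.FibDepth.trd_comap_of_surjectiveOnStalks f
      (RingHom.surjectiveOnStalks_of_surjective hf) w]
    exact EGA43.FibDepth.trd_mvPolynomial_le _
  obtain ⟨R', S', _, _, _, _, _, _, _, _, p', q', _, _, hR, hS, ho, hch⟩ :=
    exists_hasChainNhd n N p q (fun w _ _ _ => hd w) hNq
  have := hR.1
  have := hR.2.1
  have := hS.1
  have := hS.2.1
  let N' := S' ⊗[S] N
  have : Algebra.FinitePresentation R S' := Algebra.FinitePresentation.trans R S S'
  have : Algebra.FinitePresentation R' S' :=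
    Algebra.FinitePresentation.of_restrict_scalars_finitePresentation R R' S'
  have : Module.FinitePresentation S' N' := inferInstance
  have : IsScalarTower R R' N' := .of_algebraMap_smul fun r x => by
    rw [← algebraMap_smul S' (algebraMap R R' r), ← IsScalarTower.algebraMap_apply, algebraMap_smul]
  have hflat' : FlatCA.FlatAt R' q' N' := by
    refine (S1231.result (R := R) (T := R') (C := S') N' q').1.1 ?_
    refine (flatAt_tensor_iff q').2 ?_
    simp only [show q'.comap (algebraMap S S') = q from hS.2.1.over.symm]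
    exact hflat
  have hopen := EGA43.FlatDescent.isOpen_setOf_flat (A := R') (S := S') (N := N')
  obtain ⟨_, ⟨g, rfl⟩, hgq, hg⟩ :=
    PrimeSpectrum.isTopologicalBasis_basic_opens.exists_subset_of_mem_open
      (show (⟨q', inferInstance⟩ : PrimeSpectrum S') ∈ {x : PrimeSpectrum S' |
        Module.Flat R' (LocalizedModule x.asIdeal.primeCompl N')} from hflat') hopen
  obtain ⟨f, hf, h, hh, hgh, htr⟩ :=
    (hch N' (TensorProduct.mk S S' N 1) (TensorProduct.isBaseChange S N S')).transport g hgq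
  -- shrink
  obtain ⟨p₀, _, hR₀⟩ := isEtaleNhd_away (L := Localization.Away f) f p' hf
  let R₀ := Localization.Away f
  obtain ⟨hR₀e, hR₀o, hR₀b⟩ := id hR₀
  let T := R₀ ⊗[R'] S'
  let t : T := (1 : R₀) ⊗ₜ[R'] h
  let S₀ := Localization.Away t
  have : IsScalarTower S' T S₀ := inferInstance
  have : IsScalarTower R' S' S₀ := .of_algebraMap_eq fun r => by
    rw [IsScalarTower.algebraMap_apply S' T S₀, IsScalarTower.algebraMap_apply R' T S₀]
    congr 1
    exact (Algebra.TensorProduct.includeRight.commutes r).symm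
  obtain ⟨q₀, _, hS₀, hq₀p⟩ := exists_prime_away_tensor p' p₀ hR₀ q' hh S₀
  have := hS₀.1
  have := hS₀.2.1
  let N₀ := S₀ ⊗[S'] N'
  have hchain : Chain R₀ p₀ S₀ N₀ q₀ := htr R₀ p₀ hR₀b (IsLocalization.Away.algebraMap_isUnit f)
    S₀ q₀ N₀ (TensorProduct.mk S' S₀ N' 1) (TensorProduct.isBaseChange S' N' S₀)
  obtain ⟨D, -⟩ := hchain.hasCompleteDevissageAt
  have : Algebra.FinitePresentation R' S₀ := Algebra.FinitePresentation.trans R' S' S₀
  have : Algebra.FinitePresentation R₀ S₀ :=
    Algebra.FinitePresentation.of_restrict_scalars_finitePresentation R' R₀ S₀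
  have : Module.FinitePresentation S₀ N₀ := inferInstance
  have : IsScalarTower R' R₀ N₀ := .of_algebraMap_smul fun r x => by
    rw [← algebraMap_smul S₀ (algebraMap R' R₀ r), ← IsScalarTower.algebraMap_apply, algebraMap_smul]
  have hflat₀ : Module.Flat R₀ N₀ := by
    refine (S1231.result (R := R') (T := R₀) (C := S₀) N₀ q₀).2.1 ?_
    refine flat_of_forall_flatAt (B := S₀) fun P _ => (flatAt_tensor_iff P).2 ?_
    refine hg (show (⟨P.comap (algebraMap S' S₀), inferInstance⟩ : PrimeSpectrum S') ∈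
      PrimeSpectrum.basicOpen g from fun hgP => ?_)
    refine ‹P.IsPrime›.ne_top (P.eq_top_of_isUnit_mem hgP (isUnit_of_dvd_unit (map_dvd _ hgh) ?_))
    rw [IsScalarTower.algebraMap_apply S' T S₀]
    exact IsLocalization.Away.algebraMap_isUnit t
  obtain ⟨f₂, hf₂, -, hproj⟩ := exists_projective D (f₀ := 1)
    (fun hm => ‹p₀.IsPrime›.ne_top ((Ideal.eq_top_iff_one p₀).2 hm))
    (fun L _ _ _ => inferInstance)
  -- invert `f₂`
  obtain ⟨p₂, _, hR₂⟩ := isEtaleNhd_away (L := Localization.Away f₂) f₂ p₀ hf₂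
  let L := Localization.Away f₂
  obtain ⟨hR₂e, hR₂o, hR₂b⟩ := id hR₂
  obtain ⟨hP, -⟩ := hproj L (IsLocalization.Away.algebraMap_isUnit f₂)
  let _ : Algebra S S₀ := ((algebraMap S' S₀).comp (algebraMap S S')).toAlgebra
  have : IsScalarTower S S' S₀ := .of_algebraMap_eq' rfl
  have : IsScalarTower R S S₀ := IsScalarTower.of_algebraMap_eq (R := R) (S := S) (A := S₀) fun r => by
    rw [IsScalarTower.algebraMap_apply R R₀ S₀, IsScalarTower.algebraMap_apply R R' R₀,
      ← IsScalarTower.algebraMap_apply R' R₀ S₀, IsScalarTower.algebraMap_apply R' S' S₀,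
      ← IsScalarTower.algebraMap_apply R R' S', IsScalarTower.algebraMap_apply R S S',
      ← IsScalarTower.algebraMap_apply S S' S₀]
  let ε := (TensorProduct.AlgebraTensorModule.cancelBaseChange S S' S₀ S₀ N).restrictScalars R₀
  have : Module.Projective L (L ⊗[R₀] (S₀ ⊗[S] N)) :=
    Module.Projective.of_equiv (ε.baseChange (A := L))
  exact exists_nhd_of_projective N p q (isEtaleNhd_comp hR hR₀) (isEtaleNhd_comp hS hS₀) hq₀p L p₂ hR₂

end Groth.Agent.FlatMorDevissage
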