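import Groth.Agent.FlatMorDevissage.LocalFP
import Groth.Agent.FlatMorDevissage.ProjectiveNhd
import Groth.Agent.CAlgSmall.FPFlatLocal
import Groth.Agent.CAlgH3.FiberMod
import Groth.Agent.EGA43.InjFibre.General

/-!
# Finite presentation of flat modules over a base with finitely many weakly associated primes
-/

set_option autoImplicit false
set_option backward.isDefEq.respectTransparency false

universe u

open TensorProduct Function

namespace Groth.Agent.FlatMorDevissage

open Groth.Agent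

attribute [local instance] Algebra.TensorProduct.rightAlgebra

variable {R S : Type u} [CommRing R] [CommRing S] [Algebra R S]

/-- Finitely many primes of `S` see all the annihilators in a fibre module. -/
theorem exists_fibre_primes [Algebra.FiniteType R S] (p : Ideal R) [p.IsPrime] (N : Type u)
    [AddCommGroup N] [Module S N] [Module R N] [IsScalarTower R S N] [Module.Finite S N] :
    ∃ Z : Finset (Ideal S), (∀ P ∈ Z, P.IsPrime) ∧ ∀ (z : FlatCA.fiberMod p S N) (Q : Ideal S)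
      [Q.IsPrime], CAlgH3.annEl S z ≤ Q → ∃ P ∈ Z, CAlgH3.annEl S z ≤ P ∧ P ≤ Q := by
  classical
  have : IsNoetherianRing (p.Fiber S) := Algebra.FiniteType.isNoetherianRing p.ResidueField _
  have : Module.Finite (p.Fiber S) (FlatCA.fiberMod p S N) :=
    inferInstanceAs (Module.Finite (p.Fiber S) ((p.Fiber S) ⊗[S] N))
  have hfin := associatedPrimes.finite (p.Fiber S) (FlatCA.fiberMod p S N)
  refine ⟨hfin.toFinset.image (Ideal.comap (algebraMap S (p.Fiber S))), fun P hP => ?_,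
    fun z Q _ hzQ => ?_⟩
  · obtain ⟨P', hP', rfl⟩ := Finset.mem_image.1 hP
    have := (hfin.mem_toFinset.1 hP').isPrime
    infer_instance
  · obtain ⟨P, hP, hPQ⟩ := Ideal.exists_minimalPrimes_le hzQ
    have hP' := hP
    rw [CAlgH3.FiberMod.annEl_fiber] at hP'
    obtain ⟨P', hP'min, rfl⟩ := Ideal.exists_minimalPrimes_comap_eq _ P hP'
    obtain ⟨hprime, m, hm⟩ := CAlgH3.mem_ass.1
      (CAlgH3.mem_ass_of_mem_weakAss_of_fg (IsNoetherian.noetherian P') ⟨z, hP'min⟩)
    refine ⟨_, Finset.mem_image.2 ⟨P', hfin.mem_toFinset.2 ?_, rfl⟩, hP.1.2, hPQ⟩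
    exact isAssociatedPrime_iff.2 ⟨hprime, m, hm.trans (CAlgH3.colon_bot_singleton m).symm⟩

/-- An element outside the associated primes of the fibre module is regular on the fibre. -/
theorem fibInjAt_lsmul {p : Ideal R} [p.IsPrime] {N : Type u} [AddCommGroup N] [Module S N]
    [Module R N] [IsScalarTower R S N] {Z : Finset (Ideal S)} (hZp : ∀ P ∈ Z, P.IsPrime)
    (hZ : ∀ (z : FlatCA.fiberMod p S N) (Q : Ideal S) [Q.IsPrime], CAlgH3.annEl S z ≤ Q →
      ∃ P ∈ Z, CAlgH3.annEl S z ≤ P ∧ P ≤ Q)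
    (Q : PrimeSpectrum S) (hQ : Q.asIdeal.comap (algebraMap R S) = p) (t : S)
    (ht : ∀ P ∈ Z, P ≤ Q.asIdeal → t ∉ P) :
    EGA43.InjFibre.FibInjAt R S (LinearMap.lsmul S N t) Q := by
  have key : ∀ n : N, n ∈ Q.asIdeal.comap (algebraMap R S) • (⊤ : Submodule R N) ↔
      n ∈ (p.map (algebraMap R S)) • (⊤ : Submodule S N) := fun n => by
    rw [hQ, ← Submodule.restrictScalars_top R S N, ← Ideal.smul_restrictScalars]
    rfl
  rintro m ⟨c, hc, hcm⟩
  rw [key, LinearMap.lsmul_apply, smul_smul] at hcm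
  have hzero : (c * t) • FlatCA.toFiberMod p S N m = 0 := by
    rw [← map_smul]
    exact CAlgH3.FiberMod.toFiberMod_mk_eq_zero p hcm
  obtain ⟨d, hd, hdm⟩ : ∃ d ∉ Q.asIdeal, d • FlatCA.toFiberMod p S N m = 0 := by
    by_contra! h
    obtain ⟨P, hP, hzP, hPQ⟩ := hZ (FlatCA.toFiberMod p S N m) Q.asIdeal fun a ha => by
      by_contra haQ
      exact h a haQ (CAlgH3.mem_annEl.1 ha)
    exact ((hZp P hP).mem_or_mem (hzP (CAlgH3.mem_annEl.2 hzero))).elim
      (fun h' => hc (hPQ h')) (ht P hP hPQ)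
  rw [← map_smul] at hdm
  obtain ⟨s, hs, hsm⟩ := (CAlgH3.FiberMod.toFiberMod_eq_zero_iff N p _).1 hdm
  refine ⟨algebraMap R S s * d, Q.asIdeal.primeCompl.mul_mem ?_ hd, ?_⟩
  · intro h
    exact hs (hQ ▸ h)
  · rwa [key, mul_smul]

/-- Weakly associated primes below a prime detect zero in a flat module on which the complement of
that prime acts injectively. -/
theorem eq_zero_of_forall_weakAss (hR : (FlatCA.weakAss R R).Finite) (p' : Ideal R) [p'.IsPrime]
    {V : Type u} [AddCommGroup V] [Module R V] [Module.Flat R V]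
    (hV : ∀ r ∉ p', ∀ v : V, r • v = 0 → v = 0) (v : V)
    (hv : ∀ p ∈ FlatCA.weakAss R R, p ≤ p' → ∃ a ∉ p, a • v = 0) : v = 0 := by
  classical
  have hv' : ∀ p : {p : Ideal R // p ∈ FlatCA.weakAss R R},
      ∃ a : R, a • v = 0 ∧ (p.1 ≤ p' → a ∉ p.1) := fun p => by
    by_cases h : p.1 ≤ p'
    · obtain ⟨a, ha, hav⟩ := hv p.1 p.2 h
      exact ⟨a, hav, fun _ => ha⟩
    · exact ⟨0, zero_smul _ _, fun h' => absurd h' h⟩
  choose a hav ha using hv'
  have : Finite {p : Ideal R // p ∈ FlatCA.weakAss R R} := hR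
  cases nonempty_fintype {p : Ideal R // p ∈ FlatCA.weakAss R R}
  let ι := {p : Ideal R // p ∈ FlatCA.weakAss R R}
  let φ : R →ₗ[R] (ι → R) := LinearMap.toSpanSingleton R (ι → R) a
  have hex : Function.Exact ((LinearMap.ker φ).subtype.lTensor V) (φ.lTensor V) :=
    Module.Flat.lTensor_exact V φ.exact_subtype_ker_map
  have h0 : φ.lTensor V (v ⊗ₜ (1 : R)) = 0 := by
    rw [LinearMap.lTensor_tmul]
    have : φ 1 = ∑ i, a i • (Pi.single i 1 : ι → R) := by
      funext j
      simp [φ, Finset.sum_apply, Pi.single_apply]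
    rw [this, TensorProduct.tmul_sum]
    refine Finset.sum_eq_zero fun i _ => ?_
    rw [← TensorProduct.smul_tmul, hav i, TensorProduct.zero_tmul]
  obtain ⟨w, hw⟩ := (hex _).1 h0
  suffices H : ∀ w : V ⊗[R] (LinearMap.ker φ),
      TensorProduct.rid R V ((LinearMap.ker φ).subtype.lTensor V w) = 0 by
    have h := H w
    rwa [hw, TensorProduct.rid_tmul, one_smul] at h
  intro w
  induction w using TensorProduct.induction_on with
  | zero => simp only [map_zero]
  | add x y hx hy => rw [map_add, map_add, hx, hy, add_zero]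
  | tmul x i =>
    rw [LinearMap.lTensor_tmul, TensorProduct.rid_tmul]
    obtain ⟨u, hu, hui⟩ : ∃ u ∉ p', u • (i : R) = 0 := by
      by_contra! h
      have hle : CAlgH3.annEl R (i : R) ≤ p' := fun u hu => by
        by_contra hup
        exact h u hup (CAlgH3.mem_annEl.1 hu)
      obtain ⟨p, hp, hpp'⟩ := Ideal.exists_minimalPrimes_le hle
      refine ha ⟨p, ⟨_, hp⟩⟩ hpp' (hp.1.2 (CAlgH3.mem_annEl.2 ?_))
      have h2 : (i : R) * a ⟨p, ⟨_, hp⟩⟩ = 0 := congrFun (show φ (i : R) = 0 from i.2) ⟨p, ⟨_, hp⟩⟩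
      rw [smul_eq_mul, mul_comm]
      exact h2
    refine hV u hu _ ?_
    rw [← mul_smul, Submodule.subtype_apply, ← smul_eq_mul, hui, zero_smul]

variable {M : Type u} [AddCommGroup M] [Module S M] [Module R M] [IsScalarTower R S M]

/-- An element killed at `q` is killed at all primes avoiding an element outside `q`. -/
theorem exists_kill [Algebra.FinitePresentation R S] [Module.FinitePresentation S M]
    (hR : (FlatCA.weakAss R R).Finite) (q : Ideal S) [q.IsPrime] (g₀ : S) (hg₀ : g₀ ∉ q)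
    (hflat : ∀ (P : Ideal S) [P.IsPrime], g₀ ∉ P → FlatCA.FlatAt R P M) :
    ∃ g ∉ q, (∀ (P : Ideal S) [P.IsPrime], g ∉ P → FlatCA.FlatAt R P M) ∧
      ∀ h : M, (∃ t ∉ q, t • h = 0) → ∀ (Q : Ideal S) [Q.IsPrime], g ∉ Q →
        ∃ t ∉ Q, t • h = 0 := by
  classical
  let A := hR.toFinset
  have hA : ∀ p ∈ A, p.IsPrime := fun p hp => by
    obtain ⟨m, hm⟩ := hR.mem_toFinset.1 hp
    exact hm.1.1
  have hZ' : ∀ p : A, ∃ Z : Finset (Ideal S), (∀ P ∈ Z, P.IsPrime) ∧
      (haveI := hA p.1 p.2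
      ∀ (z : FlatCA.fiberMod p.1 S M) (Q : Ideal S)
      [Q.IsPrime], CAlgH3.annEl S z ≤ Q → ∃ P ∈ Z, CAlgH3.annEl S z ≤ P ∧ P ≤ Q) := fun p => by
    have := hA p.1 p.2
    exact exists_fibre_primes p.1 M
  choose Z hZp hZ using hZ'
  let B : Finset (Ideal S) := (A.attach.biUnion Z).filter fun P => ¬ P ≤ q
  have hB : ∀ P : B, ∃ b ∈ P.1, b ∉ q := fun P =>
    Set.not_subset.1 (Finset.mem_filter.1 P.2).2
  choose b hbP hbq using hB
  let g := g₀ * ∏ P : B, b P
  have hgq : g ∉ q := q.primeCompl.mul_mem hg₀ (q.primeCompl.prod_mem fun P _ => hbq P)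
  have hflat' : ∀ (P : Ideal S) [P.IsPrime], g ∉ P → FlatCA.FlatAt R P M :=
    fun P _ hgP => hflat P fun h => hgP (P.mul_mem_right _ h)
  refine ⟨g, hgq, hflat', fun h ⟨t₀, ht₀, ht₀h⟩ => ?_⟩
  -- the case of a prime over a weakly associated prime
  have hcase : ∀ (Q : Ideal S) [Q.IsPrime], g ∉ Q → Q.comap (algebraMap R S) ∈ A →
      ∃ t ∉ Q, t • h = 0 := by
    intro Q _ hgQ hQA
    have := hA _ hQA
    have hle : ∀ P ∈ Z ⟨_, hQA⟩, P ≤ Q → P ≤ q := by
      intro P hP hPQ
      by_contra hPq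
      have hPB : P ∈ B :=
        Finset.mem_filter.2 ⟨Finset.mem_biUnion.2 ⟨⟨_, hQA⟩, Finset.mem_attach _ _, hP⟩, hPq⟩
      exact hgQ (Ideal.mul_mem_left _ _ (Ideal.prod_mem Q (Finset.mem_univ _) (hPQ (hbP ⟨P, hPB⟩))))
    obtain ⟨t, htI, htP⟩ : ∃ t ∈ CAlgH3.annEl S h,
        ∀ P ∈ (Z ⟨_, hQA⟩).filter (· ≤ Q), t ∉ P := by
      by_contra! hc
      obtain ⟨P, hP, hIP⟩ := (Ideal.subset_union_prime (f := fun P => P) ⊥ ⊥
        (fun P hP _ _ => hZp _ P (Finset.mem_filter.1 hP).1)).1 (fun x hx => by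
          obtain ⟨P, hP, hxP⟩ := hc x hx
          exact Set.mem_iUnion₂.2 ⟨P, hP, hxP⟩)
      obtain ⟨hP, hPQ⟩ := Finset.mem_filter.1 hP
      exact ht₀ (hle P hP hPQ (hIP (CAlgH3.mem_annEl.2 ht₀h)))
    have hfib : EGA43.InjFibre.FibInjAt R S (LinearMap.lsmul S M t) ⟨Q, inferInstance⟩ :=
      fibInjAt_lsmul (hZp _) (hZ ⟨_, hQA⟩) _ rfl t fun P hP hPQ =>
        htP P (Finset.mem_filter.2 ⟨hP, hPQ⟩)
    exact (EGA43.InjFibre.uInjAt_of_fibInjAt (q := ⟨Q, inferInstance⟩) (hflat' Q hgQ) hfib).exists_smul_eq_zero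
      (CAlgH3.mem_annEl.1 htI)
  suffices H : ∀ (n : ℕ) (Q : Ideal S) [Q.IsPrime], g ∉ Q →
      (A.filter (· ≤ Q.comap (algebraMap R S))).card ≤ n → ∃ t ∉ Q, t • h = 0 from
    fun Q _ hgQ => H _ Q hgQ le_rfl
  intro n
  induction n using Nat.strong_induction_on with
  | _ n IH =>
    intro Q _ hgQ hn
    by_cases hQA : Q.comap (algebraMap R S) ∈ A
    · exact hcase Q hgQ hQA
    have hV : ∀ r ∉ Q.comap (algebraMap R S), ∀ v : LocalizedModule Q.primeCompl M,
        r • v = 0 → v = 0 := fun r hr v hv => by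
      rw [← algebraMap_smul S r v] at hv
      exact (IsLocalizedModule.smul_inj (LocalizedModule.mkLinearMap Q.primeCompl M)
        (⟨algebraMap R S r, hr⟩ : Q.primeCompl) v 0).1
          (by rw [Submonoid.smul_def, smul_zero]; exact hv)
    have : Module.Flat R (LocalizedModule Q.primeCompl M) := hflat' Q hgQ
    have hzero : LocalizedModule.mkLinearMap Q.primeCompl M h = 0 := by
      refine eq_zero_of_forall_weakAss hR _ hV _ fun p hp hpQ => ?_
      have := hA p (hR.mem_toFinset.2 hp)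
      let T : Submonoid S := Algebra.algebraMapSubmonoid S p.primeCompl ⊔ Q.primeCompl
      have hnd : ¬ Disjoint ((CAlgH3.annEl S h : Ideal S) : Set S) (T : Set S) := fun hd => by
        obtain ⟨P, hP, hhP, hPT⟩ := Ideal.exists_le_prime_disjoint _ T hd
        have hPQ : P ≤ Q := fun x hx => by
          by_contra hxQ
          exact Set.disjoint_left.1 hPT hx (Submonoid.mem_sup_right (show x ∈ Q.primeCompl from hxQ))
        have hPp : P.comap (algebraMap R S) ≤ p := fun x hx => by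
          by_contra hxp
          exact Set.disjoint_left.1 hPT hx (Submonoid.mem_sup_left
            (Algebra.mem_algebraMapSubmonoid_of_mem ⟨x, hxp⟩))
        have hkill : ∃ t ∉ P, t • h = 0 := by
          by_cases hPA : P.comap (algebraMap R S) ∈ A
          · exact hcase P (fun hg => hgQ (hPQ hg)) hPA
          have hlt : (A.filter (· ≤ P.comap (algebraMap R S))).card <
              (A.filter (· ≤ Q.comap (algebraMap R S))).card := by
            refine Finset.card_lt_card ⟨fun x hx => ?_, fun hsub => ?_⟩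
            · exact Finset.mem_filter.2 ⟨(Finset.mem_filter.1 hx).1,
                (Finset.mem_filter.1 hx).2.trans (Ideal.comap_mono hPQ)⟩
            · have hpP := hsub (Finset.mem_filter.2 ⟨hR.mem_toFinset.2 hp, hpQ⟩)
              exact hPA ((le_antisymm hPp (Finset.mem_filter.1 hpP).2) ▸ hR.mem_toFinset.2 hp)
          exact IH _ (hlt.trans_le hn) P (fun hg => hgQ (hPQ hg)) le_rfl
        obtain ⟨t, ht, hth⟩ := hkill
        exact ht (hhP (CAlgH3.mem_annEl.2 hth))
      obtain ⟨x, hxI, hxT⟩ := Set.not_disjoint_iff.1 hnd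
      obtain ⟨_, ⟨a, ha, rfl⟩, c, hc, rfl⟩ := Submonoid.mem_sup.1 hxT
      refine ⟨a, ha, ?_⟩
      rw [← algebraMap_smul S a, ← map_smul]
      refine (IsLocalizedModule.eq_zero_iff Q.primeCompl _).2 ⟨⟨c, hc⟩, ?_⟩
      rw [Submonoid.smul_def, smul_smul, mul_comm]
      exact CAlgH3.mem_annEl.1 hxI
    obtain ⟨⟨c, hc⟩, hch⟩ :=
      (IsLocalizedModule.eq_zero_iff Q.primeCompl (LocalizedModule.mkLinearMap Q.primeCompl M)).1 hzero
    exact ⟨c, hc, hch⟩

/-- A finite module over a finitely presented algebra is finitely presented and flat near any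
point of flatness, if the base has finitely many weakly associated primes. -/
theorem exists_nbhd_fp_flat [Algebra.FinitePresentation R S] [Module.Finite S M]
    (hR : (FlatCA.weakAss R R).Finite) (q : Ideal S) [q.IsPrime] (hq : FlatCA.FlatAt R q M) :
    ∃ g ∉ q, Module.FinitePresentation (Localization.Away g) (LocalizedModule (Submonoid.powers g) M) ∧
      ∀ (P : Ideal S) [P.IsPrime], g ∉ P → FlatCA.FlatAt R P M := by
  obtain ⟨n, π, hπ⟩ := Module.Finite.exists_fin' S M
  obtain ⟨K₀, hfg, hle, hK⟩ :=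
    (fp_localized_iff π hπ q.primeCompl).1 (fp_localization_of_flatAt M q hq)
  let G := (Fin n → S) ⧸ K₀
  have : Module.FinitePresentation S G :=
    Module.finitePresentation_of_surjective K₀.mkQ K₀.mkQ_surjective (by rwa [Submodule.ker_mkQ])
  let πb : G →ₗ[S] M := K₀.liftQ π hle
  have hπb : Surjective πb := fun m => by
    obtain ⟨y, rfl⟩ := hπ m
    exact ⟨Submodule.Quotient.mk y, rfl⟩
  have hkill : ∀ h : G, πb h = 0 → ∃ t ∉ q, t • h = 0 := fun h hh => by
    obtain ⟨x, rfl⟩ := K₀.mkQ_surjective h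
    obtain ⟨t, ht, htx⟩ := hK x hh
    exact ⟨t, ht, by rwa [← map_smul, Submodule.mkQ_apply, Submodule.Quotient.mk_eq_zero]⟩
  have hbij : ∀ (P : Ideal S) [P.IsPrime], (∀ h : G, πb h = 0 → ∃ t ∉ P, t • h = 0) →
      ∃ e : LocalizedModule P.primeCompl G ≃ₗ[R] LocalizedModule P.primeCompl M, True := by
    intro P _ hP
    let πP := IsLocalizedModule.map P.primeCompl (LocalizedModule.mkLinearMap P.primeCompl G)
      (LocalizedModule.mkLinearMap P.primeCompl M) πb
    refine ⟨(LinearEquiv.ofBijective πP ⟨?_, IsLocalizedModule.map_surjective _ _ _ _ hπb⟩).restrictScalars R, trivial⟩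
    refine (injective_iff_map_eq_zero _).2 fun z hz => ?_
    obtain ⟨⟨y, t⟩, rfl⟩ := IsLocalizedModule.mk'_surjective P.primeCompl
      (LocalizedModule.mkLinearMap P.primeCompl G) z
    simp only [πP, Function.uncurry_apply_pair, IsLocalizedModule.map_mk'] at hz ⊢
    obtain ⟨c, hc⟩ := (IsLocalizedModule.mk'_eq_zero'
      (LocalizedModule.mkLinearMap P.primeCompl M) t).1 hz
    obtain ⟨u, hu, huy⟩ := hP ((c : S) • y) (by rw [map_smul]; exact hc)
    rw [IsLocalizedModule.mk'_eq_zero']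
    exact ⟨⟨u, hu⟩ * c, by rw [Submonoid.smul_def, Submonoid.coe_mul, mul_smul]; exact huy⟩
  obtain ⟨e, -⟩ := hbij q hkill
  have hGq : FlatCA.FlatAt R q G :=
    @Module.Flat.of_linearEquiv R (LocalizedModule q.primeCompl M) (LocalizedModule q.primeCompl G)
      _ _ _ _ _ hq e
  obtain ⟨W, ⟨g₀, rfl⟩, hq₀, hsub⟩ := PrimeSpectrum.isTopologicalBasis_basic_opens.exists_subset_of_mem_open
    (show (⟨q, inferInstance⟩ : PrimeSpectrum S) ∈ {Q : PrimeSpectrum S |
      Module.Flat R (LocalizedModule Q.asIdeal.primeCompl G)} from hGq)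
    EGA43.FlatDescent.isOpen_setOf_flat
  obtain ⟨g, hg, hflat, hall⟩ := exists_kill hR q g₀ hq₀ fun P hP hg₀P => hsub (show (⟨P, hP⟩ : PrimeSpectrum S) ∈ _ from hg₀P)
  refine ⟨g, hg, (fp_localized_iff π hπ _).2 ⟨K₀, hfg, hle, fun x hx => ?_⟩, fun P hP hgP => ?_⟩
  · obtain ⟨k, hk⟩ := CAlgSmall.FPFlatLocal.exists_pow_smul_eq_zero (K₀.mkQ x) g fun Q hgQ =>
      (IsLocalizedModule.eq_zero_iff Q.asIdeal.primeCompl _).2 (by
        obtain ⟨t, ht, htx⟩ := hall (K₀.mkQ x) (hkill _ hx) Q.asIdeal hgQ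
        exact ⟨⟨t, ht⟩, htx⟩)
    refine ⟨g ^ k, ⟨k, rfl⟩, ?_⟩
    rwa [← map_smul, Submodule.mkQ_apply, Submodule.Quotient.mk_eq_zero] at hk
  · obtain ⟨e', -⟩ := hbij P fun h hh => hall h (hkill h hh) P hgP
    exact @Module.Flat.of_linearEquiv R (LocalizedModule P.primeCompl G) (LocalizedModule P.primeCompl M)
      _ _ _ _ _ (hflat P hgP) e'.symm

end Groth.Agent.FlatMorDevissage
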