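import Groth.Prelude.Def_FlatCA
import Groth.Agent.EGA43.InjFibre.General
import Groth.Agent.FlatMorDevissage.FPOpen
import Groth.Agent.EGA43.Cons.FibreCritEss

/-!
# Elements regular on the closed fibre act universally injectively
-/

set_option autoImplicit false
set_option backward.isDefEq.respectTransparency false

universe u

open TensorProduct Function

namespace Groth.Agent.FlatMorDevissage

open Groth.Agent IsLocalRing

/-- If the image of `n` in a localization lies in `J` times the module, a multiple of `n` lies in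
`J` times the original module. -/
theorem exists_smul_mem_of_map_mem {S : Type u} [CommRing S] (T : Submonoid S) {N₀ N : Type u}
    [AddCommGroup N₀] [Module S N₀] [AddCommGroup N] [Module S N] (φ : N₀ →ₗ[S] N)
    [IsLocalizedModule T φ] (J : Ideal S) (n : N₀) (hn : φ n ∈ J • (⊤ : Submodule S N)) :
    ∃ t : T, (t : S) • n ∈ J • (⊤ : Submodule S N₀) := by
  have key : ∃ (t : T) (n' : N₀), n' ∈ J • (⊤ : Submodule S N₀) ∧ (t : S) • φ n = φ n' := by
    refine Submodule.smul_induction_on hn (fun a ha w _ => ?_) (fun x y hx hy => ?_)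
    · obtain ⟨⟨w₀, t⟩, hw⟩ := IsLocalizedModule.surj T φ w
      refine ⟨t, a • w₀, Submodule.smul_mem_smul ha trivial, ?_⟩
      rw [map_smul, ← hw, smul_comm]
      rfl
    · obtain ⟨t, n', hn', h⟩ := hx
      obtain ⟨t', n'', hn'', h'⟩ := hy
      refine ⟨t * t', (t' : S) • n' + (t : S) • n'',
        add_mem (Submodule.smul_mem _ _ hn') (Submodule.smul_mem _ _ hn''), ?_⟩
      rw [smul_add, map_add, map_smul, map_smul, ← h, ← h', smul_smul, smul_smul,
        Submonoid.coe_mul, mul_comm (t' : S)]
  obtain ⟨t, n', hn', h⟩ := key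
  rw [← map_smul] at h
  obtain ⟨c, hc⟩ := IsLocalizedModule.exists_of_eq (S := T) (f := φ) h
  refine ⟨c * t, ?_⟩
  rw [Submonoid.coe_mul, mul_smul]
  exact hc ▸ Submodule.smul_mem _ _ hn'

set_option maxHeartbeats 800000 in
/-- **Regular on the closed fibre implies universally injective** (local, essentially of finite
presentation). -/
theorem univInj_lsmul_of_local {R S₀ S : Type u} [CommRing R] [IsLocalRing R] [CommRing S₀]
    [Algebra R S₀] [Algebra.FinitePresentation R S₀] [CommRing S] [IsLocalRing S] [Algebra R S]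
    [Algebra S₀ S] [IsScalarTower R S₀ S] [IsLocalHom (algebraMap R S)] (M₀ : Submonoid S₀)
    [IsLocalization M₀ S] {N : Type u} [AddCommGroup N] [Module S N] [Module R N]
    [IsScalarTower R S N] [Module.FinitePresentation S N] [Module.Flat R N] (s : S)
    (hs : ∀ x : N, s • x ∈ (maximalIdeal R).map (algebraMap R S) • (⊤ : Submodule S N) →
      x ∈ (maximalIdeal R).map (algebraMap R S) • (⊤ : Submodule S N)) :
    FlatCA.UnivInj R ((LinearMap.lsmul S N s).restrictScalars R) := by
  let _ : Module S₀ N := Module.compHom N (algebraMap S₀ S)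
  have : IsScalarTower S₀ S N := .of_algebraMap_smul fun _ _ => rfl
  have : IsScalarTower R S₀ N := .of_algebraMap_smul fun r n => by
    rw [← algebraMap_smul S (algebraMap R S₀ r), ← IsScalarTower.algebraMap_apply, algebraMap_smul]
  obtain ⟨N₀, _, _, φ, _, hloc⟩ := EGA43.Cons.exists_fp_model_module (C := S₀) (S' := S) (M := N) M₀
  let _ : Module R N₀ := Module.compHom N₀ (algebraMap R S₀)
  have : IsScalarTower R S₀ N₀ := .of_algebraMap_smul fun _ _ => rfl
  let q : PrimeSpectrum S₀ := ⟨(maximalIdeal S).comap (algebraMap S₀ S), inferInstance⟩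
  have hqm : q.asIdeal.comap (algebraMap R S₀) = maximalIdeal R := by
    rw [Ideal.comap_comap, ← IsScalarTower.algebraMap_eq]
    exact ((local_hom_TFAE (algebraMap R S)).out 0 4).1 ‹IsLocalHom (algebraMap R S)›
  have hunit : ∀ c ∈ q.asIdeal.primeCompl, IsUnit (algebraMap S₀ S c) := fun c hc =>
    of_not_not fun h => hc ((mem_maximalIdeal _).2 h)
  have : IsLocalization q.asIdeal.primeCompl S := IsLocalization.of_le M₀ _ (fun c hc h =>
    (mem_maximalIdeal _).1 h (IsLocalization.map_units S ⟨c, hc⟩)) hunit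
  have hφq : IsLocalizedModule q.asIdeal.primeCompl φ :=
    (isLocalizedModule_iff_isBaseChange q.asIdeal.primeCompl S φ).2
      ((isLocalizedModule_iff_isBaseChange M₀ S φ).1 hloc)
  have hA : Module.Flat R (LocalizedModule q.asIdeal.primeCompl N₀) :=
    Module.Flat.of_linearEquiv ((IsLocalizedModule.iso q.asIdeal.primeCompl φ).restrictScalars R)
  obtain ⟨⟨s₀, t₀⟩, hst⟩ := IsLocalization.surj M₀ s
  set J := (maximalIdeal R).map (algebraMap R S₀) with hJ
  have key : ∀ n : N₀, n ∈ q.asIdeal.comap (algebraMap R S₀) • (⊤ : Submodule R N₀) ↔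
      n ∈ J • (⊤ : Submodule S₀ N₀) := fun n => by
    rw [hqm, ← Submodule.restrictScalars_top R S₀ N₀, ← Ideal.smul_restrictScalars]
    rfl
  have keyN : ∀ x : N, x ∈ J • (⊤ : Submodule S₀ N) ↔
      x ∈ (maximalIdeal R).map (algebraMap R S) • (⊤ : Submodule S N) := fun x => by
    rw [← Submodule.restrictScalars_top S₀ S N, ← Ideal.smul_restrictScalars,
      Submodule.restrictScalars_mem, hJ, Ideal.map_map, ← IsScalarTower.algebraMap_eq]
  have hfib : EGA43.InjFibre.FibInjAt R S₀ (LinearMap.lsmul S₀ N₀ s₀) q := by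
    rintro n ⟨c, hc, hcn⟩
    rw [key, LinearMap.lsmul_apply] at hcn
    have h1 : φ (c • s₀ • n) ∈ J • (⊤ : Submodule S₀ N) := by
      refine (Submodule.map_smul'' J ⊤ φ).le.trans (Submodule.smul_mono le_rfl le_top) ?_
      exact Submodule.mem_map_of_mem hcn
    rw [keyN, map_smul, map_smul, ← algebraMap_smul S c, ← algebraMap_smul S s₀, ← hst,
      Submodule.smul_mem_iff_of_isUnit _ (hunit c hc), mul_comm, mul_smul,
      Submodule.smul_mem_iff_of_isUnit _ (IsLocalization.map_units S t₀)] at h1
    obtain ⟨t, ht⟩ := exists_smul_mem_of_map_mem M₀ φ J n ((keyN _).2 (hs _ h1))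
    exact ⟨t, fun h => (mem_maximalIdeal _).1 h (IsLocalization.map_units S t), (key _).2 ht⟩
  have hU := EGA43.InjFibre.uInjAt_of_fibInjAt hA hfib
  intro Q _ _
  rw [LinearMap.lTensor_inj_iff_rTensor_inj, injective_iff_map_eq_zero]
  intro w hw
  have hsw : s • w = 0 := by
    rw [← hw]
    clear hw
    induction w using TensorProduct.induction_on with
    | zero => simp
    | tmul a b => rw [LinearMap.rTensor_tmul, TensorProduct.smul_tmul']; rfl
    | add a b ha hb => rw [map_add, ← ha, ← hb, smul_add]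
  let φQ : N₀ ⊗[R] Q →ₗ[S₀] N ⊗[R] Q := AlgebraTensorModule.rTensor R Q φ
  have : IsLocalizedModule q.asIdeal.primeCompl φQ := inferInstance
  obtain ⟨⟨z, t⟩, hz⟩ := IsLocalizedModule.surj q.asIdeal.primeCompl φQ w
  have h2 : φQ (s₀ • z) = 0 := by
    rw [map_smul, ← hz, smul_comm, ← algebraMap_smul S s₀, ← hst, mul_comm, mul_smul, hsw,
      smul_zero, smul_zero]
  obtain ⟨c, hc⟩ := (IsLocalizedModule.eq_zero_iff q.asIdeal.primeCompl φQ).1 h2
  obtain ⟨d, hd, hdz⟩ := hU ((c : S₀) • z) (by
    have h3 : ∀ y : N₀ ⊗[R] Q,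
        AlgebraTensorModule.rTensor R Q (LinearMap.lsmul S₀ N₀ s₀) y = s₀ • y := fun y => by
      induction y using TensorProduct.induction_on with
      | zero => simp
      | tmul a b => rw [AlgebraTensorModule.rTensor_tmul, TensorProduct.smul_tmul']; rfl
      | add a b ha hb => rw [map_add, ha, hb, smul_add]
    rw [h3, smul_comm]
    exact hc)
  have h4 : (t : S₀) • w = 0 := by
    refine hz.trans ((IsLocalizedModule.eq_zero_iff q.asIdeal.primeCompl φQ).2
      ⟨⟨d, hd⟩ * c, ?_⟩)
    rw [Submonoid.smul_def, Submonoid.coe_mul, mul_smul]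
    exact hdz
  rwa [← algebraMap_smul S (t : S₀), (hunit t t.2).smul_eq_zero] at h4

end Groth.Agent.FlatMorDevissage
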