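import Groth.Agent.EGA43.FibDepth.FibreDim
import Groth.Agent.FlatCrit.SupportBC
import Groth.Prelude.Def_FlatCA
import Mathlib.RingTheory.Jacobson.Ring

/-!
# The local dimension of the support of a fibre module bounds transcendence degrees
-/

set_option autoImplicit false
set_option backward.isDefEq.respectTransparency false

universe u

open TensorProduct

namespace Groth.Agent.FlatMorDevissage

open Groth.Agent

attribute [local instance] Algebra.TensorProduct.rightAlgebra

/-- Closures of points of a closed set bound the local dimension at their specialisations. -/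
theorem le_localDim {k D : Type u} [Field k] [CommRing D] [Algebra k D] [Algebra.FiniteType k D]
    (s : Set (PrimeSpectrum D)) (Q x : PrimeSpectrum D) (hs : ∀ w, Q ≤ w → w ∈ s) (hle : Q ≤ x) :
    ringKrullDim (D ⧸ Q.asIdeal) ≤ FlatMor.localDim s ⟨x, hs x hle⟩ := by
  refine le_iInf fun ⟨U, hU⟩ => ?_
  obtain ⟨O, hO, hOU⟩ := isOpen_induced_iff.1 U.isOpen
  have hxO : x ∈ O := by
    have : (⟨x, hs x hle⟩ : s) ∈ Subtype.val ⁻¹' O := hOU ▸ hU
    exact this
  have hQO : Q ∈ O := ((PrimeSpectrum.le_iff_specializes Q x).1 hle).mem_open hO hxO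
  obtain ⟨_, ⟨f, rfl⟩, hQf, hfO⟩ :=
    PrimeSpectrum.isTopologicalBasis_basic_opens.exists_subset_of_mem_open hQO hO
  let A := D ⧸ Q.asIdeal
  let g : A := Ideal.Quotient.mk Q.asIdeal f
  let E := Localization.Away g
  let ι : PrimeSpectrum E → PrimeSpectrum D :=
    PrimeSpectrum.comap (Ideal.Quotient.mk Q.asIdeal) ∘ PrimeSpectrum.comap (algebraMap A E)
  have hι : Topology.IsEmbedding ι :=
    (PrimeSpectrum.isClosedEmbedding_comap_of_surjective _ _ Ideal.Quotient.mk_surjective).isEmbedding.comp
      (PrimeSpectrum.localization_away_isOpenEmbedding E g).isEmbedding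
  have hmem : ∀ P, ι P ∈ s ∧ ι P ∈ O := by
    intro P
    refine ⟨hs _ fun a ha => ?_, hfO ?_⟩
    · show algebraMap A E (Ideal.Quotient.mk Q.asIdeal a) ∈ P.asIdeal
      rw [Ideal.Quotient.eq_zero_iff_mem.2 ha, map_zero]
      exact P.asIdeal.zero_mem
    · show algebraMap A E g ∉ P.asIdeal
      exact fun h => P.isPrime.ne_top
        (P.asIdeal.eq_top_of_isUnit_mem h (IsLocalization.Away.algebraMap_isUnit g))
  let j : PrimeSpectrum E → (U : Set s) :=
    fun P => ⟨⟨ι P, (hmem P).1⟩, show (⟨ι P, (hmem P).1⟩ : s) ∈ (U : Set s) from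
      hOU ▸ (show (⟨ι P, (hmem P).1⟩ : s) ∈ Subtype.val ⁻¹' O from (hmem P).2)⟩
  have hj : Topology.IsEmbedding j :=
    (hι.codRestrict s fun P => (hmem P).1).codRestrict _ fun P => (j P).2
  refine le_trans ?_ hj.isInducing.topologicalKrullDim_le
  rw [PrimeSpectrum.topologicalKrullDim_eq_ringKrullDim]
  have : IsJacobsonRing A := isJacobsonRing_of_finiteType (A := k)
  have hg : g ≠ 0 := fun h => hQf (Ideal.Quotient.eq_zero_iff_mem.1 h)
  obtain ⟨m, hm, hgm⟩ : ∃ m : Ideal A, m.IsMaximal ∧ g ∉ m := by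
    by_contra! h
    have hj : g ∈ (⊥ : Ideal A).jacobson := Ideal.mem_sInf.2 fun {J} hJ => h J hJ.2
    rw [IsJacobsonRing.out' (⊥ : Ideal A) Ideal.isPrime_bot.isRadical] at hj
    exact hg hj
  have h1 := DimLib.height_add_ringKrullDim_quotient (k := k) m
  have h0 : ringKrullDim (A ⧸ m) = 0 := by
    let _ := Ideal.Quotient.field m
    exact ringKrullDim_eq_zero_of_field _
  rw [h0, add_zero] at h1
  rw [← h1]
  have hdis : Disjoint (Submonoid.powers g : Set A) (m : Set A) := by
    rw [Set.disjoint_left]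
    rintro _ ⟨e, rfl⟩ he
    exact hgm (hm.isPrime.mem_of_pow_mem e he)
  rw [← IsLocalization.height_map_of_disjoint (Submonoid.powers g) (S := E) m hdis]
  exact Ideal.height_le_ringKrullDim_of_ne_top
    (IsLocalization.isPrime_of_isPrime_disjoint (Submonoid.powers g) E m hm.isPrime hdis).ne_top

theorem mem_support_fiberMod_iff {R S : Type u} [CommRing R] [CommRing S] [Algebra R S] (N : Type u)
    [AddCommGroup N] [Module S N] [Module R N] [IsScalarTower R S N] [Module.Finite S N]
    (p : Ideal R) [p.IsPrime] (w : PrimeSpectrum (p.Fiber S)) :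
    w ∈ Module.support (p.Fiber S) (FlatCA.fiberMod p S N) ↔
      Module.annihilator S N ≤ (PrimeSpectrum.comap (algebraMap S (p.Fiber S)) w).asIdeal :=
  (FlatCrit.mem_support_baseChange_iff N w).trans Module.mem_support_iff_of_finite

/-- The hypothesis on transcendence degrees from the local dimension of the support. -/
theorem trd_le_of_localDim {R S : Type u} [CommRing R] [CommRing S] [Algebra R S]
    [Algebra.FiniteType R S] (N : Type u) [AddCommGroup N] [Module S N] [Module R N]
    [IsScalarTower R S N] [Module.Finite S N] (p : Ideal R) [p.IsPrime] (q : Ideal S) [q.IsPrime]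
    [q.LiesOver p] (n : ℕ) (x : PrimeSpectrum (p.Fiber S)) (hxq : x.asIdeal = FlatCA.fiberIdeal p q)
    (hx : x ∈ Module.support (p.Fiber S) (FlatCA.fiberMod p S N))
    (hn : FlatMor.localDim (Module.support (p.Fiber S) (FlatCA.fiberMod p S N)) ⟨x, hx⟩ = n)
    (w : PrimeSpectrum S) (hw : w.asIdeal ≤ q) (hwp : w.asIdeal.comap (algebraMap R S) = p)
    (hwN : Module.annihilator S N ≤ w.asIdeal) : EGA43.FibDepth.trd R w ≤ n := by
  let D := p.Fiber S
  have : Algebra.FiniteType p.ResidueField D := EGA43.FibDepth.finiteType_fibre (A := R) (R := S) p D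
  obtain ⟨Q, hQ⟩ := EGA43.FibDepth.exists_prime_over (A := R) (p := p) D w hwp.symm
  obtain ⟨Qq, hQq⟩ := EGA43.FibDepth.exists_prime_over (A := R) (p := p) D ⟨q, inferInstance⟩
    (q.over_def p)
  have hle : Q ≤ x := by
    refine EGA43.FibDepth.le_of_comap_le (R := S) p ?_
    rw [hQ]
    refine hw.trans fun a ha => ?_
    show algebraMap S D a ∈ x.asIdeal
    rw [hxq]
    exact Ideal.mem_map_of_mem _ ha
  have hs : ∀ v, Q ≤ v → v ∈ Module.support (p.Fiber S) (FlatCA.fiberMod p S N) := by
    intro v hv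
    refine (mem_support_fiberMod_iff N p v).2 (hwN.trans ?_)
    rw [← hQ]
    exact Ideal.comap_mono hv
  have h := le_localDim (k := p.ResidueField) _ Q x hs hle
  rw [hn, EGA43.FibDepth.ringKrullDim_quotient_eq_trd (R := S) p Q, hQ] at h
  exact_mod_cast h

end Groth.Agent.FlatMorDevissage
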