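import Groth.Agent.FlatMorLocalStr.RingForm
import Groth.Agent.FlatMorDevissage.SupportDim
import Groth.Agent.HenselLib.EtaleLift
import Mathlib.RingTheory.Etale.Basic
import Mathlib.LinearAlgebra.TensorProduct.Quotient

/-!
# Existence of elementary dévissages
-/

set_option autoImplicit false
set_option backward.isDefEq.respectTransparency false

universe u

open TensorProduct

namespace Groth.Agent.FlatMorDevissage

open Groth.Agent

attribute [local instance] Algebra.TensorProduct.rightAlgebra in
/-- A finitely generated ideal inside the annihilator with the same fibre. -/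
theorem exists_fg_le_annihilator {R S : Type u} [CommRing R] [CommRing S] [Algebra R S]
    [Algebra.FiniteType R S] (N : Type u) [AddCommGroup N] [Module S N] (p : Ideal R) [p.IsPrime] :
    ∃ I : Ideal S, I.FG ∧ I ≤ Module.annihilator S N ∧
      ∀ w : Ideal S, w.IsPrime → w.comap (algebraMap R S) = p → I ≤ w →
        Module.annihilator S N ≤ w := by
  classical
  let D := p.Fiber S
  have : Algebra.FiniteType p.ResidueField D := EGA43.FibDepth.finiteType_fibre (A := R) (R := S) p D
  have : IsNoetherianRing D := Algebra.FiniteType.isNoetherianRing p.ResidueField D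
  let A := Module.annihilator S N
  have hfg : (Submodule.span D (algebraMap S D '' (A : Set S))).FG := IsNoetherian.noetherian _
  obtain ⟨t, hts, ht⟩ := (Submodule.fg_span_iff_fg_span_finset_subset _).1 hfg
  obtain ⟨t', ht's, rfl⟩ := Finset.subset_set_image_iff.1 hts
  refine ⟨Ideal.span (t' : Set S), ⟨t', rfl⟩, Ideal.span_le.2 ht's, fun w hw hwp hIw => ?_⟩
  obtain ⟨Q, hQ⟩ := EGA43.FibDepth.exists_prime_over (A := R) (p := p) D ⟨w, hw⟩ hwp.symm
  intro a ha
  show a ∈ (⟨w, hw⟩ : PrimeSpectrum S).asIdeal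
  rw [← hQ]
  show algebraMap S D a ∈ Q.asIdeal
  have h1 : Submodule.span D ((t'.image (algebraMap S D) : Finset D) : Set D) ≤ Q.asIdeal := by
    rw [Submodule.span_le, Finset.coe_image]
    rintro _ ⟨b, hb, rfl⟩
    have : b ∈ (PrimeSpectrum.comap (algebraMap S D) Q).asIdeal := by
      rw [hQ]; exact hIw (Ideal.subset_span hb)
    exact this
  refine h1 ?_
  rw [← ht]
  exact Submodule.subset_span ⟨a, ha, rfl⟩

/-- The residue field of the point of a lift. -/
theorem bijective_of_square {S T B T' : Type u} [CommRing S] [CommRing T] [CommRing B] [CommRing T']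
    [Algebra S T] [Algebra S B] [Algebra T T'] [Algebra B T'] [Algebra S T'] [IsScalarTower S T T']
    [IsScalarTower S B T'] (hT : Function.Surjective (algebraMap S T))
    (hB : Function.Surjective (algebraMap B T')) (q : Ideal S) [q.IsPrime] (qT : Ideal T) [qT.IsPrime]
    (qB : Ideal B) [qB.IsPrime] (z : Ideal T') [z.IsPrime] [qT.LiesOver q] [qB.LiesOver q]
    [z.LiesOver qT] [z.LiesOver qB]
    (h : Function.Bijective (Ideal.ResidueField.mapₐ qT z (Algebra.ofId T T') (z.over_def qT))) :
    Function.Bijective (Ideal.ResidueField.mapₐ q qB (Algebra.ofId S B) (qB.over_def q)) := by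
  let m₁ := Ideal.ResidueField.map q qT (algebraMap S T) (qT.over_def q)
  let m₂ := Ideal.ResidueField.map qB z (algebraMap B T') (z.over_def qB)
  have hm₁ : Function.Bijective m₁ :=
    (RingHom.surjectiveOnStalks_of_surjective hT).residueFieldMap_bijective q qT (qT.over_def q)
  have hm₂ : Function.Bijective m₂ :=
    (RingHom.surjectiveOnStalks_of_surjective hB).residueFieldMap_bijective qB z (z.over_def qB)
  let h' := (Ideal.ResidueField.mapₐ qT z (Algebra.ofId T T') (z.over_def qT)).toRingHom
  let g := (Ideal.ResidueField.mapₐ q qB (Algebra.ofId S B) (qB.over_def q)).toRingHom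
  have key : m₂.comp g = h'.comp m₁ := by
    refine Ideal.ResidueField.ringHom_ext (RingHom.ext fun a => ?_)
    simp only [RingHom.comp_apply, g, h', m₁, m₂, AlgHom.toRingHom_eq_coe, RingHom.coe_coe,
      AlgHom.commutes, Ideal.ResidueField.map_algebraMap]
    rw [IsScalarTower.algebraMap_apply S B qB.ResidueField, Ideal.ResidueField.map_algebraMap,
      ← IsScalarTower.algebraMap_apply S B T', IsScalarTower.algebraMap_apply S T T',
      ← IsScalarTower.algebraMap_apply T T' z.ResidueField]
  have h2 : Function.Bijective (m₂ ∘ g) := by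
    rw [← RingHom.coe_comp, key]
    exact h.comp hm₁
  exact (Function.Bijective.of_comp_iff' hm₂ _).1 h2

/-- The kernel of a surjection with kernel in the annihilator does not change the module. -/
theorem bijective_mk_of_ker_le {B T' : Type u} [CommRing B] [CommRing T'] [Algebra B T']
    (hB : Function.Surjective (algebraMap B T')) (M : Type u) [AddCommGroup M] [Module B M]
    (hker : RingHom.ker (algebraMap B T') ≤ Module.annihilator B M) :
    Function.Bijective (TensorProduct.mk B T' M 1) := by
  constructor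
  · let J := RingHom.ker (Algebra.ofId B T')
    let e0 : T' ≃ₐ[B] B ⧸ J :=
      (Ideal.quotientKerAlgEquivOfSurjective (f := Algebra.ofId B T') hB).symm
    let e := (TensorProduct.congr e0.toLinearEquiv (LinearEquiv.refl B M)) ≪≫ₗ
      TensorProduct.quotTensorEquivQuotSMul M J
    refine (injective_iff_map_eq_zero _).2 fun n hn => ?_
    have h1 : e (1 ⊗ₜ n) = 0 := by rw [show (1 : T') ⊗ₜ[B] n = 0 from hn, map_zero]
    have h2 : e (1 ⊗ₜ n) = Submodule.Quotient.mk n := by
      simp only [e, LinearEquiv.trans_apply, TensorProduct.congr_tmul, LinearEquiv.refl_apply,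
        AlgEquiv.toLinearEquiv_apply, map_one]
      rw [show (1 : B ⧸ J) = Ideal.Quotient.mk J 1 from (map_one _).symm,
        TensorProduct.quotTensorEquivQuotSMul_mk_tmul, one_smul]
    rw [h2, Submodule.Quotient.mk_eq_zero] at h1
    have h3 : J • (⊤ : Submodule B M) ≤ ⊥ := Submodule.smul_le.2 fun j hj m _ =>
      Module.mem_annihilator.1 (hker hj) m
    exact (Submodule.mem_bot B).1 (h3 h1)
  · intro x
    induction x with
    | zero => exact ⟨0, map_zero _⟩
    | add x y hx hy =>
      obtain ⟨a, rfl⟩ := hx; obtain ⟨b, rfl⟩ := hy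
      exact ⟨a + b, map_add _ _ _⟩
    | tmul t m =>
      obtain ⟨b, rfl⟩ := hB t
      refine ⟨b • m, ?_⟩
      show (1 : T') ⊗ₜ[B] (b • m) = _
      rw [← TensorProduct.smul_tmul, Algebra.smul_def, mul_one]

set_option maxHeartbeats 1000000 in
/-- The elementary dévissage attached to a local structure of a closed subscheme carrying the module. -/
theorem exists_elemDevissage {R S : Type u} [CommRing R] [CommRing S] [Algebra R S]
    [Algebra.FiniteType R S] (N : Type u) [AddCommGroup N] [Module S N] [Module.Finite S N]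
    (p : Ideal R) [p.IsPrime] (q : Ideal S) [q.IsPrime] [q.LiesOver p] (n : ℕ)
    (hd : ∀ w : PrimeSpectrum S, w.asIdeal ≤ q → w.asIdeal.comap (algebraMap R S) = p →
      Module.annihilator S N ≤ w.asIdeal → EGA43.FibDepth.trd R w ≤ n)
    (hNq : Module.annihilator S N ≤ q) :
    Nonempty (FlatCA.ElemDevissage R S N p q n) := by
  obtain ⟨I, hIfg, hIN, hI⟩ := exists_fg_le_annihilator (R := R) (S := S) N p
  have : Algebra.FiniteType R (S ⧸ I) :=
    Algebra.FiniteType.of_surjective (Ideal.Quotient.mkₐ R I) (Ideal.Quotient.mkₐ_surjective R I)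
  let qT : Ideal (S ⧸ I) := q.map (Ideal.Quotient.mk I)
  have : qT.IsPrime := Ideal.isPrime_map_quotientMk_of_isPrime (hIN.trans hNq)
  have hqT : qT.comap (Ideal.Quotient.mk I) = q := by
    rw [Ideal.comap_map_of_surjective _ Ideal.Quotient.mk_surjective, sup_eq_left,
      ← RingHom.ker_eq_comap_bot, Ideal.mk_ker]
    exact hIN.trans hNq
  have hqTq : qT.LiesOver q := ⟨hqT.symm⟩
  have : qT.LiesOver p := Ideal.LiesOver.trans qT q p
  obtain ⟨R', T', D, _, _, _, _, _, _, _, _, _, _, _, _, p', z, y, _, _, _, _, _, _, hR, hT, hfin,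
      huniq, hpt, hsm, hgi⟩ :=
    FlatMorLocalStr.exists_ring_localStructure p qT n (fun w hw hwp => by
      have h1 := EGA43.FibDepth.trd_comap_of_surjectiveOnStalks (Ideal.Quotient.mkₐ R I)
        (RingHom.surjectiveOnStalks_of_surjective (Ideal.Quotient.mkₐ_surjective R I)) w
      rw [← h1]
      refine hd _ ?_ ?_ (hI _ inferInstance ?_ ?_)
      · exact (Ideal.comap_mono hw).trans hqT.le
      · show Ideal.comap _ (Ideal.comap _ _) = p
        rw [Ideal.comap_comap]; exact hwp
      · show Ideal.comap _ (Ideal.comap _ _) = p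
        rw [Ideal.comap_comap]; exact hwp
      · intro a ha
        show Ideal.Quotient.mk I a ∈ w.asIdeal
        rw [Ideal.Quotient.eq_zero_iff_mem.2 ha]
        exact w.asIdeal.zero_mem)
  have : Algebra.Etale R R' := hR.1
  obtain ⟨hTet, hzq, hzbij⟩ := hT
  let _ : Algebra S T' := ((algebraMap (S ⧸ I) T').comp (Ideal.Quotient.mk I)).toAlgebra
  have : IsScalarTower S (S ⧸ I) T' := .of_algebraMap_eq' rfl
  have : IsScalarTower R S T' := .of_algebraMap_eq fun r => by
    rw [IsScalarTower.algebraMap_apply R (S ⧸ I) T', IsScalarTower.algebraMap_apply S (S ⧸ I) T',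
      ← IsScalarTower.algebraMap_apply R S (S ⧸ I)]
  let μ₀ : S ⊗[R] R' →ₐ[S] T' := Algebra.TensorProduct.lift (Algebra.ofId S T')
    (IsScalarTower.toAlgHom R R' T') fun _ _ => .all _ _
  let I₀ : Ideal (S ⊗[R] R') := I.map (algebraMap S (S ⊗[R] R'))
  have hμ₀ : ∀ a ∈ I₀, μ₀ a = 0 := by
    refine fun a ha => (show I₀ ≤ RingHom.ker μ₀.toRingHom from ?_) ha
    rw [Ideal.map_le_iff_le_comap]
    intro b hb
    show μ₀ (algebraMap S _ b) = 0
    rw [AlgHom.commutes, IsScalarTower.algebraMap_apply S (S ⧸ I) T',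
      Ideal.Quotient.algebraMap_eq, Ideal.Quotient.eq_zero_iff_mem.2 hb, map_zero]
  let μ : ((S ⊗[R] R') ⧸ I₀) →ₐ[S] T' := Ideal.Quotient.liftₐ I₀ μ₀ hμ₀
  let _ : Algebra ((S ⊗[R] R') ⧸ I₀) T' := μ.toRingHom.toAlgebra
  let _ : Algebra (S ⧸ I) ((S ⊗[R] R') ⧸ I₀) :=
    (Ideal.quotientMap I₀ (algebraMap S (S ⊗[R] R')) Ideal.le_comap_map).toAlgebra
  have : IsScalarTower S (S ⧸ I) ((S ⊗[R] R') ⧸ I₀) := .of_algebraMap_eq fun a => rfl
  have : IsScalarTower (S ⧸ I) ((S ⊗[R] R') ⧸ I₀) T' := .of_algebraMap_eq fun a => by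
    obtain ⟨a, rfl⟩ := Ideal.Quotient.mk_surjective a
    exact (μ.commutes a).symm
  have : Algebra.FormallyUnramified S ((S ⊗[R] R') ⧸ I₀) :=
    Algebra.FormallyUnramified.comp S (S ⊗[R] R') _
  have : Algebra.FormallyUnramified (S ⧸ I) ((S ⊗[R] R') ⧸ I₀) :=
    Algebra.FormallyUnramified.of_restrictScalars S _ _
  have : Algebra.FiniteType S ((S ⊗[R] R') ⧸ I₀) :=
    Algebra.FiniteType.of_surjective (Ideal.Quotient.mkₐ S I₀) (Ideal.Quotient.mkₐ_surjective S I₀)
  have : Algebra.FiniteType (S ⧸ I) ((S ⊗[R] R') ⧸ I₀) :=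
    Algebra.FiniteType.of_restrictScalars_finiteType S _ _
  have : Algebra.Etale ((S ⊗[R] R') ⧸ I₀) T' :=
    { formallyEtale := Algebra.FormallyEtale.of_restrictScalars (R := S ⧸ I)
      finitePresentation :=
        Algebra.FinitePresentation.of_restrict_scalars_finitePresentation (S ⧸ I) _ _ }
  obtain ⟨B, _, _, _, θ, hθ, hker, hθc⟩ :=
    HenselLib.exists_etale_lift (S ⊗[R] R') I₀ T'
  let _ : Algebra S B := ((algebraMap (S ⊗[R] R') B).comp (algebraMap S (S ⊗[R] R'))).toAlgebra
  have : IsScalarTower S (S ⊗[R] R') B := .of_algebraMap_eq' rfl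
  have : Algebra.Etale S B := Algebra.Etale.comp S (S ⊗[R] R') B
  let _ : Algebra R' B :=
    ((algebraMap (S ⊗[R] R') B).comp
      (Algebra.TensorProduct.includeRight (R := R) (A := S) (B := R')).toRingHom).toAlgebra
  let _ : Algebra R B := ((algebraMap S B).comp (algebraMap R S)).toAlgebra
  have : IsScalarTower R S B := .of_algebraMap_eq' rfl
  have : IsScalarTower R R' B := .of_algebraMap_eq fun r => by
    show algebraMap _ B (algebraMap S (S ⊗[R] R') (algebraMap R S r)) =
      algebraMap _ B (Algebra.TensorProduct.includeRight (algebraMap R R' r))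
    rw [AlgHom.commutes, IsScalarTower.algebraMap_apply R S (S ⊗[R] R')]
  let _ : Algebra B T' := θ.toAlgebra
  have hθμ : ∀ a, θ (algebraMap _ B a) = μ₀ a := fun a => hθc a
  have : IsScalarTower S B T' := .of_algebraMap_eq fun a =>
    ((hθμ _).trans (μ₀.commutes a)).symm
  have : IsScalarTower R' B T' := .of_algebraMap_eq fun a => by
    refine ((hθμ _).trans ?_).symm
    show μ₀ (1 ⊗ₜ a) = _
    simp [μ₀]
  let qB : Ideal B := z.comap (algebraMap B T')
  have hzqB : z.LiesOver qB := ⟨rfl⟩
  have : qB.LiesOver p' := ⟨by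
    show _ = Ideal.comap _ (Ideal.comap _ z)
    rw [Ideal.comap_comap, ← IsScalarTower.algebraMap_eq]
    exact z.over_def p'⟩
  have hqBq : qB.LiesOver q := ⟨by
    show _ = Ideal.comap _ (Ideal.comap _ z)
    rw [Ideal.comap_comap, ← IsScalarTower.algebraMap_eq, IsScalarTower.algebraMap_eq S (S ⧸ I) T',
      ← Ideal.comap_comap]
    exact (qT.over_def q).trans (congrArg (Ideal.comap (algebraMap S (S ⧸ I))) (z.over_def qT))⟩
  have hkerN : RingHom.ker (algebraMap B T') ≤ Module.annihilator B (B ⊗[S] N) := by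
    show RingHom.ker θ ≤ _
    rw [hker, Ideal.map_map, ← IsScalarTower.algebraMap_eq]
    exact (Ideal.map_mono hIN).trans (FlatCrit.annihilator_map_le N)
  have hfp : Algebra.FinitePresentation B T' := by
    refine Algebra.FinitePresentation.of_surjective (f := Algebra.ofId B T') hθ ?_
    show (RingHom.ker θ).FG
    rw [hker, Ideal.map_map]
    exact hIfg.map _
  let G := T' ⊗[B] (B ⊗[S] N)
  exact ⟨{
    R' := R', S' := B, C := T', D := D, N' := B ⊗[S] N, G := G
    p' := p', q' := qB, z := z, y := y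
    etaleR := hR
    etaleS := ⟨inferInstance, hqBq, bijective_of_square Ideal.Quotient.mk_surjective hθ q qT qB z hzbij⟩
    f := TensorProduct.mk S B N 1
    isBaseChange := TensorProduct.isBaseChange S N B
    surjC := hθ
    fpC := hfp
    iso := LinearEquiv.ofBijective (TensorProduct.mk B T' (B ⊗[S] N) 1)
      (bijective_mk_of_ker_le hθ _ hkerN)
    finiteDC := hfin
    finiteG := inferInstance
    uniq := fun z₁ hz₁ h => huniq z₁ hz₁ h
    pureTrans := hpt
    smooth := hsm
    geomInt := hgi }⟩

end Groth.Agent.FlatMorDevissage
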