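import Groth.Agent.FlatMorDevissage.Key
import Mathlib.Algebra.Module.FinitePresentation
import Mathlib.RingTheory.Finiteness.ModuleFinitePresentation
import Mathlib.RingTheory.TensorProduct.IsBaseChangeFree

/-!
# Finite presentation of localised modules, tested on the kernel of a presentation
-/

set_option autoImplicit false

universe u

open TensorProduct Function

namespace Groth.Agent.FlatMorDevissage

/-- The kernel of `π` is, away from `T`, generated by finitely many elements. -/
def KerFG {S F N : Type u} [CommRing S] [AddCommGroup F] [Module S F] [AddCommGroup N] [Module S N]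
    (π : F →ₗ[S] N) (T : Set S) : Prop :=
  ∃ K₀ : Submodule S F, K₀.FG ∧ K₀ ≤ LinearMap.ker π ∧ ∀ x ∈ LinearMap.ker π, ∃ t ∈ T, t • x ∈ K₀

section Local

variable {S F N : Type u} [CommRing S] [AddCommGroup F] [Module S F] [AddCommGroup N] [Module S N]

theorem fp_localized_iff [Module.FinitePresentation S F] (π : F →ₗ[S] N) (hπ : Surjective π)
    (T : Submonoid S) :
    Module.FinitePresentation (Localization T) (LocalizedModule T N) ↔ KerFG π (T : Set S) := by
  classical
  let fF := LocalizedModule.mkLinearMap T F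
  let fN := LocalizedModule.mkLinearMap T N
  let πT := (IsLocalizedModule.map T fF fN π).extendScalarsOfIsLocalization T (Localization T)
  have hsurj : Surjective πT := IsLocalizedModule.map_surjective T fF fN π hπ
  have hker : LinearMap.ker πT = (LinearMap.ker π).localized' (Localization T) T fF :=
    (LinearMap.localized'_ker_eq_ker_localizedMap (Localization T) T fF fN π).symm
  refine ⟨fun h => ?_, fun ⟨K₀, hfg, hle, hK⟩ => ?_⟩
  · obtain ⟨s, hs⟩ := Module.FinitePresentation.fg_ker πT hsurj
    have hrep : ∀ w : s, ∃ k ∈ LinearMap.ker π, ∃ t : T, IsLocalizedModule.mk' fF k t = w.1 :=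
      fun w => (Submodule.mem_localized' (S := Localization T) T fF (LinearMap.ker π) w.1).1
        (hker ▸ hs ▸ Submodule.subset_span w.2)
    choose k hk t hkt using hrep
    refine ⟨Submodule.span S (Set.range k), Submodule.fg_span (Set.finite_range k),
      Submodule.span_le.2 (by rintro _ ⟨w, rfl⟩; exact hk w), fun x hx => ?_⟩
    have hmem : fF x ∈ (Submodule.span S (Set.range k)).localized' (Localization T) T fF := by
      have hle : LinearMap.ker πT ≤
          (Submodule.span S (Set.range k)).localized' (Localization T) T fF := by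
        rw [← hs, Submodule.span_le]
        intro w hw
        exact (Submodule.mem_localized' (S := Localization T) T fF _ w).2
          ⟨_, Submodule.subset_span ⟨⟨w, hw⟩, rfl⟩, _, hkt ⟨w, hw⟩⟩
      refine hle ?_
      rw [hker]
      exact (Submodule.mem_localized' (S := Localization T) T fF _ _).2
        ⟨x, hx, 1, IsLocalizedModule.mk'_one T fF x⟩
    obtain ⟨m, hm, t', hmt⟩ := (Submodule.mem_localized' (S := Localization T) T fF _ _).1 hmem
    rw [IsLocalizedModule.mk'_eq_iff, Submonoid.smul_def, ← map_smul] at hmt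
    obtain ⟨c, hc⟩ := IsLocalizedModule.exists_of_eq (S := T) hmt
    refine ⟨c.1 * t'.1, T.mul_mem c.2 t'.2, ?_⟩
    rw [mul_smul, ← Submonoid.smul_def c, ← hc]
    exact Submodule.smul_mem _ _ hm
  · have : Module.FinitePresentation (Localization T) (LocalizedModule T F) := inferInstance
    refine Module.finitePresentation_of_surjective πT hsurj ?_
    obtain ⟨s, rfl⟩ := hfg
    refine ⟨s.image fF, ?_⟩
    rw [Finset.coe_image, ← Submodule.localized'_span (Localization T) T fF, hker]
    refine le_antisymm (fun w hw => ?_) fun w hw => ?_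
    · obtain ⟨m, hm, t, rfl⟩ := (Submodule.mem_localized' (S := Localization T) T fF _ _).1 hw
      exact (Submodule.mem_localized' (S := Localization T) T fF _ _).2 ⟨m, hle hm, t, rfl⟩
    · obtain ⟨m, hm, t, rfl⟩ := (Submodule.mem_localized' (S := Localization T) T fF _ _).1 hw
      obtain ⟨c, hc, hcm⟩ := hK m hm
      exact (Submodule.mem_localized' (S := Localization T) T fF _ _).2
        ⟨_, hcm, ⟨c, hc⟩ * t, IsLocalizedModule.mk'_cancel_left (f := fF) m (⟨c, hc⟩ : T) t⟩

/-- Saturating the submonoid. -/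
theorem kerFG_of_dvd {π : F →ₗ[S] N} {T T' : Set S} (h : KerFG π T)
    (hd : ∀ t ∈ T, ∃ c, c * t ∈ T') : KerFG π T' := by
  obtain ⟨K₀, hfg, hle, hK⟩ := h
  refine ⟨K₀, hfg, hle, fun x hx => ?_⟩
  obtain ⟨t, ht, htx⟩ := hK x hx
  obtain ⟨c, hc⟩ := hd t ht
  exact ⟨c * t, hc, by rw [mul_smul]; exact K₀.smul_mem c htx⟩

end Local

section Tower

variable {A B F N : Type u} [CommRing B] [CommRing A] [Algebra B A] [Module.Finite B A]
  [AddCommGroup F] [Module A F] [Module B F] [IsScalarTower B A F]
  [AddCommGroup N] [Module A N] [Module B N] [IsScalarTower B A N]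

theorem kerFG_restrictScalars_iff (π : F →ₗ[A] N) (T : Set B) :
    KerFG (π.restrictScalars B) T ↔ KerFG π (algebraMap B A '' T) := by
  refine ⟨fun ⟨K₀, hfg, hle, hK⟩ => ?_, fun ⟨K₀, hfg, hle, hK⟩ => ?_⟩
  · obtain ⟨s, rfl⟩ := hfg
    refine ⟨Submodule.span A (s : Set F), Submodule.fg_span s.finite_toSet,
      Submodule.span_le.2 fun x hx => hle (Submodule.subset_span hx), fun x hx => ?_⟩
    obtain ⟨t, ht, htx⟩ := hK x hx
    exact ⟨_, ⟨t, ht, rfl⟩, by
      rw [algebraMap_smul]; exact Submodule.span_le_restrictScalars B A _ htx⟩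
  · refine ⟨K₀.restrictScalars B, Submodule.FG.restrictScalars hfg, hle, fun x hx => ?_⟩
    obtain ⟨_, ⟨t, ht, rfl⟩, htx⟩ := hK x hx
    exact ⟨t, ht, by rw [← algebraMap_smul A]; exact htx⟩

omit [Module.Finite B A] in
/-- Finite presentation of localisations over a finitely presented finite algebra. -/
theorem fp_localized_tower_iff [Module.FinitePresentation B A] [Module.Finite A N] (T : Submonoid B) :
    Module.FinitePresentation (Localization T) (LocalizedModule T N) ↔
      Module.FinitePresentation (Localization (T.map (algebraMap B A)))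
        (LocalizedModule (T.map (algebraMap B A)) N) := by
  obtain ⟨m, π, hπ⟩ := Module.Finite.exists_fin' A N
  have : Module.FinitePresentation B (Fin m → A) :=
    Module.FinitePresentation.trans (R := B) (M := Fin m → A) A
  rw [fp_localized_iff (π.restrictScalars B) hπ, fp_localized_iff π hπ, Submonoid.coe_map]
  exact kerFG_restrictScalars_iff π (T : Set B)

end Tower

section BaseChange

variable {S S' F N : Type u} [CommRing S] [CommRing S'] [Algebra S S'] [AddCommGroup F] [Module S F]
  [AddCommGroup N] [Module S N]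

theorem ker_baseChange (π : F →ₗ[S] N) (hπ : Surjective π) :
    LinearMap.ker (π.baseChange S') = LinearMap.range ((LinearMap.ker π).subtype.baseChange S') := by
  refine SetLike.coe_injective ?_
  have h := (lTensor_exact S' (LinearMap.exact_subtype_ker_map π) hπ).linearMap_ker_eq
  exact congrArg (fun p : Submodule S (S' ⊗[S] F) => (p : Set (S' ⊗[S] F))) h

theorem kerFG_baseChange {π : F →ₗ[S] N} (hπ : Surjective π) {T : Submonoid S} {T' : Submonoid S'}
    (hT : ∀ t ∈ T, algebraMap S S' t ∈ T') (h : KerFG π (T : Set S)) :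
    KerFG (π.baseChange S') (T' : Set S') := by
  classical
  obtain ⟨K₀, ⟨s, rfl⟩, hle, hK⟩ := h
  let L := Submodule.span S' ((fun x => (1 : S') ⊗ₜ[S] x) '' (s : Set F))
  refine ⟨L, Submodule.fg_span (s.finite_toSet.image _), Submodule.span_le.2 ?_, fun x hx => ?_⟩
  · rintro _ ⟨k, hk, rfl⟩
    simp [LinearMap.mem_ker.1 (hle (Submodule.subset_span hk))]
  · rw [ker_baseChange π hπ] at hx
    obtain ⟨w, rfl⟩ := hx
    induction w using TensorProduct.induction_on with
    | zero => exact ⟨1, T'.one_mem, by simp⟩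
    | tmul a k =>
      obtain ⟨t, ht, htk⟩ := hK k.1 k.2
      refine ⟨algebraMap S S' t, hT t ht, ?_⟩
      have hL : ∀ y ∈ Submodule.span S (s : Set F), (1 : S') ⊗ₜ[S] y ∈ L := fun y hy => by
        have : Submodule.span S (s : Set F) ≤ (L.restrictScalars S).comap (TensorProduct.mk S S' F 1) :=
          Submodule.span_le.2 fun z hz => Submodule.subset_span ⟨z, hz, rfl⟩
        exact this hy
      have he : algebraMap S S' t • ((LinearMap.ker π).subtype.baseChange S' (a ⊗ₜ k)) =
          a • ((1 : S') ⊗ₜ[S] (t • k.1)) := by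
        rw [LinearMap.baseChange_tmul, algebraMap_smul, ← TensorProduct.tmul_smul,
          TensorProduct.smul_tmul', smul_eq_mul, mul_one]
        rfl
      rw [he]
      exact L.smul_mem a (hL _ htk)
    | add u v hu hv =>
      obtain ⟨t₁, h₁, hu⟩ := hu
      obtain ⟨t₂, h₂, hv⟩ := hv
      refine ⟨t₁ * t₂, T'.mul_mem h₁ h₂, ?_⟩
      rw [map_add, smul_add]
      exact L.add_mem (by rw [mul_comm, mul_smul]; exact L.smul_mem _ hu)
        (by rw [mul_smul]; exact L.smul_mem _ hv)

theorem exists_smul_eq_zero_of_tmul [Module.Flat S S'] {M : Type u} [AddCommGroup M] [Module S M]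
    (Q : Ideal S') (z : M) {t' : S'} (ht' : t' ∉ Q) (h : t' ⊗ₜ[S] z = 0) :
    ∃ t ∉ Q.comap (algebraMap S S'), t • z = 0 := by
  by_contra! hne
  let K : Ideal S := LinearMap.ker (LinearMap.toSpanSingleton S M z)
  have hK : K ≤ Q.comap (algebraMap S S') := fun a ha =>
    Classical.not_not.1 fun haq => hne a haq (by simpa [K] using ha)
  let g : (S ⧸ K) →ₗ[S] M := K.liftQ (LinearMap.toSpanSingleton S _ z) le_rfl
  have hg : Injective g := LinearMap.ker_eq_bot.1 (Submodule.ker_liftQ_eq_bot _ _ _ le_rfl)
  have h0 : t' ⊗ₜ[S] (Submodule.Quotient.mk (p := K) (1 : S)) = (0 : S' ⊗[S] (S ⧸ K)) := by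
    apply Module.Flat.lTensor_preserves_injective_linearMap g hg
    rw [map_zero, LinearMap.lTensor_tmul]
    show t' ⊗ₜ[S] g (Submodule.Quotient.mk 1) = 0
    rw [show g (Submodule.Quotient.mk 1) = z from (Submodule.liftQ_apply _ _ _).trans (one_smul _ _)]
    exact h
  let φ : (S ⧸ K) →ₗ[S] S' ⧸ K.map (algebraMap S S') :=
    K.liftQ (Algebra.linearMap S (S' ⧸ K.map (algebraMap S S'))) fun a ha => by
      rw [LinearMap.mem_ker, Algebra.linearMap_apply,
        IsScalarTower.algebraMap_apply S S' (S' ⧸ K.map (algebraMap S S'))]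
      exact Ideal.Quotient.eq_zero_iff_mem.2 (Ideal.mem_map_of_mem _ ha)
  have h1 := congrArg (LinearMap.liftBaseChange S' φ) h0
  rw [LinearMap.liftBaseChange_tmul, map_zero,
    show φ (Submodule.Quotient.mk 1) = 1 from
      (Submodule.liftQ_apply _ _ _).trans (map_one (algebraMap S _)),
    Algebra.smul_def, mul_one] at h1
  exact ht' (Ideal.map_le_iff_le_comap.2 hK (Ideal.Quotient.eq_zero_iff_mem.1 h1))

theorem kerFG_of_baseChange [Module.Flat S S'] {π : F →ₗ[S] N} (hπ : Surjective π)
    {T : Submonoid S} {T' : Submonoid S'}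
    (hT : ∀ (P : Ideal S) [P.IsPrime], Disjoint (T : Set S) (P : Set S) →
      ∃ (P' : Ideal S'), P'.IsPrime ∧ Disjoint (T' : Set S') (P' : Set S') ∧
        P'.comap (algebraMap S S') = P)
    (h : KerFG (π.baseChange S') (T' : Set S')) : KerFG π (T : Set S) := by
  classical
  obtain ⟨L, ⟨s, rfl⟩, hle, hL⟩ := h
  have hrep : ∀ w : s, ∃ K₁ : Submodule S F, K₁.FG ∧ K₁ ≤ LinearMap.ker π ∧
      w.1 ∈ LinearMap.range (K₁.subtype.baseChange S') := by
    intro w
    obtain ⟨v, hv⟩ := (ker_baseChange (S' := S') π hπ).le (hle (Submodule.subset_span w.2))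
    rw [← hv]
    clear hv
    induction v using TensorProduct.induction_on with
    | zero => exact ⟨⊥, Submodule.fg_bot, bot_le, by simp⟩
    | tmul a k =>
      exact ⟨Submodule.span S {k.1}, Submodule.fg_span_singleton _,
        (Submodule.span_singleton_le_iff_mem _ _).2 k.2,
        ⟨a ⊗ₜ ⟨k.1, Submodule.mem_span_singleton_self _⟩, by simp⟩⟩
    | add u v hu hv =>
      obtain ⟨K₁, hf₁, hl₁, hm₁⟩ := hu
      obtain ⟨K₂, hf₂, hl₂, hm₂⟩ := hv
      have hmono : ∀ {K K' : Submodule S F} (h : K ≤ K'), LinearMap.range (K.subtype.baseChange S') ≤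
          LinearMap.range (K'.subtype.baseChange S') := fun {K K'} h => by
        rw [← Submodule.subtype_comp_inclusion K K' h, LinearMap.baseChange_comp]
        exact LinearMap.range_comp_le_range _ _
      exact ⟨K₁ ⊔ K₂, hf₁.sup hf₂, sup_le hl₁ hl₂, by
        rw [map_add]; exact add_mem (hmono le_sup_left hm₁) (hmono le_sup_right hm₂)⟩
  choose K hKfg hKle hKmem using hrep
  let K₀ : Submodule S F := ⨆ w, K w
  refine ⟨K₀, Submodule.fg_iSup _ hKfg, iSup_le hKle, fun x hx => ?_⟩
  by_contra! hne
  let Ann : Ideal S := LinearMap.ker (LinearMap.toSpanSingleton S (F ⧸ K₀) (Submodule.Quotient.mk x))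
  have hd : Disjoint (Ann : Set S) (T : Set S) := Set.disjoint_left.2 fun t ht htT => hne t htT <| by
    rw [SetLike.mem_coe, LinearMap.mem_ker, LinearMap.toSpanSingleton_apply,
      ← Submodule.Quotient.mk_smul, Submodule.Quotient.mk_eq_zero] at ht
    exact ht
  obtain ⟨P, hP, hAnn, hPT⟩ := Ideal.exists_le_prime_disjoint Ann T hd
  obtain ⟨P', hP', hP'T, hPP'⟩ := hT P hPT.symm
  obtain ⟨t', ht', htx⟩ := hL ((1 : S') ⊗ₜ x) (by simp [LinearMap.mem_ker.1 hx])
  have hzero : t' ⊗ₜ[S] (Submodule.Quotient.mk (p := K₀) x) = 0 := by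
    have hq : Submodule.span S' (s : Set (S' ⊗[S] F)) ≤ LinearMap.ker (K₀.mkQ.baseChange S') := by
      refine Submodule.span_le.2 fun w hw => ?_
      obtain ⟨v, hv⟩ := hKmem ⟨w, hw⟩
      have hcomp : K₀.mkQ ∘ₗ (K ⟨w, hw⟩).subtype = 0 := LinearMap.ext fun k =>
        (Submodule.Quotient.mk_eq_zero K₀).2 (le_iSup K ⟨w, hw⟩ k.2)
      rw [SetLike.mem_coe, LinearMap.mem_ker, show w = _ from hv.symm, ← LinearMap.comp_apply,
        ← LinearMap.baseChange_comp, hcomp, LinearMap.baseChange_zero, LinearMap.zero_apply]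
    have := hq htx
    rw [LinearMap.mem_ker, map_smul, LinearMap.baseChange_tmul, TensorProduct.smul_tmul',
      smul_eq_mul, mul_one] at this
    exact this
  obtain ⟨t, ht, htx⟩ := exists_smul_eq_zero_of_tmul P' _ (Set.disjoint_left.1 hP'T ht') hzero
  exact ht (hPP' ▸ hAnn (by simpa [Ann] using htx))

end BaseChange

end Groth.Agent.FlatMorDevissage

namespace Groth.Agent.FlatMorDevissage

/-- Submonoids with the same saturation give the same finite presentation condition. -/
theorem fp_localized_congr {S N : Type u} [CommRing S] [AddCommGroup N] [Module S N]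
    [Module.Finite S N] {T T' : Submonoid S} (h : ∀ t ∈ T, ∃ c, c * t ∈ T')
    (h' : ∀ t ∈ T', ∃ c, c * t ∈ T) :
    Module.FinitePresentation (Localization T) (LocalizedModule T N) ↔
      Module.FinitePresentation (Localization T') (LocalizedModule T' N) := by
  obtain ⟨m, π, hπ⟩ := Module.Finite.exists_fin' S N
  rw [fp_localized_iff π hπ, fp_localized_iff π hπ]
  exact ⟨fun k => kerFG_of_dvd k h, fun k => kerFG_of_dvd k h'⟩

theorem kerFG_comp_equiv {S F N N' : Type u} [CommRing S] [AddCommGroup F] [Module S F]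
    [AddCommGroup N] [Module S N] [AddCommGroup N'] [Module S N'] (π : F →ₗ[S] N) (e : N ≃ₗ[S] N')
    (T : Set S) : KerFG (e.toLinearMap ∘ₗ π) T ↔ KerFG π T := by
  rw [KerFG, KerFG, LinearEquiv.ker_comp]

/-- Finite presentation at a localisation goes up along any algebra. -/
theorem fp_localized_baseChange {S S' N N' : Type u} [CommRing S] [CommRing S'] [Algebra S S']
    [AddCommGroup N] [Module S N] [Module.Finite S N] [AddCommGroup N'] [Module S' N'] [Module S N']
    [IsScalarTower S S' N'] {f : N →ₗ[S] N'} (hf : IsBaseChange S' f) {T : Submonoid S}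
    {T' : Submonoid S'} (hT : ∀ t ∈ T, algebraMap S S' t ∈ T')
    (h : Module.FinitePresentation (Localization T) (LocalizedModule T N)) :
    Module.FinitePresentation (Localization T') (LocalizedModule T' N') := by
  obtain ⟨m, π, hπ⟩ := Module.Finite.exists_fin' S N
  rw [fp_localized_iff (hf.equiv.toLinearMap ∘ₗ π.baseChange S')
    (hf.equiv.surjective.comp (LinearMap.lTensor_surjective S' hπ)) T', kerFG_comp_equiv]
  exact kerFG_baseChange hπ hT ((fp_localized_iff π hπ T).1 h)

/-- Finite presentation at a localisation descends along flat algebras covering it. -/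
theorem fp_localized_of_baseChange {S S' N N' : Type u} [CommRing S] [CommRing S'] [Algebra S S']
    [Module.Flat S S'] [AddCommGroup N] [Module S N] [Module.Finite S N] [AddCommGroup N']
    [Module S' N'] [Module S N'] [IsScalarTower S S' N'] {f : N →ₗ[S] N'} (hf : IsBaseChange S' f)
    {T : Submonoid S} {T' : Submonoid S'}
    (hT : ∀ (P : Ideal S) [P.IsPrime], Disjoint (T : Set S) (P : Set S) →
      ∃ (P' : Ideal S'), P'.IsPrime ∧ Disjoint (T' : Set S') (P' : Set S') ∧
        P'.comap (algebraMap S S') = P)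
    (h : Module.FinitePresentation (Localization T') (LocalizedModule T' N')) :
    Module.FinitePresentation (Localization T) (LocalizedModule T N) := by
  obtain ⟨m, π, hπ⟩ := Module.Finite.exists_fin' S N
  rw [fp_localized_iff (hf.equiv.toLinearMap ∘ₗ π.baseChange S')
    (hf.equiv.surjective.comp (LinearMap.lTensor_surjective S' hπ)) T', kerFG_comp_equiv] at h
  exact (fp_localized_iff π hπ T).2 (kerFG_of_baseChange hπ hT h)

end Groth.Agent.FlatMorDevissage
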