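import Groth.Agent.FlatMorDevissage.Chain
import Groth.Agent.FlatMorDevissage.Elem
import Groth.Agent.FlatMorDevissage.FPTransfer

/-!
# Base change of a step along an etale algebra over its smooth ring
-/

set_option autoImplicit false
set_option backward.isDefEq.respectTransparency false

universe u

open TensorProduct Function

namespace Groth.Agent.FlatMorDevissage

open Groth.Agent

/-- Smoothness of an etale algebra over a base change. -/
theorem smoothRelDim_of_etale {R R' B B' : Type u} [CommRing R] [CommRing R'] [CommRing B]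
    [CommRing B'] [Algebra R R'] [Algebra.Etale R R'] [Algebra R B] [Algebra B B'] [Algebra.Etale B B']
    [Algebra R' B'] [Algebra R B'] [IsScalarTower R R' B'] [IsScalarTower R B B'] {n : ℕ}
    (h : FlatCA.SmoothRelDim n R B) : FlatCA.SmoothRelDim n R' B' := by
  let _ : Algebra B (R' ⊗[R] B) := Algebra.TensorProduct.rightAlgebra
  have : Algebra.Etale B (R' ⊗[R] B) :=
    Algebra.Etale.of_equiv (Algebra.TensorProduct.commRight R B R')
  let φ : R' ⊗[R] B →ₐ[R'] B' := Algebra.TensorProduct.lift (Algebra.ofId R' B')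
    (IsScalarTower.toAlgHom R B B') fun _ _ => .all _ _
  let _ := φ.toRingHom.toAlgebra
  have : IsScalarTower R' (R' ⊗[R] B) B' := .of_algebraMap_eq fun r => (φ.commutes r).symm
  have : IsScalarTower B (R' ⊗[R] B) B' := .of_algebraMap_eq fun b => by
    show algebraMap B B' b = φ ((1 : R') ⊗ₜ[R] b)
    rw [Algebra.TensorProduct.lift_tmul, map_one, one_mul]
    rfl
  have : Algebra.Etale (R' ⊗[R] B) B' := Algebra.Etale.of_restrictScalars B _ _
  exact smoothRelDim_comp_etale (smoothRelDim_baseChange h R')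

/-- A surjection onto a ring makes modules over it their own base change. -/
theorem isBaseChange_of_surjective {S A N M : Type u} [CommRing S] [CommRing A] [Algebra S A]
    [AddCommGroup N] [Module S N] [AddCommGroup M] [Module A M] [Module S M] [IsScalarTower S A M]
    (h : Surjective (algebraMap S A)) (e : N ≃ₗ[S] M) : IsBaseChange A e.toLinearMap := by
  have hker : RingHom.ker (algebraMap S A) ≤ Module.annihilator S N := fun a ha =>
    Module.mem_annihilator.2 fun n => e.injective (by
      rw [map_smul, ← algebraMap_smul A, RingHom.mem_ker.1 ha, zero_smul, map_zero])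
  let ψ : A ⊗[S] N →ₗ[A] M := LinearMap.liftBaseChange A e.toLinearMap
  have hψ : ∀ n, ψ ((1 : A) ⊗ₜ n) = e n := fun n => by simp [ψ]
  have hb : Bijective (ψ ∘ TensorProduct.mk S A N 1) := by
    rw [show (ψ ∘ TensorProduct.mk S A N 1) = e from funext hψ]
    exact e.bijective
  exact IsBaseChange.of_equiv (LinearEquiv.ofBijective ψ
    ((Function.Bijective.of_comp_iff ψ (bijective_mk_of_ker_le h N hker)).1 hb)) hψ

/-- The prime lift of the extension of the base prime. -/
theorem comap_map_eq_of_etale {R R' B B' : Type u} [CommRing R] [CommRing R'] [CommRing B]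
    [CommRing B'] [Algebra R R'] [Algebra.QuasiFinite R R'] [Algebra R B] [Algebra B B'] [Module.Flat B B']
    [Algebra R' B'] [Algebra R B'] [IsScalarTower R R' B'] [IsScalarTower R B B'] (p : Ideal R)
    [p.IsPrime] (p' : Ideal R') [p'.IsPrime] [p'.LiesOver p] [(p.map (algebraMap R B)).IsPrime]
    [(p'.map (algebraMap R' B')).IsPrime] (Q : Ideal B') [Q.IsPrime] [Q.LiesOver p'] :
    (p'.map (algebraMap R' B')).comap (algebraMap B B') = p.map (algebraMap R B) := by
  set ξ := p.map (algebraMap R B)
  set ξ' := p'.map (algebraMap R' B')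
  have hξ'Q : ξ' ≤ Q := Ideal.map_le_iff_le_comap.2 (Q.over_def p').le
  have hle : ξ ≤ ξ'.comap (algebraMap B B') := by
    rw [Ideal.map_le_iff_le_comap, Ideal.comap_comap, ← IsScalarTower.algebraMap_eq,
      IsScalarTower.algebraMap_eq R R' B', ← Ideal.comap_comap]
    exact (p'.over_def p).le.trans (Ideal.comap_mono Ideal.le_comap_map)
  have : ξ'.LiesOver (ξ'.comap (algebraMap B B')) := ⟨rfl⟩
  obtain ⟨P, hPle, hP, hPover⟩ := Ideal.exists_ideal_le_liesOver_of_le (p := ξ) ξ' hle
  have hpP : p' ≤ P.comap (algebraMap R' B') := by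
    have h1 : P.comap (algebraMap R' B') ≤ p' :=
      (Ideal.comap_mono (hPle.trans hξ'Q)).trans (Q.over_def p').ge
    refine (Algebra.QuasiFinite.eq_of_le_of_under_eq (R := R) _ _ h1 (le_antisymm
      (Ideal.comap_mono h1) ?_)).ge
    show p'.comap (algebraMap R R') ≤ (P.comap (algebraMap R' B')).comap (algebraMap R R')
    rw [Ideal.comap_comap, ← IsScalarTower.algebraMap_eq, IsScalarTower.algebraMap_eq R B B',
      ← Ideal.comap_comap]
    exact (p'.over_def p).ge.trans (Ideal.le_comap_map.trans (Ideal.comap_mono hPover.over.le))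
  exact (congrArg _ (le_antisymm (Ideal.map_le_iff_le_comap.2 hpP) hPle)).trans hPover.over.symm

/-- The step over a flat algebra over the smooth ring, smooth over a base change with finite fibres. -/
theorem Step.exists_map_of_flat {R : Type u} [CommRing R] {p : Ideal R} [p.IsPrime] {S : Type u} [CommRing S]
    [Algebra R S] {N : Type u} [AddCommGroup N] [Module S N] {q : Ideal S} (s : Step R p S N q)
    {R' : Type u} [CommRing R'] [Algebra R R'] (p' : Ideal R') [p'.IsPrime] [p'.LiesOver p]
    [Algebra.QuasiFinite R R']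
    (hp : Bijective (Ideal.ResidueField.mapₐ p p' (Algebra.ofId R R') (p'.over_def p)))
    (B' : Type u) [CommRing B'] [Algebra s.B B'] [Module.Flat s.B B'] [Algebra R' B'] [Algebra R B']
    [IsScalarTower R R' B'] [IsScalarTower R s.B B'] (hrd : FlatCA.SmoothRelDim s.d R' B') (hdom : FibresDomain R' B') (qB' : Ideal B')
    [qB'.IsPrime] [qB'.LiesOver s.qB] [qB'.LiesOver p']
    (hqB : Bijective (Ideal.ResidueField.mapₐ s.qB qB' (Algebra.ofId s.B B') (qB'.over_def s.qB)))
    (S' : Type u) [CommRing S'] [Algebra S S'] [Algebra R' S']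
    (σ : S' →+* B' ⊗[s.B] s.A) (hσS : ∀ a, σ (algebraMap S S' a) = 1 ⊗ₜ algebraMap S s.A a)
    (hσR : ∀ r, σ (algebraMap R' S' r) = algebraMap R' B' r ⊗ₜ 1) (hσ : Surjective σ)
    (hker : RingHom.ker σ = (RingHom.ker (algebraMap S s.A)).map (algebraMap S S'))
    (q' : Ideal S')
    (hq' : ∀ (Q : Ideal (B' ⊗[s.B] s.A)), Q.IsPrime →
      Q.comap (algebraMap B' (B' ⊗[s.B] s.A)) = qB' → Q.comap σ = q')
    (N' : Type u) [AddCommGroup N'] [Module S' N'] [Module S N'] [IsScalarTower S S' N']
    {f : N →ₗ[S] N'} (hf : IsBaseChange S' f) :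
    (Subsingleton (B' ⊗[s.B] (s.M ⧸ LinearMap.range s.α)) → Chain R' p' S' N' q') ∧
      (Chain R' p' B' (B' ⊗[s.B] (s.M ⧸ LinearMap.range s.α)) qB' → Chain R' p' S' N' q') := by
  let A' := B' ⊗[s.B] s.A
  let _ : Algebra s.A A' := Algebra.TensorProduct.rightAlgebra
  let _ : Algebra S' A' := σ.toAlgebra
  let _ : Algebra S A' := (σ.comp (algebraMap S S')).toAlgebra
  have : IsScalarTower S S' A' := .of_algebraMap_eq' rfl
  have : IsScalarTower S s.A A' := .of_algebraMap_eq fun a => hσS a
  have : IsScalarTower R' S' A' := .of_algebraMap_eq fun r => (hσR r).symm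
  have : Algebra.IsPushout s.B B' s.A A' := TensorProduct.isPushout
  have := s.finiteBA
  have := s.finiteM
  have := s.fpSA
  have := s.smooth
  let M' := A' ⊗[s.A] s.M
  let _ : Module S M' := Module.compHom M' (algebraMap S A')
  have : IsScalarTower S A' M' := .of_algebraMap_smul fun _ _ => rfl
  let μ₀ : s.M →ₗ[s.A] M' := TensorProduct.mk s.A A' s.M 1
  let μ : s.M →ₗ[s.B] M' := μ₀.restrictScalars s.B
  let e₀ : M' ≃ₗ[B'] B' ⊗[s.B] s.M := Algebra.IsPushout.cancelBaseChange s.B B' s.A A' s.M
  have he₀ : ∀ m, e₀ (μ m) = (1 : B') ⊗ₜ m := fun m =>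
    Algebra.IsPushout.cancelBaseChange_tmul s.B B' s.A A' s.M m
  have hμ : IsBaseChange B' μ := IsBaseChange.of_equiv e₀.symm fun m => by
    rw [← he₀, LinearEquiv.symm_apply_apply]
  let bas := Pi.basisFun B' (Fin s.r)
  let α' : (Fin s.r → B') →ₗ[B'] M' := bas.constr ℕ fun i => μ (s.α (Pi.single i 1))
  have hα' : ∀ i, α' (Pi.single i 1) = μ (s.α (Pi.single i 1)) := fun i => by
    rw [← Pi.basisFun_apply B' (Fin s.r) i]
    exact bas.constr_basis ℕ _ i
  have hsm' := smooth_of_smoothRelDim hrd
  have hξ' : (p'.map (algebraMap R' B')).IsPrime := isPrime_map_of_fibresDomain hdom p'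
  have : (p'.map (algebraMap R' B')).LiesOver (p.map (algebraMap R s.B)) :=
    ⟨(comap_map_eq_of_etale (B := s.B) p p' qB').symm⟩
  obtain ⟨qA', hqA', hover, -, huniq⟩ :=
    existsUnique_prime_pushout (A' := A') s.qB qB' hqB s.qA s.uniq
  have hfp : Algebra.FinitePresentation S' A' := by
    refine Algebra.FinitePresentation.of_surjective (f := Algebra.ofId S' A') hσ ?_
    show (RingHom.ker σ).FG
    rw [hker]
    exact (Algebra.FinitePresentation.ker_fG_of_surjective (Algebra.ofId S s.A) s.surjSA).map _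
  have hkerN : RingHom.ker (algebraMap S' A') ≤ Module.annihilator S' N' := by
    show RingHom.ker σ ≤ _
    rw [hker, ← hf.equiv.annihilator_eq]
    refine (Ideal.map_mono fun a ha => ?_).trans (FlatCrit.annihilator_map_le N)
    refine Module.mem_annihilator.2 fun n => s.isoN.injective ?_
    rw [map_smul, ← algebraMap_smul s.A, RingHom.mem_ker.1 ha, zero_smul, map_zero]
  let mkN : N' ≃ₗ[S'] A' ⊗[S'] N' := LinearEquiv.ofBijective (TensorProduct.mk S' A' N' 1)
    (bijective_mk_of_ker_le hσ N' hkerN)
  have h1 : IsBaseChange A' (((TensorProduct.mk S' A' N' 1).restrictScalars S) ∘ₗ f) :=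
    hf.comp (TensorProduct.isBaseChange S' N' A')
  have h2 : IsBaseChange A' ((μ₀.restrictScalars S) ∘ₗ s.isoN.toLinearMap) :=
    (isBaseChange_of_surjective s.surjSA s.isoN).comp (TensorProduct.isBaseChange s.A s.M A')
  let E : A' ⊗[S'] N' ≃ₗ[A'] M' := h1.equiv.symm.trans h2.equiv
  let _ : Module S' M' := Module.compHom M' (algebraMap S' A')
  have : IsScalarTower S' A' M' := .of_algebraMap_smul fun _ _ => rfl
  let st : Step R' p' S' N' q' :=
    { A := A', B := B', M := M', r := s.r, rpos := s.rpos, α := α', qA := qA', qB := qB'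
      surjSA := hσ
      fpSA := hfp
      finiteBA := inferInstance
      finiteM := inferInstance
      isoN := mkN.trans (E.restrictScalars S')
      d := s.d
      relDim := hrd
      dom := hdom
      fibreIso := bijective_baseChange_residueField hμ s.α α' hα' _ _ s.fibreIso
      pureTrans := purelyTranscendental_transfer p p' s.qB qB' hp hqB s.pureTrans
      uniq := huniq
      q0 := hq' qA' hqA' hover.over.symm }
  let g : M' →ₗ[B'] B' ⊗[s.B] (s.M ⧸ LinearMap.range s.α) :=
    (LinearMap.range s.α).mkQ.baseChange B' ∘ₗ e₀.toLinearMap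
  have hgs : Surjective g :=
    (LinearMap.lTensor_surjective B' (Submodule.mkQ_surjective _)).comp e₀.surjective
  have hgk : LinearMap.ker g = LinearMap.range α' := by
    rw [LinearMap.ker_comp, ker_baseChange _ (Submodule.mkQ_surjective _), Submodule.ker_mkQ,
      Module.Basis.constr_range]
    refine le_antisymm (fun w hw => ?_) (Submodule.span_le.2 ?_)
    · obtain ⟨v, hv⟩ := hw
      rw [← e₀.symm_apply_apply w, show e₀ w = _ from hv.symm]
      clear hv
      induction v using TensorProduct.induction_on with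
      | zero => simp
      | tmul b k =>
        obtain ⟨c, hc⟩ := k.2
        rw [LinearMap.baseChange_tmul, Submodule.subtype_apply, ← hc,
          show b ⊗ₜ[s.B] s.α c = b • ((1 : B') ⊗ₜ[s.B] s.α c) by
            rw [TensorProduct.smul_tmul', smul_eq_mul, mul_one],
          map_smul, ← he₀, LinearEquiv.symm_apply_apply]
        refine Submodule.smul_mem _ _ ?_
        rw [← Finset.univ_sum_single c, map_sum, map_sum]
        refine Submodule.sum_mem _ fun i _ => ?_
        rw [show (Pi.single i (c i) : Fin s.r → s.B) = c i • Pi.single i 1 by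
          rw [← Pi.single_smul', smul_eq_mul, mul_one], map_smul, map_smul,
          ← algebraMap_smul B' (c i)]
        exact Submodule.smul_mem _ _ (Submodule.subset_span ⟨i, rfl⟩)
      | add x y hx hy => rw [map_add, map_add]; exact add_mem hx hy
    · rintro _ ⟨i, rfl⟩
      exact ⟨(1 : B') ⊗ₜ ⟨_, LinearMap.mem_range_self _ _⟩, (he₀ _).symm⟩
  let cok : (M' ⧸ LinearMap.range α') ≃ₗ[B'] B' ⊗[s.B] (s.M ⧸ LinearMap.range s.α) :=
    (Submodule.quotEquivOfEq _ _ hgk.symm).trans (g.quotKerEquivOfSurjective hgs)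
  refine ⟨fun h => .last st ?_, fun h => .cons st (h.congr cok)⟩
  have : Subsingleton (M' ⧸ LinearMap.range α') := cok.toEquiv.subsingleton
  exact LinearMap.range_eq_top.1 (Submodule.Quotient.subsingleton_iff.1 this)

/-- The step over an etale algebra over the smooth ring. -/
theorem Step.exists_map {R : Type u} [CommRing R] {p : Ideal R} [p.IsPrime] {S : Type u} [CommRing S]
    [Algebra R S] {N : Type u} [AddCommGroup N] [Module S N] {q : Ideal S} (s : Step R p S N q)
    {R' : Type u} [CommRing R'] [Algebra R R'] (p' : Ideal R') [p'.IsPrime] [p'.LiesOver p]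
    [Algebra.Etale R R']
    (hp : Bijective (Ideal.ResidueField.mapₐ p p' (Algebra.ofId R R') (p'.over_def p)))
    (B' : Type u) [CommRing B'] [Algebra s.B B'] [Algebra.Etale s.B B'] [Algebra R' B'] [Algebra R B']
    [IsScalarTower R R' B'] [IsScalarTower R s.B B'] (hdom : FibresDomain R' B') (qB' : Ideal B')
    [qB'.IsPrime] [qB'.LiesOver s.qB] [qB'.LiesOver p']
    (hqB : Bijective (Ideal.ResidueField.mapₐ s.qB qB' (Algebra.ofId s.B B') (qB'.over_def s.qB)))
    (S' : Type u) [CommRing S'] [Algebra S S'] [Algebra R' S']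
    (σ : S' →+* B' ⊗[s.B] s.A) (hσS : ∀ a, σ (algebraMap S S' a) = 1 ⊗ₜ algebraMap S s.A a)
    (hσR : ∀ r, σ (algebraMap R' S' r) = algebraMap R' B' r ⊗ₜ 1) (hσ : Surjective σ)
    (hker : RingHom.ker σ = (RingHom.ker (algebraMap S s.A)).map (algebraMap S S'))
    (q' : Ideal S')
    (hq' : ∀ (Q : Ideal (B' ⊗[s.B] s.A)), Q.IsPrime →
      Q.comap (algebraMap B' (B' ⊗[s.B] s.A)) = qB' → Q.comap σ = q')
    (N' : Type u) [AddCommGroup N'] [Module S' N'] [Module S N'] [IsScalarTower S S' N']
    {f : N →ₗ[S] N'} (hf : IsBaseChange S' f) :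
    (Subsingleton (B' ⊗[s.B] (s.M ⧸ LinearMap.range s.α)) → Chain R' p' S' N' q') ∧
      (Chain R' p' B' (B' ⊗[s.B] (s.M ⧸ LinearMap.range s.α)) qB' → Chain R' p' S' N' q') := by
  exact s.exists_map_of_flat p' hp B'
    (smoothRelDim_of_etale (R := R) (R' := R') (B := s.B) (B' := B') s.relDim) hdom qB' hqB S' σ hσS hσR hσ
    hker q' hq' N' hf

end Groth.Agent.FlatMorDevissage
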