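import Groth.Agent.FlatMorDevissage.SmoothFree
import Groth.Agent.FlatMorLocalStr.SmoothFibres

/-!
# Integral fibres from the scheme-theoretic hypotheses
-/

set_option autoImplicit false
set_option backward.isDefEq.respectTransparency false

universe u

open AlgebraicGeometry CategoryTheory Limits TensorProduct

namespace Groth.Agent.FlatMorDevissage

variable {R D : Type u} [CommRing R] [CommRing D] [Algebra R D]

theorem isDomain_of_isIntegral_pullback (K : Type u) [Field K] [Algebra R K]
    (h : IsIntegral (pullback (Spec.map (CommRingCat.ofHom (algebraMap R K)))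
      (Spec.map (CommRingCat.ofHom (algebraMap R D))))) :
    IsDomain (K ⊗[R] D) := by
  have := h
  have : Nonempty ↥(Spec (CommRingCat.of (K ⊗[R] D))) :=
    ⟨(pullbackSpecIso R K D).hom (Classical.arbitrary _)⟩
  have : IsIntegral (Spec (CommRingCat.of (K ⊗[R] D))) :=
    isIntegral_of_isOpenImmersion (pullbackSpecIso R K D).inv
  exact (affine_isIntegral_iff (CommRingCat.of (K ⊗[R] D))).1 this

theorem fibresDomain_of_geomIntegral (h : FlatCA.GeomIntegralFibres R D) : FibresDomain R D := by
  intro K _ _
  refine isDomain_of_isIntegral_pullback K ?_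
  exact GeometricallyIntegral.geometrically_isIntegral _ _ _
    (IsPullback.of_hasPullback (Spec.map (CommRingCat.ofHom (algebraMap R K)))
      (Spec.map (CommRingCat.ofHom (algebraMap R D)))).flip

theorem fibresDomain_of_smooth_geomIrred [Algebra.Smooth R D] (h : FlatCA.GeomIrredFibres R D) :
    FibresDomain R D := by
  intro K _ _
  refine isDomain_of_isIntegral_pullback K ?_
  have : Smooth (Spec.map (CommRingCat.ofHom (algebraMap R D))) := by
    rw [HasRingHomProperty.Spec_iff (P := @Smooth)]
    exact RingHom.smooth_algebraMap.2 inferInstance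
  have : Smooth (pullback.fst (Spec.map (CommRingCat.ofHom (algebraMap R K)))
      (Spec.map (CommRingCat.ofHom (algebraMap R D)))) := inferInstance
  have := FlatMorLocalStr.isReduced_of_smooth_field (pullback.fst (Spec.map (CommRingCat.ofHom (algebraMap R K)))
      (Spec.map (CommRingCat.ofHom (algebraMap R D))))
  have : IrreducibleSpace ↥(pullback (Spec.map (CommRingCat.ofHom (algebraMap R K)))
      (Spec.map (CommRingCat.ofHom (algebraMap R D)))) :=
    GeometricallyIrreducible.geometrically_irreducibleSpace _ _ _
      (IsPullback.of_hasPullback (Spec.map (CommRingCat.ofHom (algebraMap R K)))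
        (Spec.map (CommRingCat.ofHom (algebraMap R D)))).flip
  exact isIntegral_of_irreducibleSpace_of_isReduced _

end Groth.Agent.FlatMorDevissage
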