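import Groth.Agent.FlatMorDevissage.SocleGlobal
import Groth.Agent.FlatMorDevissage.FPFlat
import Mathlib.RingTheory.Flat.TorsionFree
import Mathlib.RingTheory.Localization.BaseChange

/-!
# Maps from flat modules that are injective on every fibre are universally injective
-/

set_option autoImplicit false
set_option backward.isDefEq.respectTransparency false

universe u

open TensorProduct Function

namespace Groth.Agent.FlatMorDevissage

open Groth.Agent

attribute [local instance] Algebra.TensorProduct.rightAlgebra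

/-- Injectivity over a field passes to every vector space over it. -/
theorem injective_lTensor_of_field {R k V X Y : Type u} [CommRing R] [Field k] [Algebra R k]
    [AddCommGroup V] [Module k V] [Module R V] [IsScalarTower R k V] [AddCommGroup X] [Module R X]
    [AddCommGroup Y] [Module R Y] (u : X →ₗ[R] Y) (h : Injective (u.lTensor k)) :
    Injective (u.lTensor V) := by
  have hb : Injective (u.baseChange k) := h
  have hV := Module.Flat.lTensor_preserves_injective_linearMap (M := V) (u.baseChange k) hb
  let eX := TensorProduct.AlgebraTensorModule.cancelBaseChange R k k V X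
  let eY := TensorProduct.AlgebraTensorModule.cancelBaseChange R k k V Y
  have nat : ∀ z, eY ((u.baseChange k).lTensor V z) = u.lTensor V (eX z) := by
    intro z
    induction z using TensorProduct.induction_on with
    | zero => simp
    | add a b ha hb => simp only [map_add, ha, hb]
    | tmul a w =>
      induction w using TensorProduct.induction_on with
      | zero => simp
      | add b c hb hc => simp only [TensorProduct.tmul_add, map_add, hb, hc]
      | tmul c x => simp [eX, eY]
  intro a b hab
  obtain ⟨a, rfl⟩ := eX.surjective a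
  obtain ⟨b, rfl⟩ := eX.surjective b
  rw [← nat, ← nat] at hab
  exact congrArg eX (hV (eY.injective hab))

/-- Injectivity on a fibre passes to field extensions of the residue field. -/
theorem injective_lTensor_of_residueField {R K X Y : Type u} [CommRing R] [Field K] [Algebra R K]
    [AddCommGroup X] [Module R X] [AddCommGroup Y] [Module R Y] (u : X →ₗ[R] Y) (p : Ideal R)
    [p.IsPrime] (hp : RingHom.ker (algebraMap R K) = p) (h : Injective (u.lTensor p.ResidueField)) :
    Injective (u.lTensor K) := by
  let f : p.ResidueField →+* K := Ideal.ResidueField.lift p (algebraMap R K) hp.ge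
    fun r hr => Ne.isUnit fun h0 => hr (hp.le h0)
  let _ : Algebra p.ResidueField K := f.toAlgebra
  have : IsScalarTower R p.ResidueField K := .of_algebraMap_eq fun r =>
    (Ideal.ResidueField.lift_algebraMap p (algebraMap R K) hp.ge _ r).symm
  exact injective_lTensor_of_field u h

theorem mem_smul_top_iff_tmul {R : Type u} [CommRing R] {N : Type u} [AddCommGroup N] [Module R N]
    (J : Ideal R) (y : N) : y ∈ J • (⊤ : Submodule R N) ↔ (1 : R ⧸ J) ⊗ₜ[R] y = 0 := by
  rw [← Submodule.Quotient.mk_eq_zero, ← (TensorProduct.quotTensorEquivQuotSMul N J).map_eq_zero_iff,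
    show (1 : R ⧸ J) = Ideal.Quotient.mk J 1 from rfl,
    TensorProduct.quotTensorEquivQuotSMul_mk_tmul, one_smul]

variable {R : Type u} [CommRing R] {S : Type u} [CommRing S] [Algebra R S]

set_option maxHeartbeats 800000 in
/-- An element killed by `p` and by `u` dies at `p` if `u` is injective on the fibre at `p`. -/
theorem eq_zero_of_killed [Algebra.FinitePresentation R S] (N₀ : Type u) [AddCommGroup N₀]
    [Module S N₀] [Module R N₀] [IsScalarTower R S N₀] [Module.FinitePresentation S N₀]
    (T : Submonoid S)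
    (hflat : ∀ (q : Ideal S) [q.IsPrime], Disjoint (T : Set S) (q : Set S) → FlatCA.FlatAt R q N₀)
    {N : Type u} [AddCommGroup N] [Module S N] [Module R N] [IsScalarTower R S N]
    (φ : N₀ →ₗ[S] N) [IsLocalizedModule T φ] {M : Type u} [AddCommGroup M] [Module R M]
    [Module.Flat R M] (u : N →ₗ[R] M) (p : Ideal R) [p.IsPrime]
    (hu : Injective (u.lTensor p.ResidueField)) (x : N) (hpx : ∀ b ∈ p, b • x = 0) (hux : u x = 0) :
    ∃ s ∉ p, s • x = 0 := by
  obtain ⟨⟨x₀, t₀⟩, hx₀⟩ := IsLocalizedModule.mk'_surjective T φ x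
  simp only [Function.uncurry_apply_pair] at hx₀
  have hx : ∀ b ∈ p, ∃ t ∈ T, t • (algebraMap R S b • x₀) = 0 := fun b hb => by
    have h0 : φ (algebraMap R S b • x₀) = φ 0 := by
      rw [map_zero, map_smul, algebraMap_smul]
      have h1 : φ x₀ = (t₀ : S) • x := by
        rw [← hx₀, ← Submonoid.smul_def, IsLocalizedModule.mk'_cancel' φ]
      rw [h1, smul_comm, hpx b hb, smul_zero]
    obtain ⟨c, hc⟩ := IsLocalizedModule.exists_of_eq (S := T) h0
    rw [smul_zero] at hc
    exact ⟨c, c.2, hc⟩
  obtain ⟨H, _, _, m, _, hH⟩ := exists_pointHull p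
  obtain ⟨t, ht, htx⟩ := exists_socle N₀ T hflat p x₀ hx hH
  let Hb := H ⧸ (Submodule.annihilator m : Ideal H)
  let ψ : N₀ →ₗ[R] N :=
    { toFun := fun y => IsLocalizedModule.mk' φ y (⟨t, ht⟩ * t₀ : T)
      map_add' := fun a b => IsLocalizedModule.mk'_add φ a b _
      map_smul' := fun r a => by
        rw [RingHom.id_apply, ← algebraMap_smul S r a, ← algebraMap_smul S r (IsLocalizedModule.mk' φ a _),
          IsLocalizedModule.mk'_smul] }
  have hψ : ψ (t • x₀) = x := by
    show IsLocalizedModule.mk' φ (t • x₀) (⟨t, ht⟩ * t₀ : T) = x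
    rw [← hx₀]
    exact IsLocalizedModule.mk'_cancel_left (f := φ) x₀ (⟨t, ht⟩ : T) t₀
  have hxH : (1 : Hb) ⊗ₜ[R] x = 0 := by
    rw [← hψ, ← LinearMap.lTensor_tmul, htx, map_zero]
  let J : Submodule R H := (Submodule.annihilator m : Ideal H).restrictScalars R
  let π : H →ₗ[R] Hb := (Ideal.Quotient.mkₐ R (Submodule.annihilator m : Ideal H)).toLinearMap
  have hex : Function.Exact J.subtype π := LinearMap.exact_iff.2 (by
    ext y
    rw [LinearMap.mem_ker, Submodule.range_subtype]
    exact Ideal.Quotient.eq_zero_iff_mem)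
  obtain ⟨ξ, hξ⟩ := (rTensor_exact N hex Ideal.Quotient.mk_surjective ((1 : H) ⊗ₜ[R] x)).1 (by
    rw [LinearMap.rTensor_tmul]
    exact hxH)
  have hJ0 : J.subtype.rTensor M (u.lTensor J ξ) = 0 := by
    rw [show J.subtype.rTensor M (u.lTensor J ξ) = u.lTensor H (J.subtype.rTensor N ξ) from by
      rw [← LinearMap.comp_apply, ← LinearMap.comp_apply, LinearMap.lTensor_comp_rTensor,
        LinearMap.rTensor_comp_lTensor], hξ, LinearMap.lTensor_tmul, hux, TensorProduct.tmul_zero]
  have hξ0 : ξ = 0 := by
    have hinj : Injective (J.subtype.rTensor M) :=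
      Module.Flat.rTensor_preserves_injective_linearMap J.subtype Subtype.val_injective
    have h1 : u.lTensor J ξ = 0 := hinj (by rw [hJ0, map_zero])
    have := hH.isPrime
    have : m.IsMaximal := ⟨⟨hH.isPrime.ne_top, fun I hI => by
      obtain ⟨y, hyI, hym⟩ := Set.exists_of_ssubset hI
      exact Ideal.eq_top_of_isUnit_mem _ hyI (hH.le_jacobson y hym)⟩⟩
    let _ := Ideal.Quotient.field m
    have htor : Module.IsTorsionBySet H (Submodule.annihilator m : Ideal H) (m : Set H) := by
      rintro ⟨c, hc⟩ ⟨z, hz⟩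
      refine Subtype.ext ?_
      show z * c = 0
      rw [mul_comm]
      exact Submodule.mem_annihilator.1 hc z hz
    let _ : Module (H ⧸ m) J := htor.module
    have : IsScalarTower R (H ⧸ m) J := .of_algebraMap_smul fun r c => by
      refine Subtype.ext ?_
      show algebraMap R H r * (c : H) = r • (c : H)
      rw [Algebra.smul_def]
    have hk : Injective (u.lTensor (H ⧸ m)) := by
      refine injective_lTensor_of_residueField u p ?_ hu
      rw [hH.over.over]
      ext r
      exact Ideal.Quotient.eq_zero_iff_mem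
    exact injective_lTensor_of_field (k := H ⧸ m) u hk (by rw [h1, map_zero])
  have h1x : (1 : H) ⊗ₜ[R] x = 0 := by rw [← hξ, hξ0, map_zero]
  obtain ⟨s, hs, hsx⟩ := exists_smul_eq_zero_of_tmul m x hH.isPrime.one_notMem h1x
  exact ⟨s, fun h => hs (show s ∈ m.under R by rw [← hH.over.over]; exact h), hsx⟩

/-- A map from a flat localised finitely presented module to a flat module, injective on all
fibres, reflects membership in `J M`. -/
theorem reflects_of_fibres [Algebra.FinitePresentation R S] (N₀ : Type u) [AddCommGroup N₀]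
    [Module S N₀] [Module R N₀] [IsScalarTower R S N₀] [Module.FinitePresentation S N₀]
    (T : Submonoid S) {N : Type u} [AddCommGroup N] [Module S N] [Module R N] [IsScalarTower R S N]
    (φ : N₀ →ₗ[S] N) [IsLocalizedModule T φ] [Module.Flat R N] {M : Type u} [AddCommGroup M]
    [Module R M] [Module.Flat R M] (u : N →ₗ[R] M)
    (hu : ∀ (p : Ideal R) [p.IsPrime], Injective (u.lTensor p.ResidueField)) : Reflects u := by
  classical
  intro J₀ x hux
  by_contra hx0
  obtain ⟨I, hJI, hI⟩ := zorn_le_nonempty₀ {I : Ideal R | x ∉ I • (⊤ : Submodule R N)}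
    (fun c hc hchain y hy => ⟨sSup c, fun hmem => by
      rw [sSup_eq_iSup', Submodule.iSup_smul] at hmem
      have : Nonempty c := ⟨⟨y, hy⟩⟩
      have hdir : Directed (· ≤ ·) fun J : c => (J : Ideal R) • (⊤ : Submodule R N) :=
        fun a b => by
          rcases hchain.total a.2 b.2 with h | h
          · exact ⟨b, Submodule.smul_mono_left h, le_rfl⟩
          · exact ⟨a, le_rfl, Submodule.smul_mono_left h⟩
      obtain ⟨J, hJ⟩ := (Submodule.mem_iSup_of_directed _ hdir).1 hmem
      exact hc J.2 hJ, fun J hJ => le_sSup hJ⟩) J₀ hx0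
  let Rb := R ⧸ I
  let Sb := Rb ⊗[R] S
  let N₁ := Sb ⊗[S] N₀
  let N' := Sb ⊗[S] N
  let φ' : N₁ →ₗ[Sb] N' := φ.baseChange Sb
  have : IsLocalizedModule T (φ'.restrictScalars S) := by
    have h1 : IsLocalizedModule T
        ((TensorProduct.comm S N Sb).toLinearMap ∘ₗ AlgebraTensorModule.rTensor S Sb φ) :=
      IsLocalizedModule.of_linearEquiv T _ _
    have h2 : IsLocalizedModule T (((TensorProduct.comm S N Sb).toLinearMap ∘ₗ
        AlgebraTensorModule.rTensor S Sb φ) ∘ₗ (TensorProduct.comm S Sb N₀).toLinearMap) :=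
      IsLocalizedModule.of_linearEquiv_right T _ _
    convert h2 using 1
    ext a b
    rfl
  have : IsLocalizedModule (Algebra.algebraMapSubmonoid Sb T) φ' :=
    IsLocalizedModule.of_restrictScalars T φ'
  let c : N' ≃ₗ[Rb] Rb ⊗[R] N := Algebra.IsPushout.cancelBaseChange R Rb S Sb N
  have : Module.Flat Rb N' := Module.Flat.of_linearEquiv c
  let u' : N' →ₗ[Rb] Rb ⊗[R] M := u.baseChange Rb ∘ₗ c.toLinearMap
  let x' : N' := (1 : Sb) ⊗ₜ x
  have hcx : c x' = (1 : Rb) ⊗ₜ x := Algebra.IsPushout.cancelBaseChange_tmul ..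
  have hx' : x' ≠ 0 := fun h => hI.prop ((mem_smul_top_iff_tmul I x).2 (by rw [← hcx, h, map_zero]))
  have hu'x : u' x' = 0 := by
    show u.baseChange Rb (c x') = 0
    rw [hcx, LinearMap.baseChange_tmul]
    exact (mem_smul_top_iff_tmul I (u x)).1 (Submodule.smul_mono_left hJI hux)
  have hflat' : ∀ (q : Ideal Sb) [q.IsPrime],
      Disjoint (Algebra.algebraMapSubmonoid Sb T : Set Sb) (q : Set Sb) → FlatCA.FlatAt Rb q N₁ := by
    have : Module.Flat Rb (LocalizedModule (Algebra.algebraMapSubmonoid Sb T) N₁) :=
      Module.Flat.of_linearEquiv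
        ((IsLocalizedModule.iso (Algebra.algebraMapSubmonoid Sb T) φ').restrictScalars Rb)
    exact (flat_localized_iff _).1 this
  let p : Ideal Rb := CAlgH3.annEl Rb x'
  have hzd : ∀ b : Rb, b • x' ≠ 0 → b ∈ nonZeroDivisors Rb := fun b hb => by
    refine mem_nonZeroDivisors_iff_right.2 fun a hab => ?_
    by_contra ha
    obtain ⟨a', rfl⟩ := Ideal.Quotient.mk_surjective a
    have ha' : a' ∉ I := fun h => ha (Ideal.Quotient.eq_zero_iff_mem.2 h)
    have hmem : x ∈ (I ⊔ Ideal.span {a'}) • (⊤ : Submodule R N) := by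
      by_contra hmem
      exact ha' (hI.eq_of_ge hmem le_sup_left ▸ Ideal.mem_sup_right (Ideal.mem_span_singleton_self a'))
    rw [Submodule.sup_smul] at hmem
    obtain ⟨y, hy, z, hz, hyz⟩ := Submodule.mem_sup.1 hmem
    rw [Submodule.ideal_span_singleton_smul] at hz
    obtain ⟨w, -, rfl⟩ := (Submodule.mem_smul_pointwise_iff_exists _ _ _).1 hz
    refine hb (c.injective ?_)
    rw [map_smul, hcx, map_zero, ← hyz, TensorProduct.tmul_add, (mem_smul_top_iff_tmul I y).1 hy, zero_add,
      ← TensorProduct.smul_tmul, TensorProduct.smul_tmul', smul_eq_mul, Algebra.smul_def, mul_one,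
      Ideal.Quotient.algebraMap_eq, mul_comm, hab, TensorProduct.zero_tmul]
  have : p.IsPrime := ⟨fun h => hx' (CAlgH3.annEl_eq_top.1 h), fun {a b} hab => by
    by_contra! h
    rw [CAlgH3.mem_annEl, mul_smul] at hab
    rw [CAlgH3.mem_annEl, CAlgH3.mem_annEl] at h
    exact h.2 ((Module.Flat.isSMulRegular_of_nonZeroDivisors (M := N') (hzd a h.1))
      (hab.trans (smul_zero a).symm))⟩
  have hu' : Injective (u'.lTensor p.ResidueField) := by
    have h1 : Injective ((u.baseChange Rb).lTensor p.ResidueField) := by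
      refine injective_lTensor_baseChange u ?_
      have := RingHom.ker_isPrime (algebraMap R p.ResidueField)
      exact injective_lTensor_of_residueField u (RingHom.ker (algebraMap R p.ResidueField)) rfl (hu _)
    rw [LinearMap.lTensor_comp, LinearMap.coe_comp]
    exact h1.comp (LinearEquiv.lTensor p.ResidueField c).injective
  obtain ⟨s, hs, hsx⟩ := eq_zero_of_killed (R := Rb) (S := Sb) N₁
    (Algebra.algebraMapSubmonoid Sb T) hflat' φ' u' p hu' x' (fun b hb => CAlgH3.mem_annEl.1 hb) hu'x
  exact hs (CAlgH3.mem_annEl.2 hsx)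

/-- A map from a flat localised finitely presented module to a flat module, injective on all
fibres, is universally injective. -/
theorem univInj_of_fibres [Algebra.FinitePresentation R S] (N₀ : Type u) [AddCommGroup N₀]
    [Module S N₀] [Module R N₀] [IsScalarTower R S N₀] [Module.FinitePresentation S N₀]
    (T : Submonoid S) {N : Type u} [AddCommGroup N] [Module S N] [Module R N] [IsScalarTower R S N]
    (φ : N₀ →ₗ[S] N) [IsLocalizedModule T φ] [Module.Flat R N] {M : Type u} [AddCommGroup M]
    [Module R M] [Module.Flat R M] (u : N →ₗ[R] M)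
    (hu : ∀ (p : Ideal R) [p.IsPrime], Injective (u.lTensor p.ResidueField)) :
    FlatCA.UnivInj R u :=
  (reflects_of_fibres N₀ T φ u hu).univInj

end Groth.Agent.FlatMorDevissage
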