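import Groth.Agent.FlatMorDevissage.Reflect
import Groth.Agent.FlatMorDevissage.FibreInjective
import Mathlib.RingTheory.Nakayama
import Mathlib.Algebra.Module.Projective

/-!
# Content ideals, and injectivity modulo maximal ideals
-/

set_option autoImplicit false
set_option backward.isDefEq.respectTransparency false

universe u

open TensorProduct Function

namespace Groth.Agent.FlatMorDevissage

variable {R : Type u} [CommRing R]

/-- An element of a projective module has a content ideal. -/
theorem exists_content_of_projective {N : Type u} [AddCommGroup N] [Module R N]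
    [Module.Projective R N] (x : N) : ∃ I : Ideal R, x ∈ I • (⊤ : Submodule R N) ∧
      ∀ J : Ideal R, x ∈ J • (⊤ : Submodule R N) → I ≤ J := by
  obtain ⟨s, hs⟩ := Module.projective_def.1 ‹Module.Projective R N›
  refine ⟨Ideal.span (Set.range (s x)), ?_, fun J hJ => Ideal.span_le.2 ?_⟩
  · refine (congrArg (· ∈ _) (hs x)).mp ?_
    rw [Finsupp.linearCombination_apply]
    exact Submodule.sum_mem _ fun i _ =>
      Submodule.smul_mem_smul (Ideal.subset_span ⟨i, rfl⟩) trivial
  · rintro _ ⟨i, rfl⟩
    have h := (Submodule.map_smul'' J ⊤ (Finsupp.lapply i ∘ₗ s)).trans_le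
      (Submodule.smul_mono le_rfl le_top) (Submodule.mem_map_of_mem hJ)
    rwa [Ideal.smul_eq_mul, Ideal.mul_top] at h

/-- One step of reflection: ideals `K ⊇ I` with `m K ⊆ I`. -/
theorem mem_smul_top_of_injective_residue {N M : Type u} [AddCommGroup N] [Module R N]
    [AddCommGroup M] [Module R M] [Module.Flat R M] (u : N →ₗ[R] M) (m : Ideal R) [m.IsMaximal]
    (hu : Injective (u.lTensor (R ⧸ m))) (K I : Ideal R) (hKI : m * K ≤ I) (x : N)
    (hx : x ∈ K • (⊤ : Submodule R N)) (hux : u x ∈ I • (⊤ : Submodule R M)) :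
    x ∈ I • (⊤ : Submodule R N) := by
  let V : Submodule R (R ⧸ I) := Submodule.map (Submodule.mkQ I) K
  have htors : Module.IsTorsionBySet R V m := by
    rintro ⟨v, hv⟩ ⟨a, ha⟩
    obtain ⟨k, hk, rfl⟩ := Submodule.mem_map.1 hv
    refine Subtype.ext ?_
    show a • Submodule.mkQ I k = 0
    rw [← map_smul, Submodule.mkQ_apply, Submodule.Quotient.mk_eq_zero]
    exact hKI (Ideal.mul_mem_mul ha hk)
  let _ := Ideal.Quotient.field m
  let _ : Module (R ⧸ m) V := htors.module
  have hV : Injective (u.lTensor V) := injective_lTensor_of_field u hu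
  have hVM : Injective (V.subtype.rTensor M) :=
    Module.Flat.rTensor_preserves_injective_linearMap _ V.subtype_injective
  obtain ⟨v, hv⟩ : ∃ v : V ⊗[R] N, V.subtype.rTensor N v = (1 : R ⧸ I) ⊗ₜ x := by
    refine Submodule.smul_induction_on hx (fun a ha n _ => ?_) (fun a b ha hb => ?_)
    · refine ⟨⟨Submodule.mkQ I a, Submodule.mem_map_of_mem ha⟩ ⊗ₜ n, ?_⟩
      rw [LinearMap.rTensor_tmul, ← TensorProduct.smul_tmul]
      exact congrArg (· ⊗ₜ[R] n) (Algebra.algebraMap_eq_smul_one (A := R ⧸ I) a)
    · obtain ⟨v, hv⟩ := ha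
      obtain ⟨w, hw⟩ := hb
      exact ⟨v + w, by rw [map_add, hv, hw, TensorProduct.tmul_add]⟩
  have hv0 : v = 0 := by
    refine hV (hVM ?_)
    rw [← LinearMap.comp_apply (V.subtype.rTensor M), LinearMap.rTensor_comp_lTensor,
      ← LinearMap.lTensor_comp_rTensor, LinearMap.comp_apply, hv, LinearMap.lTensor_tmul,
      map_zero, map_zero]
    exact (mem_smul_top_iff_tmul I (u x)).1 hux
  rw [mem_smul_top_iff_tmul, ← hv, hv0, map_zero]

/-- A map from a module with contents to a flat module, injective modulo every maximal ideal,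
reflects every ideal. -/
theorem reflects_of_content {N M : Type u} [AddCommGroup N] [Module R N] [AddCommGroup M]
    [Module R M] [Module.Flat R M] (u : N →ₗ[R] M)
    (hc : ∀ x : N, ∃ I : Ideal R, x ∈ I • (⊤ : Submodule R N) ∧
      ∀ J : Ideal R, x ∈ J • (⊤ : Submodule R N) → I ≤ J)
    (hu : ∀ (m : Ideal R) [m.IsMaximal], Injective (u.lTensor (R ⧸ m))) : Reflects u := by
  intro J x hux
  obtain ⟨c, hxc, hmin⟩ := hc x
  have hfg : c.FG := by
    obtain ⟨c', hc', hc'fg, hx'⟩ : ∃ c' ≤ c, c'.FG ∧ x ∈ c' • (⊤ : Submodule R N) := by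
      refine Submodule.smul_induction_on hxc (fun a ha n _ => ?_) (fun a b ha hb => ?_)
      · exact ⟨Ideal.span {a}, (Ideal.span_singleton_le_iff_mem _).2 ha,
          Submodule.fg_span_singleton a,
          Submodule.smul_mem_smul (Ideal.mem_span_singleton_self a) trivial⟩
      · obtain ⟨c₁, h₁, f₁, m₁⟩ := ha
        obtain ⟨c₂, h₂, f₂, m₂⟩ := hb
        exact ⟨c₁ ⊔ c₂, sup_le h₁ h₂, Submodule.FG.sup f₁ f₂, add_mem
          (Submodule.smul_mono_left le_sup_left m₁) (Submodule.smul_mono_left le_sup_right m₂)⟩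
    rwa [← le_antisymm hc' (hmin c' hx')]
  suffices c ≤ J from Submodule.smul_mono_left this hxc
  by_contra hcJ
  have hann : J.colon (c : Set R) ≠ ⊤ := fun h => hcJ fun a ha => by
    have := Submodule.mem_colon.1 ((Ideal.eq_top_iff_one _).1 h) a ha
    rwa [one_smul] at this
  obtain ⟨m, hm, hcm⟩ := Ideal.exists_le_maximal _ hann
  have hlt : ¬ c ≤ m * c ⊔ J := fun h => by
    obtain ⟨r, hr1, hr⟩ := Submodule.exists_sub_one_mem_and_smul_eq_zero_of_fg_of_le_smul m
      (Submodule.map (Submodule.mkQ J) c) (Submodule.FG.map _ hfg) (by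
        refine (Submodule.map_mono h).trans ?_
        rw [Submodule.map_sup, ← Ideal.smul_eq_mul, Submodule.map_smul'']
        refine sup_le le_rfl ?_
        rw [Submodule.map_le_iff_le_comap]
        intro a ha
        rw [Submodule.mem_comap, Submodule.mkQ_apply, (Submodule.Quotient.mk_eq_zero J).2 ha]
        exact zero_mem _)
    have hrm : r ∈ m := hcm <| Submodule.mem_colon.2 fun a ha => by
      have := hr _ (Submodule.mem_map_of_mem (f := Submodule.mkQ J) ha)
      rwa [← map_smul, Submodule.mkQ_apply, Submodule.Quotient.mk_eq_zero] at this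
    exact hm.ne_top ((Ideal.eq_top_iff_one m).2 (by simpa using sub_mem hrm hr1))
  exact hlt (hmin _ (mem_smul_top_of_injective_residue u m (hu m) c (m * c ⊔ J) le_sup_left x hxc
    (Submodule.smul_mono_left le_sup_right hux)))

end Groth.Agent.FlatMorDevissage
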