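import Groth.Agent.FlatMorDevissage.LocalModel
import Groth.Agent.FlatMorDevissage.FibreInjective
import Groth.Agent.FlatMorDevissage.Content
import Groth.Agent.HenselLib.ValRingWEt
import Groth.Prelude.Def_Found

/-!
# Content ideals over valuation rings; Mittag-Leffler over henselian rings
-/

set_option autoImplicit false
set_option backward.isDefEq.respectTransparency false

universe u

open TensorProduct Function IsLocalRing

namespace Groth.Agent.FlatMorDevissage

open Groth.Agent

set_option maxHeartbeats 1600000 in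
/-- A flat finite module over an essentially finite type local algebra embeds universally injectively
into a flat union of free modules over an etale local extension of the base. -/
theorem exists_locFree_embedding {A B : Type u} [CommRing A] [IsLocalRing A] [CommRing B]
    [IsLocalRing B] [Algebra A B] [IsLocalHom (algebraMap A B)] [Algebra.EssFiniteType A B]
    (N : Type u) [AddCommGroup N] [Module B N] [Module A N] [IsScalarTower A B N] [Module.Finite B N]
    [Module.Flat A N] :
    ∃ (C X : Type u) (_ : CommRing C) (_ : IsLocalRing C) (_ : Algebra A C) (_ : AddCommGroup X)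
      (_ : Module C X) (_ : Module A X) (_ : IsScalarTower A C X) (ι : N →ₗ[A] X),
      Algebra.WeaklyEtale A C ∧ Module.FaithfullyFlat A C ∧ Module.Flat C X ∧
      (∀ [HenselianLocalRing A], Bijective (algebraMap A C)) ∧
      FlatCA.UnivInj A ι ∧ LocFree C X := by
  obtain ⟨P, _, _, _, _, hfpP, hP⟩ := exists_polynomial_model (A := A) (B := B)
  let _ : Module P N := Module.compHom N (algebraMap P B)
  have : IsScalarTower P B N := .of_algebraMap_smul fun _ _ => rfl
  have : IsScalarTower A P N := isScalarTower_of_top A P B N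
  let q := (maximalIdeal B).comap (algebraMap P B)
  have : q.LiesOver (maximalIdeal A) := ⟨by
    rw [Ideal.under, Ideal.comap_comap, ← IsScalarTower.algebraMap_eq]
    exact Eq.symm (((local_hom_TFAE (algebraMap A B)).out 0 4).1 ‹IsLocalHom (algebraMap A B)›)⟩
  obtain ⟨N₀, _, hloc⟩ := exists_finite_model (N := N) hP
  obtain ⟨C, L, _, _, _, _, _, _, _, _, _, _, _, hflC, hwet, hm, hbij, hq, hfree, hflat⟩ :=
    exists_locFree_model (A := A) q N₀.subtype
  have : IsLocalHom (algebraMap A C) := ((local_hom_TFAE (algebraMap A C)).out 0 2).2 hm.le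
  have hff : Module.FaithfullyFlat A C := Module.FaithfullyFlat.of_flat_of_isLocalHom
  let ι : N →ₗ[A] L ⊗[P] N := (TensorProduct.mk P L N 1).restrictScalars A
  refine ⟨C, L ⊗[P] N, inferInstance, inferInstance, inferInstance, inferInstance, inferInstance,
    inferInstance, inferInstance, ι, hwet, hff, hflat, hbij, fun Q _ _ => ?_, hfree⟩
  rw [LinearMap.lTensor_inj_iff_rTensor_inj, injective_iff_map_eq_zero]
  intro z hz
  have hX : ∀ c ∉ q, ∀ x : N ⊗[A] Q, c • x = 0 → x = 0 := fun c hc x hx => by
    obtain ⟨v, hv⟩ := of_not_not fun h : ¬ IsUnit (algebraMap P B c) => hc ((mem_maximalIdeal _).2 h)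
    rw [← algebraMap_smul B c x, ← hv] at hx
    exact v.isUnit.smul_eq_zero.1 hx
  have hnat : ∀ x : N ⊗[A] Q,
      AlgebraTensorModule.assoc A P P L N Q (ι.rTensor Q x) = (1 : L) ⊗ₜ[P] x := fun x => by
    induction x using TensorProduct.induction_on with
    | zero => simp
    | tmul n w => rfl
    | add x y hx hy => simp only [map_add, tmul_add, hx, hy]
  exact eq_zero_of_one_tmul (L := L) q hq hX z (by rw [← hnat, hz, map_zero])

theorem mem_smul_top_of_univInj {A N X : Type u} [CommRing A] [AddCommGroup N] [Module A N]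
    [AddCommGroup X] [Module A X] {ι : N →ₗ[A] X} (hι : FlatCA.UnivInj A ι) (J : Ideal A) (x : N)
    (h : ι x ∈ J • (⊤ : Submodule A X)) : x ∈ J • (⊤ : Submodule A N) := by
  rw [mem_smul_top_iff_tmul] at h ⊢
  exact hι (A ⧸ J) (((LinearMap.lTensor_tmul _ ι 1 x).trans h).trans (map_zero _).symm)

/-- **Content ideals over a valuation ring are principal.** -/
theorem exists_principal_content {A B : Type u} [CommRing A] [IsDomain A] [ValuationRing A]
    [CommRing B] [IsLocalRing B] [Algebra A B] [IsLocalHom (algebraMap A B)]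
    [Algebra.EssFiniteType A B] (N : Type u) [AddCommGroup N] [Module B N] [Module A N]
    [IsScalarTower A B N] [Module.Finite B N] [Module.Flat A N] (x : N) :
    ∃ I : Ideal A, I.IsPrincipal ∧ x ∈ I • (⊤ : Submodule A N) ∧
      ∀ J : Ideal A, x ∈ J • (⊤ : Submodule A N) → I ≤ J := by
  obtain ⟨C, X, _, _, _, _, _, _, _, ι, hwet, hff, hflat, -, hι, hfree⟩ :=
    exists_locFree_embedding (A := A) (B := B) N
  obtain ⟨hdC, hvC⟩ := HenselLib.ValRingWEt.valuationRing A C
  obtain ⟨F, _, _, _, φ, hφ, hxφ⟩ := hfree 1 fun _ => ι x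
  obtain ⟨f, hf⟩ := hxφ 0
  have hr : Reflects φ := reflects_of_free φ ((modInj_iff φ).1 hφ)
  obtain ⟨I', hfI', hI'min⟩ := exists_content_of_projective (R := C) f
  obtain ⟨c, hc⟩ : ∃ c : C, I' = Ideal.span {c} := by
    obtain ⟨I₁, hI₁le, hI₁, hfI₁⟩ : ∃ I₁ ≤ I', I₁.FG ∧ f ∈ I₁ • (⊤ : Submodule C F) := by
      refine Submodule.smul_induction_on hfI' (fun a ha n _ => ?_) (fun a b ha hb => ?_)
      · exact ⟨Ideal.span {a}, (Ideal.span_singleton_le_iff_mem _).2 ha,
          Submodule.fg_span_singleton a,
          Submodule.smul_mem_smul (Ideal.mem_span_singleton_self a) Submodule.mem_top⟩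
      · obtain ⟨c₁, h₁, f₁, m₁⟩ := ha
        obtain ⟨c₂, h₂, f₂, m₂⟩ := hb
        exact ⟨c₁ ⊔ c₂, sup_le h₁ h₂, Submodule.FG.sup f₁ f₂, add_mem
          (Submodule.smul_mono_left le_sup_left m₁) (Submodule.smul_mono_left le_sup_right m₂)⟩
    have heq : I' = I₁ := le_antisymm (hI'min _ hfI₁) hI₁le
    have : I'.IsPrincipal := IsBezout.isPrincipal_of_FG I' (heq ▸ hI₁)
    exact ⟨this.generator, (Ideal.span_singleton_generator I').symm⟩
  obtain ⟨a, ha⟩ : ∃ a : A, Ideal.span {c} = (Ideal.span {a}).map (algebraMap A C) := by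
    by_cases hc0 : c = 0
    · exact ⟨0, by simp [hc0]⟩
    · obtain ⟨a, v, hv⟩ := HenselLib.ValRingWEt.exists_eq_unit_mul A C c hc0
      refine ⟨a, ?_⟩
      rw [Ideal.map_span, Set.image_singleton, Ideal.span_singleton_eq_span_singleton]
      exact ⟨v⁻¹, by rw [hv, mul_comm ((v : C)) (algebraMap A C a), mul_assoc, Units.mul_inv, mul_one]⟩
  have hmap : ∀ (J : Ideal A) (z : X), z ∈ J • (⊤ : Submodule A X) ↔
      z ∈ J.map (algebraMap A C) • (⊤ : Submodule C X) := fun J z => by
    rw [← Submodule.restrictScalars_mem A (J.map (algebraMap A C) • (⊤ : Submodule C X)),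
      Ideal.smul_restrictScalars, Submodule.restrictScalars_top]
  refine ⟨Ideal.span {a}, ⟨a, rfl⟩, mem_smul_top_of_univInj hι _ x ((hmap _ _).2 ?_), fun J hJ => ?_⟩
  · rw [← ha, ← hc, ← hf]
    exact (Submodule.map_smul'' I' ⊤ φ).trans_le (Submodule.smul_mono le_rfl le_top)
      (Submodule.mem_map_of_mem hfI')
  · have h1 : ι x ∈ J.map (algebraMap A C) • (⊤ : Submodule C X) := (hmap J _).1
      ((Submodule.map_smul'' J ⊤ ι).trans_le (Submodule.smul_mono le_rfl le_top)
        (Submodule.mem_map_of_mem hJ))
    rw [← hf] at h1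
    have h2 := hI'min _ (hr _ f h1)
    rw [hc, ha] at h2
    have h3 := Ideal.comap_mono (f := algebraMap A C) h2
    rwa [Ideal.comap_map_eq_self_of_faithfullyFlat, Ideal.comap_map_eq_self_of_faithfullyFlat] at h3

/-- Free modules are Mittag-Leffler. -/
theorem piRightHom_injective_of_free {C F : Type u} [CommRing C] [AddCommGroup F] [Module C F]
    [Module.Free C F] {κ : Type u} (Q : κ → Type u) [∀ i, AddCommGroup (Q i)] [∀ i, Module C (Q i)] :
    Injective (TensorProduct.piRightHom C C F Q) := by
  classical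
  let b := Module.Free.chooseBasis C F
  let e := fun (W : Type u) [AddCommGroup W] [Module C W] =>
    (b.repr.rTensor W).trans (TensorProduct.finsuppScalarLeft C W (Module.Free.ChooseBasisIndex C F))
  rw [injective_iff_map_eq_zero]
  intro w hw
  have hnat : ∀ (z : F ⊗[C] ∀ i, Q i) j i,
      (e (∀ i, Q i) z) j i = e (Q i) (TensorProduct.piRightHom C C F Q z i) j := fun z j i => by
    induction z using TensorProduct.induction_on with
    | zero => simp
    | tmul f g => simp [e]
    | add x y hx hy => simp [map_add, hx, hy]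
  apply (e (∀ i, Q i)).injective
  rw [map_zero]
  ext j i
  rw [hnat, hw]
  simp

/-- **Mittag-Leffler over a henselian base.** -/
theorem isMittagLeffler_of_henselian {A B : Type u} [CommRing A] [HenselianLocalRing A]
    [CommRing B] [IsLocalRing B] [Algebra A B] [IsLocalHom (algebraMap A B)]
    [Algebra.EssFiniteType A B] (N : Type u) [AddCommGroup N] [Module B N] [Module A N]
    [IsScalarTower A B N] [Module.Finite B N] [Module.Flat A N] : CAlg.IsMittagLeffler A N := by
  classical
  obtain ⟨C, X, _, _, _, _, _, _, _, ι, hwet, hff, hflat, hbij, hι, hfree⟩ :=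
    exists_locFree_embedding (A := A) (B := B) N
  intro κ Q _ _
  have hbij := @hbij ‹_›
  let eAC := RingEquiv.ofBijective (algebraMap A C) hbij
  let QC : κ → Type u := Q
  let _ : ∀ i, Module C (Q i) := fun i => Module.compHom (Q i) (eAC.symm.toRingHom)
  have : ∀ i, IsScalarTower A C (Q i) := fun i => .of_algebraMap_smul fun r y => by
    show eAC.symm (algebraMap A C r) • y = r • y
    rw [show algebraMap A C r = eAC r from rfl, RingEquiv.symm_apply_apply]
  have hsurj : ∀ c : C, ∃ a : A, algebraMap A C a = c := hbij.2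
  rw [injective_iff_map_eq_zero]
  intro z hz
  let can : X ⊗[A] (∀ i, Q i) →ₗ[A] X ⊗[C] (∀ i, Q i) :=
    TensorProduct.lift (LinearMap.mk₂ A (fun x y => x ⊗ₜ[C] y)
      (fun x x' y => add_tmul x x' y) (fun a x y => (smul_tmul' a x y).symm)
      (fun x y y' => tmul_add x y y') (fun a x y => tmul_smul a x y))
  have hcan : Injective can := by
    have : CompatibleSMul A C X (∀ i, Q i) := ⟨fun c x y => by
      obtain ⟨a, rfl⟩ := hsurj c
      rw [algebraMap_smul, smul_tmul, ← algebraMap_smul C a y]⟩
    let inv : X ⊗[C] (∀ i, Q i) →+ X ⊗[A] (∀ i, Q i) := TensorProduct.liftAddHom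
      { toFun := fun x => (TensorProduct.mk A X (∀ i, Q i) x).toAddMonoidHom
        map_zero' := by ext; simp
        map_add' := fun x x' => by ext; simp [add_tmul] }
      fun c x y => CompatibleSMul.smul_tmul c x y
    refine HasLeftInverse.injective ⟨inv, fun w => ?_⟩
    induction w using TensorProduct.induction_on with
    | zero => simp
    | tmul x y => rfl
    | add v w hv hw => simp only [map_add, hv, hw]
  have h1 : can (ι.rTensor _ z) = 0 := by
    obtain ⟨k, x, y, hxy⟩ := TensorProduct.exists_sum_tmul_eq (can (ι.rTensor _ z))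
    obtain ⟨F, _, _, _, φ, hφ, hx⟩ := hfree k x
    choose f hf using hx
    let w : F ⊗[C] (∀ i, Q i) := ∑ i, f i ⊗ₜ y i
    have hw : φ.rTensor _ w = can (ι.rTensor _ z) := by
      simp [w, map_sum, hf, hxy]
    have hr : Reflects φ := reflects_of_free φ ((modInj_iff φ).1 hφ)
    have hpi : ∀ (v : N ⊗[A] ∀ i, Q i) i, TensorProduct.piRightHom C C X Q (can (ι.rTensor _ v)) i =
        (TensorProduct.lift (LinearMap.mk₂ A (fun x y => x ⊗ₜ[C] y)
          (fun x x' y => add_tmul x x' y) (fun a x y => (smul_tmul' a x y).symm)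
          (fun x y y' => tmul_add x y y') (fun a x y => tmul_smul a x y)) : X ⊗[A] Q i →ₗ[A] X ⊗[C] Q i)
          (ι.rTensor (Q i) (TensorProduct.piRightHom A A N Q v i)) := fun v i => by
      induction v using TensorProduct.induction_on with
      | zero => simp
      | tmul n g => simp [can]
      | add v w hv hw => simp only [map_add, Pi.add_apply, hv, hw]
    have hnat : ∀ (v : F ⊗[C] ∀ i, Q i) i,
        φ.rTensor (Q i) (TensorProduct.piRightHom C C F Q v i) =
          TensorProduct.piRightHom C C X Q (φ.rTensor _ v) i := fun v i => by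
      induction v using TensorProduct.induction_on with
      | zero => simp
      | tmul n g => simp
      | add v w hv hw => simp only [map_add, Pi.add_apply, hv, hw]
    have hw0 : w = 0 := piRightHom_injective_of_free Q (funext fun i => by
      rw [map_zero, Pi.zero_apply]
      refine (LinearMap.lTensor_inj_iff_rTensor_inj _ _).1 (hr.univInj (Q i)) ?_
      rw [hnat, hw, hpi, hz, Pi.zero_apply, map_zero, map_zero, map_zero])
    rw [← hw, hw0, map_zero]
  exact (LinearMap.lTensor_inj_iff_rTensor_inj _ _).1 (hι _)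
    ((hcan (h1.trans (map_zero can).symm)).trans (map_zero _).symm)

end Groth.Agent.FlatMorDevissage
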