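import Groth.Agent.FlatMorDevissage.Fibres
import Groth.Agent.BertiniLib.RelDim
import Mathlib.RingTheory.Etale.Basic
import Mathlib.AlgebraicGeometry.Morphisms.Etale

/-!
# Transporting the data of a step of a dévissage
-/

set_option autoImplicit false
set_option backward.isDefEq.respectTransparency false

universe u

open TensorProduct AlgebraicGeometry CategoryTheory Limits Function

namespace Groth.Agent.FlatMorDevissage

open Groth.Agent

/-- Purely transcendental residue extensions transfer along bijective residue maps. -/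
theorem purelyTranscendental_transfer {R R' B B' : Type u} [CommRing R] [CommRing R'] [CommRing B]
    [CommRing B'] [Algebra R B] [Algebra R' B'] [Algebra R R'] [Algebra B B'] [Algebra R B']
    [IsScalarTower R R' B'] [IsScalarTower R B B']
    (p : Ideal R) [p.IsPrime] (p' : Ideal R') [p'.IsPrime] [p'.LiesOver p]
    (qB : Ideal B) [qB.IsPrime] [qB.LiesOver p] (qB' : Ideal B') [qB'.IsPrime] [qB'.LiesOver qB]
    [qB'.LiesOver p']
    (hp : Bijective (Ideal.ResidueField.mapₐ p p' (Algebra.ofId R R') (p'.over_def p)))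
    (hq : Bijective (Ideal.ResidueField.mapₐ qB qB' (Algebra.ofId B B') (qB'.over_def qB)))
    (h : FlatCA.PurelyTranscendental p qB) : FlatCA.PurelyTranscendental p' qB' := by
  let e₀ := RingEquiv.ofBijective (Ideal.ResidueField.mapₐ p p' (Algebra.ofId R R') (p'.over_def p)) hp
  let e₁ := RingEquiv.ofBijective
    (Ideal.ResidueField.mapₐ qB qB' (Algebra.ofId B B') (qB'.over_def qB)) hq
  let _ : Algebra p.ResidueField qB.ResidueField :=
    (Ideal.ResidueField.mapₐ p qB (Algebra.ofId R B) (qB.over_def p)).toRingHom.toAlgebra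
  let _ : Algebra p'.ResidueField qB'.ResidueField :=
    (Ideal.ResidueField.mapₐ p' qB' (Algebra.ofId R' B') (qB'.over_def p')).toRingHom.toAlgebra
  have hsq : (algebraMap p'.ResidueField qB'.ResidueField).comp e₀.toRingHom =
      e₁.toRingHom.comp (algebraMap p.ResidueField qB.ResidueField) := by
    refine Ideal.ResidueField.ringHom_ext (RingHom.ext fun r => ?_)
    show Ideal.ResidueField.mapₐ p' qB' (Algebra.ofId R' B') (qB'.over_def p')
        (Ideal.ResidueField.mapₐ p p' (Algebra.ofId R R') (p'.over_def p) (algebraMap R p.ResidueField r)) =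
      Ideal.ResidueField.mapₐ qB qB' (Algebra.ofId B B') (qB'.over_def qB)
        (Ideal.ResidueField.mapₐ p qB (Algebra.ofId R B) (qB.over_def p) (algebraMap R p.ResidueField r))
    rw [AlgHom.commutes, AlgHom.commutes, IsScalarTower.algebraMap_apply R R' p'.ResidueField,
      AlgHom.commutes, IsScalarTower.algebraMap_apply R B qB.ResidueField, AlgHom.commutes,
      ← IsScalarTower.algebraMap_apply R R', ← IsScalarTower.algebraMap_apply R B]
  obtain ⟨ι, x, hx, hgen⟩ := h
  have hgen' : IntermediateField.adjoin p'.ResidueField (Set.range (e₁ ∘ x)) = ⊤ := by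
    refine top_le_iff.1 fun y _ => ?_
    obtain ⟨y, rfl⟩ := e₁.surjective y
    have hy : y ∈ IntermediateField.adjoin p.ResidueField (Set.range x) := hgen ▸ trivial
    induction hy using IntermediateField.adjoin_induction with
    | mem w hw =>
      obtain ⟨i, rfl⟩ := hw
      exact IntermediateField.subset_adjoin _ _ ⟨i, rfl⟩
    | algebraMap c =>
      rw [show e₁ (algebraMap p.ResidueField qB.ResidueField c) =
        algebraMap p'.ResidueField qB'.ResidueField (e₀ c) from (congr($hsq c)).symm]
      exact IntermediateField.algebraMap_mem _ _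
    | add a b _ _ ha hb => rw [map_add]; exact add_mem (ha trivial) (hb trivial)
    | inv a _ ha => rw [map_inv₀]; exact inv_mem (ha trivial)
    | mul a b _ _ ha hb => rw [map_mul]; exact mul_mem (ha trivial) (hb trivial)
  refine ⟨ι, e₁ ∘ x, ?_, hgen'⟩
  rw [isTranscendenceBasis_iff_algebraicIndependent_isAlgebraic]
  refine ⟨AlgebraicIndependent.ringHom_of_comp_eq e₀.toRingHom e₁.toRingHom hx.1 e₀.surjective
    e₁.injective hsq, ?_⟩
  rw [← IntermediateField.isAlgebraic_adjoin_iff_top, hgen']
  exact ⟨fun z => isAlgebraic_algebraMap (⟨z, trivial⟩ : (⊤ : IntermediateField p'.ResidueField qB'.ResidueField))⟩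

/-- The points over a point with the same residue field in a base change. -/
theorem existsUnique_prime_pushout {B B' A A' : Type u} [CommRing B] [CommRing B'] [CommRing A]
    [CommRing A'] [Algebra B B'] [Algebra B A] [Algebra B' A'] [Algebra A A'] [Algebra B A']
    [IsScalarTower B B' A'] [IsScalarTower B A A'] [Algebra.IsPushout B B' A A']
    (qB : Ideal B) [qB.IsPrime] (qB' : Ideal B') [qB'.IsPrime] [qB'.LiesOver qB]
    (hq : Bijective (Ideal.ResidueField.mapₐ qB qB' (Algebra.ofId B B') (qB'.over_def qB)))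
    (qA : Ideal A) [qA.IsPrime] [qA.LiesOver qB]
    (huniq : ∀ (Q : Ideal A) [Q.IsPrime], Q.LiesOver qB → Q = qA) :
    ∃ qA' : Ideal A', qA'.IsPrime ∧ qA'.LiesOver qB' ∧ qA'.comap (algebraMap A A') = qA ∧
      ∀ (Q : Ideal A') [Q.IsPrime], Q.LiesOver qB' → Q = qA' := by
  let e₁ := AlgEquiv.ofBijective (Ideal.ResidueField.mapₐ qB qB' (Algebra.ofId B B') (qB'.over_def qB)) hq
  let e : qB'.Fiber A' ≃+* qB.Fiber A :=
    ((Algebra.TensorProduct.congr (AlgEquiv.refl (R := B') (A₁ := qB'.ResidueField))
      (Algebra.IsPushout.equiv B B' A A').symm).toRingEquiv.trans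
      (Algebra.TensorProduct.cancelBaseChange B B' qB'.ResidueField qB'.ResidueField A).toRingEquiv).trans
      (Algebra.TensorProduct.congr e₁.symm (AlgEquiv.refl (R := B) (A₁ := A))).toRingEquiv
  let E := PrimeSpectrum.primesOverOrderIsoFiber B' A' qB'
  let F := PrimeSpectrum.primesOverOrderIsoFiber B A qB
  have hF : Subsingleton (qB.primesOver A) := ⟨fun a b => by
    have := a.2.1
    have := b.2.1
    exact Subtype.ext ((huniq a.1 a.2.2).trans (huniq b.1 b.2.2).symm)⟩
  have hne : Nonempty (qB.primesOver A) := ⟨⟨qA, inferInstance, inferInstance⟩⟩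
  let g : qB'.primesOver A' ≃ qB.primesOver A :=
    E.toEquiv.trans ((PrimeSpectrum.comapEquiv e).toEquiv.trans F.toEquiv.symm)
  have : Subsingleton (qB'.primesOver A') := g.subsingleton
  obtain ⟨⟨qA', hqA', hover⟩⟩ : Nonempty (qB'.primesOver A') := g.nonempty
  refine ⟨qA', hqA', hover, ?_, fun Q hQ hQo => ?_⟩
  · refine huniq _ ⟨?_⟩
    show qB = Ideal.comap (algebraMap B A) (Ideal.comap (algebraMap A A') qA')
    rw [Ideal.comap_comap, ← IsScalarTower.algebraMap_eq, IsScalarTower.algebraMap_eq B B' A',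
      ← Ideal.comap_comap]
    exact (qB'.over_def qB).trans (congrArg (Ideal.comap (algebraMap B B')) hover.over)
  · exact congrArg Subtype.val (Subsingleton.elim (⟨Q, hQ, hQo⟩ : qB'.primesOver A') ⟨qA', hqA', hover⟩)

theorem smooth_of_smoothRelDim {R B : Type u} [CommRing R] [CommRing B] [Algebra R B] {n : ℕ}
    (h : FlatCA.SmoothRelDim n R B) : Algebra.Smooth R B := by
  have := h
  have hs : Smooth (Spec.map (CommRingCat.ofHom (algebraMap R B))) :=
    SmoothOfRelativeDimension.smooth n _
  exact RingHom.smooth_algebraMap.1 ((HasRingHomProperty.Spec_iff (P := @Smooth)).1 hs)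

theorem smoothRelDim_baseChange {R B : Type u} [CommRing R] [CommRing B] [Algebra R B] {n : ℕ}
    (h : FlatCA.SmoothRelDim n R B) (R' : Type u) [CommRing R'] [Algebra R R'] :
    FlatCA.SmoothRelDim n R' (R' ⊗[R] B) := by
  have := h
  have := smoothOfRelativeDimension_isStableUnderBaseChange (n := n)
  have hfst : SmoothOfRelativeDimension n (pullback.fst (Spec.map (CommRingCat.ofHom (algebraMap R R')))
      (Spec.map (CommRingCat.ofHom (algebraMap R B)))) := MorphismProperty.pullback_fst _ _ h
  show SmoothOfRelativeDimension n (Spec.map (CommRingCat.ofHom (algebraMap R' (R' ⊗[R] B))))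
  rw [← pullbackSpecIso_inv_fst' R R' B]
  exact (MorphismProperty.cancel_left_of_respectsIso (@SmoothOfRelativeDimension n)
    (pullbackSpecIso R R' B).inv _).2 hfst

theorem smoothRelDim_comp_etale {R B B' : Type u} [CommRing R] [CommRing B] [CommRing B']
    [Algebra R B] [Algebra B B'] [Algebra R B'] [IsScalarTower R B B'] [Algebra.Etale B B'] {n : ℕ}
    (h : FlatCA.SmoothRelDim n R B) : FlatCA.SmoothRelDim n R B' := by
  have := h
  have : Etale (Spec.map (CommRingCat.ofHom (algebraMap B B'))) :=
    (HasRingHomProperty.Spec_iff (P := @Etale)).2 (RingHom.etale_algebraMap.2 inferInstance)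
  have h2 := smoothOfRelativeDimension_comp (Spec.map (CommRingCat.ofHom (algebraMap B B')))
    (Spec.map (CommRingCat.ofHom (algebraMap R B))) (n := 0) (m := n)
  rw [zero_add, ← Spec.map_comp, ← CommRingCat.ofHom_comp, ← IsScalarTower.algebraMap_eq] at h2
  exact h2

/-- Bijectivity at the residue field passes to base changes. -/
theorem bijective_baseChange_residueField {B B' M M' : Type u} [CommRing B] [CommRing B'] [Algebra B B']
    [AddCommGroup M] [Module B M] [AddCommGroup M'] [Module B' M'] [Module B M'] [IsScalarTower B B' M']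
    {μ : M →ₗ[B] M'} (hμ : IsBaseChange B' μ) {r : ℕ} (α : (Fin r → B) →ₗ[B] M)
    (α' : (Fin r → B') →ₗ[B'] M') (hα' : ∀ i, α' (Pi.single i 1) = μ (α (Pi.single i 1)))
    (ξ : Ideal B) [ξ.IsPrime] (ξ' : Ideal B') [ξ'.IsPrime] [ξ'.LiesOver ξ]
    (h : Bijective (α.baseChange ξ.ResidueField)) : Bijective (α'.baseChange ξ'.ResidueField) := by
  let K := ξ.ResidueField
  let K' := ξ'.ResidueField
  let _ : Algebra K K' :=
    (Ideal.ResidueField.mapₐ ξ ξ' (Algebra.ofId B B') (ξ'.over_def ξ)).toRingHom.toAlgebra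
  have : IsScalarTower B K K' := .of_algebraMap_eq fun b => by
    rw [IsScalarTower.algebraMap_apply B B' K']
    exact ((Ideal.ResidueField.mapₐ ξ ξ' (Algebra.ofId B B') (ξ'.over_def ξ)).commutes b).symm
  let bK := Algebra.TensorProduct.basis K (Pi.basisFun B (Fin r))
  let bM : Module.Basis (Fin r) K (K ⊗[B] M) := bK.map (LinearEquiv.ofBijective _ h)
  let bK' := Algebra.TensorProduct.basis K' (Pi.basisFun B' (Fin r))
  let eM : K' ⊗[K] (K ⊗[B] M) ≃ₗ[K'] K' ⊗[B'] M' :=
    (AlgebraTensorModule.cancelBaseChange B K K' K' M).trans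
      ((AlgebraTensorModule.cancelBaseChange B B' K' K' M).symm.trans
        (AlgebraTensorModule.congr (LinearEquiv.refl K' K') hμ.equiv))
  let bM' : Module.Basis (Fin r) K' (K' ⊗[B'] M') := (Algebra.TensorProduct.basis K' bM).map eM
  have : α'.baseChange K' = (bK'.equiv bM' (Equiv.refl _)).toLinearMap := by
    refine bK'.ext fun i => ?_
    rw [LinearEquiv.coe_coe, Module.Basis.equiv_apply, Algebra.TensorProduct.basis_apply,
      LinearMap.baseChange_tmul, Pi.basisFun_apply, hα', Equiv.refl_apply]
    simp only [bM', bM, bK, Module.Basis.map_apply, Algebra.TensorProduct.basis_apply,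
      LinearEquiv.ofBijective_apply, Pi.basisFun_apply, eM, LinearEquiv.trans_apply]
    have h1 : LinearMap.baseChange ξ.ResidueField α ((1 : K) ⊗ₜ[B] Pi.single i 1) =
        (1 : K) ⊗ₜ[B] α (Pi.single i 1) := LinearMap.baseChange_tmul _ _ _
    have h2 : AlgebraTensorModule.cancelBaseChange B K K' K' M
        ((1 : K') ⊗ₜ[K] ((1 : K) ⊗ₜ[B] α (Pi.single i 1))) = (1 : K') ⊗ₜ[B] α (Pi.single i 1) := by
      rw [AlgebraTensorModule.cancelBaseChange_tmul, one_smul]
    refine Eq.trans ?_ (congrArg (fun w => AlgebraTensorModule.congr (LinearEquiv.refl K' K') hμ.equiv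
      ((AlgebraTensorModule.cancelBaseChange B B' K' K' M).symm w))
      ((congrArg (fun w => AlgebraTensorModule.cancelBaseChange B K K' K' M ((1 : K') ⊗ₜ[K] w)) h1).trans
        h2)).symm
    rw [AlgebraTensorModule.cancelBaseChange_symm_tmul, AlgebraTensorModule.congr_tmul,
      LinearEquiv.refl_apply, IsBaseChange.equiv_tmul, one_smul]
  show Bijective (α'.baseChange K')
  rw [this]
  exact LinearEquiv.bijective _

attribute [local instance] Algebra.TensorProduct.rightAlgebra

/-- The fibre of a smooth algebra of relative dimension `n` with domain fibres has dimension `n`. -/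
theorem ringKrullDim_fiber_eq {R B : Type u} [CommRing R] [CommRing B] [Algebra R B] {n : ℕ}
    (h : FlatCA.SmoothRelDim n R B) (p : Ideal R) [p.IsPrime] [IsDomain (p.Fiber B)] :
    ringKrullDim (p.Fiber B) = n := by
  refine le_antisymm (ringKrullDim_fiber.le.trans (krullDim_primesOverGE_le h)) ?_
  obtain ⟨Q⟩ : Nonempty (PrimeSpectrum (p.Fiber B)) := inferInstance
  have hspec := (HasRingHomProperty.Spec_iff (P := @SmoothOfRelativeDimension n)).1 h
  obtain ⟨s, hs, hst⟩ : ∃ (s : Set B), Ideal.span s = ⊤ ∧ ∀ t ∈ s,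
      ((algebraMap B (Localization.Away t)).comp (algebraMap R B)).IsStandardSmoothOfRelativeDimension
        n := by
    obtain ⟨s, hs, h⟩ := hspec
    exact ⟨s, hs, h⟩
  obtain ⟨g, hg, hgQ⟩ : ∃ g ∈ s, g ∉ Q.asIdeal.comap (algebraMap B (p.Fiber B)) := by
    by_contra! h
    exact (Ideal.comap_ne_top _ Q.isPrime.ne_top) (top_le_iff.1 (hs ▸ Ideal.span_le.2 h))
  let E := Localization.Away g
  have : Algebra.IsStandardSmoothOfRelativeDimension n R E :=
    (RingHom.isStandardSmoothOfRelativeDimension_algebraMap n).1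
      (by rw [IsScalarTower.algebraMap_eq R B E]; exact hst g hg)
  let L := Localization.Away ((1 : p.ResidueField) ⊗ₜ[R] g)
  let e : p.ResidueField ⊗[R] E ≃ₐ[p.ResidueField] L :=
    IsLocalization.Away.tensorProductEquivTMulRight R p.ResidueField g E
  have hg0 : ((1 : p.ResidueField) ⊗ₜ[R] g) ≠ (0 : p.Fiber B) := fun h0 => hgQ <| by
    show (1 : p.ResidueField) ⊗ₜ[R] g ∈ Q.asIdeal
    rw [h0]
    exact zero_mem _
  have : IsDomain L := IsLocalization.isDomain_localization
    (powers_le_nonZeroDivisors_of_noZeroDivisors hg0)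
  have : IsDomain (p.ResidueField ⊗[R] E) := e.toMulEquiv.isDomain _
  have hd := BertiniLib.ringKrullDim_quotient_minimalPrime (k := p.ResidueField)
    (C := p.ResidueField ⊗[R] E) n ⊥ (by rw [IsDomain.minimalPrimes_eq_singleton_bot]; rfl)
  rw [ringKrullDim_eq_of_ringEquiv (RingEquiv.quotientBot _),
    ringKrullDim_eq_of_ringEquiv e.toRingEquiv] at hd
  rw [← hd]
  refine Order.krullDim_le_of_strictMono (PrimeSpectrum.comap (algebraMap (p.Fiber B) L))
    fun a b hab => ?_
  exact lt_of_le_of_ne (Ideal.comap_mono hab.le) fun h => hab.ne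
    (PrimeSpectrum.localization_comap_injective L (Submonoid.powers ((1 : p.ResidueField) ⊗ₜ[R] g)) h)

theorem localDim_support_eq {R B : Type u} [CommRing R] [CommRing B] [Algebra R B] {n : ℕ}
    (h : FlatCA.SmoothRelDim n R B) (p : Ideal R) [p.IsPrime] [IsDomain (p.Fiber B)]
    (s : Set (PrimeSpectrum (p.Fiber B))) (hs : ∀ w, w ∈ s) (x : PrimeSpectrum (p.Fiber B)) :
    FlatMor.localDim s ⟨x, hs x⟩ = n := by
  have := smooth_of_smoothRelDim h
  have : Algebra.FiniteType p.ResidueField (p.Fiber B) := inferInstance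
  refine le_antisymm ?_ ?_
  · refine (iInf_le _ ⟨⊤, trivial⟩).trans ?_
    refine (Topology.IsInducing.subtypeVal.topologicalKrullDim_le).trans ?_
    refine (Topology.IsInducing.subtypeVal.topologicalKrullDim_le).trans ?_
    rw [PrimeSpectrum.topologicalKrullDim_eq_ringKrullDim, ringKrullDim_fiber_eq h p]
  · have hle := le_localDim (k := p.ResidueField) s ⟨⊥, Ideal.isPrime_bot⟩ x (fun w _ => hs w) bot_le
    rw [ringKrullDim_eq_of_ringEquiv (RingEquiv.quotientBot _), ringKrullDim_fiber_eq h p] at hle
    exact hle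

end Groth.Agent.FlatMorDevissage
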