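import Groth.Agent.FlatMorDevissage.StepLemmas

/-!
# Chains of steps: an inductive form of complete dévissages at a point
-/

set_option autoImplicit false
set_option backward.isDefEq.respectTransparency false

universe u

open TensorProduct Function

namespace Groth.Agent.FlatMorDevissage

open Groth.Agent

/-- One step of a complete dévissage at a point. -/
structure Step (R : Type u) [CommRing R] (p : Ideal R) [p.IsPrime] (S : Type u) [CommRing S]
    [Algebra R S] (N : Type u) [AddCommGroup N] [Module S N] (q : Ideal S) : Type (u + 1) where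
  A : Type u
  B : Type u
  M : Type u
  [cA : CommRing A] [cB : CommRing B]
  [aRA : Algebra R A] [aRB : Algebra R B] [aBA : Algebra B A] [tRBA : IsScalarTower R B A]
  [aSA : Algebra S A] [tRSA : IsScalarTower R S A]
  [gM : AddCommGroup M] [mAM : Module A M] [mBM : Module B M] [tBAM : IsScalarTower B A M]
  [mSM : Module S M] [tSAM : IsScalarTower S A M]
  r : ℕ
  rpos : 0 < r
  α : (Fin r → B) →ₗ[B] M
  qA : Ideal A
  qB : Ideal B
  [hqA : qA.IsPrime] [hqB : qB.IsPrime] [overB : qB.LiesOver p] [overA : qA.LiesOver qB]
  [hξ : (p.map (algebraMap R B)).IsPrime]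
  surjSA : Surjective (algebraMap S A)
  fpSA : Algebra.FinitePresentation S A
  finiteBA : Module.Finite B A
  finiteM : Module.Finite A M
  isoN : N ≃ₗ[S] M
  d : ℕ
  relDim : FlatCA.SmoothRelDim d R B
  dom : FibresDomain R B
  fibreIso : Bijective (α.baseChange (p.map (algebraMap R B)).ResidueField)
  pureTrans : FlatCA.PurelyTranscendental p qB
  uniq : ∀ (Q : Ideal A) [Q.IsPrime], Q.LiesOver qB → Q = qA
  q0 : qA.comap (algebraMap S A) = q

attribute [instance] Step.cA Step.cB Step.aRA Step.aRB Step.aBA Step.tRBA Step.aSA Step.tRSA Step.gM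
  Step.mAM Step.mBM Step.tBAM Step.mSM Step.tSAM Step.hqA Step.hqB Step.overB Step.overA Step.hξ

variable {R : Type u} [CommRing R] {p : Ideal R} [p.IsPrime]

/-- A chain of steps ending with a surjective map. -/
inductive Chain (R : Type u) [CommRing R] (p : Ideal R) [p.IsPrime] :
    ∀ (S : Type u) [CommRing S] [Algebra R S] (N : Type u) [AddCommGroup N] [Module S N],
      Ideal S → Prop
  | last {S : Type u} [CommRing S] [Algebra R S] {N : Type u} [AddCommGroup N] [Module S N]
      {q : Ideal S} (s : Step R p S N q) (h : Surjective s.α) : Chain R p S N q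
  | cons {S : Type u} [CommRing S] [Algebra R S] {N : Type u} [AddCommGroup N] [Module S N]
      {q : Ideal S} (s : Step R p S N q) (h : Chain R p s.B (s.M ⧸ LinearMap.range s.α) s.qB) :
      Chain R p S N q

section Step

variable {S : Type u} [CommRing S] [Algebra R S] {N : Type u} [AddCommGroup N] [Module S N]
  {q : Ideal S} (s : Step R p S N q)

theorem Step.annihilator_le : Module.annihilator s.B s.M ≤ p.map (algebraMap R s.B) := by
  intro b hb
  by_contra hne
  let ξ := p.map (algebraMap R s.B)
  have hsub : Subsingleton (ξ.ResidueField ⊗[s.B] s.M) := subsingleton_of_forall_eq 0 fun x => by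
    have hu : IsUnit (algebraMap s.B ξ.ResidueField b) := by
      rw [isUnit_iff_ne_zero, Ne, Ideal.algebraMap_residueField_eq_zero]
      exact hne
    refine (hu.smul_eq_zero (x := x)).1 ?_
    induction x using TensorProduct.induction_on with
    | zero => simp
    | tmul c m => rw [algebraMap_smul, ← TensorProduct.tmul_smul, Module.mem_annihilator.1 hb m, tmul_zero]
    | add x y hx hy => rw [smul_add, hx, hy, add_zero]
  have : Subsingleton (ξ.ResidueField ⊗[s.B] (Fin s.r → s.B)) := s.fibreIso.injective.subsingleton
  have hb' := (Algebra.TensorProduct.basis ξ.ResidueField (Pi.basisFun s.B (Fin s.r))).ne_zero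
    ⟨0, s.rpos⟩
  exact hb' (Subsingleton.elim _ _)

theorem Step.isDomain_fiber : IsDomain (p.Fiber s.B) := s.dom p.ResidueField

attribute [local instance] Algebra.TensorProduct.rightAlgebra in
theorem Step.locDim [Module R s.M] [IsScalarTower R s.B s.M] :
    ∃ (x : PrimeSpectrum (p.Fiber s.B))
      (hx : x ∈ Module.support (p.Fiber s.B) (FlatCA.fiberMod p s.B s.M)),
      x.asIdeal = FlatCA.fiberIdeal p s.qB ∧
      FlatMor.localDim (Module.support (p.Fiber s.B) (FlatCA.fiberMod p s.B s.M)) ⟨x, hx⟩ = s.d := by
  have := s.isDomain_fiber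
  have := s.finiteBA
  have := s.finiteM
  have : Module.Finite s.B s.M := Module.Finite.trans s.A s.M
  have hall : ∀ w, w ∈ Module.support (p.Fiber s.B) (FlatCA.fiberMod p s.B s.M) := fun w =>
    (mem_support_fiberMod_iff s.M p w).2 (s.annihilator_le.trans
      (Ideal.map_le_iff_le_comap.2 (EGA43.FibDepth.comap_algebraMap_eq (R := s.B) p w).le))
  obtain ⟨x, hx⟩ := EGA43.FibDepth.exists_prime_over (A := R) (p := p) (p.Fiber s.B)
    ⟨s.qB, inferInstance⟩ (s.qB.over_def p)
  refine ⟨x, hall x, ?_, localDim_support_eq s.relDim p _ hall x⟩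
  have hxq : x.asIdeal.comap (algebraMap s.B (p.Fiber s.B)) = s.qB := congrArg PrimeSpectrum.asIdeal hx
  refine le_antisymm (fun c hc => ?_) (Ideal.map_le_iff_le_comap.2 hxq.ge)
  obtain ⟨r₀, hr₀, b, hb⟩ := EGA43.FibDepth.exists_smul_eq_map (A := R) s.B p c
  have hbq : b ∈ s.qB := by
    rw [← hxq, Ideal.mem_comap, ← hb]
    exact x.asIdeal.mul_mem_left _ hc
  have hu : IsUnit (algebraMap R (p.Fiber s.B) r₀) := by
    rw [IsScalarTower.algebraMap_apply R p.ResidueField (p.Fiber s.B)]
    exact (isUnit_iff_ne_zero.2 (Ideal.algebraMap_residueField_eq_zero.not.2 hr₀)).map _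
  refine (Ideal.unit_mul_mem_iff_mem _ hu).1 ?_
  rw [hb]
  exact Ideal.mem_map_of_mem _ hbq

theorem Step.smooth : Algebra.Smooth R s.B := smooth_of_smoothRelDim s.relDim

/-- The complete dévissage with one step. -/
@[reducible] noncomputable def Step.single (h : Surjective s.α) :
    FlatCA.CompleteDevissage R S N p :=
  let _ : Module R s.M := Module.compHom s.M (algebraMap R s.B)
  have : IsScalarTower R s.B s.M := .of_algebraMap_smul fun _ _ => rfl
  { n := 1
    pos := one_pos
    A := fun _ => s.A
    B := fun _ => s.B
    M := fun _ => s.M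
    r := fun _ => s.r
    α := fun _ => s.α
    surjSA := s.surjSA
    fpSA := s.fpSA
    surjBA' := fun i hi => absurd hi (by omega)
    fpBA' := fun i hi => absurd hi (by omega)
    finiteBA := fun _ _ => s.finiteBA
    smooth := fun _ _ => s.smooth
    geomIrred := fun _ _ => geomIrredFibres_of_fibresDomain s.dom
    finiteM := fun _ _ => s.finiteM
    isoN := s.isoN
    isoCoker := fun i hi => absurd hi (by omega)
    fibreIso := fun _ _ => s.fibreIso
    cokerLast := h }

theorem Step.hasCompleteDevissageAt_single [q.IsPrime] (h : Surjective s.α) :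
    FlatCA.HasCompleteDevissageAt R S N p q := by
  let _ : Module R s.M := Module.compHom s.M (algebraMap R s.B)
  have : IsScalarTower R s.B s.M := .of_algebraMap_smul fun _ _ => rfl
  exact ⟨s.single h, ⟨{
    qB := fun _ => s.qB
    qA := fun _ => s.qA
    pureTrans := fun _ _ => s.pureTrans
    uniq := fun _ _ => s.uniq
    q0 := s.q0
    qStep := fun i hi => absurd (show i + 1 < 1 from hi) (by omega)
    d := fun _ => s.d
    relDim := fun _ _ => s.relDim
    locDim := fun _ _ => s.locDim }⟩⟩

/-- Prepending a step. -/
@[reducible] noncomputable def Step.cons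
    (D : FlatCA.CompleteDevissage R s.B (s.M ⧸ LinearMap.range s.α) p) :
    FlatCA.CompleteDevissage R S N p :=
  let _ : Module R s.M := Module.compHom s.M (algebraMap R s.B)
  have : IsScalarTower R s.B s.M := .of_algebraMap_smul fun _ _ => rfl
  { n := D.n + 1
    pos := Nat.succ_pos _
    A := fun i => match i with | 0 => s.A | i + 1 => D.A i
    B := fun i => match i with | 0 => s.B | i + 1 => D.B i
    M := fun i => match i with | 0 => s.M | i + 1 => D.M i
    r := fun i => match i with | 0 => s.r | i + 1 => D.r i
    cA := fun i => match i with | 0 => s.cA | i + 1 => D.cA i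
    cB := fun i => match i with | 0 => s.cB | i + 1 => D.cB i
    aRA := fun i => match i with | 0 => s.aRA | i + 1 => D.aRA i
    aRB := fun i => match i with | 0 => s.aRB | i + 1 => D.aRB i
    aBA := fun i => match i with | 0 => s.aBA | i + 1 => D.aBA i
    tRBA := fun i => match i with | 0 => s.tRBA | i + 1 => D.tRBA i
    aSA := s.aSA
    tRSA := s.tRSA
    aBA' := fun i => match i with | 0 => D.aSA | i + 1 => D.aBA' i
    tRBA' := fun i => match i with | 0 => D.tRSA | i + 1 => D.tRBA' i
    gM := fun i => match i with | 0 => s.gM | i + 1 => D.gM i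
    mAM := fun i => match i with | 0 => s.mAM | i + 1 => D.mAM i
    mBM := fun i => match i with | 0 => s.mBM | i + 1 => D.mBM i
    tBAM := fun i => match i with | 0 => s.tBAM | i + 1 => D.tBAM i
    mRM := fun i => match i with | 0 => inferInstanceAs (Module R s.M) | i + 1 => D.mRM i
    tRBM := fun i => match i with
      | 0 => inferInstanceAs (IsScalarTower R s.B s.M) | i + 1 => D.tRBM i
    mSM := s.mSM
    tSAM := s.tSAM
    mB'M := fun i => match i with | 0 => D.mSM | i + 1 => D.mB'M i
    tB'AM := fun i => match i with | 0 => D.tSAM | i + 1 => D.tB'AM i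
    hp := fun i => match i with | 0 => s.hξ | i + 1 => D.hp i
    α := fun i => match i with | 0 => s.α | i + 1 => D.α i
    surjSA := s.surjSA
    fpSA := s.fpSA
    surjBA' := fun i hi => match i with
      | 0 => D.surjSA | i + 1 => D.surjBA' i (by omega)
    fpBA' := fun i hi => match i with
      | 0 => D.fpSA | i + 1 => D.fpBA' i (by omega)
    finiteBA := fun i hi => match i with
      | 0 => s.finiteBA | i + 1 => D.finiteBA i (by omega)
    smooth := fun i hi => match i with
      | 0 => s.smooth | i + 1 => D.smooth i (by omega)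
    geomIrred := fun i hi => match i with
      | 0 => geomIrredFibres_of_fibresDomain s.dom | i + 1 => D.geomIrred i (by omega)
    finiteM := fun i hi => match i with
      | 0 => s.finiteM | i + 1 => D.finiteM i (by omega)
    isoN := s.isoN
    isoCoker := fun i hi => match i with
      | 0 => D.isoN | i + 1 => D.isoCoker i (by omega)
    fibreIso := fun i hi => match i with
      | 0 => s.fibreIso | i + 1 => D.fibreIso i (by omega)
    cokerLast := by
      obtain ⟨m, hm⟩ : ∃ m, D.n = m + 1 := ⟨D.n - 1, by have := D.pos; omega⟩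
      have h := D.cokerLast
      rw [show D.n - 1 = m by omega] at h
      rw [show D.n + 1 - 1 = m + 1 by omega]
      exact h }

theorem Step.hasCompleteDevissageAt_cons [q.IsPrime]
    (h : FlatCA.HasCompleteDevissageAt R s.B (s.M ⧸ LinearMap.range s.α) p s.qB) :
    FlatCA.HasCompleteDevissageAt R S N p q := by
  obtain ⟨D, ⟨hD⟩⟩ := h
  let _ : Module R s.M := Module.compHom s.M (algebraMap R s.B)
  have : IsScalarTower R s.B s.M := .of_algebraMap_smul fun _ _ => rfl
  exact ⟨s.cons D, ⟨{
    qB := fun i => match i with | 0 => s.qB | i + 1 => hD.qB i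
    qA := fun i => match i with | 0 => s.qA | i + 1 => hD.qA i
    hqB := fun i => match i with | 0 => s.hqB | i + 1 => hD.hqB i
    hqA := fun i => match i with | 0 => s.hqA | i + 1 => hD.hqA i
    overB := fun i => match i with | 0 => s.overB | i + 1 => hD.overB i
    overA := fun i => match i with | 0 => s.overA | i + 1 => hD.overA i
    pureTrans := fun i hi => match i with
      | 0 => s.pureTrans | i + 1 => hD.pureTrans i (Nat.lt_of_succ_lt_succ hi)
    uniq := fun i hi => match i with
      | 0 => s.uniq | i + 1 => hD.uniq i (Nat.lt_of_succ_lt_succ hi)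
    q0 := s.q0
    qStep := fun i hi => match i with
      | 0 => hD.q0 | i + 1 => hD.qStep i (Nat.lt_of_succ_lt_succ hi)
    d := fun i => match i with | 0 => s.d | i + 1 => hD.d i
    relDim := fun i hi => match i with
      | 0 => s.relDim | i + 1 => hD.relDim i (Nat.lt_of_succ_lt_succ hi)
    locDim := fun i hi => match i with
      | 0 => s.locDim | i + 1 => hD.locDim i (Nat.lt_of_succ_lt_succ hi) }⟩⟩

end Step

theorem Chain.isPrime {S : Type u} [CommRing S] [Algebra R S] {N : Type u} [AddCommGroup N]
    [Module S N] {q : Ideal S} (h : Chain R p S N q) : q.IsPrime := by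
  cases h with
  | last s _ => exact s.q0 ▸ inferInstance
  | cons s _ => exact s.q0 ▸ inferInstance

/-- A chain gives a complete dévissage at the point. -/
theorem Chain.hasCompleteDevissageAt {S : Type u} [CommRing S] [Algebra R S] {N : Type u}
    [AddCommGroup N] [Module S N] {q : Ideal S} [q.IsPrime] (h : Chain R p S N q) :
    FlatCA.HasCompleteDevissageAt R S N p q := by
  rename_i hq
  revert hq
  induction h with
  | last s hs => intro _; exact s.hasCompleteDevissageAt_single hs
  | cons s _ ih => intro _; exact s.hasCompleteDevissageAt_cons (ih (hq := s.hqB))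

/-- Changing the module. -/
theorem Chain.congr {S : Type u} [CommRing S] [Algebra R S] {N N' : Type u}
    [AddCommGroup N] [Module S N] [AddCommGroup N'] [Module S N'] {q : Ideal S} (h : Chain R p S N q)
    (e : N' ≃ₗ[S] N) : Chain R p S N' q := by
  cases h with
  | last s hs => exact .last { s with isoN := e.trans s.isoN } hs
  | cons s hs => exact .cons { s with isoN := e.trans s.isoN } hs

end Groth.Agent.FlatMorDevissage
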