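import Groth.Agent.FlatMorDevissage.Key
import Groth.Agent.FlatMorDevissage.FibresDomain
import Mathlib.RingTheory.Finiteness.ModuleFinitePresentation

/-!
# Flatness at the point of a complete dévissage: freeness and finite presentation
-/

set_option autoImplicit false

universe u

open Function IsLocalRing

namespace Groth.Agent.FlatMorDevissage

theorem isScalarTower_of_three (R B A M : Type u) [CommRing R] [CommRing B] [CommRing A] [Algebra R B]
    [Algebra R A] [Algebra B A] [IsScalarTower R B A] [AddCommGroup M] [Module R M] [Module B M]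
    [Module A M] [IsScalarTower R B M] [IsScalarTower B A M] : IsScalarTower R A M :=
  IsScalarTower.of_algebraMap_smul fun r m => by
    rw [IsScalarTower.algebraMap_apply R B A, algebraMap_smul, algebraMap_smul]

theorem isScalarTower_of_top (R B A M : Type u) [CommRing R] [CommRing B] [CommRing A] [Algebra R B]
    [Algebra R A] [Algebra B A] [IsScalarTower R B A] [AddCommGroup M] [Module R M] [Module B M]
    [Module A M] [IsScalarTower R A M] [IsScalarTower B A M] : IsScalarTower R B M :=
  IsScalarTower.of_algebraMap_smul fun r m => by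
    rw [← algebraMap_smul A (algebraMap R B r) m, ← IsScalarTower.algebraMap_apply, algebraMap_smul]

theorem finitePresentation_of_restrictScalars (A B M : Type u) [CommRing A] [CommRing B] [Algebra A B]
    [Module.Finite A B] [AddCommGroup M] [Module A M] [Module B M] [IsScalarTower A B M]
    [Module.FinitePresentation A M] : Module.FinitePresentation B M := by
  have : Module.Finite B M := Module.Finite.of_restrictScalars_finite A B M
  obtain ⟨n, g, hg⟩ := Module.Finite.exists_fin' B M
  refine Module.finitePresentation_of_surjective g hg ?_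
  have h := Module.FinitePresentation.fg_ker (g.restrictScalars A) hg
  rw [LinearMap.ker_restrictScalars] at h
  exact Submodule.FG.of_restrictScalars A h

theorem exists_equiv_pi {R : Type u} [CommRing R] :
    ∀ (n : ℕ) (M X : ℕ → Type u) [∀ i, AddCommGroup (M i)] [∀ i, Module R (M i)]
      [∀ i, AddCommGroup (X i)] [∀ i, Module R (X i)], (∀ i, i ≤ n → Module.Free R (X i)) →
      (∀ i, i < n → Module.Free R (M (i + 1)) → Nonempty (M i ≃ₗ[R] X i × M (i + 1))) →
      Nonempty (M n ≃ₗ[R] X n) →
      Nonempty (M 0 ≃ₗ[R] ∀ j : Fin (n + 1), X j) := by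
  intro n
  induction n with
  | zero =>
    intro M X _ _ _ _ _ _ hlast
    obtain ⟨e⟩ := hlast
    let _ : Unique (Fin (0 + 1)) := inferInstanceAs (Unique (Fin 1))
    exact ⟨e.trans (LinearEquiv.piUnique R (fun j : Fin (0 + 1) => X j)).symm⟩
  | succ n ih =>
    intro M X _ _ _ _ hfree hstep hlast
    obtain ⟨e⟩ := ih (fun i => M (i + 1)) (fun i => X (i + 1)) (fun i hi => hfree (i + 1) (by omega))
      (fun i hi hf => hstep (i + 1) (by omega) hf) hlast
    have : ∀ j : Fin (n + 1), Module.Free R (X (j + 1)) := fun j => hfree _ (by omega)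
    obtain ⟨e₀⟩ := hstep 0 (by omega) (Module.Free.of_equiv e.symm)
    exact ⟨e₀.trans ((LinearEquiv.prodCongr (LinearEquiv.refl R _) e).trans
      (Fin.consLinearEquiv R fun j : Fin (n + 1 + 1) => X j))⟩

variable {R S : Type u} [CommRing R] [IsLocalRing R] [CommRing S] [Algebra R S] {N : Type u}
  [AddCommGroup N] [Module S N] [Module R N] [IsScalarTower R S N]
  (D : FlatCA.CompleteDevissage R S N (maximalIdeal R))

instance (i : ℕ) : IsScalarTower R (D.A i) (D.M i) := isScalarTower_of_three R (D.B i) (D.A i) (D.M i)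

instance (i : ℕ) : IsScalarTower R (D.B i) (D.M (i + 1)) :=
  isScalarTower_of_top R (D.B i) (D.A (i + 1)) (D.M (i + 1))

instance : IsScalarTower R S (D.M 0) := isScalarTower_of_top R S (D.A 0) (D.M 0)

variable {q : Ideal S} [q.IsPrime] (hD : FlatCA.CompleteDevissageAt R S N (maximalIdeal R) q D)
  (hflat : FlatCA.FlatAt R q N)

include hflat in
theorem step (i : ℕ) (hi : i < D.n) :
    Injective (D.α i) ∧ FlatCA.UnivInj R ((D.α i).restrictScalars R) ∧
      (have := hD.hqA i; FlatCA.FlatAt R (hD.qA i) (D.M i)) ∧
      (have := hD.hqB i; FlatCA.FlatAt R (hD.qB i) (D.M i ⧸ LinearMap.range (D.α i))) := by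
  have := hD.hqA
  have := hD.hqB
  have := hD.overA
  have := hD.overB
  have hkey : ∀ i, i < D.n → FlatCA.FlatAt R (hD.qA i) (D.M i) →
      Injective (D.α i) ∧ FlatCA.UnivInj R ((D.α i).restrictScalars R) ∧
        FlatCA.FlatAt R (hD.qB i) (D.M i ⧸ LinearMap.range (D.α i)) := by
    intro i hi hf
    have := D.finiteBA i hi
    have := D.smooth i hi
    have hB : FlatCA.FlatAt R (hD.qB i) (D.M i) :=
      (flatAt_iff (dividesBase_of_finite (hD.qB i) (hD.qA i) fun Q _ h => hD.uniq i hi Q h)).1 hf
    exact key (fibresDomain_of_smooth_geomIrred (D.geomIrred i hi)) (hD.qB i)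
      (Ideal.map_le_iff_le_comap.2 (hD.overB i).over.le) (D.α i) (D.fibreIso i hi).injective hB
  suffices hA : FlatCA.FlatAt R (hD.qA i) (D.M i) from
    ⟨(hkey i hi hA).1, (hkey i hi hA).2.1, hA, (hkey i hi hA).2.2⟩
  induction i with
  | zero =>
    have : (hD.qA 0).LiesOver q := ⟨hD.q0.symm⟩
    exact (flatAt_iff (dividesBase_of_surjective D.surjSA q (hD.qA 0))).2
      ((flatAt_congr D.isoN).1 hflat)
  | succ i ih =>
    have h := (hkey i (by omega) (ih (by omega))).2.2
    have : (hD.qA (i + 1)).LiesOver (hD.qB i) := ⟨(hD.qStep i hi).symm⟩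
    exact (flatAt_iff (dividesBase_of_surjective (D.surjBA' i hi) (hD.qB i) (hD.qA (i + 1)))).2
      ((flatAt_congr (D.isoCoker i hi)).1 h)

include hD hflat in
theorem exists_equiv_free :
    Module.Free R N ∧ Nonempty (N ≃ₗ[R] (∀ i : Fin D.n, Fin (D.r i) → D.B i)) := by
  obtain ⟨n, hn⟩ : ∃ n, D.n = n + 1 := ⟨D.n - 1, by have := D.pos; omega⟩
  have hfree : ∀ i, i ≤ n → Module.Free R (Fin (D.r i) → D.B i) := fun i hi => by
    have := D.smooth i (by omega)
    have := free_of_fibresDomain (fibresDomain_of_smooth_geomIrred (D.geomIrred i (by omega)))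
    infer_instance
  have hstep : ∀ i, i < n → Module.Free R (D.M (i + 1)) →
      Nonempty (D.M i ≃ₗ[R] (Fin (D.r i) → D.B i) × D.M (i + 1)) := by
    intro i hi hf
    obtain ⟨hinj, -⟩ := step D hD hflat i (by omega)
    let g : D.M i →ₗ[R] D.M (i + 1) :=
      ((D.isoCoker i (by omega)).toLinearMap ∘ₗ (LinearMap.range (D.α i)).mkQ).restrictScalars R
    have hex : Exact ((D.α i).restrictScalars R) g := fun x => by
      show D.isoCoker i (by omega) (Submodule.Quotient.mk x) = 0 ↔ x ∈ Set.range (D.α i)
      rw [LinearEquiv.map_eq_zero_iff, Submodule.Quotient.mk_eq_zero]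
      rfl
    obtain ⟨l, hl⟩ := Module.projective_lifting_property g LinearMap.id
      ((D.isoCoker i (by omega)).surjective.comp (Submodule.mkQ_surjective _))
    exact ⟨(hex.splitSurjectiveEquiv (f := (D.α i).restrictScalars R) hinj ⟨l, hl⟩).1⟩
  have hlast : Nonempty (D.M n ≃ₗ[R] (Fin (D.r n) → D.B n)) := by
    obtain ⟨hinj, -⟩ := step D hD hflat n (by omega)
    have hs := D.cokerLast
    rw [show D.n - 1 = n by omega] at hs
    exact ⟨((LinearEquiv.ofBijective (D.α n) ⟨hinj, hs⟩).restrictScalars R).symm⟩
  obtain ⟨e⟩ := exists_equiv_pi (R := R) n D.M (fun i => Fin (D.r i) → D.B i) hfree hstep hlast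
  have : ∀ i : Fin (n + 1), Module.Free R (Fin (D.r i) → D.B i) := fun i => hfree i (by omega)
  let e2 := (D.isoN.restrictScalars R).trans e
  refine ⟨Module.Free.of_equiv e2.symm, ?_⟩
  rw [hn]
  exact ⟨e2⟩

include hD hflat in
theorem finitePresentation_of_flatAt [Algebra.FinitePresentation R S] :
    Module.FinitePresentation S N := by
  suffices h : ∀ k i, i + k + 1 = D.n → Module.FinitePresentation (D.A i) (D.M i) by
    have := h (D.n - 1) 0 (by have := D.pos; omega)
    have := D.fpSA
    have : Module.Finite S (D.A 0) :=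
      Module.Finite.of_surjective (Algebra.linearMap S (D.A 0)) D.surjSA
    have := Module.FinitePresentation.of_finite_of_finitePresentation S (D.A 0)
    have := Module.FinitePresentation.trans (R := S) (M := D.M 0) (D.A 0)
    exact Module.FinitePresentation.of_equiv D.isoN.symm
  intro k
  induction k with
  | zero =>
    intro i hi
    obtain ⟨hinj, -⟩ := step D hD hflat i (by omega)
    have hs := D.cokerLast
    rw [show D.n - 1 = i by omega] at hs
    have := D.finiteBA i (by omega)
    have := Module.FinitePresentation.of_equiv (LinearEquiv.ofBijective (D.α i) ⟨hinj, hs⟩)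
    exact finitePresentation_of_restrictScalars (D.B i) (D.A i) (D.M i)
  | succ k ih =>
    intro i hi
    obtain ⟨hinj, -⟩ := step D hD hflat i (by omega)
    have := ih (i + 1) (by omega)
    have := D.fpBA' i (by omega)
    have : Module.Finite (D.B i) (D.A (i + 1)) :=
      Module.Finite.of_surjective (Algebra.linearMap (D.B i) (D.A (i + 1))) (D.surjBA' i (by omega))
    have := Module.FinitePresentation.of_finite_of_finitePresentation (D.B i) (D.A (i + 1))
    have := Module.FinitePresentation.trans (R := D.B i) (M := D.M (i + 1)) (D.A (i + 1))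
    let g : D.M i →ₗ[D.B i] D.M (i + 1) :=
      (D.isoCoker i (by omega)).toLinearMap ∘ₗ (LinearMap.range (D.α i)).mkQ
    have hker : LinearMap.ker g = LinearMap.range (D.α i) := by
      simp only [g, LinearEquiv.ker_comp, Submodule.ker_mkQ]
    have : Module.FinitePresentation (D.B i) (LinearMap.ker g) := Module.FinitePresentation.of_equiv
      ((LinearEquiv.ofInjective (D.α i) hinj).trans (LinearEquiv.ofEq _ _ hker.symm))
    have := Module.finitePresentation_of_ker g
      ((D.isoCoker i (by omega)).surjective.comp (Submodule.mkQ_surjective _))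
    have := D.finiteBA i (by omega)
    exact finitePresentation_of_restrictScalars (D.B i) (D.A i) (D.M i)

end Groth.Agent.FlatMorDevissage
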