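import Groth.Agent.FlatMorDevissage.Key
import Groth.Agent.FlatMorDevissage.Chain
import Groth.Agent.FlatMorDevissage.CompleteFree

/-!
# Maps into flat modules injective modulo the maximal ideal: the dévissage argument
-/

set_option autoImplicit false
set_option backward.isDefEq.respectTransparency false

universe u

open TensorProduct Function IsLocalRing

namespace Groth.Agent.FlatMorDevissage

open Groth.Agent

section Basic

variable {R : Type u} [CommRing R] [IsLocalRing R] {N M : Type u} [AddCommGroup N] [Module R N]
  [AddCommGroup M] [Module R M]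

/-- `u` is injective modulo the maximal ideal. -/
def ModInj (u : N →ₗ[R] M) : Prop :=
  ∀ x : N, u x ∈ maximalIdeal R • (⊤ : Submodule R M) → x ∈ maximalIdeal R • (⊤ : Submodule R N)

theorem mk_one_eq_zero_iff (m : M) :
    TensorProduct.mk R (ResidueField R) M 1 m = 0 ↔ m ∈ maximalIdeal R • (⊤ : Submodule R M) :=
  SetLike.ext_iff.1 (LinearMap.ker_tensorProductMk (Q := M) (I := maximalIdeal R)) m

theorem modInj_iff (u : N →ₗ[R] M) :
    ModInj u ↔ Injective (u.lTensor (ResidueField R)) := by
  refine ⟨fun h => (injective_iff_map_eq_zero _).2 fun z hz => ?_, fun h x hx => ?_⟩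
  · obtain ⟨x, rfl⟩ := TensorProduct.mk_surjective R N (ResidueField R)
      (Ideal.Quotient.mk_surjective (I := maximalIdeal R)) z
    exact (mk_one_eq_zero_iff x).2 (h x ((mk_one_eq_zero_iff (u x)).1
      ((LinearMap.lTensor_tmul _ u 1 x).symm.trans hz)))
  · exact (mk_one_eq_zero_iff x).1 (h (((LinearMap.lTensor_tmul _ u 1 x).trans
      ((mk_one_eq_zero_iff (u x)).2 hx)).trans (map_zero _).symm))

variable (R N) in
/-- Every map to a flat module which is injective modulo the maximal ideal is injective with flat
cokernel. -/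
def InjModProp : Prop :=
  ∀ ⦃M : Type u⦄ [AddCommGroup M] [Module R M] [Module.Flat R M] (u : N →ₗ[R] M),
    ModInj u → Injective u ∧ Module.Flat R (M ⧸ LinearMap.range u)

theorem InjModProp.of_subsingleton [Subsingleton N] : InjModProp R N := fun M _ _ _ u _ =>
  ⟨injective_of_subsingleton _,
    Module.Flat.of_linearEquiv (Submodule.quotEquivOfEqBot (LinearMap.range u)
      (LinearMap.range_eq_bot.2 (LinearMap.ext fun x => by simp [Subsingleton.elim x 0])))⟩

theorem InjModProp.of_equiv {N' : Type u} [AddCommGroup N'] [Module R N'] (h : InjModProp R N)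
    (e : N ≃ₗ[R] N') : InjModProp R N' := fun M _ _ _ u hu => by
  have hue : ModInj (u ∘ₗ e.toLinearMap) := fun x hx => by
    have := Submodule.mem_map_of_mem (f := e.symm.toLinearMap) (hu (e x) hx)
    rw [Submodule.map_smul''] at this
    simpa using Submodule.smul_mono le_rfl le_top this
  obtain ⟨h1, h2⟩ := h (u ∘ₗ e.toLinearMap) hue
  rw [LinearEquiv.range_comp] at h2
  exact ⟨fun a b hab => by
    simpa using congrArg e (h1 (show (u ∘ₗ e.toLinearMap) (e.symm a) = (u ∘ₗ e.toLinearMap) (e.symm b) by
      simpa using hab)), h2⟩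

/-- One step: a reflected piece and a cokernel with the property. -/
theorem InjModProp.of_exact {N₁ N₂ : Type u} [AddCommGroup N₁] [Module R N₁] [AddCommGroup N₂]
    [Module R N₂] (a : N₁ →ₗ[R] N) (b : N →ₗ[R] N₂) (hab : Exact a b) (hb : Surjective b)
    (h₂ : InjModProp R N₂)
    (h₁ : ∀ ⦃M : Type u⦄ [AddCommGroup M] [Module R M] [Module.Flat R M] (u : N →ₗ[R] M),
      ModInj u → Reflects (u ∘ₗ a)) : InjModProp R N := fun M _ _ _ u hu => by
  have hr := h₁ u hu
  have := hr.flat_coker
  let K := LinearMap.range (u ∘ₗ a)
  have hle : LinearMap.ker b ≤ LinearMap.ker (K.mkQ ∘ₗ u) := fun x hx => by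
    obtain ⟨v, rfl⟩ := (hab x).1 (LinearMap.mem_ker.1 hx)
    exact LinearMap.mem_ker.2 ((Submodule.Quotient.mk_eq_zero K).2 ⟨v, rfl⟩)
  let u₂ : N₂ →ₗ[R] M ⧸ K :=
    (LinearMap.ker b).liftQ (K.mkQ ∘ₗ u) hle ∘ₗ (b.quotKerEquivOfSurjective hb).symm.toLinearMap
  have hu₂b : ∀ x, u₂ (b x) = Submodule.Quotient.mk (u x) := fun x => by
    simp only [u₂, LinearMap.coe_comp, LinearEquiv.coe_coe, comp_apply]
    rw [show (b.quotKerEquivOfSurjective hb).symm (b x) = Submodule.Quotient.mk x from
      (LinearEquiv.symm_apply_eq _).2 rfl]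
    rfl
  have hu₂ : ModInj u₂ := by
    intro y hy
    obtain ⟨x, rfl⟩ := hb y
    rw [hu₂b, show (maximalIdeal R • ⊤ : Submodule R (M ⧸ K)) =
      (maximalIdeal R • (⊤ : Submodule R M)).map K.mkQ by
        rw [Submodule.map_smul'', Submodule.map_top, Submodule.range_mkQ]] at hy
    obtain ⟨m, hm, hmx⟩ := hy
    obtain ⟨v, hv⟩ := (Submodule.Quotient.eq K).1 hmx.symm
    have hx' : x - a v ∈ maximalIdeal R • (⊤ : Submodule R N) := hu _ (by
      rw [map_sub, show u (a v) = u x - m from hv, sub_sub_cancel]
      exact hm)
    have := Submodule.mem_map_of_mem (f := b) hx'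
    rw [Submodule.map_smul'', map_sub, hab.apply_apply_eq_zero, sub_zero] at this
    exact Submodule.smul_mono le_rfl le_top this
  obtain ⟨hinj, hflat⟩ := h₂ u₂ hu₂
  refine ⟨(injective_iff_map_eq_zero _).2 fun x hx => ?_, ?_⟩
  · have : b x = 0 := hinj ((hu₂b x).trans (by rw [hx]; simp))
    obtain ⟨v, rfl⟩ := (hab x).1 this
    rw [show v = 0 from hr.injective (hx.trans (map_zero _).symm), map_zero]
  · have hrange : LinearMap.range u₂ = (LinearMap.range u).map K.mkQ := by
      ext z
      constructor
      · rintro ⟨y, rfl⟩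
        obtain ⟨x, rfl⟩ := hb y
        exact ⟨u x, ⟨x, rfl⟩, (hu₂b x).symm⟩
      · rintro ⟨_, ⟨x, rfl⟩, rfl⟩
        exact ⟨b x, hu₂b x⟩
    rw [hrange] at hflat
    exact Module.Flat.of_linearEquiv (Submodule.quotientQuotientEquivQuotient K (LinearMap.range u)
      (LinearMap.range_comp_le_range a u)).symm

omit [IsLocalRing R] in
/-- An injective map with flat cokernel is universally injective. -/
theorem univInj_of_flat_coker (u : N →ₗ[R] M) (hu : Injective u)
    [Module.Flat R (M ⧸ LinearMap.range u)] : FlatCA.UnivInj R u := fun Q _ _ =>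
  LinearMap.lTensor_injective_of_exact_of_flat (LinearMap.range u).mkQ (Submodule.mkQ_surjective _) u
    hu (LinearMap.exact_map_mkQ_range u) Q

omit [IsLocalRing R] in
/-- The source of a universally injective map to a flat module is flat. -/
theorem flat_of_univInj [Module.Flat R M] (u : N →ₗ[R] M) (hu : FlatCA.UnivInj R u) :
    Module.Flat R N := by
  rw [Module.Flat.iff_rTensor_preserves_injective_linearMap]
  intro A B _ _ _ _ i hi
  refine Injective.of_comp (f := u.lTensor B) ?_
  rw [← LinearMap.coe_comp, LinearMap.lTensor_comp_rTensor, ← LinearMap.rTensor_comp_lTensor,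
    LinearMap.coe_comp]
  exact (Module.Flat.rTensor_preserves_injective_linearMap i hi).comp (hu A)

end Basic

section Key

variable {R D G : Type u} [CommRing R] [IsLocalRing R] [CommRing D] [Algebra R D] [Algebra.Smooth R D]
  [((maximalIdeal R).map (algebraMap R D)).IsPrime] [AddCommGroup G] [Module D G] [Module R G]
  [IsScalarTower R D G]

/-- The map of a step, composed with a map injective modulo the maximal ideal, reflects ideals. -/
theorem reflects_localized_comp (hdom : FibresDomain R D) (y : Ideal D) [y.IsPrime]
    (hy : (maximalIdeal R).map (algebraMap R D) ≤ y) {r : ℕ} (α : (Fin r → D) →ₗ[D] G)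
    (hα : Injective (α.baseChange ((maximalIdeal R).map (algebraMap R D)).ResidueField))
    {M : Type u} [AddCommGroup M] [Module R M] [Module.Flat R M]
    (u : LocalizedModule y.primeCompl G →ₗ[R] M) (hu : ModInj u) :
    Reflects (u ∘ₗ (LocalizedModule.map y.primeCompl α).restrictScalars R) := by
  have : Module.Free R D := free_of_fibresDomain hdom
  intro J z hz
  induction z using LocalizedModule.induction_on with
  | h x s =>
    let ψ : (Fin r → D) →ₗ[R] LocalizedModule y.primeCompl (Fin r → D) :=
      { toFun := fun w => LocalizedModule.mk w s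
        map_add' := fun a b => by
          rw [LocalizedModule.mk_add_mk, LocalizedModule.mk_eq]
          exact ⟨1, by simp only [one_smul, Submonoid.smul_def, smul_add, mul_smul]⟩
        map_smul' := fun a w => by simp [LocalizedModule.smul'_mk] }
    let w := u ∘ₗ (LocalizedModule.map y.primeCompl α).restrictScalars R ∘ₗ ψ
    have hw : ModInj w := by
      intro x' hx'
      have h1 := hu _ hx'
      have h2 := smul_mem_smul_top (maximalIdeal R) (s : D) h1
      have h3 : LocalizedModule.mkLinearMap y.primeCompl G (α x') ∈
          maximalIdeal R • (⊤ : Submodule R (LocalizedModule y.primeCompl G)) := by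
        convert h2 using 1
        show LocalizedModule.mk (α x') 1 = (s : D) • LocalizedModule.map y.primeCompl α
          (LocalizedModule.mk x' s)
        rw [LocalizedModule.map_mk, LocalizedModule.smul'_mk, LocalizedModule.mk_eq]
        exact ⟨1, by simp [Submonoid.smul_def]⟩
      obtain ⟨c, hc, hcm⟩ := exists_smul_mem_of_mk_mem y.primeCompl _ (α x') h3
      let K := ((maximalIdeal R).map (algebraMap R D)).ResidueField
      have h0 : ∀ g ∈ maximalIdeal R • (⊤ : Submodule R G), (1 : K) ⊗ₜ[D] g = 0 := by
        intro g hg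
        refine Submodule.smul_induction_on hg (fun a ha v _ => ?_)
          fun v w hv hw => by rw [tmul_add, hv, hw, add_zero]
        rw [← algebraMap_smul D a v, ← TensorProduct.smul_tmul, Algebra.smul_def, mul_one,
          (Ideal.algebraMap_residueField_eq_zero).2 (Ideal.mem_map_of_mem _ ha), zero_tmul]
      have h4 : algebraMap D K c • α.baseChange K ((1 : K) ⊗ₜ x') = 0 := by
        rw [LinearMap.baseChange_tmul, algebraMap_smul, ← tmul_smul]
        exact h0 _ hcm
      have hcK : algebraMap D K c ≠ 0 := fun h => hc (hy (Ideal.algebraMap_residueField_eq_zero.1 h))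
      have h5 : (1 : K) ⊗ₜ[D] x' = 0 :=
        hα (((smul_eq_zero.1 h4).resolve_left hcK).trans (map_zero _).symm)
      refine mem_smul_top_of_mem_ξ x' fun i => ?_
      have h6 := congrArg (fun v => TensorProduct.rid D K
        ((LinearMap.proj (R := D) (φ := fun _ : Fin r => D) i).lTensor K v)) h5
      simp only [LinearMap.lTensor_tmul, LinearMap.proj_apply, TensorProduct.rid_tmul, map_zero] at h6
      rw [Algebra.smul_def, mul_one] at h6
      exact Ideal.algebraMap_residueField_eq_zero.1 h6
    have hmem : x ∈ J • (⊤ : Submodule R (Fin r → D)) :=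
      reflects_of_free w ((modInj_iff w).1 hw) J x hz
    exact (Submodule.map_smul'' J ⊤ ψ).trans_le (Submodule.smul_mono le_rfl le_top)
      (Submodule.mem_map_of_mem hmem)

/-- A step of the dévissage. -/
theorem injModProp_step (hdom : FibresDomain R D) (y : Ideal D) [y.IsPrime]
    (hy : (maximalIdeal R).map (algebraMap R D) ≤ y) {r : ℕ} (α : (Fin r → D) →ₗ[D] G)
    (hα : Injective (α.baseChange ((maximalIdeal R).map (algebraMap R D)).ResidueField))
    (h : InjModProp R (LocalizedModule y.primeCompl (G ⧸ LinearMap.range α))) :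
    InjModProp R (LocalizedModule y.primeCompl G) :=
  InjModProp.of_exact ((LocalizedModule.map y.primeCompl α).restrictScalars R)
    ((LocalizedModule.map y.primeCompl (LinearMap.range α).mkQ).restrictScalars R)
    (LocalizedModule.map_exact _ α _ (LinearMap.exact_map_mkQ_range α))
    (LocalizedModule.map_surjective _ _ (Submodule.mkQ_surjective _)) h
    fun _ _ _ _ u hu => reflects_localized_comp hdom y hy α hα u hu

end Key

section Transfer

variable {R B A : Type u} [CommRing R] [IsLocalRing R] [CommRing B] [CommRing A] [Algebra B A]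
  [Algebra R B] [Algebra R A] [IsScalarTower R B A] {y : Ideal B} [y.IsPrime]
  {Q : Ideal A} [Q.IsPrime] [Q.LiesOver y] {G : Type u} [AddCommGroup G] [Module A G] [Module B G]
  [IsScalarTower B A G] [Module R G] [IsScalarTower R B G] [IsScalarTower R A G]

theorem injModProp_iff (h : DividesBase y Q) :
    InjModProp R (LocalizedModule Q.primeCompl G) ↔
      InjModProp R (LocalizedModule y.primeCompl G) := by
  have := isLocalizedModule_restrictScalars (G := G) h
  have : IsScalarTower R B (LocalizedModule Q.primeCompl G) := ⟨fun r b z => by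
    induction z using LocalizedModule.induction_on with
    | h g s => simp only [LocalizedModule.smul'_mk, smul_assoc]⟩
  let e := (IsLocalizedModule.iso y.primeCompl
    ((LocalizedModule.mkLinearMap Q.primeCompl G).restrictScalars B)).restrictScalars R
  exact ⟨fun hf => hf.of_equiv e.symm, fun hf => hf.of_equiv e⟩

end Transfer

theorem InjModProp.localized_congr {R B : Type u} [CommRing R] [IsLocalRing R] [CommRing B]
    [Algebra R B] {y : Ideal B} [y.IsPrime] {G G' : Type u} [AddCommGroup G] [Module B G] [Module R G]
    [IsScalarTower R B G] [AddCommGroup G'] [Module B G'] [Module R G'] [IsScalarTower R B G']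
    (h : InjModProp R (LocalizedModule y.primeCompl G')) (e : G ≃ₗ[B] G') :
    InjModProp R (LocalizedModule y.primeCompl G) := by
  have : IsLocalizedModule y.primeCompl
      ((LocalizedModule.mkLinearMap y.primeCompl G').comp e.toLinearMap) :=
    IsLocalizedModule.of_linearEquiv_right _ _ e
  exact h.of_equiv ((IsLocalizedModule.iso y.primeCompl
    ((LocalizedModule.mkLinearMap y.primeCompl G').comp e.toLinearMap)).restrictScalars R).symm

theorem Step.injModProp {R : Type u} [CommRing R] [IsLocalRing R] {S : Type u} [CommRing S]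
    [Algebra R S] {N : Type u} [AddCommGroup N] [Module S N] [Module R N] [IsScalarTower R S N]
    {q : Ideal S} [q.IsPrime] (s : Step R (maximalIdeal R) S N q)
    (h : ∀ [Module R (s.M ⧸ LinearMap.range s.α)] [IsScalarTower R s.B (s.M ⧸ LinearMap.range s.α)],
      InjModProp R (LocalizedModule s.qB.primeCompl (s.M ⧸ LinearMap.range s.α))) :
    InjModProp R (LocalizedModule q.primeCompl N) := by
  let _ : Module R s.M := Module.compHom s.M (algebraMap R s.B)
  have : IsScalarTower R s.B s.M := .of_algebraMap_smul fun _ _ => rfl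
  have : IsScalarTower R s.A s.M := isScalarTower_of_three R s.B s.A s.M
  have : IsScalarTower R S s.M := isScalarTower_of_top R S s.A s.M
  have := s.smooth
  have := s.finiteBA
  have hB : InjModProp R (LocalizedModule s.qB.primeCompl s.M) :=
    injModProp_step s.dom s.qB (Ideal.map_le_iff_le_comap.2 (s.qB.over_def (maximalIdeal R)).le)
      s.α s.fibreIso.injective h
  have hA : InjModProp R (LocalizedModule s.qA.primeCompl s.M) :=
    (injModProp_iff (dividesBase_of_finite s.qB s.qA fun Q _ hQ => s.uniq Q hQ)).2 hB
  have : s.qA.LiesOver q := ⟨s.q0.symm⟩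
  exact ((injModProp_iff (dividesBase_of_surjective s.surjSA q s.qA)).1 hA).localized_congr s.isoN

/-- The property at the point of a chain over a local base. -/
theorem Chain.injModProp {R : Type u} [CommRing R] [IsLocalRing R] {S : Type u} [CommRing S]
    [Algebra R S] {N : Type u} [AddCommGroup N] [Module S N] {q : Ideal S}
    (hc : Chain R (maximalIdeal R) S N q) [Module R N] [IsScalarTower R S N] [q.IsPrime] :
    InjModProp R (LocalizedModule q.primeCompl N) := by
  rename_i iR it hq
  revert iR it hq
  induction hc with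
  | last s hs =>
    intro _ _ _
    refine s.injModProp fun {_} {_} => ?_
    have : Subsingleton (s.M ⧸ LinearMap.range s.α) :=
      Submodule.Quotient.subsingleton_iff.2 (LinearMap.range_eq_top.2 hs)
    have : Subsingleton (LocalizedModule s.qB.primeCompl (s.M ⧸ LinearMap.range s.α)) :=
      (IsLocalizedModule.iso s.qB.primeCompl
        (LocalizedModule.mkLinearMap s.qB.primeCompl (s.M ⧸ LinearMap.range s.α))).symm.toEquiv.subsingleton
    exact .of_subsingleton
  | cons s _ ih =>
    intro _ _ _
    exact s.injModProp fun {_} {_} => ih (hq := s.hqB)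

end Groth.Agent.FlatMorDevissage
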