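import Groth.Agent.FlatMorDevissage.Transport

/-!
# Chains over the local ring of the base
-/

set_option autoImplicit false
set_option backward.isDefEq.respectTransparency false

universe u

open TensorProduct Function

namespace Groth.Agent.FlatMorDevissage

open Groth.Agent

attribute [local instance] Algebra.TensorProduct.rightAlgebra

/-- Integral fibres are stable under base change. -/
theorem FibresDomain.baseChange {R B : Type u} [CommRing R] [CommRing B] [Algebra R B]
    (h : FibresDomain R B) (R' : Type u) [CommRing R'] [Algebra R R'] :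
    FibresDomain R' (R' ⊗[R] B) := by
  intro K _ _
  let _ : Algebra R K := ((algebraMap R' K).comp (algebraMap R R')).toAlgebra
  have : IsScalarTower R R' K := .of_algebraMap_eq' rfl
  have := h K
  exact (Algebra.TensorProduct.cancelBaseChange R R' K K B).toMulEquiv.isDomain _

/-- The base change of an algebra along a flat algebra is flat. -/
theorem flat_rightAlgebra {R R' B : Type u} [CommRing R] [CommRing R'] [CommRing B] [Algebra R R']
    [Algebra R B] [Module.Flat R R'] : Module.Flat B (R' ⊗[R] B) :=
  Module.Flat.of_linearEquiv (Algebra.TensorProduct.commRight R B R').toLinearEquiv.symm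

set_option maxHeartbeats 1000000 in
/-- A chain gives a chain over the local ring of the base. -/
theorem Chain.localize {R : Type u} [CommRing R] {p : Ideal R} [p.IsPrime] {S : Type u} [CommRing S]
    [Algebra R S] {N : Type u} [AddCommGroup N] [Module S N] {q : Ideal S} (hc : Chain R p S N q)
    {A : Type u} [CommRing A] [Algebra R A] [IsLocalization.AtPrime A p] (m : Ideal A) [m.IsPrime]
    [m.LiesOver p] (S' : Type u) [CommRing S'] [Algebra R S'] [Algebra S S'] [Algebra A S']
    [IsScalarTower R S S'] [IsScalarTower R A S'] [Algebra.IsPushout R A S S'] (q' : Ideal S')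
    [q'.IsPrime] [q'.LiesOver q] [q'.LiesOver m] (N' : Type u) [AddCommGroup N'] [Module S' N']
    [Module S N'] [IsScalarTower S S' N'] (μ : N →ₗ[S] N') (hμ : IsBaseChange S' μ) :
    Chain A m S' N' q' := by
  have hp : Bijective (Ideal.ResidueField.mapₐ p m (Algebra.ofId R A) (m.over_def p)) :=
    (RingHom.surjectiveOnStalks_of_isLocalization (M := p.primeCompl)
      A).residueFieldMap_bijective p m (m.over_def p)
  have : Module.Flat R A := IsLocalization.flat A p.primeCompl
  have : Algebra.QuasiFinite R A := Algebra.QuasiFinite.of_isLocalization p.primeCompl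
  suffices key : ∀ {S : Type u} [CommRing S] [Algebra R S] {N : Type u} [AddCommGroup N]
      [Module S N] {q : Ideal S} (s : Step R p S N q),
      (∀ (qB' : Ideal (A ⊗[R] s.B)) [qB'.IsPrime] [qB'.LiesOver s.qB] [qB'.LiesOver m],
        Subsingleton ((A ⊗[R] s.B) ⊗[s.B] (s.M ⧸ LinearMap.range s.α)) ∨
          Chain A m (A ⊗[R] s.B) ((A ⊗[R] s.B) ⊗[s.B] (s.M ⧸ LinearMap.range s.α)) qB') →
      ∀ (S' : Type u) [CommRing S'] [Algebra R S'] [Algebra S S'] [Algebra A S'] [IsScalarTower R S S']
        [IsScalarTower R A S'] [Algebra.IsPushout R A S S'] (q' : Ideal S') [q'.IsPrime]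
        [q'.LiesOver q] [q'.LiesOver m] (N' : Type u) [AddCommGroup N'] [Module S' N'] [Module S N']
        [IsScalarTower S S' N'] (μ : N →ₗ[S] N'), IsBaseChange S' μ → Chain A m S' N' q' by
    revert S' q' N'
    induction hc with
    | last s hs =>
      intro S' _ _ _ _ _ _ _ q' _ _ _ N' _ _ _ _ μ hμ
      refine key s (fun qB' _ _ _ => Or.inl ?_) S' q' N' μ hμ
      have : Subsingleton (s.M ⧸ LinearMap.range s.α) :=
        Submodule.Quotient.subsingleton_iff.2 (LinearMap.range_eq_top.2 hs)
      infer_instance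
    | cons s _ ih =>
      intro S' _ _ _ _ _ _ _ q' _ _ _ N' _ _ _ _ μ hμ
      refine key s (fun qB' _ _ _ => Or.inr ?_) S' q' N' μ hμ
      exact ih (A ⊗[R] s.B) qB' _ (TensorProduct.mk s.B _ _ 1) (TensorProduct.isBaseChange s.B _ _)
  intro S _ _ N _ _ q s htail S' _ _ _ _ _ _ _ q' _ _ _ N' _ _ _ _ μ hμ
  let B' := A ⊗[R] s.B
  have hdom : FibresDomain A B' := s.dom.baseChange A
  have hrd : FlatCA.SmoothRelDim s.d A B' := smoothRelDim_baseChange s.relDim A
  have : Module.Flat s.B B' := flat_rightAlgebra
  have hB1 : IsLocalization ((⊥ : Submonoid s.B).map (algebraMap s.B (A ⊗[R] s.B))) B' :=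
    IsLocalization.of_le_isUnit
      (by rintro _ ⟨_, hm, rfl⟩; rw [Submonoid.mem_bot.1 hm, map_one]; exact isUnit_one)
  obtain ⟨qB', hqB', ho, ho'⟩ := exists_prime_pushout (S' := B') p m hp s.qB (⊥ : Submonoid s.B)
    (by rintro c hc hm; rw [Submonoid.mem_bot.1 hc] at hm; exact Ideal.one_notMem s.qB hm)
  have hbij := bijective_residueField_pushout (S' := B') p m hp ⊥ s.qB qB'
  let ι : A ⊗[R] S ≃ₐ[A] S' := Algebra.IsPushout.equiv R A S S'
  let _ : Algebra (A ⊗[R] S) S' := ι.toRingEquiv.toRingHom.toAlgebra
  have : IsScalarTower A (A ⊗[R] S) S' := .of_algebraMap_eq fun a => (ι.commutes a).symm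
  have : IsScalarTower S (A ⊗[R] S) S' := .of_algebraMap_eq fun b => by
    show _ = ι ((1 : A) ⊗ₜ[R] b)
    rw [Algebra.IsPushout.equiv_tmul, map_one, one_mul]
  have : IsLocalization.Away ((1 : A) ⊗ₜ[R] (1 : S)) S' :=
    IsLocalization.away_of_isUnit_of_bijective _ isUnit_one ι.bijective
  have : IsLocalization.Away ((1 : A) ⊗ₜ[R] (1 : s.B)) B' :=
    IsLocalization.away_of_isUnit_of_bijective _ isUnit_one bijective_id
  have : IsLocalization ((⊥ : Submonoid S).map (algebraMap S (A ⊗[R] S))) S' := by
    rw [Submonoid.map_bot, ← Submonoid.powers_one]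
    exact (inferInstance : IsLocalization.Away ((1 : A) ⊗ₜ[R] (1 : S)) S')
  have himg : algebraMap S s.A 1 = algebraMap s.B s.A 1 := by rw [map_one, map_one]
  let A' := B' ⊗[s.B] s.A
  obtain ⟨σ, hσS, hσR, hσsurj⟩ :=
    exists_sigma (R := R) (R' := A) (S := S) (S' := S') (B' := B') s.surjSA himg
  have hker := ker_sigma_eq (R := R) (R' := A) (S := S) (S' := S') (B' := B') s.surjSA himg hσS hσR
  have hq' : ∀ Q : Ideal A', Q.IsPrime → Q.comap (algebraMap B' A') = qB' → Q.comap σ = q' := by
    intro Q hQ hQB
    let _ : Algebra s.A A' := Algebra.TensorProduct.rightAlgebra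
    have : (Q.comap σ).IsPrime := Ideal.comap_isPrime σ Q
    have hQA : Q.comap (algebraMap s.A A') = s.qA := by
      refine s.uniq _ ⟨?_⟩
      show s.qB = (Q.comap (algebraMap s.A A')).comap (algebraMap s.B s.A)
      rw [Ideal.comap_comap, ← IsScalarTower.algebraMap_eq, IsScalarTower.algebraMap_eq s.B B' A',
        ← Ideal.comap_comap, hQB]
      exact qB'.over_def s.qB
    have h1 : (Q.comap σ).comap (algebraMap S S') = q := by
      refine Eq.trans ?_ s.q0
      rw [← hQA, Ideal.comap_comap, Ideal.comap_comap]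
      congr 1
      exact RingHom.ext hσS
    have : (Q.comap σ).LiesOver m := ⟨by
      show m = (Q.comap σ).comap (algebraMap A S')
      rw [Ideal.comap_comap, show σ.comp (algebraMap A S') =
        (algebraMap B' A').comp (algebraMap A B') from RingHom.ext hσR, ← Ideal.comap_comap, hQB]
      exact qB'.over_def m⟩
    exact eq_of_comap_eq p m hp (⊥ : Submonoid S) _ _ (h1.trans (q'.over_def q))
  obtain ⟨hlast, hcons⟩ :=
    s.exists_map_of_flat m hp B' hrd hdom qB' hbij S' σ hσS hσR hσsurj hker q' hq' N' hμ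
  rcases htail qB' with h | h
  · exact hlast h
  · exact hcons h

end Groth.Agent.FlatMorDevissage
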