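import Groth.Agent.FlatMorDevissage.Fibres

/-!
# Elements whose nonvanishing loci have integral or empty fibres
-/

set_option autoImplicit false
set_option backward.isDefEq.respectTransparency false

universe u

open TensorProduct Function

namespace Groth.Agent.FlatMorDevissage

/-- The locus of invertibility of `u` is integral or empty. -/
def DomAt {Z : Type u} [CommRing Z] (u : Z) : Prop :=
  ∀ a b : Z, a * b = 0 → ∃ k : ℕ, u ^ k * a = 0 ∨ u ^ k * b = 0

theorem domAt_iff {Z : Type u} [CommRing Z] (u : Z) :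
    DomAt u ↔ NoZeroDivisors (Localization.Away u) := by
  have hz : ∀ a : Z, algebraMap Z (Localization.Away u) a = 0 ↔ ∃ k : ℕ, u ^ k * a = 0 := fun a => by
    rw [IsLocalization.map_eq_zero_iff (Submonoid.powers u)]
    exact ⟨fun ⟨⟨_, k, rfl⟩, h⟩ => ⟨k, h⟩, fun ⟨k, h⟩ => ⟨⟨_, k, rfl⟩, h⟩⟩
  refine ⟨fun h => ⟨fun {x y} hxy => ?_⟩, fun h a b hab => ?_⟩
  · obtain ⟨a, s, rfl⟩ := IsLocalization.exists_mk'_eq (Submonoid.powers u) x
    obtain ⟨b, t, rfl⟩ := IsLocalization.exists_mk'_eq (Submonoid.powers u) y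
    rw [← IsLocalization.mk'_mul, IsLocalization.mk'_eq_zero_iff] at hxy
    obtain ⟨⟨_, k, rfl⟩, hk⟩ := hxy
    obtain ⟨j, hj | hj⟩ := h (u ^ k * a) b (by rw [mul_assoc]; exact hk)
    · refine Or.inl ((IsLocalization.mk'_eq_zero_iff _ _).2 ⟨⟨_, j + k, rfl⟩, ?_⟩)
      show u ^ (j + k) * a = 0
      rw [pow_add, mul_assoc]
      exact hj
    · exact Or.inr ((IsLocalization.mk'_eq_zero_iff _ _).2 ⟨⟨_, j, rfl⟩, hj⟩)
  · have h0 : algebraMap Z (Localization.Away u) a * algebraMap Z (Localization.Away u) b = 0 := by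
      rw [← map_mul, hab, map_zero]
    rcases mul_eq_zero.1 h0 with h1 | h1 <;> obtain ⟨k, hk⟩ := (hz _).1 h1
    · exact ⟨k, Or.inl hk⟩
    · exact ⟨k, Or.inr hk⟩

theorem DomAt.map_equiv {Z Z' : Type u} [CommRing Z] [CommRing Z'] (e : Z ≃+* Z') {u : Z}
    (h : DomAt u) : DomAt (e u) := by
  intro a b hab
  obtain ⟨k, hk⟩ := h (e.symm a) (e.symm b) (by rw [← map_mul, hab, map_zero])
  refine ⟨k, hk.imp (fun h1 => ?_) (fun h1 => ?_)⟩ <;>
  · have := congrArg e h1
    simpa using this

theorem DomAt.mul {Z : Type u} [CommRing Z] {u : Z} (h : DomAt u) (c : Z) : DomAt (u * c) := by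
  intro a b hab
  obtain ⟨k, hk⟩ := h a b hab
  exact ⟨k, hk.imp (fun h1 => by rw [mul_pow, mul_right_comm, h1, zero_mul])
    (fun h1 => by rw [mul_pow, mul_right_comm, h1, zero_mul])⟩

theorem DomAt.localization {Z L : Type u} [CommRing Z] [CommRing L] [Algebra Z L] (M : Submonoid Z)
    [IsLocalization M L] {u : Z} (h : DomAt u) : DomAt (algebraMap Z L u) := by
  intro x y hxy
  obtain ⟨a, s, rfl⟩ := IsLocalization.exists_mk'_eq M x
  obtain ⟨b, t, rfl⟩ := IsLocalization.exists_mk'_eq M y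
  rw [← IsLocalization.mk'_mul, IsLocalization.mk'_eq_zero_iff] at hxy
  obtain ⟨m, hm⟩ := hxy
  have hz : ∀ (k : ℕ) (c : Z) (s : M), u ^ k * c = 0 →
      algebraMap Z L u ^ k * IsLocalization.mk' L c s = 0 := fun k c s hc => by
    rw [← map_pow, IsLocalization.mul_mk'_eq_mk'_of_mul, hc, IsLocalization.mk'_zero]
  obtain ⟨k, hk⟩ := h (m.1 * a) b (by rw [mul_assoc]; exact hm)
  refine ⟨k, hk.imp (fun h1 => ?_) (hz k b t)⟩
  have hu : IsUnit (algebraMap Z L m.1) := IsLocalization.map_units L m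
  refine hu.mul_right_eq_zero.1 ?_
  rw [mul_left_comm, IsLocalization.mul_mk'_eq_mk'_of_mul]
  exact hz k _ s h1

/-- `x` is good over `R`: the fibres of its nonvanishing locus are integral or empty. -/
def GoodAt (R : Type u) [CommRing R] {X : Type u} [CommRing X] [Algebra R X] (x : X) : Prop :=
  ∀ (K : Type u) [Field K] [Algebra R K], DomAt ((1 : K) ⊗ₜ[R] x)

variable {R X : Type u} [CommRing R] [CommRing X] [Algebra R X]

theorem GoodAt.map_equiv {X' : Type u} [CommRing X'] [Algebra R X'] (e : X ≃ₐ[R] X') {x : X}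
    (h : GoodAt R x) : GoodAt R (e x) := fun K _ _ =>
  (h K).map_equiv (Algebra.TensorProduct.congr (AlgEquiv.refl (R := R) (A₁ := K)) e).toRingEquiv

theorem GoodAt.baseChange {x : X} (h : GoodAt R x) (R' : Type u) [CommRing R'] [Algebra R R'] :
    GoodAt R' ((1 : R') ⊗ₜ[R] x) := by
  intro K _ _
  let _ : Algebra R K := ((algebraMap R' K).comp (algebraMap R R')).toAlgebra
  have : IsScalarTower R R' K := .of_algebraMap_eq' rfl
  let e := Algebra.TensorProduct.cancelBaseChange R R' K K X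
  have := (h K).map_equiv e.symm.toRingEquiv
  rwa [show e.symm.toRingEquiv ((1 : K) ⊗ₜ[R] x) = (1 : K) ⊗ₜ[R'] ((1 : R') ⊗ₜ[R] x) from by
    simp [e]] at this

theorem GoodAt.mul {x : X} (h : GoodAt R x) (c : X) : GoodAt R (x * c) := fun K _ _ => by
  rw [show (1 : K) ⊗ₜ[R] (x * c) = ((1 : K) ⊗ₜ[R] x) * ((1 : K) ⊗ₜ[R] c) by
    rw [Algebra.TensorProduct.tmul_mul_tmul, one_mul]]
  exact (h K).mul _

theorem GoodAt.localization {L : Type u} [CommRing L] [Algebra X L] [Algebra R L]
    [IsScalarTower R X L] (M : Submonoid X) [IsLocalization M L] {x : X} (h : GoodAt R x) :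
    GoodAt R (algebraMap X L x) := by
  intro K _ _
  let M' : Submonoid (K ⊗[R] X) := M.map (Algebra.TensorProduct.includeRight (R := R) (A := K))
  let e := IsLocalization.tensorProductEquivOfMapIncludeRight R K M L (Localization M')
  have := ((h K).localization (L := Localization M') M').map_equiv e.symm.toRingEquiv
  rwa [show e.symm.toRingEquiv (algebraMap _ (Localization M') ((1 : K) ⊗ₜ[R] x)) =
      (1 : K) ⊗ₜ[R] algebraMap X L x from by
    refine (AlgEquiv.symm_apply_eq e).2 ?_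
    exact (IsLocalization.tensorProductEquivOfMapIncludeRight_tmul (M := M) (B := L) (C := Localization M')
        (x := (1 : K)) (a := x)).symm]
    at this

theorem GoodAt.weakDomain {x : X} (h : GoodAt R x) {L : Type u} [CommRing L] [Algebra X L]
    [Algebra R L] [IsScalarTower R X L] [IsLocalization.Away x L] : WeakDomain R L := by
  intro K _ _
  have := (domAt_iff _).1 (h K)
  exact (IsLocalization.Away.tensorProductEquivTMulRight R K x L).toMulEquiv.noZeroDivisors

end Groth.Agent.FlatMorDevissage
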