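import Groth.Agent.FlatCrit.Inj
import Groth.Prelude.Def_FlatCA
import Mathlib.RingTheory.LocalRing.Module
import Mathlib.RingTheory.Flat.EquationalCriterion
import Mathlib.RingTheory.Flat.Equalizer

/-!
# Maps from free modules to flat modules, injective modulo the maximal ideal

`Reflects u`: `u x ∈ J M → x ∈ J F` for every ideal `J`. For flat `M` this gives a flat cokernel and
universal injectivity.
-/

set_option autoImplicit false

universe u

open TensorProduct Function

namespace Groth.Agent.FlatMorDevissage

variable {R : Type u} [CommRing R] {F M : Type u} [AddCommGroup F] [Module R F] [AddCommGroup M]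
  [Module R M]

/-- `u x ∈ J M` forces `x ∈ J F`. -/
def Reflects (u : F →ₗ[R] M) : Prop :=
  ∀ (J : Ideal R) (x : F), u x ∈ J • (⊤ : Submodule R M) → x ∈ J • (⊤ : Submodule R F)

theorem Reflects.injective {u : F →ₗ[R] M} (h : Reflects u) : Injective u := by
  refine (injective_iff_map_eq_zero _).2 fun x hx => ?_
  simpa using h ⊥ x (by simp [hx])

theorem Reflects.flat_coker {u : F →ₗ[R] M} [Module.Flat R M] (h : Reflects u) :
    Module.Flat R (M ⧸ LinearMap.range u) := by
  rw [Module.Flat.iff_rTensor_injective]
  intro J _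
  suffices Injective (FlatCrit.mulMap (M ⧸ LinearMap.range u) J) from
    Injective.of_comp (f := TensorProduct.lid R _) this
  rw [injective_iff_map_eq_zero]
  intro c hc
  obtain ⟨y, rfl⟩ := LinearMap.lTensor_surjective J (Submodule.mkQ_surjective (LinearMap.range u)) c
  rw [FlatCrit.mulMap_lTensor, Submodule.mkQ_apply, Submodule.Quotient.mk_eq_zero] at hc
  obtain ⟨n, hn⟩ := hc
  have hn' : n ∈ J • (⊤ : Submodule R F) := by
    refine h J n ?_
    rw [hn, ← FlatCrit.range_mulMap]
    exact LinearMap.mem_range_self _ _
  rw [← FlatCrit.range_mulMap] at hn'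
  obtain ⟨t, rfl⟩ := hn'
  have : y = u.lTensor J t :=
    FlatCrit.mulMap_injective (M := M) J (by rw [FlatCrit.mulMap_lTensor, hn])
  rw [this, ← LinearMap.comp_apply, ← LinearMap.lTensor_comp, LinearMap.range_mkQ_comp,
    LinearMap.lTensor_zero, LinearMap.zero_apply]

theorem Reflects.univInj {u : F →ₗ[R] M} [Module.Flat R M] (h : Reflects u) :
    FlatCA.UnivInj R u := fun Q _ _ =>
  have := h.flat_coker
  LinearMap.lTensor_injective_of_exact_of_flat (LinearMap.range u).mkQ (Submodule.mkQ_surjective _) u
    h.injective (LinearMap.exact_map_mkQ_range u) Q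

variable [IsLocalRing R]

theorem mem_smul_of_finite {κ : Type u} [Fintype κ] [Module.Flat R M] (u : (κ → R) →ₗ[R] M)
    (h : Injective (u.lTensor (IsLocalRing.ResidueField R))) (J : Ideal R) (x : κ → R)
    (hx : u x ∈ J • (⊤ : Submodule R M)) : x ∈ J • (⊤ : Submodule R (κ → R)) := by
  classical
  have hx' : u x ∈ J • Submodule.span R (Set.range (id : M → M)) := by
    rwa [Set.range_id, Submodule.span_univ]
  obtain ⟨a, ha, hsum⟩ := (Submodule.mem_ideal_smul_span_iff_exists_sum J id (u x)).1 hx'
  let u₀ : (κ → R) × (a.support → R) →ₗ[R] M :=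
    u.coprod (Fintype.linearCombination R fun i : a.support => (i : M))
  let e : (κ → R) × (a.support → R) := (x, fun i => - a i)
  have he : u₀ e = 0 := by
    simp only [u₀, e, LinearMap.coprod_apply, Fintype.linearCombination_apply, neg_smul,
      Finset.sum_neg_distrib]
    rw [← hsum, Finsupp.sum, ← Finset.sum_coe_sort a.support]
    simp
  let K := Submodule.span R {e}
  have : Module.FinitePresentation R (((κ → R) × (a.support → R)) ⧸ K) :=
    Module.finitePresentation_of_surjective K.mkQ K.mkQ_surjective
      (by rw [Submodule.ker_mkQ]; exact Submodule.fg_span_singleton e)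
  obtain ⟨k, g, y, hgy⟩ := Module.Flat.exists_factorization_of_finitePresentation
    (K.liftQ u₀ ((Submodule.span_singleton_le_iff_mem _ _).2 he))
  let A : (κ → R) →ₗ[R] (Fin k →₀ R) := g ∘ₗ K.mkQ ∘ₗ LinearMap.inl R _ _
  have hyA : y ∘ₗ A = u := by
    refine LinearMap.ext fun z => ?_
    show y (g (K.mkQ (z, 0))) = u z
    rw [← LinearMap.comp_apply, ← hgy]
    simp [u₀]
  have hA : Injective (A.lTensor (IsLocalRing.ResidueField R)) := by
    refine Injective.of_comp (f := y.lTensor _) ?_
    rw [← LinearMap.coe_comp, ← LinearMap.lTensor_comp, hyA]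
    exact h
  obtain ⟨l, hl⟩ := (IsLocalRing.split_injective_iff_lTensor_residueField_injective A).2 hA
  have hmem : A x ∈ J • (⊤ : Submodule R (Fin k →₀ R)) := by
    have : K.mkQ (x, (0 : a.support → R)) = K.mkQ (0, fun i => a i) := by
      refine (Submodule.Quotient.eq K).2 ?_
      refine Submodule.mem_span_singleton.2 ⟨1, ?_⟩
      ext <;> simp [e]
    show g (K.mkQ (x, 0)) ∈ _
    rw [this]
    have hs : ((0 : κ → R), fun i : a.support => a i) =
        ∑ i : a.support, a i • ((0 : κ → R), Pi.single (M := fun _ => R) i 1) := by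
      refine Prod.ext ?_ (funext fun j => ?_)
      · rw [Prod.fst_sum]; simp
      · rw [Prod.snd_sum, Finset.sum_apply, Finset.sum_eq_single j
          (fun b _ hb => by simp [Pi.single_eq_of_ne hb.symm]) (by simp)]
        simp
    rw [hs, map_sum, map_sum]
    refine Submodule.sum_mem _ fun i _ => ?_
    rw [map_smul, map_smul]
    exact Submodule.smul_mem_smul (ha _) Submodule.mem_top
  rw [show x = l (A x) from (congr($hl x)).symm]
  exact (Submodule.map_smul'' J ⊤ l).trans_le (Submodule.smul_mono le_rfl le_top)
    (Submodule.mem_map_of_mem hmem)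

/-- A map from a free module to a flat module, injective mod `𝔪`, reflects every `J`. -/
theorem reflects_of_free [Module.Free R F] [Module.Flat R M] (u : F →ₗ[R] M)
    (h : Injective (u.lTensor (IsLocalRing.ResidueField R))) : Reflects u := by
  classical
  intro J x hx
  let b := Module.Free.chooseBasis R F
  let I := (b.repr x).support
  let inc : (I → R) →ₗ[R] F := Fintype.linearCombination R fun i : I => b i
  let l : F →ₗ[R] (I → R) := LinearMap.pi fun i : I => (Finsupp.lapply i.1) ∘ₗ b.repr.toLinearMap
  have hl : l ∘ₗ inc = LinearMap.id := by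
    refine (Pi.basisFun R I).ext fun i => funext fun j => ?_
    simp only [LinearMap.comp_apply, inc, Pi.basisFun_apply, Fintype.linearCombination_apply_single,
      one_smul, l, LinearMap.pi_apply, LinearEquiv.coe_coe, b.repr_self, Finsupp.lapply_apply,
      LinearMap.id_apply]
    by_cases hij : i = j
    · subst hij; simp
    · simp [Ne.symm hij, Subtype.val_injective.ne hij]
  have hinc : Injective (inc.lTensor (IsLocalRing.ResidueField R)) :=
    HasLeftInverse.injective ⟨l.lTensor _, fun z => by
      rw [← LinearMap.comp_apply, ← LinearMap.lTensor_comp, hl, LinearMap.lTensor_id, LinearMap.id_apply]⟩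
  have hxi : inc (fun i => b.repr x i) = x := by
    conv_rhs => rw [← b.linearCombination_repr x]
    rw [Finsupp.linearCombination_apply, Finsupp.sum, ← Finset.sum_coe_sort]
    simp [inc, Fintype.linearCombination_apply, I]
  rw [← hxi]
  refine (Submodule.map_smul'' J ⊤ inc).trans_le (Submodule.smul_mono le_rfl le_top)
    (Submodule.mem_map_of_mem (mem_smul_of_finite (u ∘ₗ inc) ?_ J _ (by rwa [LinearMap.comp_apply, hxi])))
  rw [LinearMap.lTensor_comp]
  exact h.comp hinc

end Groth.Agent.FlatMorDevissage
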