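import Groth.Agent.FlatMorDevissage.SmoothFree
import Groth.Agent.FlatMorDevissage.Reflect
import Mathlib.RingTheory.Ideal.GoingUp

/-!
# The key lemma of the dévissage: flatness passes to the cokernel

Also: localisations of modules along finite maps with one prime over a prime.
-/

set_option autoImplicit false
set_option backward.isDefEq.respectTransparency false

universe u

open TensorProduct Function IsLocalRing

namespace Groth.Agent.FlatMorDevissage

/-- The elements outside `Q` divide elements outside `y`. -/
def DividesBase {B A : Type u} [CommRing B] [CommRing A] [Algebra B A] (y : Ideal B) (Q : Ideal A) :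
    Prop :=
  ∀ c ∉ Q, ∃ c' : A, ∃ d ∉ y, c * c' = algebraMap B A d

theorem dividesBase_of_surjective {B A : Type u} [CommRing B] [CommRing A] [Algebra B A]
    (h : Surjective (algebraMap B A)) (y : Ideal B) (Q : Ideal A) [Q.LiesOver y] :
    DividesBase y Q := by
  intro c hc
  obtain ⟨d, rfl⟩ := h c
  exact ⟨1, d, fun hd => hc ((Ideal.mem_of_liesOver Q y d).1 hd), mul_one _⟩

theorem dividesBase_of_finite {B A : Type u} [CommRing B] [CommRing A] [Algebra B A]
    [Algebra.IsIntegral B A] (y : Ideal B) [y.IsPrime] (Q : Ideal A) [Q.LiesOver y]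
    (huniq : ∀ (Q' : Ideal A) [Q'.IsPrime], Q'.LiesOver y → Q' = Q) : DividesBase y Q := by
  intro c hc
  by_contra! h
  have hle : (Ideal.span {c}).comap (algebraMap B A) ≤ y := by
    intro d hd
    by_contra hdy
    obtain ⟨c', hc'⟩ := Ideal.mem_span_singleton'.1 hd
    exact h c' d hdy (by rw [mul_comm, hc'])
  obtain ⟨Q', hQ', hQp, hQc⟩ := Ideal.exists_ideal_over_prime_of_isIntegral y (Ideal.span {c}) hle
  have := huniq Q' ⟨hQc.symm⟩
  exact hc (this ▸ hQ' (Ideal.mem_span_singleton_self c))

section Transfer

variable {B A : Type u} [CommRing B] [CommRing A] [Algebra B A] {y : Ideal B} [y.IsPrime]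
  {Q : Ideal A} [Q.IsPrime] [Q.LiesOver y] {G : Type u} [AddCommGroup G] [Module A G] [Module B G]
  [IsScalarTower B A G]

theorem isLocalizedModule_restrictScalars (h : DividesBase y Q) :
    IsLocalizedModule y.primeCompl
      ((LocalizedModule.mkLinearMap Q.primeCompl G).restrictScalars B) := by
  have hn : ∀ d : y.primeCompl, algebraMap B A d ∈ Q.primeCompl :=
    fun d hd => d.2 ((Ideal.mem_of_liesOver Q y (d : B)).2 hd)
  refine { map_units := fun d => ?_, surj := fun z => ?_, exists_of_eq := fun {a b} hab => ?_ }
  · rw [Module.End.isUnit_iff]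
    have := (Module.End.isUnit_iff _).1
      (IsLocalizedModule.map_units (LocalizedModule.mkLinearMap Q.primeCompl G) ⟨_, hn d⟩)
    convert this using 1
    funext w
    simp
  · induction z using LocalizedModule.induction_on with
    | h g s =>
      obtain ⟨c', d, hd, hcd⟩ := h s.1 s.2
      refine ⟨(c' • g, ⟨d, hd⟩), ?_⟩
      show d • LocalizedModule.mk g s = LocalizedModule.mk (c' • g) 1
      rw [← algebraMap_smul A d, ← hcd, LocalizedModule.smul'_mk, LocalizedModule.mk_eq]
      exact ⟨1, by simp only [one_smul, Submonoid.smul_def, smul_smul]⟩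
  · obtain ⟨c, hc⟩ := IsLocalizedModule.exists_of_eq (S := Q.primeCompl) hab
    obtain ⟨c', d, hd, hcd⟩ := h c.1 c.2
    refine ⟨⟨d, hd⟩, ?_⟩
    show d • a = d • b
    rw [← algebraMap_smul A d, ← algebraMap_smul A d, ← hcd, mul_comm, mul_smul, mul_smul]
    exact congrArg (c' • ·) hc

theorem flatAt_iff {R : Type u} [CommRing R] [Algebra R B] [Algebra R A] [IsScalarTower R B A]
    [Module R G] [IsScalarTower R B G] [IsScalarTower R A G] (h : DividesBase y Q) :
    FlatCA.FlatAt R Q G ↔ FlatCA.FlatAt R y G := by
  have := isLocalizedModule_restrictScalars (G := G) h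
  have : IsScalarTower R B (LocalizedModule Q.primeCompl G) := ⟨fun r b z => by
    induction z using LocalizedModule.induction_on with
    | h g s => simp only [LocalizedModule.smul'_mk, smul_assoc]⟩
  let e := (IsLocalizedModule.iso y.primeCompl
    ((LocalizedModule.mkLinearMap Q.primeCompl G).restrictScalars B)).restrictScalars R
  exact ⟨fun hf => @Module.Flat.of_linearEquiv _ _ _ _ _ _ _ _ hf e,
    fun hf => @Module.Flat.of_linearEquiv _ _ _ _ _ _ _ _ hf e.symm⟩

end Transfer

theorem flatAt_congr {R B : Type u} [CommRing R] [CommRing B] [Algebra R B] {y : Ideal B}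
    [y.IsPrime] {G G' : Type u} [AddCommGroup G] [Module B G] [Module R G] [IsScalarTower R B G]
    [AddCommGroup G'] [Module B G'] [Module R G'] [IsScalarTower R B G'] (e : G ≃ₗ[B] G') :
    FlatCA.FlatAt R y G ↔ FlatCA.FlatAt R y G' := by
  have : IsLocalizedModule y.primeCompl
      ((LocalizedModule.mkLinearMap y.primeCompl G').comp e.toLinearMap) :=
    IsLocalizedModule.of_linearEquiv_right _ _ e
  let f := (IsLocalizedModule.iso y.primeCompl
    ((LocalizedModule.mkLinearMap y.primeCompl G').comp e.toLinearMap)).restrictScalars R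
  exact ⟨fun hf => @Module.Flat.of_linearEquiv _ _ _ _ _ _ _ _ hf f.symm,
    fun hf => @Module.Flat.of_linearEquiv _ _ _ _ _ _ _ _ hf f⟩

section Key

variable {R D G : Type u} [CommRing R] [CommRing D] [Algebra R D] [AddCommGroup G] [Module D G]
  [Module R G] [IsScalarTower R D G]

theorem smul_mem_smul_top (J : Ideal R) (c : D) {g : G} (hg : g ∈ J • (⊤ : Submodule R G)) :
    c • g ∈ J • (⊤ : Submodule R G) := by
  refine Submodule.smul_induction_on hg (fun a ha x _ => ?_)
    fun x y hx hy => by rw [smul_add]; exact add_mem hx hy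
  rw [smul_comm]
  exact Submodule.smul_mem_smul ha Submodule.mem_top

theorem exists_smul_mem_of_mk_mem (S : Submonoid D) (J : Ideal R) (g : G)
    (h : LocalizedModule.mkLinearMap S G g ∈ J • (⊤ : Submodule R (LocalizedModule S G))) :
    ∃ c ∈ S, c • g ∈ J • (⊤ : Submodule R G) := by
  have key : ∀ z ∈ J • (⊤ : Submodule R (LocalizedModule S G)),
      ∃ g' ∈ J • (⊤ : Submodule R G), ∃ s : S, z = LocalizedModule.mk g' s := by
    intro z hz
    refine Submodule.smul_induction_on hz (fun a ha w _ => ?_) ?_
    · induction w using LocalizedModule.induction_on with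
      | h g' s =>
        exact ⟨a • g', Submodule.smul_mem_smul ha Submodule.mem_top, s, LocalizedModule.smul'_mk _ _ _⟩
    · rintro _ _ ⟨g₁, h₁, s₁, rfl⟩ ⟨g₂, h₂, s₂, rfl⟩
      exact ⟨_, add_mem (smul_mem_smul_top J (s₂ : D) h₁) (smul_mem_smul_top J (s₁ : D) h₂), _,
        LocalizedModule.mk_add_mk⟩
  obtain ⟨g', hg', s, hs⟩ := key _ h
  rw [LocalizedModule.mkLinearMap_apply, LocalizedModule.mk_eq] at hs
  obtain ⟨v, hv⟩ := hs
  refine ⟨v.1 * s.1, S.mul_mem v.2 s.2, ?_⟩
  rw [mul_smul]
  have hv' : v.1 • s.1 • g = v.1 • g' := by simpa [Submonoid.smul_def] using hv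
  rw [hv']
  exact smul_mem_smul_top J _ hg'

variable [IsLocalRing R] [Algebra.Smooth R D] [((maximalIdeal R).map (algebraMap R D)).IsPrime]

theorem mem_smul_top_of_mem_ξ {r : ℕ} (x : Fin r → D)
    (hx : ∀ i, x i ∈ (maximalIdeal R).map (algebraMap R D)) :
    x ∈ maximalIdeal R • (⊤ : Submodule R (Fin r → D)) := by
  rw [← Finset.univ_sum_single x]
  refine Submodule.sum_mem _ fun i _ => ?_
  have h : x i ∈ maximalIdeal R • (⊤ : Submodule R D) := by
    rw [Ideal.smul_top_eq_map]
    exact hx i
  exact (Submodule.map_smul'' (maximalIdeal R) ⊤ (LinearMap.single R (fun _ : Fin r => D) i)).trans_le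
    (Submodule.smul_mono le_rfl le_top) (Submodule.mem_map_of_mem h)

/-- The key lemma (Raynaud–Gruson I 2.1): flatness at `y` of the target makes `α` universally
injective and the cokernel flat at `y`. -/
theorem key (hdom : FibresDomain R D) (y : Ideal D) [y.IsPrime]
    (hy : (maximalIdeal R).map (algebraMap R D) ≤ y) {r : ℕ} (α : (Fin r → D) →ₗ[D] G)
    (hα : Injective (α.baseChange ((maximalIdeal R).map (algebraMap R D)).ResidueField))
    (hflat : FlatCA.FlatAt R y G) :
    Injective α ∧ FlatCA.UnivInj R (α.restrictScalars R) ∧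
      FlatCA.FlatAt R y (G ⧸ LinearMap.range α) := by
  have : Module.Free R D := free_of_fibresDomain hdom
  have : Module.Flat R (LocalizedModule y.primeCompl G) := hflat
  let mk := (LocalizedModule.mkLinearMap y.primeCompl G).restrictScalars R
  let u : (Fin r → D) →ₗ[R] LocalizedModule y.primeCompl G := mk ∘ₗ α.restrictScalars R
  have hu : Injective (u.lTensor (ResidueField R)) := by
    refine (injective_iff_map_eq_zero _).2 fun z hz => ?_
    obtain ⟨x, rfl⟩ := TensorProduct.mk_surjective R (Fin r → D) (ResidueField R)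
      (Ideal.Quotient.mk_surjective (I := maximalIdeal R)) z
    have hker : ∀ (M : Type u) [AddCommGroup M] [Module R M] (m : M),
        TensorProduct.mk R (ResidueField R) M 1 m = 0 ↔ m ∈ maximalIdeal R • (⊤ : Submodule R M) :=
      fun M _ _ m => SetLike.ext_iff.1 (LinearMap.ker_tensorProductMk (Q := M) (I := maximalIdeal R)) m
    rw [TensorProduct.mk_apply, LinearMap.lTensor_tmul] at hz
    obtain ⟨c, hc, hcm⟩ := exists_smul_mem_of_mk_mem y.primeCompl _ (α x) ((hker _ _).1 hz)
    let K := ((maximalIdeal R).map (algebraMap R D)).ResidueField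
    have h0 : ∀ g ∈ maximalIdeal R • (⊤ : Submodule R G), (1 : K) ⊗ₜ[D] g = 0 := by
      intro g hg
      refine Submodule.smul_induction_on hg (fun a ha w _ => ?_)
        fun v w hv hw => by rw [tmul_add, hv, hw, add_zero]
      rw [← algebraMap_smul D a w, ← TensorProduct.smul_tmul, Algebra.smul_def, mul_one,
        (Ideal.algebraMap_residueField_eq_zero).2 (Ideal.mem_map_of_mem _ ha), zero_tmul]
    have h1 : algebraMap D K c • α.baseChange K ((1 : K) ⊗ₜ x) = 0 := by
      rw [LinearMap.baseChange_tmul, algebraMap_smul, ← tmul_smul]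
      exact h0 _ hcm
    have hcK : algebraMap D K c ≠ 0 := fun h => hc (hy (Ideal.algebraMap_residueField_eq_zero.1 h))
    have h2 : (1 : K) ⊗ₜ[D] x = 0 :=
      hα (((smul_eq_zero.1 h1).resolve_left hcK).trans (map_zero _).symm)
    refine (hker _ _).2 (mem_smul_top_of_mem_ξ x fun i => ?_)
    have h3 := congrArg (fun w => TensorProduct.rid D K
      ((LinearMap.proj (R := D) (φ := fun _ : Fin r => D) i).lTensor K w)) h2
    simp only [LinearMap.lTensor_tmul, LinearMap.proj_apply, TensorProduct.rid_tmul, map_zero] at h3
    rw [Algebra.smul_def, mul_one] at h3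
    exact Ideal.algebraMap_residueField_eq_zero.1 h3
  have hr := reflects_of_free u hu
  have hinj : Injective α := fun a b hab => hr.injective (congrArg mk hab)
  refine ⟨hinj, fun Q _ _ => ?_, ?_⟩
  · have h := hr.univInj Q
    rw [LinearMap.lTensor_comp] at h
    exact Injective.of_comp (f := mk.lTensor Q) h
  · let αy := (LocalizedModule.map y.primeCompl α).restrictScalars R
    let gy := (LocalizedModule.map y.primeCompl (LinearMap.range α).mkQ).restrictScalars R
    have hex : Exact αy gy :=
      LocalizedModule.map_exact _ α _ (LinearMap.exact_map_mkQ_range α)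
    have hgy : Surjective gy := LocalizedModule.map_surjective _ _ (Submodule.mkQ_surjective _)
    have hry : Reflects αy := by
      intro J z hz
      induction z using LocalizedModule.induction_on with
      | h x s =>
        have hz' : u x ∈ J • (⊤ : Submodule R (LocalizedModule y.primeCompl G)) := by
          have := smul_mem_smul_top J (s : D) hz
          convert this using 1
          show LocalizedModule.mk (α x) 1 = (s : D) • LocalizedModule.map y.primeCompl α
            (LocalizedModule.mk x s)
          rw [LocalizedModule.map_mk, LocalizedModule.smul'_mk, LocalizedModule.mk_eq]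
          exact ⟨1, by simp [Submonoid.smul_def]⟩
        let ψ : (Fin r → D) →ₗ[R] LocalizedModule y.primeCompl (Fin r → D) :=
          { toFun := fun w => LocalizedModule.mk w s
            map_add' := fun a b => by
              rw [LocalizedModule.mk_add_mk, LocalizedModule.mk_eq]
              exact ⟨1, by simp only [one_smul, Submonoid.smul_def, Submonoid.coe_mul, smul_add, mul_smul]⟩
            map_smul' := fun a w => by simp [LocalizedModule.smul'_mk] }
        exact (Submodule.map_smul'' J ⊤ ψ).trans_le (Submodule.smul_mono le_rfl le_top)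
          (Submodule.mem_map_of_mem (hr J x hz'))
    have := hry.flat_coker
    exact Module.Flat.of_linearEquiv (hex.linearEquivOfSurjective hgy).symm

end Key

end Groth.Agent.FlatMorDevissage
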