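import Groth.Agent.FlatMorLocalStr.RingForm
import Groth.Agent.FlatMorDevissage.Key

/-!
# Points of a base change over a point with the same residue field
-/

set_option autoImplicit false
set_option backward.isDefEq.respectTransparency false

universe u

open TensorProduct Function

namespace Groth.Agent.FlatMorDevissage

open Groth.Agent

/-- Modulo `Q`, the elements of `B'` are fractions of elements of `B`. -/
def DivBy {B B' : Type u} [CommRing B] [CommRing B'] [Algebra B B'] (Q : Ideal B') : Prop :=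
  ∀ x : B', ∃ c : B, algebraMap B B' c ∉ Q ∧ ∃ a : B, algebraMap B B' c * x - algebraMap B B' a ∈ Q

theorem eq_of_divBy {B B' : Type u} [CommRing B] [CommRing B'] [Algebra B B'] {Q₁ Q₂ : Ideal B'}
    [Q₁.IsPrime] [Q₂.IsPrime] (h : Q₁.comap (algebraMap B B') = Q₂.comap (algebraMap B B'))
    (hd : ∀ x : B', ∃ c : B, algebraMap B B' c ∉ Q₁ ∧ ∃ a : B,
      algebraMap B B' c * x - algebraMap B B' a ∈ Q₁ ∧ algebraMap B B' c * x - algebraMap B B' a ∈ Q₂) :
    Q₁ = Q₂ := by
  ext x
  obtain ⟨c, hc, a, h₁, h₂⟩ := hd x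
  have hc₂ : algebraMap B B' c ∉ Q₂ := fun hm => hc (by
    show c ∈ Q₁.comap (algebraMap B B')
    rw [h]
    exact hm)
  have ha : ∀ (Q : Ideal B') [Q.IsPrime], algebraMap B B' c ∉ Q →
      algebraMap B B' c * x - algebraMap B B' a ∈ Q → (x ∈ Q ↔ a ∈ Q.comap (algebraMap B B')) := by
    intro Q _ hcQ hQ
    refine ⟨fun hx => ?_, fun ha => ?_⟩
    · exact (Q.sub_mem_iff_right (Q.mul_mem_left _ hx)).1 hQ
    · exact (Ideal.IsPrime.mem_or_mem ‹_› ((Q.sub_mem_iff_left ha).1 hQ)).resolve_left hcQ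
  rw [ha Q₁ hc h₁, ha Q₂ hc₂ h₂, h]

theorem residueField_bijective_of_divBy {B B' : Type u} [CommRing B] [CommRing B'] [Algebra B B']
    (q : Ideal B) [q.IsPrime] (Q : Ideal B') [Q.IsPrime] [Q.LiesOver q] (h : DivBy (B := B) Q) :
    Bijective (Ideal.ResidueField.mapₐ q Q (Algebra.ofId B B') (Q.over_def q)) := by
  let m := Ideal.ResidueField.mapₐ q Q (Algebra.ofId B B') (Q.over_def q)
  refine ⟨m.toRingHom.injective, fun y => ?_⟩
  have key : ∀ x : B', algebraMap B' Q.ResidueField x ∈ Set.range m := by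
    intro x
    obtain ⟨c, hc, a, ha⟩ := h x
    refine ⟨algebraMap B q.ResidueField a / algebraMap B q.ResidueField c, ?_⟩
    rw [map_div₀, m.commutes, m.commutes, IsScalarTower.algebraMap_apply B B' Q.ResidueField,
      IsScalarTower.algebraMap_apply B B' Q.ResidueField, div_eq_iff
        (fun h0 => hc (Ideal.algebraMap_residueField_eq_zero.1 h0)), ← map_mul, mul_comm x, eq_comm,
      ← sub_eq_zero, ← map_sub, Ideal.algebraMap_residueField_eq_zero]
    exact ha
  obtain ⟨a, b, -, rfl⟩ := IsFractionRing.div_surjective (A := B' ⧸ Q) y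
  obtain ⟨a, rfl⟩ := Ideal.Quotient.mk_surjective a
  obtain ⟨b, rfl⟩ := Ideal.Quotient.mk_surjective b
  obtain ⟨a', ha'⟩ := key a
  obtain ⟨b', hb'⟩ := key b
  exact ⟨a' / b', by rw [map_div₀]; exact congrArg₂ (· / ·) ha' hb'⟩

section Pushout

attribute [local instance] Algebra.TensorProduct.rightAlgebra

variable {R R' S : Type u} [CommRing R] [CommRing R'] [CommRing S] [Algebra R R'] [Algebra R S]
  (p : Ideal R) [p.IsPrime] (p' : Ideal R') [p'.IsPrime] [p'.LiesOver p]
  (hp : Bijective (Ideal.ResidueField.mapₐ p p' (Algebra.ofId R R') (p'.over_def p)))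

include hp in
theorem exists_sub_mem (x : R' ⊗[R] S) :
    ∃ c ∉ p, ∃ a : S, algebraMap S (R' ⊗[R] S) (algebraMap R S c) * x -
      algebraMap S (R' ⊗[R] S) a ∈ p'.map (algebraMap R' (R' ⊗[R] S)) := by
  induction x using TensorProduct.induction_on with
  | zero => exact ⟨1, fun h => ‹p.IsPrime›.ne_top ((Ideal.eq_top_iff_one p).2 h), 0, by simp⟩
  | tmul r s =>
    obtain ⟨b, c, hbc⟩ := FlatMorLocalStr.exists_div_of_bijective p p' hp.surjective
      (algebraMap R' p'.ResidueField r)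
    rw [IsScalarTower.algebraMap_apply R R' p'.ResidueField,
      IsScalarTower.algebraMap_apply R R' p'.ResidueField] at hbc
    by_cases hc : c ∈ p
    · have hr : r ∈ p' := by
        rw [← Ideal.algebraMap_residueField_eq_zero, hbc,
          Ideal.algebraMap_residueField_eq_zero.2 ((Ideal.mem_of_liesOver p' p c).1 hc), div_zero]
      refine ⟨1, fun h => ‹p.IsPrime›.ne_top ((Ideal.eq_top_iff_one p).2 h), 0, ?_⟩
      rw [map_one, map_one, one_mul, map_zero, sub_zero, show r ⊗ₜ[R] s =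
        algebraMap R' (R' ⊗[R] S) r * ((1 : R') ⊗ₜ[R] s) by simp]
      exact Ideal.mul_mem_right _ _ (Ideal.mem_map_of_mem _ hr)
    · have hmem : algebraMap R R' c * r - algebraMap R R' b ∈ p' := by
        rw [← Ideal.algebraMap_residueField_eq_zero, map_sub, map_mul, hbc, mul_div_cancel₀ _ ?_,
          sub_self]
        exact fun h0 => hc ((Ideal.mem_of_liesOver p' p c).2 (Ideal.algebraMap_residueField_eq_zero.1 h0))
      refine ⟨c, hc, algebraMap R S b * s, ?_⟩
      have e : algebraMap S (R' ⊗[R] S) (algebraMap R S c) * (r ⊗ₜ[R] s) -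
          algebraMap S (R' ⊗[R] S) (algebraMap R S b * s) =
          algebraMap R' (R' ⊗[R] S) (algebraMap R R' c * r - algebraMap R R' b) *
            ((1 : R') ⊗ₜ[R] s) := by
        simp only [map_mul, map_sub, sub_mul, Algebra.TensorProduct.right_algebraMap_apply,
          Algebra.TensorProduct.algebraMap_apply, Algebra.algebraMap_self, RingHom.id_apply,
          Algebra.TensorProduct.tmul_mul_tmul, one_mul, mul_one]
        rw [← Algebra.smul_def, ← Algebra.smul_def, ← TensorProduct.smul_tmul, ← TensorProduct.smul_tmul,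
          Algebra.smul_def, Algebra.smul_def, mul_one]
      rw [e]
      exact Ideal.mul_mem_right _ _ (Ideal.mem_map_of_mem _ hmem)
  | add x y hx hy =>
    obtain ⟨c₁, hc₁, a₁, h₁⟩ := hx
    obtain ⟨c₂, hc₂, a₂, h₂⟩ := hy
    refine ⟨c₁ * c₂, p.primeCompl.mul_mem hc₁ hc₂,
      algebraMap R S c₂ * a₁ + algebraMap R S c₁ * a₂, ?_⟩
    have := add_mem (Ideal.mul_mem_left _ (algebraMap S (R' ⊗[R] S) (algebraMap R S c₂)) h₁)
      (Ideal.mul_mem_left _ (algebraMap S (R' ⊗[R] S) (algebraMap R S c₁)) h₂)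
    convert this using 1
    simp only [map_mul, map_add]
    ring1

variable {S' : Type u} [CommRing S'] [Algebra (R' ⊗[R] S) S'] [Algebra S S']
  [IsScalarTower S (R' ⊗[R] S) S'] [Algebra R' S'] [IsScalarTower R' (R' ⊗[R] S) S']

include hp in
theorem exists_div_localization (M : Submonoid S)
    [IsLocalization (M.map (algebraMap S (R' ⊗[R] S))) S'] (x : S') :
    ∃ c ∈ M, ∃ c₀ ∉ p, ∃ a : S,
      algebraMap S S' (c * algebraMap R S c₀) * x - algebraMap S S' a ∈ p'.map (algebraMap R' S') := by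
  obtain ⟨⟨y, ⟨_, c, hcM, rfl⟩⟩, hy⟩ := IsLocalization.surj (M.map (algebraMap S (R' ⊗[R] S))) x
  obtain ⟨c₀, hc₀, a, ha⟩ := exists_sub_mem p p' hp y
  refine ⟨c, hcM, c₀, hc₀, a, ?_⟩
  have h2 := Ideal.mem_map_of_mem (algebraMap (R' ⊗[R] S) S') ha
  rw [Ideal.map_map, ← IsScalarTower.algebraMap_eq, map_sub, map_mul, ← hy] at h2
  simp only [map_mul, ← IsScalarTower.algebraMap_apply S (R' ⊗[R] S) S'] at h2 ⊢
  convert h2 using 1
  ring

include hp in
/-- A point of the base change is determined by its images. -/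
theorem eq_of_comap_eq (M : Submonoid S) [IsLocalization (M.map (algebraMap S (R' ⊗[R] S))) S']
    [Algebra R S'] [IsScalarTower R S S'] [IsScalarTower R R' S']
    (Q₁ Q₂ : Ideal S') [Q₁.IsPrime] [Q₂.IsPrime] [Q₁.LiesOver p'] [Q₂.LiesOver p']
    (h : Q₁.comap (algebraMap S S') = Q₂.comap (algebraMap S S')) : Q₁ = Q₂ := by
  refine eq_of_divBy (B := S) h fun x => ?_
  obtain ⟨c, hc, c₀, hc₀, a, ha⟩ := exists_div_localization p p' hp M x
  refine ⟨c * algebraMap R S c₀, ?_, a, Ideal.map_le_iff_le_comap.2 (Q₁.over_def p').le ha,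
    Ideal.map_le_iff_le_comap.2 (Q₂.over_def p').le ha⟩
  rw [map_mul]
  refine Ideal.IsPrime.mul_notMem ‹_› (fun hm => ?_) fun hm => hc₀ ?_
  · refine ‹Q₁.IsPrime›.ne_top (Q₁.eq_top_of_isUnit_mem hm ?_)
    rw [IsScalarTower.algebraMap_apply S (R' ⊗[R] S) S']
    exact IsLocalization.map_units S' (⟨_, c, hc, rfl⟩ : M.map (algebraMap S (R' ⊗[R] S)))
  · rw [← IsScalarTower.algebraMap_apply R S S', IsScalarTower.algebraMap_apply R R' S'] at hm
    exact (Ideal.mem_of_liesOver p' p c₀).2 ((Ideal.mem_of_liesOver Q₁ p' _).2 hm)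

include hp in
/-- The residue field of a point of the base change. -/
theorem bijective_residueField_pushout (M : Submonoid S)
    [IsLocalization (M.map (algebraMap S (R' ⊗[R] S))) S'] [Algebra R S'] [IsScalarTower R S S']
    [IsScalarTower R R' S'] (q : Ideal S) [q.IsPrime] (Q : Ideal S') [Q.IsPrime] [Q.LiesOver q]
    [Q.LiesOver p'] :
    Bijective (Ideal.ResidueField.mapₐ q Q (Algebra.ofId S S') (Q.over_def q)) := by
  refine residueField_bijective_of_divBy q Q fun x => ?_
  obtain ⟨c, hc, c₀, hc₀, a, ha⟩ := exists_div_localization p p' hp M x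
  refine ⟨c * algebraMap R S c₀, ?_, a, Ideal.map_le_iff_le_comap.2 (Q.over_def p').le ha⟩
  rw [map_mul]
  refine Ideal.IsPrime.mul_notMem ‹_› (fun hm => ?_) fun hm => hc₀ ?_
  · refine ‹Q.IsPrime›.ne_top (Q.eq_top_of_isUnit_mem hm ?_)
    rw [IsScalarTower.algebraMap_apply S (R' ⊗[R] S) S']
    exact IsLocalization.map_units S' (⟨_, c, hc, rfl⟩ : M.map (algebraMap S (R' ⊗[R] S)))
  · rw [← IsScalarTower.algebraMap_apply R S S', IsScalarTower.algebraMap_apply R R' S'] at hm
    exact (Ideal.mem_of_liesOver p' p c₀).2 ((Ideal.mem_of_liesOver Q p' _).2 hm)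

include hp in
/-- A point of the base change with given images. -/
theorem exists_prime_pushout (q : Ideal S) [q.IsPrime] [q.LiesOver p] (M : Submonoid S)
    [IsLocalization (M.map (algebraMap S (R' ⊗[R] S))) S'] (hM : ∀ c ∈ M, c ∉ q) :
    ∃ Q : Ideal S', Q.IsPrime ∧ Q.LiesOver q ∧ Q.LiesOver p' := by
  let e := AlgEquiv.ofBijective (Ideal.ResidueField.mapₐ p p' (Algebra.ofId R R') (p'.over_def p)) hp
  let φR : R' →ₐ[R] q.ResidueField := ((Ideal.ResidueField.mapₐ p q (Algebra.ofId R S) (q.over_def p)).comp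
    e.symm.toAlgHom).comp (IsScalarTower.toAlgHom R R' p'.ResidueField)
  let φ : R' ⊗[R] S →ₐ[R] q.ResidueField :=
    Algebra.TensorProduct.lift φR (IsScalarTower.toAlgHom R S q.ResidueField) fun _ _ => .all _ _
  have hS : ∀ a, φ (algebraMap S (R' ⊗[R] S) a) = algebraMap S q.ResidueField a := fun a => by
    rw [Algebra.TensorProduct.right_algebraMap_apply, Algebra.TensorProduct.lift_tmul, map_one, one_mul]
    rfl
  have hR : ∀ r, φ (algebraMap R' (R' ⊗[R] S) r) = φR r := fun r => by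
    rw [Algebra.TensorProduct.algebraMap_apply, Algebra.algebraMap_self, RingHom.id_apply,
      Algebra.TensorProduct.lift_tmul, map_one, mul_one]
  have hu : ∀ y : M.map (algebraMap S (R' ⊗[R] S)), IsUnit (φ.toRingHom y) := by
    rintro ⟨_, c, hc, rfl⟩
    show IsUnit (φ (algebraMap S (R' ⊗[R] S) c))
    rw [hS, isUnit_iff_ne_zero, Ne, Ideal.algebraMap_residueField_eq_zero]
    exact hM c hc
  let Φ : S' →+* q.ResidueField := IsLocalization.lift hu
  refine ⟨RingHom.ker Φ, RingHom.ker_isPrime _, ⟨Ideal.ext fun a => ?_⟩, ⟨Ideal.ext fun r => ?_⟩⟩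
  · show a ∈ q ↔ Φ (algebraMap S S' a) = 0
    rw [IsScalarTower.algebraMap_apply S (R' ⊗[R] S) S', IsLocalization.lift_eq]
    show a ∈ q ↔ φ (algebraMap S (R' ⊗[R] S) a) = 0
    rw [hS, Ideal.algebraMap_residueField_eq_zero]
  · show r ∈ p' ↔ Φ (algebraMap R' S' r) = 0
    rw [IsScalarTower.algebraMap_apply R' (R' ⊗[R] S) S', IsLocalization.lift_eq]
    show r ∈ p' ↔ φ (algebraMap R' (R' ⊗[R] S) r) = 0
    rw [hR, ← Ideal.algebraMap_residueField_eq_zero]
    show algebraMap R' p'.ResidueField r = 0 ↔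
      Ideal.ResidueField.mapₐ p q (Algebra.ofId R S) (q.over_def p)
        (e.symm (algebraMap R' p'.ResidueField r)) = 0
    exact ((map_eq_zero_iff _ (RingHom.injective
      (Ideal.ResidueField.mapₐ p q (Algebra.ofId R S) (q.over_def p)).toRingHom)).trans
      (map_eq_zero_iff _ e.symm.injective)).symm

end Pushout

end Groth.Agent.FlatMorDevissage
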