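import Groth.Agent.FlatMorLocalStr.Nbhd
import Groth.Agent.FlatMorLocalStr.RingForm
import Groth.Agent.FlatMorDevissage.GoodElem
import Groth.Agent.FlatMorDevissage.NbhdPrimes
import Groth.Agent.EGA43.FibDepth.TensorTrd

/-!
# Good elements near a point with purely transcendental residue field
-/

set_option autoImplicit false
set_option backward.isDefEq.respectTransparency false

universe u

open AlgebraicGeometry CategoryTheory Limits TopologicalSpace

namespace Groth.Agent.FlatMorLocalStr

/-- An open of the base change with geometrically integral fibres. -/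
theorem exists_geometricallyIntegral_open {Y S : Scheme.{u}} (h₀ : Y ⟶ S) {n : ℕ}
    [SmoothOfRelativeDimension n h₀] [IsAffine Y] [IsAffine S] (y : Y)
    (hy : ∀ {Z : Scheme.{u}} (a : Z ⟶ S) [Etale a] (z : Z), a z = h₀ y →
      ∀ p p' : ↑(pullback h₀ a), pullback.fst h₀ a p = y → pullback.snd h₀ a p = z →
        pullback.fst h₀ a p' = y → pullback.snd h₀ a p' = z → p = p') :
    ∃ (S' : Scheme.{u}) (e : S' ⟶ S) (s' : S') (A : S'.Opens) (W : (pullback h₀ e).Opens)
      (h' : W.toScheme ⟶ A.toScheme) (y'' : ↑(pullback h₀ e)),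
      IsAffineOpen A ∧ s' ∈ A ∧ Hens2.IsEtaleNbhd e s' (h₀ y) ∧ y'' ∈ W ∧
      pullback.fst h₀ e y'' = y ∧ pullback.snd h₀ e y'' = s' ∧
      h' ≫ A.ι = W.ι ≫ pullback.snd h₀ e ∧ GeometricallyIntegral h' := by
  have : Smooth h₀ := SmoothOfRelativeDimension.smooth n h₀
  obtain ⟨O, hyO, hO⟩ := exists_fibre_component h₀ y
  obtain ⟨S'', g, w, hg, hgw, σ₁, hσ₁⟩ :=
    FlatMorSmoothSect.exists_section_etale_locally (O.ι ≫ h₀) ⟨y, hyO⟩
  obtain ⟨S', e, s', hS', he, V, v, hfin, hsurj, hvV, hvw, hvs, huniq⟩ :=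
    exists_split_affine g (x := w) (s := h₀ y) hgw
  have := he.etale
  let Z := V.toScheme
  let b : Z ⟶ S' := V.ι ≫ pullback.snd g e
  let a : Z ⟶ S := b ≫ e
  have : IsFinite b := hfin
  have : Surjective b := hsurj
  have : Etale b := inferInstance
  have : IsAffine Z := isAffine_of_isAffineHom b
  let z : Z := ⟨v, hvV⟩
  have haz : a z = h₀ y := by
    show e (pullback.snd g e v) = _
    rw [hvs]; exact he.base_eq
  let σ : Z ⟶ Y := V.ι ≫ pullback.fst g e ≫ σ₁ ≫ O.ι
  have hσ : σ ≫ h₀ = a := by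
    simp only [σ, a, b, Category.assoc]
    rw [hσ₁, pullback.condition]
  let Y'' := pullback h₀ e
  let P := pullback h₀ a
  let p : P ⟶ Z := pullback.snd h₀ a
  let q : P ⟶ Y'' := pullback.lift (pullback.fst _ _) (p ≫ b) (by
    rw [Category.assoc]; exact pullback.condition)
  let h₁ : Y'' ⟶ S' := pullback.snd h₀ e
  have hsq : IsPullback q p h₁ b := by
    refine IsPullback.of_right ?_ (pullback.lift_snd _ _ _) (IsPullback.of_hasPullback h₀ e)
    rw [pullback.lift_fst]
    exact IsPullback.of_hasPullback h₀ a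
  have : IsFinite q := MorphismProperty.of_isPullback hsq.flip ‹_›
  have : Etale q := MorphismProperty.of_isPullback hsq.flip inferInstance
  let σP : Z ⟶ P := pullback.lift σ (𝟙 Z) (by rw [hσ, Category.id_comp])
  have hσP : σP ≫ p = 𝟙 Z := pullback.lift_snd _ _ _
  let E := MoreMor.sectionComponents p σP
  have hE : IsOpen E := isOpen_sectionComponents_of_smooth p σP hσP
  let good : Y''.Opens := ⟨(q '' Eᶜ)ᶜ, (q.isClosedMap _ hE.isClosed_compl).isOpen_compl⟩
  obtain ⟨y'', hy''1, hy''2⟩ := Scheme.Pullback.exists_preimage_pullback y s' (he.base_eq.symm)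
  have hzu : ∀ t : Z, b t = s' → t = z := fun t ht => Subtype.ext (huniq t.1 t.2 ht)
  have hgood : y'' ∈ good := by
    rintro ⟨p₀, hp₀E, hp₀⟩
    have hp₀fst : pullback.fst h₀ a p₀ = y := by
      rw [← hy''1, ← hp₀, ← Scheme.Hom.comp_apply, pullback.lift_fst]
    have hbp : ∀ t, b (p t) = h₁ (q t) := fun t => by
      rw [← Scheme.Hom.comp_apply, ← Scheme.Hom.comp_apply, hsq.w]
    have hp₀snd : p p₀ = z := hzu _ (by rw [hbp, hp₀]; exact hy''2)
    have hF : p ⁻¹' {z} = q ⁻¹' (h₁ ⁻¹' {s'}) := by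
      ext t
      simp only [Set.mem_preimage, Set.mem_singleton_iff]
      exact ⟨fun h => by rw [← hbp, h]; exact hvs, fun h => hzu _ (by rw [hbp, h])⟩
    have hσz : p (σP z) = z := by rw [← Scheme.Hom.comp_apply, hσP]; rfl
    have hEF : E ∩ p ⁻¹' {z} = connectedComponentIn (p ⁻¹' {z}) (σP z) := by
      ext t
      refine ⟨fun ⟨h1, h2⟩ => ?_, fun ht => ?_⟩
      · have h1' : t ∈ connectedComponentIn (p ⁻¹' {p t}) (σP (p t)) := h1
        rwa [show p t = z from h2] at h1'
      · have h2 : p t = z := connectedComponentIn_subset (p ⁻¹' {z}) (σP z) ht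
        refine ⟨?_, h2⟩
        show t ∈ connectedComponentIn (p ⁻¹' {p t}) (σP (p t))
        rw [h2]
        exact ht
    -- the connected set in the fibre over `s'`
    let T : Set Y'' := pullback.fst h₀ e ⁻¹' ((O : Set Y) ∩ h₀ ⁻¹' {h₀ y}) ∩ h₁ ⁻¹' {s'}
    have hT : _root_.IsPreconnected T := by
      obtain ⟨φ, hφi, hφ⟩ := FlatMor12.exists_fiber_iso h₀ he
      have : T = ((pullback.snd h₀ e).fiberι s') '' ((φ ≫ h₀.fiberι (h₀ y)) ⁻¹'
          ((O : Set Y) ∩ h₀ ⁻¹' {h₀ y})) := by
        rw [hφ, Scheme.Hom.comp_base, TopCat.coe_comp, Set.preimage_comp,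
          Set.image_preimage_eq_range_inter, Scheme.Hom.range_fiberι, Set.inter_comm]
      rw [this]
      refine IsPreconnected.image ?_ _ ((pullback.snd h₀ e).fiberι s').continuous.continuousOn
      refine (φ ≫ h₀.fiberι (h₀ y)).isEmbedding.isInducing.isPreconnected_image.1 ?_
      rw [Set.image_preimage_eq_of_subset]
      · exact hO
      · rw [Scheme.Hom.comp_base, TopCat.coe_comp, Set.range_comp,
          Set.range_eq_univ.2 (show Function.Surjective φ from φ.homeomorph.surjective), Set.image_univ, Scheme.Hom.range_fiberι]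
        exact Set.inter_subset_right
    have hTσ : q (σP z) ∈ T := by
      refine ⟨?_, ?_⟩
      · rw [Set.mem_preimage]
        rw [← Scheme.Hom.comp_apply, pullback.lift_fst, ← Scheme.Hom.comp_apply, pullback.lift_fst]
        refine ⟨?_, ?_⟩
        · exact (σ₁ (pullback.fst g e v)).2
        · show h₀ (σ z) = h₀ y
          rw [← Scheme.Hom.comp_apply, hσ, haz]
      · show h₁ (q (σP z)) = s'
        rw [← hbp, hσz]; exact hvs
    obtain ⟨c, ⟨hcE, hcz⟩, hc⟩ := subset_image_of_component q.isOpenMap q.isClosedMap hF hE hEF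
      (show σP z ∈ p ⁻¹' {z} from hσz) hT Set.inter_subset_right hTσ
      (show y'' ∈ T from ⟨by rw [Set.mem_preimage, hy''1]; exact ⟨hyO, rfl⟩, hy''2⟩)
    have hcfst : pullback.fst h₀ a c = y := by
      rw [← hy''1, ← hc, ← Scheme.Hom.comp_apply, pullback.lift_fst]
    exact hp₀E (hy a z haz c p₀ hcfst hcz hp₀fst hp₀snd ▸ hcE)
  have : Smooth h₁ := inferInstance
  obtain ⟨A, hA, hsA, hAW⟩ := exists_isAffineOpen_mem_and_subset (X := S') (x := s')
    (U := ⟨h₁ '' good, h₁.isOpenMap _ good.2⟩) ⟨y'', hgood, hy''2⟩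
  let W : Y''.Opens := good ⊓ h₁ ⁻¹ᵁ A
  let h : W.toScheme ⟶ A.toScheme := IsOpenImmersion.lift A.ι (W.ι ≫ h₁) (by
    rintro _ ⟨t, rfl⟩
    rw [Scheme.Opens.range_ι]
    exact t.2.2)
  have hh : h ≫ A.ι = W.ι ≫ h₁ := IsOpenImmersion.lift_fac _ _ _
  have hha : ∀ t, (h t).1 = h₁ t.1 := fun t => by
    show A.ι (h t) = _
    rw [← Scheme.Hom.comp_apply, hh]; rfl
  have : Surjective h := ⟨fun t => by
    obtain ⟨t', ht', htt⟩ := hAW t.2
    exact ⟨⟨t', ht', show h₁ t' ∈ A from htt ▸ t.2⟩, Subtype.ext ((hha _).trans htt)⟩⟩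
  refine ⟨S', e, s', A, W, h, y'', hA, hsA, he, ⟨hgood, show h₁ y'' ∈ A from hy''2 ▸ hsA⟩,
    hy''1, hy''2, hh, ?_⟩
  refine geometricallyIntegral_of_subset_sectionComponents p q h₁ b hsq σP hσP W ?_ A h hh
  intro t ht
  by_contra htE
  exact ht.1 ⟨t, htE, rfl⟩

end Groth.Agent.FlatMorLocalStr

namespace Groth.Agent.FlatMorDevissage

open Groth.Agent TensorProduct Function

/-- The residue field map of a map of spectra. -/
theorem residueFieldMap_eq {A B : Type u} [CommRing A] [CommRing B] [Algebra A B] (tx : Spec (CommRingCat.of B)) :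
    let g := Spec.map (CommRingCat.ofHom (algebraMap A B))
    g.residueFieldMap tx = (Scheme.Spec.residueFieldIso (CommRingCat.of A) (g tx)).hom ≫
      CommRingCat.ofHom (Ideal.ResidueField.mapₐ (tx.asIdeal.comap (algebraMap A B)) tx.asIdeal
        (Algebra.ofId A B) rfl).toRingHom ≫
      (Scheme.Spec.residueFieldIso (CommRingCat.of B) tx).inv := by
  intro g
  let R := CommRingCat.of A
  let R' := CommRingCat.of B
  let M : CommRingCat.of (g tx).asIdeal.ResidueField ⟶ CommRingCat.of tx.asIdeal.ResidueField :=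
    CommRingCat.ofHom (Ideal.ResidueField.mapₐ (tx.asIdeal.comap (algebraMap A B)) tx.asIdeal
      (Algebra.ofId _ _) rfl).toRingHom
  have hM : CommRingCat.ofHom (algebraMap R (g tx).asIdeal.ResidueField) ≫ M =
      CommRingCat.ofHom (algebraMap A B) ≫ CommRingCat.ofHom (algebraMap R' tx.asIdeal.ResidueField) := by
    ext a
    exact ((Ideal.ResidueField.mapₐ (tx.asIdeal.comap (algebraMap A B)) tx.asIdeal (Algebra.ofId A B)
      rfl).commutes a).trans (IsScalarTower.algebraMap_apply A B _ a)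
  show g.residueFieldMap tx = (Scheme.Spec.residueFieldIso R (g tx)).hom ≫ M ≫
    (Scheme.Spec.residueFieldIso R' tx).inv
  rw [← Spec.map_inj, ← cancel_mono ((Spec R).fromSpecResidueField (g tx)),
    Scheme.Hom.SpecMap_residueFieldMap_fromSpecResidueField,
    ← Scheme.Spec.map_residueFieldIso_inv_eq_fromSpecResidueField R',
    ← Scheme.Spec.map_residueFieldIso_inv_eq_fromSpecResidueField R]
  dsimp only [g]
  rw [Category.assoc, ← Spec.map_comp, ← Spec.map_comp, ← Spec.map_comp, ← Spec.map_comp, ← hM]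
  simp only [Category.assoc, Iso.inv_hom_id_assoc]
  rfl

/-- A point with purely transcendental residue field has one preimage over each etale point. -/
theorem eq_of_purelyTranscendental {A B : Type u} [CommRing A] [CommRing B] [Algebra A B]
    [Algebra.FiniteType A B] (p : Ideal A) [p.IsPrime] (y : Ideal B) [y.IsPrime] [y.LiesOver p]
    (h : FlatCA.PurelyTranscendental p y) {Z : Scheme.{u}} (a : Z ⟶ Spec (CommRingCat.of A)) [Etale a]
    (z : Z) (P P' : ↑(pullback (Spec.map (CommRingCat.ofHom (algebraMap A B))) a))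
    (hp : pullback.fst (Spec.map (CommRingCat.ofHom (algebraMap A B))) a P = ⟨y, inferInstance⟩)
    (hq : pullback.snd (Spec.map (CommRingCat.ofHom (algebraMap A B))) a P = z)
    (hp' : pullback.fst (Spec.map (CommRingCat.ofHom (algebraMap A B))) a P' = ⟨y, inferInstance⟩)
    (hq' : pullback.snd (Spec.map (CommRingCat.ofHom (algebraMap A B))) a P' = z) : P = P' := by
  refine FlatMorLocalStr.eq_of_subsingleton_tensor (fun T hTx hTy => ?_) P P' hp hq hp' hq'
  obtain ⟨tx, ty, s, hsx, hsy⟩ := T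
  subst hsx hTy
  obtain rfl : tx = ⟨y, inferInstance⟩ := hTx
  refine FlatMorLocalStr.subsingleton_pushout _ _ ?_
  let tx : Spec (CommRingCat.of B) := ⟨y, inferInstance⟩
  let g := Spec.map (CommRingCat.ofHom (algebraMap A B))
  let i := ((Spec (CommRingCat.of A)).residueFieldCongr (show g tx = g tx from rfl)).inv ≫
    g.residueFieldMap tx
  let j := ((Spec (CommRingCat.of A)).residueFieldCongr hsy).inv ≫ a.residueFieldMap ty
  let := i.hom.toAlgebra
  let := j.hom.toAlgebra
  obtain ⟨h1, h2⟩ := FlatMorLocalStr.finite_residueFieldMap a ty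
  have hfin : Module.Finite ((Spec (CommRingCat.of A)).residueField (g tx)) (Z.residueField ty) := by
    show RingHom.Finite j.hom
    rw [show j.hom = (a.residueFieldMap ty).hom.comp
      ((Spec (CommRingCat.of A)).residueFieldCongr hsy).inv.hom from rfl]
    exact RingHom.Finite.comp (show (a.residueFieldMap ty).hom.Finite from h1)
      (((Spec (CommRingCat.of A)).residueFieldCongr hsy).symm.commRingCatIsoToRingEquiv.finite)
  have hsep : Algebra.IsSeparable ((Spec (CommRingCat.of A)).residueField (g tx)) (Z.residueField ty) := by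
    let := (a.residueFieldMap ty).hom.toAlgebra
    exact Algebra.IsSeparable.of_equiv_equiv
      ((Spec (CommRingCat.of A)).residueFieldCongr hsy).commRingCatIsoToRingEquiv (RingEquiv.refl _) (by
        ext c
        show (a.residueFieldMap ty).hom (((Spec (CommRingCat.of A)).residueFieldCongr hsy).inv.hom
          (((Spec (CommRingCat.of A)).residueFieldCongr hsy).hom.hom c)) = (a.residueFieldMap ty).hom c
        exact congrArg _ (Iso.hom_inv_id_apply _ c))
  obtain ⟨hover⟩ := (inferInstance : y.LiesOver p)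
  subst hover
  let e₀ : (y.under A).ResidueField ≃+* (Spec (CommRingCat.of A)).residueField (g tx) :=
    (Scheme.Spec.residueFieldIso (CommRingCat.of A) (g tx)).commRingCatIsoToRingEquiv.symm
  let e₁ : y.ResidueField ≃+* (Spec (CommRingCat.of B)).residueField tx :=
    (Scheme.Spec.residueFieldIso (CommRingCat.of B) tx).commRingCatIsoToRingEquiv.symm
  let _ : Algebra (y.under A).ResidueField y.ResidueField :=
    (Ideal.ResidueField.mapₐ (y.under A) y (Algebra.ofId A B) rfl).toRingHom.toAlgebra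
  have hsq : (algebraMap ((Spec (CommRingCat.of A)).residueField (g tx))
      ((Spec (CommRingCat.of B)).residueField tx)).comp e₀.toRingHom =
      e₁.toRingHom.comp (algebraMap (y.under A).ResidueField y.ResidueField) := by
    refine RingHom.ext fun c => ?_
    show i.hom (e₀ c) = e₁ (Ideal.ResidueField.mapₐ (y.under A) y (Algebra.ofId A B) rfl c)
    rw [show i = g.residueFieldMap tx by
      simp only [i, Scheme.residueFieldCongr_refl, Iso.refl_inv, Category.id_comp],
      residueFieldMap_eq tx]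
    show (Scheme.Spec.residueFieldIso (CommRingCat.of B) tx).inv
      (Ideal.ResidueField.mapₐ (y.under A) y (Algebra.ofId A B) rfl
        ((Scheme.Spec.residueFieldIso (CommRingCat.of A) (g tx)).hom
          ((Scheme.Spec.residueFieldIso (CommRingCat.of A) (g tx)).inv c))) = _
    rw [Iso.inv_hom_id_apply]
    rfl
  obtain ⟨ι, x, hx, hgen⟩ := h
  have hlt : Algebra.trdeg (y.under A).ResidueField y.ResidueField < Cardinal.aleph0 :=
    EGA43.FibDepth.trdeg_residueField_lt (y.under A) ⟨y, inferInstance⟩ rfl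
  rw [← hx.cardinalMk_eq_trdeg, Cardinal.lt_aleph0_iff_finite] at hlt
  let ε := (Finite.equivFin ι).symm
  refine FlatMorLocalStr.subsingleton_primeSpectrum_tensor (fun k => e₁ (x (ε k))) ?_ fun c => ?_
  · exact AlgebraicIndependent.ringHom_of_comp_eq e₀.toRingHom e₁.toRingHom (hx.1.comp _ ε.injective)
      e₀.surjective e₁.injective hsq
  · obtain ⟨c, rfl⟩ := e₁.surjective c
    have hc : c ∈ IntermediateField.adjoin (y.under A).ResidueField (Set.range (x ∘ ε)) := by
      rw [Set.range_comp, Set.range_eq_univ.2 ε.surjective, Set.image_univ, hgen]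
      trivial
    obtain ⟨P, Q, rfl⟩ := (IntermediateField.mem_adjoin_range_iff _ _ _).1 hc
    have hmap : ∀ P : MvPolynomial (Fin (Nat.card ι)) (y.under A).ResidueField,
        MvPolynomial.aeval (fun k => e₁ (x (ε k))) (MvPolynomial.map e₀.toRingHom P) =
          e₁ (MvPolynomial.aeval (x ∘ ε) P) := fun P => by
      induction P using MvPolynomial.induction_on with
      | C c =>
        erw [MvPolynomial.map_C, MvPolynomial.aeval_C, MvPolynomial.aeval_C]
        exact congr($hsq c)
      | add u v hu hv => simp only [map_add, hu, hv]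
      | mul_X u k hu => simp only [map_mul, hu, MvPolynomial.map_X, MvPolynomial.aeval_X, Function.comp_apply]
    exact ⟨MvPolynomial.map e₀.toRingHom P, MvPolynomial.map e₀.toRingHom Q, by
      rw [hmap, hmap, map_div₀]⟩

theorem isPullback_tensor (R S T : Type u) [CommRing R] [CommRing S] [CommRing T] [Algebra R S]
    [Algebra R T] :
    IsPullback (Spec.map (CommRingCat.ofHom
        (Algebra.TensorProduct.includeRight (R := R) (A := S) (B := T)).toRingHom))
      (Spec.map (CommRingCat.ofHom (algebraMap S (S ⊗[R] T))))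
      (Spec.map (CommRingCat.ofHom (algebraMap R T))) (Spec.map (CommRingCat.ofHom (algebraMap R S))) :=
  isPullback_SpecMap_of_isPushout _ _ _ _ (CommRingCat.isPushout_tensorProduct R S T).flip

theorem noZeroDivisors_away_of_isIntegral {Z : Type u} [CommRing Z] (w : Z)
    (U : (Spec (CommRingCat.of Z)).Opens) [IsIntegral U.toScheme]
    (hU : (PrimeSpectrum.basicOpen w : Set (PrimeSpectrum Z)) ⊆
      (↑U : Set (Spec (CommRingCat.of Z)))) :
    NoZeroDivisors (Localization.Away w) := by
  rcases subsingleton_or_nontrivial (Localization.Away w) with hs | hn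
  · exact ⟨fun {a b} _ => Or.inl (Subsingleton.elim _ _)⟩
  let L := Localization.Away w
  let j : Spec (CommRingCat.of L) ⟶ Spec (CommRingCat.of Z) :=
    Spec.map (CommRingCat.ofHom (algebraMap Z L))
  have : IsOpenImmersion j := IsOpenImmersion.of_isLocalization w
  have hr : Set.range j ⊆ Set.range U.ι := by
    rw [Scheme.Opens.range_ι]
    refine subset_trans ?_ hU
    exact (PrimeSpectrum.localization_away_comap_range L w).le
  let k := IsOpenImmersion.lift U.ι j hr
  have : IsOpenImmersion (k ≫ U.ι) := by rw [IsOpenImmersion.lift_fac]; infer_instance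
  have : IsOpenImmersion k := IsOpenImmersion.of_comp k U.ι
  have : Nonempty ↥(Spec (CommRingCat.of L)) := inferInstanceAs (Nonempty (PrimeSpectrum L))
  have : IsIntegral (Spec (CommRingCat.of L)) := isIntegral_of_isOpenImmersion k
  have := (affine_isIntegral_iff (CommRingCat.of L)).1 this
  exact inferInstanceAs (NoZeroDivisors (CommRingCat.of L))

attribute [local instance] Algebra.TensorProduct.rightAlgebra in
/-- A good element near the point, after an elementary etale localisation of the base. -/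
theorem exists_goodAt {R B : Type u} [CommRing R] [CommRing B] [Algebra R B] {n : ℕ}
    (hsm : FlatCA.SmoothRelDim n R B) [Algebra.FiniteType R B] (p : Ideal R) [p.IsPrime] (y : Ideal B)
    [y.IsPrime] [y.LiesOver p] (hpt : FlatCA.PurelyTranscendental p y) :
    ∃ (R' : Type u) (_ : CommRing R') (_ : Algebra R R') (p' : Ideal R') (_ : p'.IsPrime)
      (w : R' ⊗[R] B), FlatCA.IsEtaleNhd R R' p p' ∧ GoodAt R' w ∧
      ∀ (Q : Ideal (R' ⊗[R] B)) [Q.IsPrime], Q.LiesOver p' →
        Q.comap (algebraMap B (R' ⊗[R] B)) = y → w ∉ Q := by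
  let h₀ : Spec (CommRingCat.of B) ⟶ Spec (CommRingCat.of R) :=
    Spec.map (CommRingCat.ofHom (algebraMap R B))
  have : SmoothOfRelativeDimension n h₀ := hsm
  let y₀ : Spec (CommRingCat.of B) := ⟨y, inferInstance⟩
  obtain ⟨S', e, s', A, W, h', y'', hA, hsA, he, hyW, hy1, hy2, hh', hgi⟩ :=
    FlatMorLocalStr.exists_geometricallyIntegral_open (n := n) h₀ y₀
      (fun {Z} a _ z _ P P' hp hq hp' hq' => eq_of_purelyTranscendental p y hpt a z P P' hp hq hp' hq')
  have := he.etale
  have : IsAffine A.toScheme := hA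
  let R' : CommRingCat.{u} := Γ(A.toScheme, ⊤)
  obtain ⟨φ, hφ⟩ : ∃ φ : CommRingCat.of R ⟶ R',
      Spec.map φ = A.toScheme.isoSpec.inv ≫ A.ι ≫ e := ⟨_, Spec.map_preimage _⟩
  let _ : Algebra R R' := φ.hom.toAlgebra
  let i := A.toScheme.isoSpec.hom
  have hbase : h₀ y₀ = (⟨p, inferInstance⟩ : PrimeSpectrum R) :=
    PrimeSpectrum.ext (y.over_def p).symm
  have heA : Hens2.IsEtaleNbhd (A.ι ≫ e) ⟨s', hsA⟩ (⟨p, inferInstance⟩ : PrimeSpectrum R) :=
    ⟨inferInstance, hbase ▸ he.base_eq,
      FlatMorLocalStr.residueFieldMap_bijective_comp A.ι e ⟨s', hsA⟩ he.residue_bijective⟩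
  have hnhd := FlatMorLocalStr.isEtaleNhd_of_isEtaleNbhd (A := R) (B := R') i (A.ι ≫ e)
    (by show i ≫ Spec.map φ = _; rw [hφ, Iso.hom_inv_id_assoc]) ⟨s', hsA⟩ p heA
  let X := R' ⊗[R] B
  let toB := Spec.map (CommRingCat.ofHom
    (Algebra.TensorProduct.includeRight (R := R) (A := R') (B := B)).toRingHom)
  let toR := Spec.map (CommRingCat.ofHom (algebraMap R' X))
  let kA : Spec R' ⟶ S' := A.toScheme.isoSpec.inv ≫ A.ι
  have hkA : kA ≫ e = Spec.map φ := by rw [hφ, Category.assoc]
  have hX : IsPullback toB toR h₀ (Spec.map φ) := isPullback_tensor R R' B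
  let j : Spec (CommRingCat.of X) ⟶ pullback h₀ e := pullback.lift toB (toR ≫ kA) (by
    rw [Category.assoc, hkA]; exact hX.w)
  have hj : IsPullback j toR (pullback.snd h₀ e) kA := by
    refine IsPullback.of_right ?_ (pullback.lift_snd _ _ _) (IsPullback.of_hasPullback h₀ e)
    rw [pullback.lift_fst, hkA]
    exact hX
  let s₁ : Spec R' := i ⟨s', hsA⟩
  have hks : kA s₁ = s' := by
    show kA (i ⟨s', hsA⟩) = s'
    rw [← Scheme.Hom.comp_apply, Iso.hom_inv_id_assoc]
    rfl
  obtain ⟨het, hover, hbij⟩ := hnhd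
  obtain ⟨y₃, hy₃1, hy₃2⟩ := Scheme.exists_preimage_of_isPullback hj y'' s₁ (hy2.trans hks.symm)
  have hy₃W : y₃ ∈ j ⁻¹ᵁ W := by
    show j y₃ ∈ W
    rw [hy₃1]
    exact hyW
  obtain ⟨_, ⟨w, rfl⟩, hwy, hwsub⟩ :=
    PrimeSpectrum.isTopologicalBasis_basic_opens.exists_subset_of_mem_open hy₃W (j ⁻¹ᵁ W).2
  refine ⟨R', inferInstance, inferInstance, s₁.asIdeal, inferInstance, w,
    ⟨het, hover, hbij⟩, fun K _ _ => ?_, fun Q _ hQp hQy => ?_⟩
  · rw [domAt_iff]
    let x : Spec (CommRingCat.of K) ⟶ Spec R' := Spec.map (CommRingCat.ofHom (algebraMap R' K))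
    let toX := Spec.map (CommRingCat.ofHom
      (Algebra.TensorProduct.includeRight (R := R') (A := K) (B := X)).toRingHom)
    let toK := Spec.map (CommRingCat.ofHom (algebraMap K (K ⊗[R'] X)))
    have hZ : IsPullback toX toK toR x := isPullback_tensor R' K X
    let g := toX ≫ j
    have hg : IsPullback g toK (pullback.snd h₀ e) (x ≫ kA) := hZ.paste_horiz hj
    have hU : IsPullback (g ∣_ W) ((g ⁻¹ᵁ W).ι ≫ toK) (W.ι ≫ pullback.snd h₀ e) (x ≫ kA) :=
      (isPullback_morphismRestrict g W).paste_vert hg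
    let x₀ : Spec (CommRingCat.of K) ⟶ A.toScheme := x ≫ A.toScheme.isoSpec.inv
    have hx₀ : x₀ ≫ A.ι = x ≫ kA := by simp [x₀, kA]
    have hid : IsPullback (𝟙 W.toScheme) h' (W.ι ≫ pullback.snd h₀ e) A.ι := by
      refine ⟨⟨by rw [Category.id_comp, hh']⟩, ⟨PullbackCone.IsLimit.mk _ (fun c => c.fst)
        (fun c => by simp) (fun c => ?_) (fun c m h1 _ => by simpa using h1)⟩⟩
      rw [← cancel_mono A.ι, Category.assoc, hh']
      exact c.condition
    have hU' : IsPullback (g ∣_ W) ((g ⁻¹ᵁ W).ι ≫ toK) h' x₀ := by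
      refine IsPullback.of_right (h₁₂ := 𝟙 _) (h₂₂ := A.ι) (v₁₃ := W.ι ≫ pullback.snd h₀ e) ?_ ?_ hid
      · rw [Category.comp_id, hx₀]
        exact hU
      · rw [← cancel_mono A.ι, Category.assoc, Category.assoc, Category.assoc, hh', hx₀]
        exact hU.w.trans (Category.assoc _ _ _)
    have : IsIntegral (g ⁻¹ᵁ W).toScheme :=
      GeometricallyIntegral.geometrically_isIntegral (f := h') x₀ _ _ hU'
    refine noZeroDivisors_away_of_isIntegral _ (g ⁻¹ᵁ W) fun P hP => ?_
    show j (toX P) ∈ W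
    exact hwsub hP
  · have := hover
    have : y₃.asIdeal.LiesOver s₁.asIdeal := ⟨(congrArg PrimeSpectrum.asIdeal hy₃2).symm⟩
    have : IsLocalization ((⊥ : Submonoid B).map (algebraMap B X)) X :=
      IsLocalization.of_le_isUnit (by rintro _ ⟨_, hm, rfl⟩; rw [Submonoid.mem_bot.1 hm, map_one]; exact isUnit_one)
    have := hQp
    have he3 : y₃.asIdeal.comap (algebraMap B X) = y := by
      have : toB y₃ = y₀ := by
        have hjB : j ≫ pullback.fst h₀ e = toB := pullback.lift_fst _ _ _
        rw [← hjB, Scheme.Hom.comp_apply, hy₃1]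
        exact hy1
      exact congrArg PrimeSpectrum.asIdeal this
    rw [eq_of_comap_eq (S' := X) p s₁.asIdeal hbij ⊥ Q y₃.asIdeal (hQy.trans he3.symm)]
    exact hwy

end Groth.Agent.FlatMorDevissage
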