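import Groth.Agent.FlatMorDevissage.FibreSupport
import Groth.Agent.FlatMorDevissage.NbhdPrimes
import Mathlib.RingTheory.Etale.Basic

/-!
# Etale neighbourhoods, transcendence degrees, and the first map of a step
-/

set_option autoImplicit false
set_option backward.isDefEq.respectTransparency false

universe u

open TensorProduct Function

namespace Groth.Agent.FlatMorDevissage

open Groth.Agent

theorem residueField_comp_bijective {A B C : Type u} [CommRing A] [CommRing B] [CommRing C]
    [Algebra A B] [Algebra B C] [Algebra A C] [IsScalarTower A B C] (p : Ideal A) [p.IsPrime]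
    (q : Ideal B) [q.IsPrime] [q.LiesOver p] (r : Ideal C) [r.IsPrime] [r.LiesOver q] [r.LiesOver p]
    (h₁ : Bijective (Ideal.ResidueField.mapₐ p q (Algebra.ofId A B) (q.over_def p)))
    (h₂ : Bijective (Ideal.ResidueField.mapₐ q r (Algebra.ofId B C) (r.over_def q))) :
    Bijective (Ideal.ResidueField.mapₐ p r (Algebra.ofId A C) (r.over_def p)) := by
  let m₁ := Ideal.ResidueField.mapₐ p q (Algebra.ofId A B) (q.over_def p)
  let m₂ := Ideal.ResidueField.mapₐ q r (Algebra.ofId B C) (r.over_def q)
  let m := Ideal.ResidueField.mapₐ p r (Algebra.ofId A C) (r.over_def p)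
  have key : m.toRingHom = m₂.toRingHom.comp m₁.toRingHom := by
    refine Ideal.ResidueField.ringHom_ext (RingHom.ext fun a => ?_)
    show m (algebraMap A p.ResidueField a) = m₂ (m₁ (algebraMap A p.ResidueField a))
    rw [m.commutes, m₁.commutes, IsScalarTower.algebraMap_apply A B q.ResidueField, m₂.commutes,
      ← IsScalarTower.algebraMap_apply]
  show Bijective m.toRingHom
  rw [key]
  exact h₂.comp h₁

theorem isEtaleNhd_comp {A B C : Type u} [CommRing A] [CommRing B] [CommRing C] [Algebra A B]
    [Algebra B C] [Algebra A C] [IsScalarTower A B C] {p : Ideal A} [p.IsPrime] {q : Ideal B}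
    [q.IsPrime] {r : Ideal C} [r.IsPrime] (h₁ : FlatCA.IsEtaleNhd A B p q)
    (h₂ : FlatCA.IsEtaleNhd B C q r) : FlatCA.IsEtaleNhd A C p r := by
  obtain ⟨e₁, o₁, b₁⟩ := h₁
  obtain ⟨e₂, o₂, b₂⟩ := h₂
  have := Ideal.LiesOver.trans r q p
  exact ⟨Algebra.Etale.comp A B C, this, residueField_comp_bijective p q r b₁ b₂⟩

/-- A principal localisation at an element outside the point. -/
theorem isEtaleNhd_away {A L : Type u} [CommRing A] [CommRing L] [Algebra A L] (f : A)
    [IsLocalization.Away f L] (p : Ideal A) [p.IsPrime] (hf : f ∉ p) :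
    ∃ (p' : Ideal L) (_ : p'.IsPrime), FlatCA.IsEtaleNhd A L p p' := by
  have hd : Disjoint (Submonoid.powers f : Set A) (p : Set A) := by
    rw [Set.disjoint_left]
    rintro _ ⟨e, rfl⟩ he
    exact hf (Ideal.IsPrime.mem_of_pow_mem ‹_› e he)
  have : (p.map (algebraMap A L)).IsPrime :=
    IsLocalization.isPrime_of_isPrime_disjoint (Submonoid.powers f) L p ‹_› hd
  have hover : (p.map (algebraMap A L)).LiesOver p :=
    ⟨(IsLocalization.under_map_of_isPrime_disjoint (Submonoid.powers f) L ‹_› hd).symm⟩
  exact ⟨_, this, Algebra.Etale.of_isLocalizationAway f, hover,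
    (RingHom.surjectiveOnStalks_of_isLocalization (M := Submonoid.powers f)
      L).residueFieldMap_bijective p _ (hover.over)⟩

theorem trd_eq_of_bijective {A A' R : Type u} [CommRing A] [CommRing A'] [CommRing R] [Algebra A A']
    [Algebra A R] [Algebra A' R] [IsScalarTower A A' R] (p : Ideal A) [p.IsPrime] (p' : Ideal A')
    [p'.IsPrime] [p'.LiesOver p]
    (h : Bijective (Ideal.ResidueField.mapₐ p p' (Algebra.ofId A A') (p'.over_def p)))
    (Q : PrimeSpectrum R) (hQ : p' = Q.asIdeal.comap (algebraMap A' R)) :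
    EGA43.FibDepth.trd A Q = EGA43.FibDepth.trd A' Q := by
  have hp : p = Q.asIdeal.comap (algebraMap A R) := by
    rw [p'.over_def p, hQ]
    show Ideal.comap (algebraMap A A') (Ideal.comap (algebraMap A' R) Q.asIdeal) = _
    rw [Ideal.comap_comap, ← IsScalarTower.algebraMap_eq]
  let e := RingEquiv.ofBijective _ h
  rw [EGA43.FibDepth.trd_eq_trdegHom Q (p := p) hp, EGA43.FibDepth.trd_eq_trdegHom Q (p := p') hQ,
    ← EGA43.FibDepth.trdegHom_ringEquiv_comp e (Ideal.ResidueField.map p' Q.asIdeal (algebraMap A' R) hQ)]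
  congr 1
  refine Ideal.ResidueField.ringHom_ext (RingHom.ext fun a => ?_)
  show Ideal.ResidueField.map p Q.asIdeal (algebraMap A R) hp (algebraMap A p.ResidueField a) =
    Ideal.ResidueField.map p' Q.asIdeal (algebraMap A' R) hQ
      (Ideal.ResidueField.mapₐ p p' (Algebra.ofId A A') (p'.over_def p) (algebraMap A p.ResidueField a))
  rw [AlgHom.commutes, IsScalarTower.algebraMap_apply A A' p'.ResidueField,
    Ideal.ResidueField.map_algebraMap, Ideal.ResidueField.map_algebraMap,
    ← IsScalarTower.algebraMap_apply A A' R]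

attribute [local instance] Algebra.TensorProduct.rightAlgebra in
/-- Points of a closed set of the fibre bound its dimension from below. -/
theorem trd_le_krullDim {R D : Type u} [CommRing R] [CommRing D] [Algebra R D]
    [Algebra.FiniteType R D] (p : Ideal R) [p.IsPrime] (w : PrimeSpectrum D)
    (hw : w.asIdeal.comap (algebraMap R D) = p) (I : Ideal D) (hI : I ≤ w.asIdeal) :
    (EGA43.FibDepth.trd R w : WithBot ℕ∞) ≤ Order.krullDim (primesOverGE p I) := by
  obtain ⟨Q, hQ⟩ := EGA43.FibDepth.exists_prime_over (A := R) (p := p) (p.Fiber D) w hw.symm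
  rw [← hQ, ← EGA43.FibDepth.ringKrullDim_quotient_eq_trd (R := D) p Q]
  refine Order.krullDim_le_of_strictMono (fun P : PrimeSpectrum (p.Fiber D ⧸ Q.asIdeal) =>
    (⟨PrimeSpectrum.comap (algebraMap D (p.Fiber D))
        (PrimeSpectrum.comap (Ideal.Quotient.mk Q.asIdeal) P),
      (EGA43.FibDepth.comap_algebraMap_eq (R := D) p _).symm, by
        refine hI.trans (le_trans ?_ (Ideal.comap_mono (fun a ha => ?_ : Q.asIdeal ≤ _)))
        · exact (congrArg PrimeSpectrum.asIdeal hQ).ge
        · show Ideal.Quotient.mk Q.asIdeal a ∈ P.asIdeal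
          rw [Ideal.Quotient.eq_zero_iff_mem.2 ha]
          exact zero_mem _⟩ : primesOverGE p I)) fun a b hab => ?_
  refine lt_of_le_of_ne (Ideal.comap_mono (Ideal.comap_mono hab.le)) fun e => hab.ne ?_
  have h1 := congrArg (fun x : primesOverGE p I => x.1) e
  have h2 : PrimeSpectrum.comap (Ideal.Quotient.mk Q.asIdeal) a =
      PrimeSpectrum.comap (Ideal.Quotient.mk Q.asIdeal) b :=
    le_antisymm (EGA43.FibDepth.le_of_comap_le (R := D) p (congrArg PrimeSpectrum.asIdeal h1).le)
      (EGA43.FibDepth.le_of_comap_le (R := D) p (congrArg PrimeSpectrum.asIdeal h1).ge)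
  exact PrimeSpectrum.comap_injective_of_surjective _ Ideal.Quotient.mk_surjective h2

/-- A basis of the generic fibre, lifted. -/
theorem exists_alpha {D G : Type u} [CommRing D] [AddCommGroup G] [Module D G] [Module.Finite D G]
    (P : Ideal D) [P.IsPrime] (hG : Module.annihilator D G ≤ P) :
    ∃ (r : ℕ) (α : (Fin r → D) →ₗ[D] G), 0 < r ∧ Bijective (α.baseChange P.ResidueField) ∧
      ¬ Module.annihilator D (G ⧸ LinearMap.range α) ≤ P := by
  classical
  have hz : ∀ z : PrimeSpectrum P.ResidueField,
      (PrimeSpectrum.comap (algebraMap D P.ResidueField) z).asIdeal = P := fun z => by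
    have : z.asIdeal = ⊥ := (Ideal.eq_bot_or_top z.asIdeal).resolve_right z.isPrime.ne_top
    rw [PrimeSpectrum.comap_asIdeal, this, ← RingHom.ker_eq_comap_bot,
      Ideal.ker_algebraMap_residueField]
  let K := P.ResidueField
  let M := TensorProduct D K G
  let S₀ : Set M := Set.range fun g : G => (1 : K) ⊗ₜ[D] g
  have hspan : Submodule.span K S₀ = ⊤ := by
    refine top_le_iff.1 fun x _ => ?_
    induction x using TensorProduct.induction_on with
    | zero => exact zero_mem _
    | tmul a g =>
      have hag : a ⊗ₜ[D] g = a • ((1 : K) ⊗ₜ[D] g) := by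
        rw [TensorProduct.smul_tmul', smul_eq_mul, mul_one]
      rw [hag]
      exact Submodule.smul_mem _ _ (Submodule.subset_span ⟨g, rfl⟩)
    | add x y hx hy => exact add_mem (hx trivial) (hy trivial)
  obtain ⟨t, htS, hts, hli⟩ := exists_linearIndependent K S₀
  let bt : Module.Basis t K M :=
    Module.Basis.mk hli (by rw [Subtype.range_coe_subtype, Set.ofPred_mem_eq, hts, hspan])
  have : Finite t := Module.Finite.finite_basis bt
  let b : Module.Basis (Fin (Nat.card t)) K M := bt.reindex (Finite.equivFin t)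
  choose g hg using fun i => htS ((Finite.equivFin t).symm i).2
  let α := (Pi.basisFun D (Fin (Nat.card t))).constr ℕ g
  have hα : Bijective (α.baseChange K) := by
    let b' := Algebra.TensorProduct.basis K (Pi.basisFun D (Fin (Nat.card t)))
    have hb : LinearMap.baseChange K α = (b'.equiv b (Equiv.refl _)).toLinearMap := by
      refine b'.ext fun i => ?_
      rw [LinearEquiv.coe_coe, Module.Basis.equiv_apply, Algebra.TensorProduct.basis_apply,
        LinearMap.baseChange_tmul, Module.Basis.constr_basis, Equiv.refl_apply]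
      simp only [b, bt, Module.Basis.reindex_apply, Module.Basis.mk_apply]
      exact hg i
    rw [hb]
    exact LinearEquiv.bijective _
  refine ⟨Nat.card t, α, ?_, hα, fun hc => ?_⟩
  · rw [Nat.pos_iff_ne_zero]
    intro h0
    have hsub : Subsingleton M := by
      have : IsEmpty (Fin (Nat.card t)) := by rw [h0]; infer_instance
      exact b.repr.toEquiv.subsingleton
    have := (Module.support_eq_empty_iff (R := K) (M := M)).2 hsub
    refine Set.eq_empty_iff_forall_notMem.1 this ⟨⊥, Ideal.isPrime_bot⟩
      ((FlatCrit.mem_support_baseChange_iff G _).2 (Module.mem_support_iff_of_finite.2 ?_))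
    rw [hz]
    exact hG
  · have hsub : Subsingleton (TensorProduct D K (G ⧸ LinearMap.range α)) := by
      refine subsingleton_of_forall_eq 0 fun x => ?_
      obtain ⟨y, rfl⟩ := LinearMap.lTensor_surjective K (Submodule.mkQ_surjective (LinearMap.range α)) x
      obtain ⟨z, rfl⟩ := hα.2 y
      show LinearMap.lTensor K (Submodule.mkQ _) (LinearMap.lTensor K α z) = 0
      rw [← LinearMap.lTensor_comp_apply, LinearMap.range_mkQ_comp, LinearMap.lTensor_zero,
        LinearMap.zero_apply]
    have := (Module.support_eq_empty_iff (R := K)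
      (M := TensorProduct D K (G ⧸ LinearMap.range α))).2 hsub
    refine Set.eq_empty_iff_forall_notMem.1 this ⟨⊥, Ideal.isPrime_bot⟩
      ((FlatCrit.mem_support_baseChange_iff _ _).2 (Module.mem_support_iff_of_finite.2 ?_))
    rw [hz]
    exact hc

end Groth.Agent.FlatMorDevissage
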