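import Groth.Agent.FlatMorDevissage.Transport
import Groth.Agent.FlatMorDevissage.GoodOpen
import Groth.Agent.FlatMorDevissage.NhdLemmas
import Groth.Agent.FlatMorDevissage.StepMap

/-!
# Making the fibres integral over a neighbourhood carrying a chain
-/

set_option autoImplicit false
set_option backward.isDefEq.respectTransparency false

universe u

open TensorProduct Function

namespace Groth.Agent.FlatMorDevissage

open Groth.Agent

attribute [local instance] Algebra.TensorProduct.rightAlgebra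

/-- `N` has a chain over etale neighbourhoods of `(R, p)` and `(S, q)`. -/
def HasChainNhd (R : Type u) [CommRing R] (p : Ideal R) [p.IsPrime] (S : Type u) [CommRing S]
    [Algebra R S] (N : Type u) [AddCommGroup N] [Module S N] (q : Ideal S) [q.IsPrime] : Prop :=
  ∃ (R' S' : Type u) (_ : CommRing R') (_ : CommRing S') (_ : Algebra R R') (_ : Algebra S S')
    (_ : Algebra R' S') (_ : Algebra R S') (_ : IsScalarTower R R' S') (_ : IsScalarTower R S S')
    (p' : Ideal R') (q' : Ideal S') (_ : p'.IsPrime) (_ : q'.IsPrime),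
    FlatCA.IsEtaleNhd R R' p p' ∧ FlatCA.IsEtaleNhd S S' q q' ∧ q'.LiesOver p' ∧
    ∀ (N' : Type u) [AddCommGroup N'] [Module S' N'] [Module S N'] [IsScalarTower S S' N']
      (f : N →ₗ[S] N'), IsBaseChange S' f → Chain R' p' S' N' q'

/-- The primes and properties of `(R' ⊗ B)[1/h]`. -/
theorem exists_prime_away_tensor {R R' B : Type u} [CommRing R] [CommRing R'] [CommRing B]
    [Algebra R R'] [Algebra R B] (p : Ideal R) [p.IsPrime] (p' : Ideal R') [p'.IsPrime]
    (hR : FlatCA.IsEtaleNhd R R' p p') (y : Ideal B) [y.IsPrime] [y.LiesOver p] {h : B} (hh : h ∉ y)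
    (L : Type u) [CommRing L] [Algebra (R' ⊗[R] B) L] [IsLocalization.Away ((1 : R') ⊗ₜ[R] h) L]
    [Algebra B L] [Algebra R' L] [Algebra R L] [IsScalarTower B (R' ⊗[R] B) L]
    [IsScalarTower R' (R' ⊗[R] B) L] [IsScalarTower R B L] [IsScalarTower R R' L] :
    ∃ (y' : Ideal L) (_ : y'.IsPrime), FlatCA.IsEtaleNhd B L y y' ∧ y'.LiesOver p' := by
  obtain ⟨hRe, hRo, hRb⟩ := hR
  have hM : (Submonoid.powers h).map (algebraMap B (R' ⊗[R] B)) =
      Submonoid.powers ((1 : R') ⊗ₜ[R] h) := by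
    rw [Submonoid.map_powers]
    rfl
  have : IsLocalization ((Submonoid.powers h).map (algebraMap B (R' ⊗[R] B))) L := by
    rw [hM]
    infer_instance
  obtain ⟨y', hy', ho, ho'⟩ := exists_prime_pushout (S' := L) p p' hRb y (Submonoid.powers h)
    (by rintro _ ⟨k, rfl⟩ hk; exact hh (Ideal.IsPrime.mem_of_pow_mem ‹_› k hk))
  have : Algebra.Etale B (R' ⊗[R] B) := etale_rightAlgebra
  have : Algebra.Etale (R' ⊗[R] B) L := Algebra.Etale.of_isLocalizationAway ((1 : R') ⊗ₜ[R] h)
  exact ⟨y', hy', ⟨Algebra.Etale.comp B (R' ⊗[R] B) L, ho,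
    bijective_residueField_pushout (S' := L) p p' hRb (Submonoid.powers h) y y'⟩, ho'⟩

/-- Nonempty integral fibres from a good element. -/
theorem fibresDomain_away_good {R B : Type u} [CommRing R] [CommRing B] [Algebra R B] (d : B)
    (hgood : GoodAt R d) (R' : Type u) [CommRing R'] [Algebra R R'] (f : R)
    (hf : IsUnit (algebraMap R R' f))
    (hd : ∀ p₀ : Ideal R, p₀.IsPrime → f ∉ p₀ → ∃ Q : Ideal B, Q.IsPrime ∧
      Q.comap (algebraMap R B) = p₀ ∧ d ∉ Q)
    {B' : Type u} [CommRing B'] [Algebra (R' ⊗[R] B) B'] [Algebra R' B']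
    [IsScalarTower R' (R' ⊗[R] B) B'] [IsLocalization.Away ((1 : R') ⊗ₜ[R] d) B'] :
    FibresDomain R' B' := by
  refine fibresDomain_of_weakDomain ((hgood.baseChange R').weakDomain (L := B')) fun K _ _ => ?_
  let _ : Algebra R K := ((algebraMap R' K).comp (algebraMap R R')).toAlgebra
  have : IsScalarTower R R' K := .of_algebraMap_eq' rfl
  have hker : f ∉ RingHom.ker (algebraMap R K) := fun hm =>
    ((hf.map (algebraMap R' K)).ne_zero) (by
      rw [← IsScalarTower.algebraMap_apply]; exact hm)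
  obtain ⟨Q, hQ, hQover, hdQ⟩ := hd _ (RingHom.ker_isPrime _) hker
  let e := Algebra.TensorProduct.cancelBaseChange R R' K K B
  have hne : (0 : K ⊗[R'] (R' ⊗[R] B)) ∉ Submonoid.powers ((1 : K) ⊗ₜ[R'] ((1 : R') ⊗ₜ[R] d)) := by
    rintro ⟨k, hk⟩
    refine one_tmul_ne_zero_of_notMem K Q hQover
      (fun h => hdQ (hQ.mem_of_pow_mem k h)) ?_
    have := congrArg e hk
    simpa [e, Algebra.TensorProduct.tmul_pow] using this
  have : Nontrivial (Localization.Away ((1 : K) ⊗ₜ[R'] ((1 : R') ⊗ₜ[R] d))) :=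
    not_subsingleton_iff_nontrivial.1 fun hs =>
      hne ((IsLocalization.subsingleton_iff
        (S := Localization.Away ((1 : K) ⊗ₜ[R'] ((1 : R') ⊗ₜ[R] d)))).1 hs)
  exact (IsLocalization.Away.tensorProductEquivTMulRight R' K
    ((1 : R') ⊗ₜ[R] d) B').toEquiv.nontrivial

set_option maxHeartbeats 1000000 in
/-- A good element not vanishing at the point, over a neighbourhood carrying a chain. -/
theorem exists_chain_goodAt {R : Type u} [CommRing R] {p : Ideal R} [p.IsPrime] {B : Type u}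
    [CommRing B] [Algebra R B] {M : Type u} [AddCommGroup M] [Module B M] {y : Ideal B} [y.IsPrime]
    [y.LiesOver p] (hc : Chain R p B M y) {n : ℕ} (hsm : FlatCA.SmoothRelDim n R B)
    (hpt : FlatCA.PurelyTranscendental p y) :
    ∃ (R' B' : Type u) (_ : CommRing R') (_ : CommRing B') (_ : Algebra R R') (_ : Algebra B B')
      (_ : Algebra R' B') (_ : Algebra R B') (_ : IsScalarTower R R' B') (_ : IsScalarTower R B B')
      (p' : Ideal R') (y' : Ideal B') (_ : p'.IsPrime) (_ : y'.IsPrime),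
      FlatCA.IsEtaleNhd R R' p p' ∧ FlatCA.IsEtaleNhd B B' y y' ∧ y'.LiesOver p' ∧
      (∃ g ∉ y', GoodAt R' g) ∧ Chain R' p' B' (B' ⊗[B] M) y' := by
  have : Algebra.Smooth R B := smooth_of_smoothRelDim hsm
  obtain ⟨R₃, _, _, p₃, hp₃, w, hR₃, hgood, hw⟩ := exists_goodAt hsm p y hpt
  obtain ⟨f₁, hf₁, h₁, hh₁, -, hc'⟩ := hc.transport 1 (Ideal.one_notMem y)
  have hf₃ : algebraMap R R₃ f₁ ∉ p₃ := fun hm => hf₁ (by
    obtain ⟨-, ho, -⟩ := hR₃
    rw [ho.over]; exact hm)
  let R₄ := Localization.Away (algebraMap R R₃ f₁)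
  obtain ⟨p₄, hp₄, hR₄⟩ := isEtaleNhd_away (L := R₄) (algebraMap R R₃ f₁) p₃ hf₃
  have hR₁₄ : FlatCA.IsEtaleNhd R R₄ p p₄ := isEtaleNhd_comp hR₃ hR₄
  have hu : IsUnit (algebraMap R R₄ f₁) := by
    rw [IsScalarTower.algebraMap_apply R R₃ R₄]
    exact IsLocalization.Away.algebraMap_isUnit (algebraMap R R₃ f₁)
  let Z := R₄ ⊗[R] B
  let T := Localization.Away ((1 : R₄) ⊗ₜ[R] h₁ : Z)
  have : IsScalarTower R B T := .of_algebraMap_eq fun r => by
    rw [IsScalarTower.algebraMap_apply R Z T, IsScalarTower.algebraMap_apply B Z T,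
      ← IsScalarTower.algebraMap_apply R B Z]
  have : IsScalarTower R R₄ T := .of_algebraMap_eq fun r => by
    rw [IsScalarTower.algebraMap_apply R Z T, IsScalarTower.algebraMap_apply R₄ Z T,
      ← IsScalarTower.algebraMap_apply R R₄ Z]
  obtain ⟨y', hy', hB, hy'p⟩ := exists_prime_away_tensor p p₄ hR₁₄ y hh₁ T
  refine ⟨R₄, T, inferInstance, inferInstance, inferInstance, inferInstance, inferInstance,
    inferInstance, inferInstance, inferInstance, p₄, y', hp₄, hy', hR₁₄, hB, hy'p, ?_, ?_⟩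
  · let e := Algebra.TensorProduct.cancelBaseChange R R₃ R₄ R₄ B
    refine ⟨algebraMap Z T (e ((1 : R₄) ⊗ₜ[R₃] w)), ?_, ?_⟩
    · let φ : R₃ ⊗[R] B →+* T := ((algebraMap Z T).comp e.toRingEquiv.toRingHom).comp
        (Algebra.TensorProduct.includeRight (R := R₃) (A := R₄) (B := R₃ ⊗[R] B)).toRingHom
      have hφ : ∀ (r : R₃) (b : B), φ (r ⊗ₜ b) = algebraMap Z T ((r • (1 : R₄)) ⊗ₜ[R] b) := by
        intro r b
        show algebraMap Z T (e ((1 : R₄) ⊗ₜ[R₃] (r ⊗ₜ[R] b))) = _
        rw [Algebra.TensorProduct.cancelBaseChange_tmul]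
      intro hmem
      have hover : (y'.comap φ).LiesOver p₃ := ⟨by
        obtain ⟨-, ho, -⟩ := hR₄
        rw [Ideal.under, Ideal.comap_comap]
        refine (ho.over.trans (congrArg _ hy'p.over)).trans ?_
        rw [Ideal.under, Ideal.under, Ideal.comap_comap]
        congr 1
        refine RingHom.ext fun r => ?_
        show algebraMap R₄ T (algebraMap R₃ R₄ r) = φ (r ⊗ₜ[R] (1 : B))
        rw [hφ, Algebra.smul_def, mul_one, IsScalarTower.algebraMap_apply R₄ Z T]
        rfl⟩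
      refine hw (y'.comap φ) hover ?_ hmem
      obtain ⟨-, ho, -⟩ := hB
      rw [Ideal.comap_comap]
      refine Eq.trans ?_ ho.over.symm
      rw [Ideal.under]
      congr 1
      refine RingHom.ext fun b => ?_
      show φ ((1 : R₃) ⊗ₜ[R] b) = algebraMap B T b
      rw [hφ, one_smul, IsScalarTower.algebraMap_apply B Z T]
      rfl
    · exact ((hgood.baseChange R₄).map_equiv e).localization
        (Submonoid.powers ((1 : R₄) ⊗ₜ[R] h₁ : Z))
  · obtain ⟨he, ho, hb⟩ := hR₁₄
    have : y'.LiesOver y := hB.2.1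
    exact hc' R₄ p₄ hb hu T y' (T ⊗[B] M) (TensorProduct.mk B T M 1)
      (TensorProduct.isBaseChange B M T)

set_option maxHeartbeats 1000000 in
/-- Integral fibres over a neighbourhood carrying a chain and a good element. -/
theorem exists_chain_fibresDomain {R : Type u} [CommRing R] {p : Ideal R} [p.IsPrime] {B : Type u}
    [CommRing B] [Algebra R B] [Algebra.Smooth R B] {M : Type u} [AddCommGroup M] [Module B M]
    {y : Ideal B} [y.IsPrime] [y.LiesOver p] (hc : Chain R p B M y) {g : B} (hg : g ∉ y)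
    (hgood : GoodAt R g) :
    ∃ (R' B' : Type u) (_ : CommRing R') (_ : CommRing B') (_ : Algebra R R') (_ : Algebra B B')
      (_ : Algebra R' B') (_ : Algebra R B') (_ : IsScalarTower R R' B') (_ : IsScalarTower R B B')
      (p' : Ideal R') (y' : Ideal B') (_ : p'.IsPrime) (_ : y'.IsPrime),
      FlatCA.IsEtaleNhd R R' p p' ∧ FlatCA.IsEtaleNhd B B' y y' ∧ y'.LiesOver p' ∧
      FibresDomain R' B' ∧ Chain R' p' B' (B' ⊗[B] M) y' := by
  obtain ⟨f₂, hf₂, h₂, hh₂, ⟨c, hgc⟩, hc'⟩ := hc.transport g hg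
  obtain ⟨f₃, hf₃, hlift⟩ := exists_notMem_forall_lift p y h₂ hh₂
  have hf : f₂ * f₃ ∉ p := fun h => (Ideal.IsPrime.mem_or_mem ‹_› h).elim hf₂ hf₃
  let R₅ := Localization.Away (f₂ * f₃)
  obtain ⟨p₅, hp₅, hR₅⟩ := isEtaleNhd_away (L := R₅) (f₂ * f₃) p hf
  have hu := IsLocalization.Away.algebraMap_isUnit (S := R₅) (f₂ * f₃)
  rw [map_mul, IsUnit.mul_iff] at hu
  let Z := R₅ ⊗[R] B
  let T := Localization.Away ((1 : R₅) ⊗ₜ[R] h₂ : Z)
  have : IsScalarTower R B T := .of_algebraMap_eq fun r => by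
    rw [IsScalarTower.algebraMap_apply R Z T, IsScalarTower.algebraMap_apply B Z T,
      ← IsScalarTower.algebraMap_apply R B Z]
  have : IsScalarTower R R₅ T := .of_algebraMap_eq fun r => by
    rw [IsScalarTower.algebraMap_apply R Z T, IsScalarTower.algebraMap_apply R₅ Z T,
      ← IsScalarTower.algebraMap_apply R R₅ Z]
  obtain ⟨y', hy', hB, hy'p⟩ := exists_prime_away_tensor p p₅ hR₅ y hh₂ T
  refine ⟨R₅, T, inferInstance, inferInstance, inferInstance, inferInstance, inferInstance,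
    inferInstance, inferInstance, inferInstance, p₅, y', hp₅, hy', hR₅, hB, hy'p,
    fibresDomain_away_good h₂ (hgc ▸ hgood.mul c) R₅ f₃ hu.2 hlift, ?_⟩
  obtain ⟨he, ho, hb⟩ := hR₅
  have : y'.LiesOver y := hB.2.1
  exact hc' R₅ p₅ hb hu.1 T y' (T ⊗[B] M) (TensorProduct.mk B T M 1)
    (TensorProduct.isBaseChange B M T)

end Groth.Agent.FlatMorDevissage
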