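import Groth.Agent.FlatMorDevissage.Key
import Groth.Agent.EGA43.FlatOpen
import Mathlib.RingTheory.Flat.Stability

/-!
# Flatness of localisations, tested on kernel elements; transfer along flat maps
-/

set_option autoImplicit false
set_option backward.isDefEq.respectTransparency false

universe u

open TensorProduct Function

namespace Groth.Agent.FlatMorDevissage

open Groth.Agent.EGA43

/-- Kernel elements are killed by `T`. -/
def KerKilled (R : Type u) [CommRing R] {S : Type u} [CommRing S] [Algebra R S] (M : Type u)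
    [AddCommGroup M] [Module R M] [Module S M] [IsScalarTower R S M] (T : Set S) : Prop :=
  ∀ ⦃A B : Type u⦄ [AddCommGroup A] [AddCommGroup B] [Module R A] [Module R B] (i : A →ₗ[R] B),
    Injective i → ∀ x : M ⊗[R] A, i.lTensor M x = 0 → ∃ t ∈ T, t • x = 0

section Basic

variable {R S : Type u} [CommRing R] [CommRing S] [Algebra R S] {M : Type u} [AddCommGroup M]
  [Module R M] [Module S M] [IsScalarTower R S M]

theorem flat_localized_iff_kerKilled (T : Submonoid S) :
    Module.Flat R (LocalizedModule T M) ↔ KerKilled R M (T : Set S) := by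
  refine ⟨fun h A B _ _ _ _ i hi x hx => FlatOpen.exists_smul_eq_zero_of_flat i hi T x hx,
    fun h => ?_⟩
  exact (@Module.Flat.iff_rTensor_preserves_injective_linearMap R (LocalizedModule T M) _ _ _).2
    fun A B _ _ _ _ i hi => FlatOpen.rTensor_injective_localized i T fun x hx => h i hi x hx

theorem flatAt_iff_kerKilled (P : Ideal S) [P.IsPrime] :
    FlatCA.FlatAt R P M ↔ KerKilled R M (P.primeCompl : Set S) :=
  flat_localized_iff_kerKilled _

theorem kerKilled_iff_forall_flatAt (T : Submonoid S) :
    KerKilled R M (T : Set S) ↔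
      ∀ (P : Ideal S) [P.IsPrime], Disjoint (T : Set S) (P : Set S) → FlatCA.FlatAt R P M := by
  refine ⟨fun h P _ hd => (flatAt_iff_kerKilled P).2 fun A B _ _ _ _ i hi x hx => ?_,
    fun h A B _ _ _ _ i hi x hx => ?_⟩
  · obtain ⟨t, ht, htx⟩ := h i hi x hx
    exact ⟨t, Set.disjoint_left.1 hd ht, htx⟩
  · by_contra! hne
    let K : Ideal S := LinearMap.ker (LinearMap.toSpanSingleton S (M ⊗[R] A) x)
    have hd : Disjoint (K : Set S) (T : Set S) :=
      Set.disjoint_left.2 fun t ht htT => hne t htT (by simpa [K] using ht)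
    obtain ⟨P, hP, hKP, hPT⟩ := Ideal.exists_le_prime_disjoint K T hd
    obtain ⟨t, ht, htx⟩ := (flatAt_iff_kerKilled P).1 (h P hPT.symm) i hi x hx
    exact ht (hKP (by simpa [K] using htx))

theorem flat_localized_iff (T : Submonoid S) :
    Module.Flat R (LocalizedModule T M) ↔
      ∀ (P : Ideal S) [P.IsPrime], Disjoint (T : Set S) (P : Set S) → FlatCA.FlatAt R P M :=
  (flat_localized_iff_kerKilled T).trans (kerKilled_iff_forall_flatAt T)

theorem flat_away_iff (g : S) :
    Module.Flat R (LocalizedModule (Submonoid.powers g) M) ↔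
      ∀ (P : Ideal S) [P.IsPrime], g ∉ P → FlatCA.FlatAt R P M := by
  rw [flat_localized_iff]
  refine ⟨fun h P _ hg => h P (Set.disjoint_left.2 ?_), fun h P hP hd => ?_⟩
  · rintro _ ⟨e, rfl⟩ he
    exact hg (Ideal.IsPrime.mem_of_pow_mem ‹_› e he)
  · exact h P (Set.disjoint_left.1 hd (Submonoid.mem_powers g))

theorem flatAt_of_smul_eq_zero (P : Ideal S) [P.IsPrime] {a : S} (ha : a ∉ P)
    (h : ∀ m : M, a • m = 0) : FlatCA.FlatAt R P M :=
  (flatAt_iff_kerKilled P).2 fun A B _ _ _ _ i _ x hx => ⟨a, ha, by
    clear hx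
    induction x using TensorProduct.induction_on with
    | zero => exact smul_zero _
    | tmul m y => rw [TensorProduct.smul_tmul', h, zero_tmul]
    | add x y hx hy => rw [smul_add, hx, hy, add_zero]⟩

/-- Localising over the source of an algebra tower. -/
theorem flat_localized_algebraMap_iff {S' : Type u} [CommRing S'] [Algebra S' S] [Algebra R S']
    [IsScalarTower R S' S] [Module S' M] [IsScalarTower R S' M] [IsScalarTower S' S M]
    (T : Submonoid S') :
    Module.Flat R (LocalizedModule T M) ↔
      Module.Flat R (LocalizedModule (T.map (algebraMap S' S)) M) := by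
  rw [flat_localized_iff_kerKilled, flat_localized_iff_kerKilled]
  have key : ∀ (A : Type u) [AddCommGroup A] [Module R A] (a : S') (x : M ⊗[R] A),
      algebraMap S' S a • x = a • x := fun A _ _ a x => by
    induction x using TensorProduct.induction_on with
    | zero => simp
    | tmul m y => rw [TensorProduct.smul_tmul', TensorProduct.smul_tmul', algebraMap_smul]
    | add x y hx hy => rw [smul_add, smul_add, hx, hy]
  refine ⟨fun h A B _ _ _ _ i hi x hx => ?_, fun h A B _ _ _ _ i hi x hx => ?_⟩
  · obtain ⟨t, ht, htx⟩ := h i hi x hx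
    exact ⟨_, Submonoid.mem_map_of_mem _ ht, (key A t x).trans htx⟩
  · obtain ⟨_, ⟨t, ht, rfl⟩, htx⟩ := h i hi x hx
    exact ⟨t, ht, (key A t x).symm.trans htx⟩

end Basic

section BaseChange

variable {R S : Type u} [CommRing R] [CommRing S] [Algebra R S] {N : Type u} [AddCommGroup N]
  [Module R N] [Module S N] [IsScalarTower R S N] {S' : Type u} [CommRing S'] [Algebra R S']
  [Algebra S S'] [IsScalarTower R S S'] [Module.Flat S S']

/-- Flatness at a prime goes up and down along flat algebras. -/
theorem flatAt_tensor_iff (q' : Ideal S') [q'.IsPrime] :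
    FlatCA.FlatAt R q' (S' ⊗[S] N) ↔ FlatCA.FlatAt R (q'.comap (algebraMap S S')) N := by
  rw [flatAt_iff_kerKilled, flatAt_iff_kerKilled]
  let e := fun (A : Type u) [AddCommGroup A] [Module R A] =>
    AlgebraTensorModule.assoc R S S' S' N A
  have nat : ∀ {A B : Type u} [AddCommGroup A] [AddCommGroup B] [Module R A] [Module R B]
      (i : A →ₗ[R] B) (x : (S' ⊗[S] N) ⊗[R] A), e B (i.lTensor (S' ⊗[S] N) x) =
        (AlgebraTensorModule.lTensor S N i).lTensor S' (e A x) := by
    intro A B _ _ _ _ i x
    induction x using TensorProduct.induction_on with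
    | zero => simp
    | tmul w a =>
      induction w using TensorProduct.induction_on with
      | zero => simp
      | tmul s n => simp [e]
      | add u v hu hv => simp only [TensorProduct.add_tmul, map_add, hu, hv]
    | add u v hu hv => simp only [map_add, hu, hv]
  refine ⟨fun h A B _ _ _ _ i hi z hz => ?_, fun h A B _ _ _ _ i hi x hx => ?_⟩
  · obtain ⟨t', ht', htz⟩ := h i hi ((e A).symm (1 ⊗ₜ z)) ((e B).injective (by
      rw [nat, LinearEquiv.apply_symm_apply, LinearMap.lTensor_tmul, map_zero]
      exact (congrArg ((1 : S') ⊗ₜ[S] ·) hz).trans (tmul_zero _ _)))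
    rw [← map_smul, LinearEquiv.map_eq_zero_iff] at htz
    by_contra! hne
    let K : Ideal S := LinearMap.ker (LinearMap.toSpanSingleton S (N ⊗[R] A) z)
    have hK : K ≤ q'.comap (algebraMap S S') := fun a ha =>
      Classical.not_not.1 fun haq => hne a haq (by simpa [K] using ha)
    let g : (S ⧸ K) →ₗ[S] N ⊗[R] A := K.liftQ (LinearMap.toSpanSingleton S _ z) le_rfl
    have hg : Injective g := LinearMap.ker_eq_bot.1 (Submodule.ker_liftQ_eq_bot _ _ _ le_rfl)
    have h0 : t' ⊗ₜ[S] (Submodule.Quotient.mk (p := K) (1 : S)) = (0 : S' ⊗[S] (S ⧸ K)) := by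
      apply Module.Flat.lTensor_preserves_injective_linearMap g hg
      rw [map_zero, LinearMap.lTensor_tmul]
      show t' ⊗ₜ[S] g (Submodule.Quotient.mk 1) = 0
      rw [show g (Submodule.Quotient.mk 1) = z from (Submodule.liftQ_apply _ _ _).trans (one_smul _ _), ← htz, TensorProduct.smul_tmul',
        smul_eq_mul, mul_one]
    let φ : (S ⧸ K) →ₗ[S] S' ⧸ K.map (algebraMap S S') :=
      K.liftQ (Algebra.linearMap S (S' ⧸ K.map (algebraMap S S'))) fun a ha => by
        rw [LinearMap.mem_ker, Algebra.linearMap_apply,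
          IsScalarTower.algebraMap_apply S S' (S' ⧸ K.map (algebraMap S S'))]
        exact Ideal.Quotient.eq_zero_iff_mem.2 (Ideal.mem_map_of_mem _ ha)
    have h1 := congrArg (LinearMap.liftBaseChange S' φ) h0
    rw [LinearMap.liftBaseChange_tmul, map_zero,
      show φ (Submodule.Quotient.mk 1) = 1 from (Submodule.liftQ_apply _ _ _).trans (map_one (algebraMap S _)), Algebra.smul_def, mul_one] at h1
    exact ht' (Ideal.map_le_iff_le_comap.2 hK (Ideal.Quotient.eq_zero_iff_mem.1 h1))
  · let iN := AlgebraTensorModule.lTensor S N i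
    have hex : Exact (LinearMap.ker iN).subtype iN := LinearMap.exact_subtype_ker_map iN
    obtain ⟨w, hw⟩ := (Module.Flat.lTensor_exact (M := S') hex (e A x)).1 (by
      rw [← nat, hx, map_zero])
    suffices ∀ w, ∃ t ∈ q'.primeCompl, t • (LinearMap.ker iN).subtype.lTensor S' w = 0 by
      obtain ⟨t, ht, htw⟩ := this w
      exact ⟨t, ht, (e A).injective (by rw [map_smul, map_zero, ← hw, htw])⟩
    intro w
    induction w using TensorProduct.induction_on with
    | zero => exact ⟨1, q'.primeCompl.one_mem, by simp⟩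
    | tmul s k =>
      obtain ⟨t, ht, htk⟩ := h i hi k.1 k.2
      refine ⟨algebraMap S S' t, ht, ?_⟩
      rw [LinearMap.lTensor_tmul, algebraMap_smul, ← TensorProduct.tmul_smul]
      exact (congrArg (s ⊗ₜ[S] ·) htk).trans (tmul_zero _ _)
    | add u v hu hv =>
      obtain ⟨t₁, h₁, hu⟩ := hu
      obtain ⟨t₂, h₂, hv⟩ := hv
      refine ⟨t₁ * t₂, q'.primeCompl.mul_mem h₁ h₂, ?_⟩
      rw [map_add, smul_add, mul_smul t₁ t₂ (LinearMap.lTensor S' _ v), hv, smul_zero, add_zero,
        mul_comm, mul_smul, hu, smul_zero]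

/-- Flatness at a prime along a flat base change model. -/
theorem flatAt_baseChange_iff {N' : Type u} [AddCommGroup N'] [Module S' N'] [Module S N']
    [Module R N'] [IsScalarTower S S' N'] [IsScalarTower R S' N'] {f : N →ₗ[S] N'}
    (hf : IsBaseChange S' f) (q' : Ideal S') [q'.IsPrime] :
    FlatCA.FlatAt R q' N' ↔ FlatCA.FlatAt R (q'.comap (algebraMap S S')) N :=
  (flatAt_congr hf.equiv.symm).trans (flatAt_tensor_iff q')

end BaseChange

end Groth.Agent.FlatMorDevissage
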