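import Groth.Agent.FlatMorDevissage.ExistsChain
import Groth.Agent.FlatMorDevissage.Localize
import Groth.Agent.FlatMorDevissage.FlatTransfer
import Groth.Agent.FlatMorDevissage.CompleteFree
import Groth.Agent.S1231

/-!
# Flatness at a point gives freeness over the local ring of an etale neighbourhood
-/

set_option autoImplicit false
set_option backward.isDefEq.respectTransparency false

universe u

open TensorProduct Function

namespace Groth.Agent.FlatMorDevissage

open Groth.Agent

attribute [local instance] Algebra.TensorProduct.rightAlgebra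

section Pushout

variable {R R' S S' : Type u} [CommRing R] [CommRing R'] [CommRing S] [CommRing S'] [Algebra R R']
  [Algebra R S] [Algebra R S'] [Algebra S S'] [Algebra R' S'] [IsScalarTower R S S']
  [IsScalarTower R R' S'] [Algebra.IsPushout R R' S S'] (p : Ideal R) [p.IsPrime] (p' : Ideal R')
  [p'.IsPrime] [p'.LiesOver p]
  (hp : Bijective (Ideal.ResidueField.mapₐ p p' (Algebra.ofId R R') (p'.over_def p)))

include hp in
theorem exists_prime_isPushout (q : Ideal S) [q.IsPrime] [q.LiesOver p] :
    ∃ Q : Ideal S', Q.IsPrime ∧ Q.LiesOver q ∧ Q.LiesOver p' := by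
  let ι : R' ⊗[R] S ≃ₐ[R'] S' := Algebra.IsPushout.equiv R R' S S'
  let _ : Algebra (R' ⊗[R] S) S' := ι.toRingEquiv.toRingHom.toAlgebra
  have : IsScalarTower R' (R' ⊗[R] S) S' := .of_algebraMap_eq fun a => (ι.commutes a).symm
  have : IsScalarTower S (R' ⊗[R] S) S' := .of_algebraMap_eq fun b => by
    show _ = ι ((1 : R') ⊗ₜ[R] b)
    rw [Algebra.IsPushout.equiv_tmul, map_one, one_mul]
  have : IsLocalization.Away ((1 : R') ⊗ₜ[R] (1 : S)) S' :=
    IsLocalization.away_of_isUnit_of_bijective _ isUnit_one ι.bijective
  have : IsLocalization ((⊥ : Submonoid S).map (algebraMap S (R' ⊗[R] S))) S' := by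
    rw [Submonoid.map_bot, ← Submonoid.powers_one]
    exact (inferInstance : IsLocalization.Away ((1 : R') ⊗ₜ[R] (1 : S)) S')
  exact exists_prime_pushout p p' hp q ⊥
    (by rintro c hc hm; rw [Submonoid.mem_bot.1 hc] at hm; exact Ideal.one_notMem q hm)

include hp in
theorem eq_of_isPushout (Q₁ Q₂ : Ideal S') [Q₁.IsPrime] [Q₂.IsPrime] [Q₁.LiesOver p']
    [Q₂.LiesOver p'] (h : Q₁.comap (algebraMap S S') = Q₂.comap (algebraMap S S')) : Q₁ = Q₂ := by
  let ι : R' ⊗[R] S ≃ₐ[R'] S' := Algebra.IsPushout.equiv R R' S S'
  let _ : Algebra (R' ⊗[R] S) S' := ι.toRingEquiv.toRingHom.toAlgebra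
  have : IsScalarTower R' (R' ⊗[R] S) S' := .of_algebraMap_eq fun a => (ι.commutes a).symm
  have : IsScalarTower S (R' ⊗[R] S) S' := .of_algebraMap_eq fun b => by
    show _ = ι ((1 : R') ⊗ₜ[R] b)
    rw [Algebra.IsPushout.equiv_tmul, map_one, one_mul]
  have : IsLocalization.Away ((1 : R') ⊗ₜ[R] (1 : S)) S' :=
    IsLocalization.away_of_isUnit_of_bijective _ isUnit_one ι.bijective
  have : IsLocalization ((⊥ : Submonoid S).map (algebraMap S (R' ⊗[R] S))) S' := by
    rw [Submonoid.map_bot, ← Submonoid.powers_one]
    exact (inferInstance : IsLocalization.Away ((1 : R') ⊗ₜ[R] (1 : S)) S')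
  exact eq_of_comap_eq p p' hp ⊥ Q₁ Q₂ h

include hp in
theorem bijective_residueField_isPushout (q : Ideal S) [q.IsPrime] (Q : Ideal S') [Q.IsPrime]
    [Q.LiesOver q] [Q.LiesOver p'] :
    Bijective (Ideal.ResidueField.mapₐ q Q (Algebra.ofId S S') (Q.over_def q)) := by
  let ι : R' ⊗[R] S ≃ₐ[R'] S' := Algebra.IsPushout.equiv R R' S S'
  let _ : Algebra (R' ⊗[R] S) S' := ι.toRingEquiv.toRingHom.toAlgebra
  have : IsScalarTower R' (R' ⊗[R] S) S' := .of_algebraMap_eq fun a => (ι.commutes a).symm
  have : IsScalarTower S (R' ⊗[R] S) S' := .of_algebraMap_eq fun b => by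
    show _ = ι ((1 : R') ⊗ₜ[R] b)
    rw [Algebra.IsPushout.equiv_tmul, map_one, one_mul]
  have : IsLocalization.Away ((1 : R') ⊗ₜ[R] (1 : S)) S' :=
    IsLocalization.away_of_isUnit_of_bijective _ isUnit_one ι.bijective
  have : IsLocalization ((⊥ : Submonoid S).map (algebraMap S (R' ⊗[R] S))) S' := by
    rw [Submonoid.map_bot, ← Submonoid.powers_one]
    exact (inferInstance : IsLocalization.Away ((1 : R') ⊗ₜ[R] (1 : S)) S')
  exact bijective_residueField_pushout p p' hp ⊥ q Q

end Pushout

/-- The residue extension from the base to the local ring of an etale neighbourhood. -/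
theorem bijective_residueField_localRing {R R' : Type u} [CommRing R] [CommRing R'] [Algebra R R']
    {p : Ideal R} [p.IsPrime] {p' : Ideal R'} [p'.IsPrime] (h : FlatCA.IsEtaleNhd R R' p p') :
    ∃ _ : (IsLocalRing.maximalIdeal (Localization.AtPrime p')).LiesOver p,
      Bijective (Ideal.ResidueField.mapₐ p (IsLocalRing.maximalIdeal (Localization.AtPrime p'))
        (Algebra.ofId R (Localization.AtPrime p'))
        ((IsLocalRing.maximalIdeal (Localization.AtPrime p')).over_def p)) := by
  obtain ⟨-, ho, hb⟩ := h
  have h1 : (IsLocalRing.maximalIdeal (Localization.AtPrime p')).LiesOver p' :=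
    ⟨(IsLocalization.AtPrime.under_maximalIdeal (Localization.AtPrime p') p').symm⟩
  have h2 : (IsLocalRing.maximalIdeal (Localization.AtPrime p')).LiesOver p :=
    Ideal.LiesOver.trans _ p' p
  exact ⟨h2, residueField_comp_bijective p p' _ hb
    ((RingHom.surjectiveOnStalks_of_isLocalization (M := p'.primeCompl)
      (Localization.AtPrime p')).residueFieldMap_bijective p' _
      ((IsLocalRing.maximalIdeal (Localization.AtPrime p')).over_def p'))⟩

set_option maxHeartbeats 1000000 in
/-- The piece over the local ring `A` of `R'` cut out by an etale `S`-algebra `S'` over `R'`: it meets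
every prime over `p'`, and a chain at a point where `N` is flat makes the module free over `A`. -/
theorem exists_piece_local {R S R' S' : Type u} [CommRing R] [CommRing S] [CommRing R'] [CommRing S']
    [Algebra R S] [Algebra R R'] [Algebra S S'] [Algebra R' S'] [Algebra R S'] [IsScalarTower R R' S']
    [IsScalarTower R S S'] [Algebra.Etale S S'] (N : Type u) [AddCommGroup N] [Module S N]
    [Module R N] [IsScalarTower R S N] {p : Ideal R} [p.IsPrime] {p' : Ideal R'} [p'.IsPrime]
    (hR : FlatCA.IsEtaleNhd R R' p p')
    (SA NA : Type u) [CommRing SA] [Algebra R SA] [Algebra S SA]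
    [Algebra (Localization.AtPrime p') SA]
    [IsScalarTower R S SA] [IsScalarTower R (Localization.AtPrime p') SA]
    [Algebra.IsPushout R S (Localization.AtPrime p') SA]
    [AddCommGroup NA] [Module SA NA] [Module S NA] [IsScalarTower S SA NA]
    (f : N →ₗ[S] NA) (hf : IsBaseChange SA f) :
    ∃ (C : Type u) (_ : CommRing C) (_ : Algebra SA C) (_ : Algebra (Localization.AtPrime p') C)
      (_ : IsScalarTower (Localization.AtPrime p') SA C),
      Algebra.Etale SA C ∧
      (∀ (Q' : Ideal S') [Q'.IsPrime], Q'.LiesOver p' → ∃ (x : Ideal C) (_ : x.IsPrime),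
        (x.comap (algebraMap SA C)).LiesOver (Q'.comap (algebraMap S S')) ∧
        (x.comap (algebraMap SA C)).LiesOver
          (IsLocalRing.maximalIdeal (Localization.AtPrime p')) ∧
        ∀ (_aSC : Algebra S C) [IsScalarTower S SA C],
          Bijective (Ideal.ResidueField.mapₐ (Q'.comap (algebraMap S S')) Q' (Algebra.ofId S S')
            rfl) →
          ∀ h : x.LiesOver (Q'.comap (algebraMap S S')),
            Bijective (Ideal.ResidueField.mapₐ (Q'.comap (algebraMap S S')) x (Algebra.ofId S C)
              h.over)) ∧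
      (Subsingleton (S' ⊗[S] N) → Subsingleton (C ⊗[SA] NA)) ∧
      ∀ (q' : Ideal S') [q'.IsPrime], q'.LiesOver p' → Chain R' p' S' (S' ⊗[S] N) q' →
        FlatCA.FlatAt R (q'.comap (algebraMap S S')) N →
        Module.Free (Localization.AtPrime p') (C ⊗[SA] NA) ∧
        (Algebra.FinitePresentation R S → Module.FinitePresentation C (C ⊗[SA] NA)) ∧
        ∃ (x : Ideal C) (_ : x.IsPrime),
          (x.comap (algebraMap SA C)).LiesOver (q'.comap (algebraMap S S')) ∧
          (x.comap (algebraMap SA C)).LiesOver
            (IsLocalRing.maximalIdeal (Localization.AtPrime p')) ∧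
          Chain (Localization.AtPrime p') (IsLocalRing.maximalIdeal (Localization.AtPrime p')) C
            (C ⊗[SA] NA) x ∧
          FlatCA.FlatAt (Localization.AtPrime p') x (C ⊗[SA] NA) := by
  obtain ⟨_, hpA⟩ := bijective_residueField_localRing hR
  have := hR.1
  let A := Localization.AtPrime p'
  let m := IsLocalRing.maximalIdeal A
  let Z := R' ⊗[R] S
  -- the models over `R'`
  let _ : Algebra R' SA := ((algebraMap A SA).comp (algebraMap R' A)).toAlgebra
  have : IsScalarTower R' A SA := .of_algebraMap_eq' rfl
  have : IsScalarTower R R' SA := .of_algebraMap_eq fun r => by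
    rw [IsScalarTower.algebraMap_apply R' A SA, ← IsScalarTower.algebraMap_apply R R' A,
      ← IsScalarTower.algebraMap_apply R A SA]
  let φ : Z →ₐ[R'] SA := Algebra.TensorProduct.lift (Algebra.ofId R' SA)
    (IsScalarTower.toAlgHom R S SA) fun _ _ => .all _ _
  let _ : Algebra Z SA := φ.toRingHom.toAlgebra
  have : IsScalarTower R' Z SA := .of_algebraMap_eq fun r => (φ.commutes r).symm
  have : IsScalarTower S Z SA := .of_algebraMap_eq fun b => by
    show _ = φ ((1 : R') ⊗ₜ[R] b)
    rw [Algebra.TensorProduct.lift_tmul, map_one, one_mul]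
    rfl
  let ψ : Z →ₐ[R'] S' := Algebra.TensorProduct.lift (Algebra.ofId R' S')
    (IsScalarTower.toAlgHom R S S') fun _ _ => .all _ _
  let _ : Algebra Z S' := ψ.toRingHom.toAlgebra
  have : IsScalarTower R' Z S' := .of_algebraMap_eq fun r => (ψ.commutes r).symm
  have : IsScalarTower S Z S' := .of_algebraMap_eq fun b => by
    show _ = ψ ((1 : R') ⊗ₜ[R] b)
    rw [Algebra.TensorProduct.lift_tmul, map_one, one_mul]
    rfl
  have : Algebra.Etale S Z := etale_rightAlgebra
  have : Algebra.Etale Z S' := Algebra.Etale.of_restrictScalars S _ _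
  have : Algebra.IsPushout R A S SA := Algebra.IsPushout.symm ‹_›
  have : IsScalarTower R Z SA := .of_algebraMap_eq fun r => by
    rw [IsScalarTower.algebraMap_apply R R' Z, ← IsScalarTower.algebraMap_apply R' Z SA,
      ← IsScalarTower.algebraMap_apply R R' SA]
  have hZ : Algebra.IsPushout R' A Z SA :=
    (Algebra.IsPushout.comp_iff R R' S Z).1 inferInstance
  let C := SA ⊗[Z] S'
  let _ : Algebra S' C := Algebra.TensorProduct.rightAlgebra
  have : IsScalarTower A SA C := inferInstance
  have : IsScalarTower R' A C := .of_algebraMap_eq fun r => by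
    rw [IsScalarTower.algebraMap_apply A SA C, ← IsScalarTower.algebraMap_apply R' A SA,
      ← IsScalarTower.algebraMap_apply R' SA C]
  have : IsScalarTower R' S' C := .of_algebraMap_eq fun r => by
    rw [IsScalarTower.algebraMap_apply R' Z C, IsScalarTower.algebraMap_apply R' Z S',
      ← IsScalarTower.algebraMap_apply Z S' C]
  have : Algebra.IsPushout R' Z A SA := Algebra.IsPushout.symm hZ
  have hC : Algebra.IsPushout R' A S' C :=
    ((Algebra.IsPushout.comp_iff R' Z A SA).2 inferInstance).symm
  have hm' : m.LiesOver p' :=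
    ⟨(IsLocalization.AtPrime.under_maximalIdeal A p').symm⟩
  have : IsScalarTower S SA C := inferInstance
  have : IsScalarTower S S' C := .of_algebraMap_eq fun b => by
    rw [IsScalarTower.algebraMap_apply S SA C, IsScalarTower.algebraMap_apply S Z SA,
      ← IsScalarTower.algebraMap_apply Z SA C, IsScalarTower.algebraMap_apply S Z S',
      ← IsScalarTower.algebraMap_apply Z S' C]
  let g := (TensorProduct.isBaseChange S N S').lift
    ((TensorProduct.mk SA C NA 1).restrictScalars S ∘ₗ f)
  have hfC : IsBaseChange C ((TensorProduct.mk SA C NA 1).restrictScalars S ∘ₗ f) :=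
    hf.comp (TensorProduct.isBaseChange SA NA C)
  have hg : IsBaseChange C g :=
    (TensorProduct.isBaseChange S N S').of_comp (by
      rw [(TensorProduct.isBaseChange S N S').lift_comp]
      exact hfC)
  refine ⟨C, inferInstance, inferInstance, inferInstance, inferInstance, inferInstance,
    fun Q' _ hQ' => ?_, fun _ => ?_, fun q' _ hq' hch hflat => ?_⟩
  · obtain ⟨x, hx, hxQ, hxm⟩ := exists_prime_isPushout (S' := C) p' m
      ((RingHom.surjectiveOnStalks_of_isLocalization (M := p'.primeCompl)
        A).residueFieldMap_bijective p' m (m.over_def p')) Q'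
    refine ⟨x, hx, ⟨?_⟩, ⟨?_⟩, fun aSC _ hb h => ?_⟩
    · rw [Ideal.under, Ideal.comap_comap, ← IsScalarTower.algebraMap_eq,
        IsScalarTower.algebraMap_eq S S' C, ← Ideal.comap_comap]
      exact congrArg _ hxQ.over
    · rw [Ideal.under, Ideal.comap_comap, ← IsScalarTower.algebraMap_eq]
      exact hxm.over
    · have : @IsScalarTower S S' C _ _ aSC.toSMul :=
          IsScalarTower.of_algebraMap_eq (R := S) (S := S') (A := C) fun b => by
        rw [IsScalarTower.algebraMap_apply S SA C, IsScalarTower.algebraMap_apply S Z SA,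
          ← IsScalarTower.algebraMap_apply Z SA C, IsScalarTower.algebraMap_apply S Z S',
          ← IsScalarTower.algebraMap_apply Z S' C]
      have : Q'.LiesOver (Q'.comap (algebraMap S S')) := ⟨rfl⟩
      exact residueField_comp_bijective _ Q' x hb (bijective_residueField_isPushout p' m
        ((RingHom.surjectiveOnStalks_of_isLocalization (M := p'.primeCompl)
          A).residueFieldMap_bijective p' m (m.over_def p')) Q' x)
  · exact hg.equiv.symm.toEquiv.subsingleton
  · obtain ⟨x, hx, hxq', hxm⟩ := exists_prime_isPushout (S' := C) p' m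
      ((RingHom.surjectiveOnStalks_of_isLocalization (M := p'.primeCompl)
        A).residueFieldMap_bijective p' m (m.over_def p')) q'
    have hchain : Chain A m C (C ⊗[SA] NA) x := hch.localize m C x _ g hg
    obtain ⟨D, ⟨hD⟩⟩ := hchain.hasCompleteDevissageAt
    -- flatness at the point
    let M := C ⊗[SA] NA
    have : IsScalarTower R C M := inferInstance
    have : IsScalarTower R S C := .of_algebraMap_eq fun r => by
      rw [IsScalarTower.algebraMap_apply S SA C, ← IsScalarTower.algebraMap_apply R S SA,
        ← IsScalarTower.algebraMap_apply R SA C]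
    have : Module.Flat R A := Module.Flat.trans R R' A
    have : Module.Flat S SA := by
      have : Module.Flat S (A ⊗[R] S) := flat_rightAlgebra
      exact Module.Flat.of_linearEquiv (R := S) (M := A ⊗[R] S)
        (AlgEquiv.ofRingEquiv (R := S) (f := (Algebra.IsPushout.equiv R A S SA).toRingEquiv)
          (fun b => by
            show Algebra.IsPushout.equiv R A S SA ((1 : A) ⊗ₜ[R] b) = _
            rw [Algebra.IsPushout.equiv_tmul, map_one, one_mul])).toLinearEquiv.symm
    have : Algebra.Etale SA C := inferInstance
    have : Module.Flat S C := Module.Flat.trans S SA C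
    have hR1 : FlatCA.FlatAt R x M := (flatAt_baseChange_iff hfC x).2 (by
      have e : x.comap (algebraMap S C) = q'.comap (algebraMap S S') := by
        rw [IsScalarTower.algebraMap_eq S S' C, ← Ideal.comap_comap]
        exact congrArg _ hxq'.over.symm
      simp only [e]
      exact hflat)
    have : IsScalarTower R' C M := inferInstance
    have : IsScalarTower R R' C := .of_algebraMap_eq fun r => by
      rw [IsScalarTower.algebraMap_apply R' SA C, ← IsScalarTower.algebraMap_apply R R' SA,
        ← IsScalarTower.algebraMap_apply R SA C]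
    have : IsScalarTower R R' M := .of_algebraMap_smul fun r y => by
      rw [← algebraMap_smul C (algebraMap R R' r), ← IsScalarTower.algebraMap_apply, algebraMap_smul]
    have hR2 : FlatCA.FlatAt R' x M := (S1231.result (R := R) (T := R') (C := C) M x).1.1 hR1
    have : IsScalarTower R' A M := .of_algebraMap_smul fun r y => by
      rw [← algebraMap_smul C (algebraMap R' A r), ← IsScalarTower.algebraMap_apply, algebraMap_smul]
    have hA : FlatCA.FlatAt A x M :=
      (Module.flat_iff_of_isLocalization A p'.primeCompl _).2 hR2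
    refine ⟨(exists_equiv_free D hD hA).1, fun hfp => ?_, x, hx, ⟨?_⟩, ⟨?_⟩, hchain, hA⟩
    rotate_left
    · rw [Ideal.under, Ideal.comap_comap, ← IsScalarTower.algebraMap_eq,
        IsScalarTower.algebraMap_eq S S' C, ← Ideal.comap_comap]
      exact congrArg _ hxq'.over
    · rw [Ideal.under, Ideal.comap_comap, ← IsScalarTower.algebraMap_eq]
      exact hxm.over
    have : Algebra.FinitePresentation A SA :=
      Algebra.FinitePresentation.equiv (Algebra.IsPushout.equiv R A S SA)
    have : Algebra.FinitePresentation A C := Algebra.FinitePresentation.trans A SA C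
    exact finitePresentation_of_flatAt D hD hA

set_option maxHeartbeats 400000 in
/-- Flatness at `q` gives, over the local ring `A` of an etale neighbourhood of `p`, an etale
`SA`-algebra through the point over which the module is free over `A`. -/
theorem exists_free_etale_local {R S : Type u} [CommRing R] [CommRing S] [Algebra R S]
    [Algebra.FiniteType R S] (N : Type u) [AddCommGroup N] [Module S N] [Module R N]
    [IsScalarTower R S N] [Module.Finite S N] (p : Ideal R) [p.IsPrime] (q : Ideal S) [q.IsPrime]
    [q.LiesOver p] (hflat : FlatCA.FlatAt R q N) :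
    ∃ (R' : Type u) (_ : CommRing R') (_ : Algebra R R') (p' : Ideal R') (_ : p'.IsPrime),
      FlatCA.IsEtaleNhd R R' p p' ∧
      ∀ (SA NA : Type u) [CommRing SA] [Algebra R SA] [Algebra S SA]
        [Algebra (Localization.AtPrime p') SA]
        [IsScalarTower R S SA] [IsScalarTower R (Localization.AtPrime p') SA]
        [Algebra.IsPushout R S (Localization.AtPrime p') SA]
        [AddCommGroup NA] [Module SA NA] [Module S NA] [IsScalarTower S SA NA]
        (f : N →ₗ[S] NA), IsBaseChange SA f →
        ∃ (C : Type u) (_ : CommRing C) (_ : Algebra SA C) (_ : Algebra (Localization.AtPrime p') C)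
          (_ : IsScalarTower (Localization.AtPrime p') SA C) (x : Ideal C) (_ : x.IsPrime),
          Algebra.Etale SA C ∧ (x.comap (algebraMap SA C)).LiesOver q ∧
          (x.comap (algebraMap SA C)).LiesOver (IsLocalRing.maximalIdeal (Localization.AtPrime p')) ∧
          Module.Free (Localization.AtPrime p') (C ⊗[SA] NA) ∧
          (Algebra.FinitePresentation R S → Module.FinitePresentation C (C ⊗[SA] NA)) ∧
          ∀ (_aSC : Algebra S C) [IsScalarTower S SA C] (h : x.LiesOver q),
            Bijective (Ideal.ResidueField.mapₐ q x (Algebra.ofId S C) h.over) := by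
  by_cases hNq : Module.annihilator S N ≤ q
  · obtain ⟨n, hd⟩ : ∃ n : ℕ, ∀ w : PrimeSpectrum S, EGA43.FibDepth.trd R w ≤ n := by
      obtain ⟨s, f, hf⟩ :=
        Algebra.FiniteType.iff_quotient_mvPolynomial''.1 ‹Algebra.FiniteType R S›
      refine ⟨s, fun w => ?_⟩
      rw [← EGA43.FibDepth.trd_comap_of_surjectiveOnStalks f
        (RingHom.surjectiveOnStalks_of_surjective hf) w]
      exact EGA43.FibDepth.trd_mvPolynomial_le _
    obtain ⟨R', S', _, _, _, _, _, _, _, _, p', q', _, _, hR, hS, ho, hch⟩ :=
      exists_hasChainNhd n N p q (fun w _ _ _ => hd w) hNq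
    refine ⟨R', inferInstance, inferInstance, p', inferInstance, hR, ?_⟩
    intro SA NA _ _ _ _ _ _ _ _ _ _ _ f hf
    have := hS.1
    obtain ⟨C, _, _, _, _, hC, hcov, -, hfree⟩ := exists_piece_local (S' := S') N hR SA NA f hf
    have hq'q : q'.comap (algebraMap S S') = q := hS.2.1.over.symm
    obtain ⟨x, hx, hxq, hxm, hbij⟩ := hcov q' ho
    have h := hfree q' ho (hch _ (TensorProduct.mk S S' N 1) (TensorProduct.isBaseChange S N S'))
      (by simp only [hq'q]; exact hflat)
    have hb := hS.2.2
    subst hq'q
    exact ⟨C, inferInstance, inferInstance, inferInstance, inferInstance, x, hx, hC,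
      ⟨hxq.over⟩, hxm, h.1, h.2.1, fun aSC _ h => hbij aSC hS.2.2 h⟩
  · obtain ⟨a, haN, haq⟩ := SetLike.not_le_iff_exists.1 hNq
    obtain ⟨p', hp', hR⟩ := isEtaleNhd_away (L := Localization.Away (1 : R)) (1 : R) p
      (Ideal.one_notMem p)
    refine ⟨_, inferInstance, inferInstance, p', hp', hR, ?_⟩
    intro SA NA _ _ _ _ _ _ _ _ _ _ _ f hf
    obtain ⟨_, hpA⟩ := bijective_residueField_localRing hR
    let A := Localization.AtPrime p'
    have : Algebra.IsPushout R A S SA := Algebra.IsPushout.symm ‹_›
    obtain ⟨Q, hQ, hQq, hQm⟩ := exists_prime_isPushout (S' := SA) p (IsLocalRing.maximalIdeal A) hpA q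
    have haQ : algebraMap S SA a ∉ Q := fun h => haq (by rw [hQq.over]; exact h)
    let C := Localization.Away (algebraMap S SA a)
    have hd : Disjoint (Submonoid.powers (algebraMap S SA a) : Set SA) (Q : Set SA) := by
      rw [Set.disjoint_left]
      rintro _ ⟨e, rfl⟩ he
      exact haQ (hQ.mem_of_pow_mem e he)
    have hx := IsLocalization.isPrime_of_isPrime_disjoint
      (Submonoid.powers (algebraMap S SA a)) C Q hQ hd
    have hxQ : (Q.map (algebraMap SA C)).comap (algebraMap SA C) = Q :=
      IsLocalization.under_map_of_isPrime_disjoint (Submonoid.powers (algebraMap S SA a)) C hQ hd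
    have hann : algebraMap S SA a ∈ Module.annihilator SA NA := by
      rw [Module.mem_annihilator]
      intro y
      induction y using hf.inductionOn with
      | zero => rw [smul_zero]
      | tmul n => rw [algebraMap_smul, ← map_smul, Module.mem_annihilator.1 haN n, map_zero]
      | smul t y hy => rw [smul_comm, hy, smul_zero]
      | add y z hy hz => rw [smul_add, hy, hz, add_zero]
    have : Subsingleton (C ⊗[SA] NA) := subsingleton_tensor_of_isUnit hann
      (IsLocalization.Away.algebraMap_isUnit (algebraMap S SA a))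
    refine ⟨C, inferInstance, inferInstance, inferInstance, inferInstance, Q.map (algebraMap SA C),
      hx, Algebra.Etale.of_isLocalizationAway (algebraMap S SA a), hxQ.symm ▸ hQq, hxQ.symm ▸ hQm,
      inferInstance, fun _ => inferInstance, fun aSC _ h => ?_⟩
    have : (Q.map (algebraMap SA C)).LiesOver Q := ⟨hxQ.symm⟩
    exact residueField_comp_bijective q Q _ (bijective_residueField_isPushout p _ hpA q Q)
      ((RingHom.surjectiveOnStalks_of_isLocalization
        (M := Submonoid.powers (algebraMap S SA a)) C).residueFieldMap_bijective Q _ hxQ.symm)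

end Groth.Agent.FlatMorDevissage
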