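import Groth.Agent.FlatMorDevissage.Transport
import Groth.Agent.FlatMorDevissage.GoodOpen
import Groth.Agent.FlatMorDevissage.NhdLemmas
import Groth.Agent.HenselLib.EtaleLift

/-!
# Building a step over a neighbourhood of the smooth ring
-/

set_option autoImplicit false
set_option backward.isDefEq.respectTransparency false

universe u

open TensorProduct Function

namespace Groth.Agent.FlatMorDevissage

open Groth.Agent

attribute [local instance] Algebra.TensorProduct.rightAlgebra

/-- Lifting an etale algebra over a quotient, compatibly with an etale extension of the base. -/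
theorem exists_lift_compat {A A' S T T' : Type u} [CommRing A] [CommRing A'] [CommRing S] [CommRing T]
    [CommRing T'] [Algebra A A'] [Algebra.Etale A A'] [Algebra A S] [Algebra A T] [Algebra S T]
    [IsScalarTower A S T] [Algebra T T'] [Algebra.Etale T T'] [Algebra A' T'] [Algebra A T']
    [IsScalarTower A A' T'] [IsScalarTower A T T'] (hST : Surjective (algebraMap S T)) :
    ∃ (B : Type u) (_ : CommRing B) (_ : Algebra S B) (_ : Algebra.Etale S B) (_ : Algebra A' B)
      (_ : Algebra A B) (_ : IsScalarTower A A' B) (_ : IsScalarTower A S B) (θ : B →+* T'),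
      Surjective θ ∧ RingHom.ker θ = (RingHom.ker (algebraMap S T)).map (algebraMap S B) ∧
      (∀ s, θ (algebraMap S B s) = algebraMap T T' (algebraMap S T s)) ∧
      ∀ a, θ (algebraMap A' B a) = algebraMap A' T' a := by
  let _ : Algebra S T' := ((algebraMap T T').comp (algebraMap S T)).toAlgebra
  have : IsScalarTower S T T' := .of_algebraMap_eq' rfl
  have : IsScalarTower A S T' := .of_algebraMap_eq fun r => by
    show _ = algebraMap T T' (algebraMap S T (algebraMap A S r))
    rw [← IsScalarTower.algebraMap_apply A S T, ← IsScalarTower.algebraMap_apply A T T']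
  let μ₀ : S ⊗[A] A' →ₐ[S] T' := Algebra.TensorProduct.lift (Algebra.ofId S T')
    (IsScalarTower.toAlgHom A A' T') fun _ _ => .all _ _
  let I : Ideal S := RingHom.ker (algebraMap S T)
  let I₀ : Ideal (S ⊗[A] A') := I.map (algebraMap S (S ⊗[A] A'))
  have hμ₀ : ∀ a ∈ I₀, μ₀ a = 0 := by
    refine fun a ha => (show I₀ ≤ RingHom.ker μ₀.toRingHom from ?_) ha
    rw [Ideal.map_le_iff_le_comap]
    intro b hb
    show μ₀ (algebraMap S _ b) = 0
    rw [AlgHom.commutes, IsScalarTower.algebraMap_apply S T T', RingHom.mem_ker.1 hb, map_zero]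
  let μ : ((S ⊗[A] A') ⧸ I₀) →ₐ[S] T' := Ideal.Quotient.liftₐ I₀ μ₀ hμ₀
  let _ : Algebra ((S ⊗[A] A') ⧸ I₀) T' := μ.toRingHom.toAlgebra
  let ν : T →+* (S ⊗[A] A') ⧸ I₀ := RingHom.liftOfSurjective (algebraMap S T) hST
    ⟨(Ideal.Quotient.mk I₀).comp (algebraMap S (S ⊗[A] A')), fun b hb =>
      Ideal.Quotient.eq_zero_iff_mem.2 (Ideal.mem_map_of_mem _ hb)⟩
  have hν : ∀ b, ν (algebraMap S T b) = algebraMap S ((S ⊗[A] A') ⧸ I₀) b := fun b =>
    RingHom.liftOfRightInverse_comp_apply _ _ _ _ b
  let _ : Algebra T ((S ⊗[A] A') ⧸ I₀) := ν.toAlgebra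
  have : IsScalarTower S T ((S ⊗[A] A') ⧸ I₀) := .of_algebraMap_eq fun b => (hν b).symm
  have : IsScalarTower T ((S ⊗[A] A') ⧸ I₀) T' := .of_algebraMap_eq fun b => by
    obtain ⟨b, rfl⟩ := hST b
    show _ = μ (ν (algebraMap S T b))
    rw [hν, AlgHom.commutes]
    exact (IsScalarTower.algebraMap_apply S T T' b).symm
  have : Algebra.FormallyUnramified S ((S ⊗[A] A') ⧸ I₀) :=
    Algebra.FormallyUnramified.comp S (S ⊗[A] A') _
  have : Algebra.FormallyUnramified T ((S ⊗[A] A') ⧸ I₀) :=
    Algebra.FormallyUnramified.of_restrictScalars S _ _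
  have : Algebra.FiniteType S ((S ⊗[A] A') ⧸ I₀) :=
    Algebra.FiniteType.of_surjective (Ideal.Quotient.mkₐ S I₀) (Ideal.Quotient.mkₐ_surjective S I₀)
  have : Algebra.FiniteType T ((S ⊗[A] A') ⧸ I₀) :=
    Algebra.FiniteType.of_restrictScalars_finiteType S _ _
  have : Algebra.Etale ((S ⊗[A] A') ⧸ I₀) T' :=
    { formallyEtale := Algebra.FormallyEtale.of_restrictScalars (R := T)
      finitePresentation :=
        Algebra.FinitePresentation.of_restrict_scalars_finitePresentation T _ _ }
  obtain ⟨B, _, _, _, θ, hθ, hker, hθc⟩ := HenselLib.exists_etale_lift (S ⊗[A] A') I₀ T'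
  let _ : Algebra S B := ((algebraMap (S ⊗[A] A') B).comp (algebraMap S (S ⊗[A] A'))).toAlgebra
  have : IsScalarTower S (S ⊗[A] A') B := .of_algebraMap_eq' rfl
  let _ : Algebra A' B := ((algebraMap (S ⊗[A] A') B).comp
    (Algebra.TensorProduct.includeRight (R := A) (A := S) (B := A')).toRingHom).toAlgebra
  let _ : Algebra A B := ((algebraMap S B).comp (algebraMap A S)).toAlgebra
  have : IsScalarTower A A' B := .of_algebraMap_eq fun r => by
    show algebraMap _ B (algebraMap S (S ⊗[A] A') (algebraMap A S r)) =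
      algebraMap _ B (Algebra.TensorProduct.includeRight (algebraMap A A' r))
    rw [AlgHom.commutes, IsScalarTower.algebraMap_apply A S (S ⊗[A] A')]
  refine ⟨B, inferInstance, inferInstance, Algebra.Etale.comp S (S ⊗[A] A') B, inferInstance,
    inferInstance, ‹IsScalarTower A A' B›, .of_algebraMap_eq' rfl, θ, hθ, ?_, fun b => ?_, fun a => ?_⟩
  · rw [hker, Ideal.map_map]
    rfl
  · rw [IsScalarTower.algebraMap_apply S (S ⊗[A] A') B, hθc, ← IsScalarTower.algebraMap_apply S T T']
    exact μ₀.commutes b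
  · refine (hθc _).trans ?_
    show μ₀ (Algebra.TensorProduct.includeRight a) = _
    simp [μ₀]

set_option maxHeartbeats 400000 in
/-- A step gives a chain over a neighbourhood of `S` once the rest is known over a neighbourhood of
the smooth ring. -/
theorem Step.exists_nhd {R : Type u} [CommRing R] {p : Ideal R} [p.IsPrime] {S : Type u} [CommRing S]
    [Algebra R S] {N : Type u} [AddCommGroup N] [Module S N] {q : Ideal S} [q.IsPrime]
    (s : Step R p S N q) {R' : Type u} [CommRing R'] [Algebra R R'] (p' : Ideal R') [p'.IsPrime]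
    (hR : FlatCA.IsEtaleNhd R R' p p') (B' : Type u) [CommRing B'] [Algebra s.B B'] [Algebra R' B']
    [Algebra R B'] [IsScalarTower R R' B'] [IsScalarTower R s.B B'] (qB' : Ideal B') [qB'.IsPrime]
    [qB'.LiesOver p'] (hB : FlatCA.IsEtaleNhd s.B B' s.qB qB') (hdom : FibresDomain R' B')
    (h : Subsingleton (B' ⊗[s.B] (s.M ⧸ LinearMap.range s.α)) ∨
      Chain R' p' B' (B' ⊗[s.B] (s.M ⧸ LinearMap.range s.α)) qB') :
    ∃ (S' : Type u) (_ : CommRing S') (_ : Algebra S S') (_ : Algebra R' S') (_ : Algebra R S')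
      (_ : IsScalarTower R R' S') (_ : IsScalarTower R S S') (q' : Ideal S') (_ : q'.IsPrime),
      FlatCA.IsEtaleNhd S S' q q' ∧ q'.LiesOver p' ∧
      ∀ (N' : Type u) [AddCommGroup N'] [Module S' N'] [Module S N'] [IsScalarTower S S' N']
        (f : N →ₗ[S] N'), IsBaseChange S' f → Chain R' p' S' N' q' := by
  obtain ⟨hRe, hRo, hRb⟩ := hR
  obtain ⟨hBe, hBo, hBb⟩ := hB
  let A' := B' ⊗[s.B] s.A
  have : Algebra.Etale s.A A' := etale_rightAlgebra
  have : IsScalarTower R R' A' := .of_algebraMap_eq fun r => by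
    show algebraMap R B' r ⊗ₜ[s.B] (1 : s.A) = algebraMap R' B' (algebraMap R R' r) ⊗ₜ[s.B] 1
    rw [← IsScalarTower.algebraMap_apply]
  have : IsScalarTower R s.A A' := .of_algebraMap_eq fun r => by
    show algebraMap R B' r ⊗ₜ[s.B] (1 : s.A) = (1 : B') ⊗ₜ[s.B] algebraMap R s.A r
    rw [IsScalarTower.algebraMap_apply R s.B B', IsScalarTower.algebraMap_apply R s.B s.A]
    exact Algebra.TensorProduct.tmul_one_eq_one_tmul _
  obtain ⟨S', _, _, hS'e, _, _, _, _, θ, hθ, hker, hθS, hθR⟩ :=
    exists_lift_compat (A := R) (A' := R') (S := S) (T := s.A) (T' := A') s.surjSA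
  have : Algebra.IsPushout s.B B' s.A A' := TensorProduct.isPushout
  obtain ⟨qA', hqA', hover, hqAA, huniq⟩ := existsUnique_prime_pushout (A' := A') s.qB qB' hBb s.qA s.uniq
  let q' : Ideal S' := qA'.comap θ
  have hq'p : q'.LiesOver p' := ⟨by
    show p' = (qA'.comap θ).comap (algebraMap R' S')
    rw [Ideal.comap_comap, show θ.comp (algebraMap R' S') = (algebraMap B' A').comp (algebraMap R' B')
      from RingHom.ext hθR, ← Ideal.comap_comap]
    exact (qB'.over_def p').trans (congrArg _ hover.over)⟩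
  have hAA : qA'.LiesOver s.qA := ⟨hqAA.symm⟩
  have hAq : s.qA.LiesOver q := ⟨s.q0.symm⟩
  let _ : Algebra S' A' := θ.toAlgebra
  let _ : Algebra S A' := (θ.comp (algebraMap S S')).toAlgebra
  have : IsScalarTower S S' A' := .of_algebraMap_eq' rfl
  have : IsScalarTower S s.A A' := .of_algebraMap_eq hθS
  have hq'A : qA'.LiesOver q' := ⟨rfl⟩
  have hq'q : q'.LiesOver q := ⟨by
    show q = (qA'.comap θ).comap (algebraMap S S')
    rw [Ideal.comap_comap, show θ.comp (algebraMap S S') = (algebraMap s.A A').comp (algebraMap S s.A)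
      from RingHom.ext hθS, ← Ideal.comap_comap, hqAA]
    exact s.q0.symm⟩
  have : IsLocalization ((⊥ : Submonoid s.A).map (algebraMap s.A A')) A' :=
    IsLocalization.of_le_isUnit
      (by rintro _ ⟨_, hm, rfl⟩; rw [Submonoid.mem_bot.1 hm, map_one]; exact isUnit_one)
  have hzbij := bijective_residueField_pushout (R := s.B) (R' := B') (S := s.A) (S' := A')
    s.qB qB' hBb ⊥ s.qA qA'
  refine ⟨S', inferInstance, inferInstance, inferInstance, inferInstance, inferInstance, inferInstance,
    q', inferInstance, ⟨hS'e, hq'q, bijective_of_square s.surjSA hθ q s.qA q' qA' hzbij⟩, hq'p,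
    fun N' _ _ _ _ f hf => ?_⟩
  obtain ⟨hlast, hcons⟩ := s.exists_map p' hRb B' hdom qB' hBb S' θ hθS
    (fun r => hθR r) hθ hker q'
    (fun Q hQ hQB => by rw [huniq Q ⟨hQB.symm⟩]) N' hf
  rcases h with h | h
  · exact hlast h
  · exact hcons h

end Groth.Agent.FlatMorDevissage
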