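import Groth.Agent.FlatMorDevissage.StepMap
import Groth.Agent.FlatMorDevissage.NbhdPrimes
import Mathlib.RingTheory.Etale.Basic

/-!
# Base change and shrinking of chains
-/

set_option autoImplicit false
set_option backward.isDefEq.respectTransparency false

universe u

open TensorProduct Function

namespace Groth.Agent.FlatMorDevissage

open Groth.Agent

attribute [local instance] Algebra.TensorProduct.rightAlgebra

theorem etale_rightAlgebra {R R' B : Type u} [CommRing R] [CommRing R'] [CommRing B] [Algebra R R']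
    [Algebra R B] [Algebra.Etale R R'] : Algebra.Etale B (R' ⊗[R] B) :=
  Algebra.Etale.of_equiv (Algebra.TensorProduct.commRight R B R')

/-- Nonempty fibres of the localisations. -/
theorem fibresDomain_away_tensor {R B : Type u} [CommRing R] [CommRing B] [Algebra R B]
    (h : FibresDomain R B) (R' : Type u) [CommRing R'] [Algebra R R'] (d : B) (f : R)
    (hf : IsUnit (algebraMap R R' f))
    (hd : ∀ p₀ : Ideal R, p₀.IsPrime → f ∉ p₀ → ∃ Q : Ideal B, Q.IsPrime ∧
      Q.comap (algebraMap R B) = p₀ ∧ d ∉ Q)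
    {B' : Type u} [CommRing B'] [Algebra (R' ⊗[R] B) B'] [Algebra R' B']
    [IsScalarTower R' (R' ⊗[R] B) B'] [IsLocalization.Away ((1 : R') ⊗ₜ[R] d) B'] :
    FibresDomain R' B' := by
  refine fibresDomain_of_weakDomain
    (((weakDomain_of_fibresDomain h).baseChange R').localization
      (Submonoid.powers ((1 : R') ⊗ₜ[R] d))) fun K _ _ => ?_
  let _ : Algebra R K := ((algebraMap R' K).comp (algebraMap R R')).toAlgebra
  have : IsScalarTower R R' K := .of_algebraMap_eq' rfl
  have := h K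
  have hker : f ∉ RingHom.ker (algebraMap R K) := fun hm =>
    ((hf.map (algebraMap R' K)).ne_zero) (by
      rw [← IsScalarTower.algebraMap_apply]; exact hm)
  obtain ⟨Q, hQ, hQover, hdQ⟩ := hd _ (RingHom.ker_isPrime _) hker
  let e := Algebra.TensorProduct.cancelBaseChange R R' K K B
  have : IsDomain (K ⊗[R'] (R' ⊗[R] B)) := e.toMulEquiv.isDomain _
  have hne : (1 : K) ⊗ₜ[R'] ((1 : R') ⊗ₜ[R] d) ≠ 0 := fun h0 =>
    one_tmul_ne_zero_of_notMem K Q hQover hdQ (by
      have := congrArg e h0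
      simpa [e] using this)
  have : IsDomain (Localization.Away ((1 : K) ⊗ₜ[R'] ((1 : R') ⊗ₜ[R] d))) :=
    IsLocalization.isDomain_localization (powers_le_nonZeroDivisors_of_noZeroDivisors hne)
  exact (IsLocalization.Away.tensorProductEquivTMulRight R' K ((1 : R') ⊗ₜ[R] d) B').toEquiv.nontrivial

/-- An element of the base whose nonvanishing forces `d` to be nonzero on the fibre. -/
theorem exists_notMem_forall_lift {R B : Type u} [CommRing R] [CommRing B] [Algebra R B]
    [Algebra.Smooth R B] (p : Ideal R) [p.IsPrime] (q : Ideal B) [q.IsPrime] [q.LiesOver p] (d : B)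
    (hd : d ∉ q) :
    ∃ f ∉ p, ∀ p₀ : Ideal R, p₀.IsPrime → f ∉ p₀ → ∃ Q : Ideal B, Q.IsPrime ∧
      Q.comap (algebraMap R B) = p₀ ∧ d ∉ Q := by
  have hopen := PrimeSpectrum.isOpenMap_comap_of_hasGoingDown_of_finitePresentation
    (R := R) (S := B) _ (PrimeSpectrum.isOpen_basicOpen (a := d))
  have hpmem : (⟨p, inferInstance⟩ : PrimeSpectrum R) ∈
      PrimeSpectrum.comap (algebraMap R B) '' (PrimeSpectrum.basicOpen d : Set _) :=
    ⟨⟨q, inferInstance⟩, hd, PrimeSpectrum.ext (q.over_def p).symm⟩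
  obtain ⟨_, ⟨f, rfl⟩, hfp, hsub⟩ :=
    PrimeSpectrum.isTopologicalBasis_basic_opens.exists_subset_of_mem_open hpmem hopen
  refine ⟨f, hfp, fun p₀ hp₀ hf => ?_⟩
  obtain ⟨Q, hQd, hQ⟩ := hsub (show (⟨p₀, hp₀⟩ : PrimeSpectrum R) ∈ PrimeSpectrum.basicOpen f from hf)
  exact ⟨Q.asIdeal, Q.isPrime, congrArg PrimeSpectrum.asIdeal hQ, hQd⟩

section Sigma

variable {R R' S A B S' B' : Type u} [CommRing R] [CommRing R'] [CommRing S] [CommRing A] [CommRing B]
  [CommRing S'] [CommRing B'] [Algebra R R'] [Algebra R S] [Algebra R B] [Algebra R A] [Algebra S A]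
  [IsScalarTower R S A] [Algebra B A] [IsScalarTower R B A]
  [Algebra (R' ⊗[R] S) S'] [Algebra S S'] [Algebra R' S'] [Algebra R S']
  [IsScalarTower S (R' ⊗[R] S) S'] [IsScalarTower R' (R' ⊗[R] S) S'] [IsScalarTower R S S']
  [IsScalarTower R R' S']
  [Algebra (R' ⊗[R] B) B'] [Algebra B B'] [Algebra R' B'] [Algebra R B']
  [IsScalarTower B (R' ⊗[R] B) B'] [IsScalarTower R' (R' ⊗[R] B) B'] [IsScalarTower R B B']
  [IsScalarTower R R' B']

theorem algebraMap_tmul (r : R') (b : S) :
    algebraMap (R' ⊗[R] S) S' (r ⊗ₜ b) = algebraMap R' S' r * algebraMap S S' b := by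
  rw [IsScalarTower.algebraMap_apply R' (R' ⊗[R] S) S', IsScalarTower.algebraMap_apply S (R' ⊗[R] S) S',
    ← map_mul, Algebra.TensorProduct.algebraMap_apply, Algebra.algebraMap_self, RingHom.id_apply,
    Algebra.TensorProduct.right_algebraMap_apply, Algebra.TensorProduct.tmul_mul_tmul, mul_one, one_mul]

variable {h : S} {d : B} [IsLocalization.Away ((1 : R') ⊗ₜ[R] h) S']
  [IsLocalization.Away ((1 : R') ⊗ₜ[R] d) B'] (hS : Surjective (algebraMap S A))
  (himg : algebraMap S A h = algebraMap B A d)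

include R hS himg in
theorem exists_sigma :
    ∃ σ : S' →+* B' ⊗[B] A, (∀ a, σ (algebraMap S S' a) = 1 ⊗ₜ algebraMap S A a) ∧
      (∀ r, σ (algebraMap R' S' r) = algebraMap R' B' r ⊗ₜ 1) ∧ Surjective σ := by
  let σ₀ : R' ⊗[R] S →ₐ[R] B' ⊗[B] A := Algebra.TensorProduct.lift
    (((Algebra.TensorProduct.includeLeft (R := B) (S := B) (A := B') (B := A)).restrictScalars R).comp
      (IsScalarTower.toAlgHom R R' B'))
    (((Algebra.TensorProduct.includeRight (R := B) (A := B')).restrictScalars R).comp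
      (IsScalarTower.toAlgHom R S A)) fun _ _ => .all _ _
  have hσ₀ : ∀ r b, σ₀ (r ⊗ₜ b) = algebraMap R' B' r ⊗ₜ algebraMap S A b := fun r b => by
    rw [Algebra.TensorProduct.lift_tmul]
    show (algebraMap R' B' r ⊗ₜ (1 : A)) * ((1 : B') ⊗ₜ algebraMap S A b) = _
    rw [Algebra.TensorProduct.tmul_mul_tmul, mul_one, one_mul]
  have hswap : ∀ b : B, (1 : B') ⊗ₜ[B] algebraMap B A b = algebraMap B B' b ⊗ₜ[B] 1 :=
    fun b => (Algebra.TensorProduct.tmul_one_eq_one_tmul b).symm
  have hdu : IsUnit (algebraMap B B' d) := by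
    rw [IsScalarTower.algebraMap_apply B (R' ⊗[R] B) B']
    exact IsLocalization.Away.algebraMap_isUnit ((1 : R') ⊗ₜ[R] d)
  have hu' : IsUnit (σ₀.toRingHom ((1 : R') ⊗ₜ[R] h)) := by
    show IsUnit (σ₀ ((1 : R') ⊗ₜ[R] h))
    rw [hσ₀, map_one, himg, hswap]
    exact hdu.map (Algebra.TensorProduct.includeLeftRingHom (R := B) (A := B') (B := A))
  let σ : S' →+* B' ⊗[B] A := IsLocalization.Away.lift ((1 : R') ⊗ₜ[R] h) hu'
  have hσeq : ∀ x, σ (algebraMap (R' ⊗[R] S) S' x) = σ₀ x := fun x =>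
    IsLocalization.Away.lift_eq _ hu' x
  have hσS : ∀ b, σ (algebraMap S S' b) = (1 : B') ⊗ₜ[B] algebraMap S A b := fun b => by
    rw [IsScalarTower.algebraMap_apply S (R' ⊗[R] S) S', hσeq,
      Algebra.TensorProduct.right_algebraMap_apply, hσ₀, map_one]
  have hσR : ∀ r, σ (algebraMap R' S' r) = algebraMap R' B' r ⊗ₜ[B] 1 := fun r => by
    rw [IsScalarTower.algebraMap_apply R' (R' ⊗[R] S) S', hσeq, Algebra.TensorProduct.algebraMap_apply,
      Algebra.algebraMap_self, RingHom.id_apply, hσ₀, map_one]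
  refine ⟨σ, hσS, hσR, fun x => ?_⟩
  induction x using TensorProduct.induction_on with
  | zero => exact ⟨0, map_zero σ⟩
  | add x y hx hy =>
    obtain ⟨a₁, rfl⟩ := hx
    obtain ⟨a₂, rfl⟩ := hy
    exact ⟨a₁ + a₂, map_add σ _ _⟩
  | tmul b w =>
    obtain ⟨w, rfl⟩ := hS w
    suffices hb : ∃ x, σ x = b ⊗ₜ[B] (1 : A) by
      obtain ⟨x, hx⟩ := hb
      refine ⟨x * algebraMap S S' w, ?_⟩
      rw [map_mul, hx, hσS, Algebra.TensorProduct.tmul_mul_tmul, mul_one, one_mul]
    obtain ⟨⟨y, ⟨_, k, rfl⟩⟩, hy⟩ := IsLocalization.surj (Submonoid.powers ((1 : R') ⊗ₜ[R] d)) b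
    have hy' : ∃ x, σ x = algebraMap (R' ⊗[R] B) B' y ⊗ₜ[B] (1 : A) := by
      clear hy
      induction y using TensorProduct.induction_on with
      | zero => exact ⟨0, by rw [map_zero σ, map_zero, TensorProduct.zero_tmul]⟩
      | add u v hu hv =>
        obtain ⟨a₁, h₁⟩ := hu
        obtain ⟨a₂, h₂⟩ := hv
        exact ⟨a₁ + a₂, by rw [map_add σ, h₁, h₂, map_add, TensorProduct.add_tmul]⟩
      | tmul r b₀ =>
        obtain ⟨b₁, hb₁⟩ := hS (algebraMap B A b₀)
        refine ⟨algebraMap R' S' r * algebraMap S S' b₁, ?_⟩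
        rw [map_mul, hσR, hσS, hb₁, hswap, Algebra.TensorProduct.tmul_mul_tmul, mul_one,
          algebraMap_tmul]
    obtain ⟨x, hx⟩ := hy'
    have hinv : IsUnit (algebraMap S S' h) := by
      rw [IsScalarTower.algebraMap_apply S (R' ⊗[R] S) S']
      exact IsLocalization.Away.algebraMap_isUnit ((1 : R') ⊗ₜ[R] h)
    refine ⟨x * ((hinv.pow k).unit⁻¹ : S'ˣ), ?_⟩
    have hk : σ ((algebraMap S S' h) ^ k) =
        algebraMap (R' ⊗[R] B) B' (((1 : R') ⊗ₜ[R] d) ^ k) ⊗ₜ[B] (1 : A) := by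
      rw [map_pow σ, hσS, himg, hswap, Algebra.TensorProduct.tmul_pow, one_pow, map_pow,
        algebraMap_tmul, map_one, one_mul]
    refine (((hinv.pow k).map σ).mul_left_inj).1 ?_
    rw [← map_mul, mul_assoc, IsUnit.val_inv_mul, mul_one, hx, hk,
      Algebra.TensorProduct.tmul_mul_tmul, mul_one]
    congr 1
    exact hy.symm

include R hS himg in
theorem ker_sigma_eq {σ : S' →+* B' ⊗[B] A} (hσS : ∀ a, σ (algebraMap S S' a) = 1 ⊗ₜ algebraMap S A a)
    (hσR : ∀ r, σ (algebraMap R' S' r) = algebraMap R' B' r ⊗ₜ 1) :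
    RingHom.ker σ = (RingHom.ker (algebraMap S A)).map (algebraMap S S') := by
  refine le_antisymm ?_ (Ideal.map_le_iff_le_comap.2 fun b hb => ?_)
  · set I := (RingHom.ker (algebraMap S A)).map (algebraMap S S')
    let ψA : A →+* S' ⧸ I := RingHom.liftOfSurjective (algebraMap S A) hS
      ⟨(Ideal.Quotient.mk I).comp (algebraMap S S'), fun b hb =>
        Ideal.Quotient.eq_zero_iff_mem.2 (Ideal.mem_map_of_mem _ hb)⟩
    have hψA : ∀ b, ψA (algebraMap S A b) = Ideal.Quotient.mk I (algebraMap S S' b) := fun b =>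
      RingHom.liftOfRightInverse_comp_apply _ _ _ _ b
    let _ : Algebra B (S' ⧸ I) := (ψA.comp (algebraMap B A)).toAlgebra
    have : IsScalarTower R B (S' ⧸ I) := .of_algebraMap_eq fun r => by
      show _ = ψA (algebraMap B A (algebraMap R B r))
      rw [← IsScalarTower.algebraMap_apply, IsScalarTower.algebraMap_apply R S A, hψA,
        ← IsScalarTower.algebraMap_apply R S S']
      rfl
    let ψ₀ : R' ⊗[R] B →ₐ[R] S' ⧸ I :=
      Algebra.TensorProduct.lift (IsScalarTower.toAlgHom R R' (S' ⧸ I))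
        (IsScalarTower.toAlgHom R B (S' ⧸ I)) fun _ _ => .all _ _
    have hψ₀B : ∀ b, ψ₀.toRingHom (algebraMap B (R' ⊗[R] B) b) = algebraMap B (S' ⧸ I) b := fun b => by
      show ψ₀ (algebraMap B (R' ⊗[R] B) b) = _
      rw [Algebra.TensorProduct.right_algebraMap_apply, Algebra.TensorProduct.lift_tmul, map_one, one_mul]
      rfl
    have hu₀ : IsUnit (ψ₀.toRingHom ((1 : R') ⊗ₜ[R] d)) := by
      rw [show ((1 : R') ⊗ₜ[R] d) = algebraMap B (R' ⊗[R] B) d from rfl, hψ₀B]
      show IsUnit (ψA (algebraMap B A d))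
      rw [← himg, hψA, IsScalarTower.algebraMap_apply S (R' ⊗[R] S) S']
      exact (IsLocalization.Away.algebraMap_isUnit ((1 : R') ⊗ₜ[R] h)).map _
    let ψB' : B' →+* S' ⧸ I := IsLocalization.Away.lift ((1 : R') ⊗ₜ[R] d) hu₀
    have hψB' : ∀ x, ψB' (algebraMap (R' ⊗[R] B) B' x) = ψ₀ x := fun x =>
      IsLocalization.Away.lift_eq _ hu₀ x
    let ψB : B' →ₐ[B] S' ⧸ I :=
      { ψB' with
        commutes' := fun b => by
          show ψB' (algebraMap B B' b) = _
          rw [IsScalarTower.algebraMap_apply B (R' ⊗[R] B) B', hψB']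
          exact hψ₀B b }
    let ψ : B' ⊗[B] A →ₐ[B] S' ⧸ I := Algebra.TensorProduct.lift ψB
      ({ ψA with commutes' := fun b => rfl } : A →ₐ[B] S' ⧸ I) fun _ _ => .all _ _
    have hψσ : ψ.toRingHom.comp σ = Ideal.Quotient.mk I := by
      refine IsLocalization.ringHom_ext (Submonoid.powers ((1 : R') ⊗ₜ[R] h)) ?_
      refine RingHom.ext fun x => ?_
      show ψ (σ (algebraMap _ S' x)) = _
      induction x using TensorProduct.induction_on with
      | zero => simp
      | add u v hu hv => simp only [map_add, hu, hv]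
      | tmul r b =>
        rw [algebraMap_tmul, map_mul, hσR, hσS, map_mul, RingHom.comp_apply, algebraMap_tmul, map_mul,
          show ψ (algebraMap R' B' r ⊗ₜ[B] (1 : A)) = ψB' (algebraMap R' B' r) * ψA 1 from
            Algebra.TensorProduct.lift_tmul _ _ _ _ _,
          show ψ ((1 : B') ⊗ₜ[B] algebraMap S A b) = ψB' 1 * ψA (algebraMap S A b) from
            Algebra.TensorProduct.lift_tmul _ _ _ _ _,
          map_one, map_one, mul_one, one_mul, hψA]
        congr 1
        rw [IsScalarTower.algebraMap_apply R' (R' ⊗[R] B) B', hψB',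
          Algebra.TensorProduct.algebraMap_apply, Algebra.algebraMap_self, RingHom.id_apply,
          Algebra.TensorProduct.lift_tmul, map_one, mul_one]
        rfl
    intro x hx
    rw [← Ideal.Quotient.eq_zero_iff_mem, ← hψσ]
    show ψ (σ x) = 0
    rw [RingHom.mem_ker.1 hx, map_zero]
  · show σ (algebraMap S S' b) = 0
    rw [hσS, RingHom.mem_ker.1 hb, TensorProduct.tmul_zero]

end Sigma

set_option maxHeartbeats 1000000 in
/-- Chains go along etale neighbourhoods of the base and localisations, after shrinking. -/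
theorem Chain.transport {R : Type u} [CommRing R] {p : Ideal R} [p.IsPrime] {S : Type u} [CommRing S]
    [Algebra R S] {N : Type u} [AddCommGroup N] [Module S N] {q : Ideal S} (hc : Chain R p S N q) :
    ∀ g ∉ q, ∃ f ∉ p, ∃ h ∉ q, g ∣ h ∧
      ∀ (R' : Type u) [CommRing R'] [Algebra R R'] [Algebra.Etale R R'] (p' : Ideal R') [p'.IsPrime]
        [p'.LiesOver p],
        Bijective (Ideal.ResidueField.mapₐ p p' (Algebra.ofId R R') (p'.over_def p)) →
        IsUnit (algebraMap R R' f) →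
        ∀ (S' : Type u) [CommRing S'] [Algebra (R' ⊗[R] S) S'] [Algebra S S'] [Algebra R' S']
          [Algebra R S'] [IsScalarTower S (R' ⊗[R] S) S'] [IsScalarTower R' (R' ⊗[R] S) S']
          [IsScalarTower R S S'] [IsScalarTower R R' S']
          [IsLocalization.Away ((1 : R') ⊗ₜ[R] h) S'] (q' : Ideal S') [q'.IsPrime] [q'.LiesOver q]
          [q'.LiesOver p'] (N' : Type u) [AddCommGroup N'] [Module S' N'] [Module S N']
          [IsScalarTower S S' N'] (μ : N →ₗ[S] N'), IsBaseChange S' μ → Chain R' p' S' N' q' := by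
  suffices key : ∀ {S : Type u} [CommRing S] [Algebra R S] {N : Type u} [AddCommGroup N]
      [Module S N] {q : Ideal S} (s : Step R p S N q) (g : S), g ∉ q →
      ∀ (d₀ : s.B), (∃ c : s.A, algebraMap S s.A g * c = algebraMap s.B s.A d₀) →
      ∀ (e : s.B), d₀ * e ∉ s.qB →
      ∀ f₁ : R, f₁ ∉ p →
      (∀ (R' : Type u) [CommRing R'] [Algebra R R'] [Algebra.Etale R R'] (p' : Ideal R') [p'.IsPrime]
        [p'.LiesOver p],
        Bijective (Ideal.ResidueField.mapₐ p p' (Algebra.ofId R R') (p'.over_def p)) →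
        IsUnit (algebraMap R R' f₁) →
        ∀ (B' : Type u) [CommRing B'] [Algebra (R' ⊗[R] s.B) B'] [Algebra s.B B'] [Algebra R' B']
          [Algebra R B'] [IsScalarTower s.B (R' ⊗[R] s.B) B'] [IsScalarTower R' (R' ⊗[R] s.B) B']
          [IsScalarTower R s.B B'] [IsScalarTower R R' B']
          [IsLocalization.Away ((1 : R') ⊗ₜ[R] (d₀ * e)) B'] (qB' : Ideal B') [qB'.IsPrime]
          [qB'.LiesOver s.qB] [qB'.LiesOver p'],
          Subsingleton (B' ⊗[s.B] (s.M ⧸ LinearMap.range s.α)) ∨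
            Chain R' p' B' (B' ⊗[s.B] (s.M ⧸ LinearMap.range s.α)) qB') →
      ∃ f ∉ p, ∃ h ∉ q, g ∣ h ∧
      ∀ (R' : Type u) [CommRing R'] [Algebra R R'] [Algebra.Etale R R'] (p' : Ideal R') [p'.IsPrime]
        [p'.LiesOver p],
        Bijective (Ideal.ResidueField.mapₐ p p' (Algebra.ofId R R') (p'.over_def p)) →
        IsUnit (algebraMap R R' f) →
        ∀ (S' : Type u) [CommRing S'] [Algebra (R' ⊗[R] S) S'] [Algebra S S'] [Algebra R' S']
          [Algebra R S'] [IsScalarTower S (R' ⊗[R] S) S'] [IsScalarTower R' (R' ⊗[R] S) S']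
          [IsScalarTower R S S'] [IsScalarTower R R' S']
          [IsLocalization.Away ((1 : R') ⊗ₜ[R] h) S'] (q' : Ideal S') [q'.IsPrime] [q'.LiesOver q]
          [q'.LiesOver p'] (N' : Type u) [AddCommGroup N'] [Module S' N'] [Module S N']
          [IsScalarTower S S' N'] (μ : N →ₗ[S] N'), IsBaseChange S' μ → Chain R' p' S' N' q' by
    induction hc with
    | last s hs =>
      intro g hg
      have := s.finiteBA
      have : Algebra.IsIntegral s.B s.A := Algebra.IsIntegral.of_finite _ _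
      obtain ⟨c, d, hd, hcd⟩ := dividesBase_of_finite s.qB s.qA s.uniq (algebraMap _ s.A g)
        (fun hm => hg (s.q0 ▸ hm))
      refine key s g hg d ⟨c, hcd⟩ 1 (by rwa [mul_one]) 1
        (fun h => ‹p.IsPrime›.ne_top ((Ideal.eq_top_iff_one p).2 h)) ?_
      intro R' _ _ _ p' _ _ _ _ B' _ _ _ _ _ _ _ _ _ _ qB' _ _ _
      refine Or.inl ?_
      have : Subsingleton (s.M ⧸ LinearMap.range s.α) :=
        Submodule.Quotient.subsingleton_iff.2 (LinearMap.range_eq_top.2 hs)
      infer_instance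
    | cons s _ ih =>
      intro g hg
      have := s.finiteBA
      have : Algebra.IsIntegral s.B s.A := Algebra.IsIntegral.of_finite _ _
      obtain ⟨c, d, hd, hcd⟩ := dividesBase_of_finite s.qB s.qA s.uniq (algebraMap _ s.A g)
        (fun hm => hg (s.q0 ▸ hm))
      obtain ⟨f₁, hf₁, d', hd', ⟨e, rfl⟩, htail⟩ := ih d hd
      refine key s g hg d ⟨c, hcd⟩ e hd' f₁ hf₁ ?_
      intro R' _ _ _ p' _ _ hp hu B' _ _ _ _ _ _ _ _ _ _ qB' _ _ _
      exact Or.inr (htail R' p' hp hu B' qB' _ (TensorProduct.mk s.B B' _ 1)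
        (TensorProduct.isBaseChange s.B _ B'))
  intro S _ _ N _ _ q s g hg d₀ ⟨c, hc⟩ e hd' f₁ hf₁ htail
  have := s.smooth
  obtain ⟨f₂, hf₂, hlift⟩ := exists_notMem_forall_lift p s.qB (d₀ * e) hd'
  obtain ⟨a, ha⟩ := s.surjSA (c * algebraMap s.B s.A e)
  have himg : algebraMap S s.A (g * a) = algebraMap s.B s.A (d₀ * e) := by
    rw [map_mul, ha, ← mul_assoc, hc, map_mul]
  have hh : g * a ∉ q := fun hm => hd' <| by
    rw [← s.q0, Ideal.mem_comap, himg] at hm
    exact (Ideal.mem_of_liesOver s.qA s.qB _).2 hm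
  refine ⟨f₁ * f₂, p.primeCompl.mul_mem hf₁ hf₂, g * a, hh, dvd_mul_right g a, ?_⟩
  intro R' _ _ _ p' _ _ hp hu S' _ _ _ _ _ _ _ _ _ _ q' _ _ _ N' _ _ _ _ μ hμ
  rw [map_mul, IsUnit.mul_iff] at hu
  let dB : R' ⊗[R] s.B := (1 : R') ⊗ₜ[R] (d₀ * e)
  let B' := Localization.Away dB
  have : IsScalarTower s.B (R' ⊗[R] s.B) B' := inferInstance
  have : Algebra.Etale s.B (R' ⊗[R] s.B) := etale_rightAlgebra
  have : Algebra.Etale (R' ⊗[R] s.B) B' := Algebra.Etale.of_isLocalizationAway dB
  have : Algebra.Etale s.B B' := Algebra.Etale.comp s.B (R' ⊗[R] s.B) B'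
  have : IsScalarTower R R' B' := inferInstance
  have : IsScalarTower R s.B B' := .of_algebraMap_eq fun r => by
    rw [IsScalarTower.algebraMap_apply s.B (R' ⊗[R] s.B) B',
      IsScalarTower.algebraMap_apply R (R' ⊗[R] s.B) B']
    congr 1
    exact (Algebra.TensorProduct.includeRight.commutes r).symm
  let M := Submonoid.powers (d₀ * e)
  have hMmap : M.map (algebraMap s.B (R' ⊗[R] s.B)) = Submonoid.powers dB :=
    Submonoid.map_powers _ _
  have : IsLocalization (M.map (algebraMap s.B (R' ⊗[R] s.B))) B' := by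
    rw [hMmap]
    infer_instance
  obtain ⟨qB', hqB', hov, hov'⟩ := exists_prime_pushout (S' := B') p p' hp s.qB M
    (by rintro _ ⟨k, rfl⟩ hk; exact hd' (s.hqB.mem_of_pow_mem k hk))
  have hbij := bijective_residueField_pushout (S' := B') p p' hp M s.qB qB'
  have hdom : FibresDomain R' B' := fibresDomain_away_tensor s.dom R' (d₀ * e) f₂ hu.2 hlift
  let A' := B' ⊗[s.B] s.A
  obtain ⟨σ, hσS, hσR, hσsurj⟩ :=
    exists_sigma (R := R) (R' := R') (S := S) (S' := S') (B' := B') s.surjSA himg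
  have hker := ker_sigma_eq (R := R) (R' := R') (S := S) (S' := S') (B' := B') s.surjSA himg hσS hσR
  have hq' : ∀ Q : Ideal A', Q.IsPrime → Q.comap (algebraMap B' A') = qB' → Q.comap σ = q' := by
    intro Q hQ hQB
    let _ : Algebra s.A A' := Algebra.TensorProduct.rightAlgebra
    have : (Q.comap σ).IsPrime := Ideal.comap_isPrime σ Q
    have : IsLocalization ((Submonoid.powers (g * a)).map (algebraMap S (R' ⊗[R] S))) S' := by
      rw [Submonoid.map_powers]
      exact ‹IsLocalization.Away _ S'›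
    have hQA : Q.comap (algebraMap s.A A') = s.qA := by
      refine s.uniq _ ⟨?_⟩
      have := s.hqA
      show s.qB = (Q.comap (algebraMap s.A A')).comap (algebraMap s.B s.A)
      rw [Ideal.comap_comap, ← IsScalarTower.algebraMap_eq, IsScalarTower.algebraMap_eq s.B B' A',
        ← Ideal.comap_comap, hQB]
      exact qB'.over_def s.qB
    have h1 : (Q.comap σ).comap (algebraMap S S') = q := by
      refine Eq.trans ?_ s.q0
      rw [← hQA, Ideal.comap_comap, Ideal.comap_comap]
      congr 1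
      exact RingHom.ext hσS
    have : (Q.comap σ).LiesOver p' := ⟨by
      show p' = (Q.comap σ).comap (algebraMap R' S')
      rw [Ideal.comap_comap, show σ.comp (algebraMap R' S') =
        (algebraMap B' A').comp (algebraMap R' B') from RingHom.ext hσR, ← Ideal.comap_comap, hQB]
      exact qB'.over_def p'⟩
    exact eq_of_comap_eq p p' hp (Submonoid.powers (g * a)) _ _ (h1.trans (q'.over_def q))
  obtain ⟨hlast, hcons⟩ := s.exists_map p' hp B' hdom qB' hbij S' σ hσS hσR hσsurj hker q' hq' N' hμ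
  rcases htail R' p' hp hu.1 B' qB' with h | h
  · exact hlast h
  · exact hcons h

end Groth.Agent.FlatMorDevissage
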