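import Groth.Agent.FlatMorDevissage.SupportDim
import Groth.Agent.BertiniLib.Core

/-!
# Dimensions of supports of fibre modules, computed on the primes over the base prime
-/

set_option autoImplicit false
set_option backward.isDefEq.respectTransparency false

universe u

open TensorProduct

namespace Groth.Agent.FlatMorDevissage

open Groth.Agent

attribute [local instance] Algebra.TensorProduct.rightAlgebra

/-- The primes of `S` over `p` which contain `I`. -/
def primesOverGE {R : Type u} [CommRing R] (p : Ideal R) {S : Type u} [CommRing S] [Algebra R S]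
    (I : Ideal S) : Set (PrimeSpectrum S) :=
  {w | w.asIdeal.comap (algebraMap R S) = p ∧ I ≤ w.asIdeal}

variable {R : Type u} [CommRing R] {p : Ideal R}

theorem krullDim_fibre_subset [p.IsPrime] {S : Type u} [CommRing S] [Algebra R S] {I : Ideal S}
    (s : Set (PrimeSpectrum (p.Fiber S)))
    (hs : ∀ Q, Q ∈ s ↔ I ≤ (PrimeSpectrum.comap (algebraMap S (p.Fiber S)) Q).asIdeal) :
    Order.krullDim s = Order.krullDim (primesOverGE p I) := by
  let f : s → primesOverGE p I := fun Q =>
    ⟨PrimeSpectrum.comap (algebraMap S (p.Fiber S)) Q.1,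
      (EGA43.FibDepth.comap_algebraMap_eq (R := S) p Q.1).symm, (hs Q.1).1 Q.2⟩
  have hle : ∀ Q Q', f Q ≤ f Q' ↔ Q ≤ Q' := fun Q Q' =>
    ⟨fun h => EGA43.FibDepth.le_of_comap_le (R := S) p h, fun h => Ideal.comap_mono h⟩
  refine Order.krullDim_eq_of_orderIso
    (RelIso.ofSurjective (OrderEmbedding.ofMapLEIff f hle) fun w => ?_)
  obtain ⟨Q, hQ⟩ := EGA43.FibDepth.exists_prime_over (A := R) (p := p) (p.Fiber S) w.1 w.2.1.symm
  exact ⟨⟨Q, (hs Q).2 (hQ ▸ w.2.2)⟩, Subtype.ext hQ⟩

theorem supportDim_fiberMod [p.IsPrime] {S : Type u} [CommRing S] [Algebra R S] (N : Type u)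
    [AddCommGroup N] [Module S N] [Module R N] [IsScalarTower R S N] [Module.Finite S N] :
    Module.supportDim (p.Fiber S) (FlatCA.fiberMod p S N) =
      Order.krullDim (primesOverGE p (Module.annihilator S N)) :=
  krullDim_fibre_subset _ fun Q => mem_support_fiberMod_iff N p Q

theorem ringKrullDim_fiber [p.IsPrime] {S : Type u} [CommRing S] [Algebra R S] :
    ringKrullDim (p.Fiber S) = Order.krullDim (primesOverGE p (⊥ : Ideal S)) := by
  rw [← krullDim_fibre_subset (S := S) (Set.univ : Set (PrimeSpectrum (p.Fiber S)))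
    fun Q => iff_of_true trivial bot_le]
  exact (Order.krullDim_eq_of_orderIso OrderIso.Set.univ).symm

/-- Integral maps preserve the dimension of closed subsets of fibres. -/
theorem krullDim_primesOverGE_comap {B A : Type u} [CommRing B] [CommRing A] [Algebra R B]
    [Algebra R A] [Algebra B A] [IsScalarTower R B A] [Algebra.IsIntegral B A] (J : Ideal A) :
    Order.krullDim (primesOverGE p (J.comap (algebraMap B A))) =
      Order.krullDim (primesOverGE p J) := by
  have hover : ∀ w : PrimeSpectrum A, (w.asIdeal.comap (algebraMap B A)).comap (algebraMap R B) =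
      w.asIdeal.comap (algebraMap R A) := fun w => by
    rw [Ideal.comap_comap, ← IsScalarTower.algebraMap_eq]
  let f : primesOverGE p J → primesOverGE p (J.comap (algebraMap B A)) := fun w =>
    ⟨PrimeSpectrum.comap (algebraMap B A) w.1, (hover w.1).trans w.2.1, Ideal.comap_mono w.2.2⟩
  refine le_antisymm ?_ (Order.krullDim_le_of_strictMono f fun w w' h =>
    DimLib.strictMono_comap_of_isIntegral (R := B) (S := A) h)
  refine iSup_le fun l => ?_
  have key : ∀ i : Fin (l.length + 1), ∃ l' : LTSeries (primesOverGE p J), l'.length = i.val ∧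
      f l'.last = l i := by
    intro i
    induction i using Fin.induction with
    | zero =>
      obtain ⟨Q, hJQ, hQ, hc⟩ :=
        Ideal.exists_ideal_over_prime_of_isIntegral (l 0).1.asIdeal J (l 0).2.2
      refine ⟨RelSeries.singleton _ ⟨⟨Q, hQ⟩, ?_, hJQ⟩, rfl, ?_⟩
      · rw [← hover, hc]
        exact (l 0).2.1
      · exact Subtype.ext (PrimeSpectrum.ext hc)
    | succ i ih =>
      obtain ⟨l', hlen, hl'⟩ := ih
      have hl'' : l'.last.1.asIdeal.comap (algebraMap B A) = (l i.castSucc).1.asIdeal :=
        congrArg (fun w => w.1.asIdeal) hl'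
      obtain ⟨Q, hle, hQ, hc⟩ := Ideal.exists_ideal_over_prime_of_isIntegral (l i.succ).1.asIdeal
        l'.last.1.asIdeal (hl''.le.trans (l.step i).le)
      have hQmem : (⟨Q, hQ⟩ : PrimeSpectrum A) ∈ primesOverGE p J := by
        refine ⟨?_, l'.last.2.2.trans hle⟩
        rw [← hover, hc]
        exact (l i.succ).2.1
      have hlt : l'.last < (⟨⟨Q, hQ⟩, hQmem⟩ : primesOverGE p J) := by
        refine lt_of_le_of_ne hle fun e => (show l i.castSucc < l i.succ from l.step i).ne ?_
        rw [← hl', e]
        exact Subtype.ext (PrimeSpectrum.ext hc)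
      exact ⟨l'.snoc _ hlt, by simp [hlen], by
        rw [RelSeries.last_snoc]; exact Subtype.ext (PrimeSpectrum.ext hc)⟩
  obtain ⟨l', hlen, -⟩ := key (Fin.last _)
  exact le_iSup_of_le l' (by simp [hlen])

theorem comap_map_eq {D : Type u} [CommRing D] (M : Submonoid D) (E : Type u) [CommRing E]
    [Algebra D E] [IsLocalization M E] {I : Ideal D} (hI : I.IsPrime)
    (hdis : Disjoint (M : Set D) (I : Set D)) :
    (I.map (algebraMap D E)).comap (algebraMap D E) = I :=
  IsLocalization.under_map_of_isPrime_disjoint M E hI hdis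

/-- Fibres of smooth maps of relative dimension `n` have dimension at most `n`. -/
theorem krullDim_primesOverGE_le [p.IsPrime] {D : Type u} [CommRing D] [Algebra R D] {n : ℕ}
    (hD : FlatCA.SmoothRelDim n R D) :
    Order.krullDim (primesOverGE p (⊥ : Ideal D)) ≤ n := by
  have hD' := (AlgebraicGeometry.HasRingHomProperty.Spec_iff
    (P := @AlgebraicGeometry.SmoothOfRelativeDimension n)).1 hD
  obtain ⟨s, hs, hst⟩ : ∃ (s : Set D), Ideal.span s = ⊤ ∧ ∀ t ∈ s,
      ((algebraMap D (Localization.Away t)).comp (algebraMap R D)).IsStandardSmoothOfRelativeDimension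
        n := by
    obtain ⟨s, hs, h⟩ := hD'
    exact ⟨s, hs, h⟩
  refine iSup_le fun l => ?_
  obtain ⟨g, hg, hgl⟩ : ∃ g ∈ s, g ∉ l.last.1.asIdeal := by
    by_contra! h
    exact l.last.1.isPrime.ne_top (top_le_iff.1 (hs ▸ Ideal.span_le.2 h))
  let E := Localization.Away g
  have : Algebra.IsStandardSmoothOfRelativeDimension n R E :=
    (RingHom.isStandardSmoothOfRelativeDimension_algebraMap n).1
      (by rw [IsScalarTower.algebraMap_eq R D E]; exact hst g hg)
  have hlt : ∀ i, g ∉ (l i).1.asIdeal := fun i h => hgl (l.monotone (Fin.le_last i) h)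
  have hdis : ∀ i, Disjoint (Submonoid.powers g : Set D) ((l i).1.asIdeal : Set D) := fun i => by
    rw [Set.disjoint_left]
    rintro _ ⟨e, rfl⟩ he
    exact hlt i ((l i).1.isPrime.mem_of_pow_mem e he)
  let lift : Fin (l.length + 1) → primesOverGE p (⊥ : Ideal E) := fun i =>
    ⟨⟨(l i).1.asIdeal.map (algebraMap D E),
      IsLocalization.isPrime_of_isPrime_disjoint (Submonoid.powers g) E _ (l i).1.isPrime (hdis i)⟩,
      by
        show ((l i).1.asIdeal.map (algebraMap D E)).comap (algebraMap R E) = p
        rw [IsScalarTower.algebraMap_eq R D E, ← Ideal.comap_comap,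
          comap_map_eq (Submonoid.powers g) E (l i).1.isPrime (hdis i)]
        exact (l i).2.1, bot_le⟩
  let l' : LTSeries (primesOverGE p (⊥ : Ideal E)) := LTSeries.mk l.length lift fun i j hij => by
    refine lt_of_le_of_ne (Ideal.map_mono (l.monotone hij.le)) fun e => (l.strictMono hij).ne ?_
    have := congrArg (fun w => w.1.asIdeal.comap (algebraMap D E)) e
    simp only [lift] at this
    rw [comap_map_eq (Submonoid.powers g) E (l i).1.isPrime (hdis i),
      comap_map_eq (Submonoid.powers g) E (l j).1.isPrime (hdis j)] at this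
    exact Subtype.ext (PrimeSpectrum.ext this)
  refine le_trans (le_iSup_of_le l' le_rfl) (?_ : Order.krullDim (primesOverGE p (⊥ : Ideal E)) ≤ n)
  rw [← ringKrullDim_fiber]
  exact BertiniLib.ringKrullDim_le_of_isStandardSmooth (k := p.ResidueField) n

/-- Avoiding the least point of a fibre of dimension at most `n` drops the dimension. -/
theorem krullDim_primesOverGE_lt {D : Type u} [CommRing D] [Algebra R D] {n : ℕ}
    [(p.map (algebraMap R D)).IsPrime]
    (hn : Order.krullDim (primesOverGE p (⊥ : Ideal D)) ≤ n) {I : Ideal D}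
    (hI : ¬ I ≤ p.map (algebraMap R D)) :
    Order.krullDim (primesOverGE p I) < (n : WithBot ℕ∞) := by
  by_cases he : IsEmpty (primesOverGE p I)
  · rw [Order.krullDim_eq_bot]
    exact WithBot.bot_lt_coe _
  rw [not_isEmpty_iff] at he
  obtain ⟨w₀⟩ := he
  have hmin : ∀ w : primesOverGE p I, p.map (algebraMap R D) < w.1.asIdeal := fun w =>
    lt_of_le_of_ne (Ideal.map_le_iff_le_comap.2 w.2.1.ge) fun e => hI (e ▸ w.2.2)
  let ξ : primesOverGE p (⊥ : Ideal D) := ⟨⟨p.map (algebraMap R D), inferInstance⟩,
    le_antisymm ((Ideal.comap_mono (hmin w₀).le).trans_eq w₀.2.1) Ideal.le_comap_map, bot_le⟩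
  have key : ∀ l : LTSeries (primesOverGE p I), l.length + 1 ≤ n := fun l => by
    let inc : primesOverGE p I → primesOverGE p (⊥ : Ideal D) := fun w => ⟨w.1, w.2.1, bot_le⟩
    let l' : LTSeries (primesOverGE p (⊥ : Ideal D)) :=
      RelSeries.cons (l.map inc fun _ _ h => h) ξ (by exact hmin l.head)
    have h := (le_iSup_of_le l' le_rfl : _ ≤ Order.krullDim (primesOverGE p (⊥ : Ideal D))).trans hn
    simp [l'] at h
    exact_mod_cast h
  obtain ⟨m, rfl⟩ : ∃ m, n = m + 1 := ⟨n - 1, by have := key (RelSeries.singleton _ w₀); omega⟩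
  refine lt_of_le_of_lt (iSup_le fun l => ?_ : _ ≤ ((m : ℕ) : WithBot ℕ∞)) ?_
  · exact_mod_cast Nat.le_of_succ_le_succ (key l)
  · exact_mod_cast Nat.lt_succ_self m

/-- The annihilator of a module over the source of a tower is the contraction. -/
theorem annihilator_eq_comap {B A G : Type u} [CommRing B] [CommRing A] [Algebra B A]
    [AddCommGroup G] [Module A G] [Module B G] [IsScalarTower B A G] :
    Module.annihilator B G = (Module.annihilator A G).comap (algebraMap B A) := by
  ext b
  simp only [Ideal.mem_comap, Module.mem_annihilator, algebraMap_smul]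

end Groth.Agent.FlatMorDevissage
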