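import Groth.Agent.FlatMorDevissage.FibresDomain
import Groth.Agent.FlatMorDevissage.FibreSupport
import Mathlib.RingTheory.Localization.BaseChange
import Mathlib.RingTheory.Spectrum.Prime.Chevalley

/-!
# Algebras all of whose fibres are domains: localisation, base change, geometric irreducibility
-/

set_option autoImplicit false
set_option backward.isDefEq.respectTransparency false

universe u

open TensorProduct AlgebraicGeometry CategoryTheory Limits

namespace Groth.Agent.FlatMorDevissage

/-- The fibres of `R → B` are domains or empty. -/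
def WeakDomain (R : Type u) [CommRing R] (B : Type u) [CommRing B] [Algebra R B] : Prop :=
  ∀ (K : Type u) [Field K] [Algebra R K], NoZeroDivisors (K ⊗[R] B)

theorem noZeroDivisors_localization {A L : Type u} [CommRing A] [CommRing L] [Algebra A L]
    (M : Submonoid A) [IsLocalization M L] [NoZeroDivisors A] : NoZeroDivisors L := by
  refine ⟨fun {a b} hab => ?_⟩
  obtain ⟨a, s, rfl⟩ := IsLocalization.exists_mk'_eq M a
  obtain ⟨b, t, rfl⟩ := IsLocalization.exists_mk'_eq M b
  rw [← IsLocalization.mk'_mul, IsLocalization.mk'_eq_zero_iff] at hab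
  obtain ⟨m, hm⟩ := hab
  rcases mul_eq_zero.1 hm with h | h
  · exact Or.inl ((IsLocalization.mk'_eq_zero_iff _ _).2 ⟨m, by rw [h, zero_mul]⟩)
  · rcases mul_eq_zero.1 h with h | h
    · exact Or.inl ((IsLocalization.mk'_eq_zero_iff _ _).2 ⟨m, by rw [h, mul_zero]⟩)
    · exact Or.inr ((IsLocalization.mk'_eq_zero_iff _ _).2 ⟨m, by rw [h, mul_zero]⟩)

variable {R B : Type u} [CommRing R] [CommRing B] [Algebra R B]

theorem weakDomain_of_fibresDomain (h : FibresDomain R B) : WeakDomain R B := fun K _ _ =>
  have := h K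
  inferInstance

theorem fibresDomain_of_weakDomain (h : WeakDomain R B)
    (hne : ∀ (K : Type u) [Field K] [Algebra R K], Nontrivial (K ⊗[R] B)) : FibresDomain R B :=
  fun K _ _ =>
    have := h K
    have := hne K
    NoZeroDivisors.to_isDomain _

theorem WeakDomain.baseChange (h : WeakDomain R B) (R' : Type u) [CommRing R'] [Algebra R R'] :
    WeakDomain R' (R' ⊗[R] B) := by
  intro K _ _
  let _ : Algebra R K := ((algebraMap R' K).comp (algebraMap R R')).toAlgebra
  have : IsScalarTower R R' K := .of_algebraMap_eq' rfl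
  have := h K
  exact (Algebra.TensorProduct.cancelBaseChange R R' K K B).toMulEquiv.noZeroDivisors

theorem WeakDomain.localization (h : WeakDomain R B) {L : Type u} [CommRing L] [Algebra B L]
    [Algebra R L] [IsScalarTower R B L] (M : Submonoid B) [IsLocalization M L] : WeakDomain R L := by
  intro K _ _
  have := h K
  let M' : Submonoid (K ⊗[R] B) := M.map (Algebra.TensorProduct.includeRight (R := R) (A := K))
  have : NoZeroDivisors (Localization M') := noZeroDivisors_localization M'
  exact (IsLocalization.tensorProductEquivOfMapIncludeRight R K M L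
    (Localization M')).toMulEquiv.noZeroDivisors

theorem one_tmul_ne_zero_of_hom {K F : Type u} [CommRing K] [Algebra R K] [CommRing F] (a : K →+* F)
    (b : B →+* F) (hab : ∀ r, a (algebraMap R K r) = b (algebraMap R B r)) {d : B} (hd : b d ≠ 0) :
    (1 : K) ⊗ₜ[R] d ≠ 0 := by
  let _ : Algebra R F := (a.comp (algebraMap R K)).toAlgebra
  let aₐ : K →ₐ[R] F := ⟨a, fun r => rfl⟩
  let bₐ : B →ₐ[R] F := ⟨b, fun r => (hab r).symm⟩
  intro h0
  have h := congrArg (Algebra.TensorProduct.lift aₐ bₐ fun _ _ => Commute.all _ _) h0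
  rw [Algebra.TensorProduct.lift_tmul, map_one, one_mul, map_zero] at h
  exact hd h

/-- An element outside a prime in the fibre is nonzero on the fibre over any field. -/
theorem one_tmul_ne_zero_of_notMem (K : Type u) [Field K] [Algebra R K] (Q : Ideal B) [Q.IsPrime]
    (hQ : Q.comap (algebraMap R B) = RingHom.ker (algebraMap R K)) {d : B} (hd : d ∉ Q) :
    (1 : K) ⊗ₜ[R] d ≠ 0 := by
  let p₀ := RingHom.ker (algebraMap R K)
  have : p₀.IsPrime := RingHom.ker_isPrime _
  let e : p₀.ResidueField →ₐ[R] K :=
    Ideal.ResidueField.liftₐ p₀ (Algebra.ofId R K) (le_refl _) (fun r hr =>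
      isUnit_iff_ne_zero.2 (RingHom.mem_ker.not.1 hr))
  have : Q.LiesOver p₀ := ⟨hQ.symm⟩
  let e' := Ideal.ResidueField.mapₐ p₀ Q (Algebra.ofId R B) (Q.over_def p₀)
  let _ := e.toRingHom.toAlgebra
  let _ := e'.toRingHom.toAlgebra
  obtain ⟨m, hm⟩ := Ideal.exists_maximal (K ⊗[p₀.ResidueField] Q.ResidueField)
  let _ := Ideal.Quotient.field m
  let a : K →+* (K ⊗[p₀.ResidueField] Q.ResidueField) ⧸ m :=
    (Ideal.Quotient.mk m).comp Algebra.TensorProduct.includeLeftRingHom
  let b : Q.ResidueField →+* (K ⊗[p₀.ResidueField] Q.ResidueField) ⧸ m :=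
    (Ideal.Quotient.mk m).comp
      (Algebra.TensorProduct.includeRight (R := p₀.ResidueField) (A := K)).toRingHom
  have hab : ∀ r : R, a (algebraMap R K r) = b (algebraMap B Q.ResidueField (algebraMap R B r)) := by
    intro r
    rw [← e.commutes r, ← IsScalarTower.algebraMap_apply, ← e'.commutes r]
    exact congrArg (Ideal.Quotient.mk m) (Algebra.TensorProduct.tmul_one_eq_one_tmul
      (algebraMap R p₀.ResidueField r))
  exact one_tmul_ne_zero_of_hom a (b.comp (algebraMap B Q.ResidueField)) hab fun h =>
    hd (Ideal.algebraMap_residueField_eq_zero.1 ((map_eq_zero_iff b b.injective).1 h))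

/-- Smooth algebras with domain fibres have geometrically irreducible fibres. -/
theorem geomIrredFibres_of_fibresDomain (h : FibresDomain R B) : FlatCA.GeomIrredFibres R B := by
  rw [FlatCA.GeomIrredFibres, GeometricallyIrreducible.eq_geometrically,
    geometrically_iff_of_commRing]
  intro K _ _ Y fst snd hY
  have := h K
  let e := hY.isoPullback ≪≫ pullbackSymmetry _ _ ≪≫ pullbackSpecIso R K B
  exact e.hom.homeomorph.symm.surjective.irreducibleSpace e.hom.homeomorph.symm.continuous

/-- The extension of a prime with a point in the fibre is prime. -/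
theorem isPrime_map_of_fibresDomain [Module.Flat R B] (h : FibresDomain R B) (p : Ideal R)
    [p.IsPrime] :
    (p.map (algebraMap R B)).IsPrime := by
  have := h (FractionRing (R ⧸ p))
  have hinj : Function.Injective (Algebra.TensorProduct.map
      (IsScalarTower.toAlgHom R (R ⧸ p) (FractionRing (R ⧸ p))) (AlgHom.id R B)) := by
    have := Module.Flat.rTensor_preserves_injective_linearMap (M := B)
      ((IsScalarTower.toAlgHom R (R ⧸ p) (FractionRing (R ⧸ p))).toLinearMap)
      (IsFractionRing.injective (R ⧸ p) (FractionRing (R ⧸ p)))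
    exact this
  let φ : B →+* FractionRing (R ⧸ p) ⊗[R] B :=
    (Algebra.TensorProduct.map (IsScalarTower.toAlgHom R (R ⧸ p) (FractionRing (R ⧸ p)))
      (AlgHom.id R B)).toRingHom.comp
        (Algebra.TensorProduct.includeRight (R := R) (A := R ⧸ p)).toRingHom
  have hker : RingHom.ker φ = p.map (algebraMap R B) := by
    refine le_antisymm (fun b hb => ?_) (Ideal.map_le_iff_le_comap.2 fun r hr => ?_)
    · have h1 : (1 : R ⧸ p) ⊗ₜ[R] b = 0 := (map_eq_zero_iff _ hinj).1 hb
      have h2 := congrArg (TensorProduct.quotTensorEquivQuotSMul B p) h1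
      rw [map_zero, show (1 : R ⧸ p) = Ideal.Quotient.mk p 1 from (map_one _).symm,
        TensorProduct.quotTensorEquivQuotSMul_mk_tmul, one_smul, Submodule.Quotient.mk_eq_zero,
        Ideal.smul_top_eq_map] at h2
      exact h2
    · show φ (algebraMap R B r) = 0
      simp only [φ, RingHom.comp_apply, AlgHom.toRingHom_eq_coe, RingHom.coe_coe, AlgHom.commutes]
      rw [IsScalarTower.algebraMap_apply R (R ⧸ p) (FractionRing (R ⧸ p) ⊗[R] B),
        Ideal.Quotient.algebraMap_eq, Ideal.Quotient.eq_zero_iff_mem.2 hr, map_zero]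
  rw [← hker]
  exact RingHom.ker_isPrime φ

end Groth.Agent.FlatMorDevissage
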