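import Groth.Agent.FlatMorDevissage.PureProjective
import Groth.Agent.FlatMorDevissage.FibresDomain

/-!
# Integral fibres give projective coordinate rings
-/

set_option autoImplicit false
set_option backward.isDefEq.respectTransparency false

universe u

open TensorProduct Function

namespace Groth.Agent.FlatMorDevissage

open Groth.Agent

attribute [local instance] Algebra.TensorProduct.rightAlgebra

/-- An associated point of a fibre which is a domain is its generic point. -/
theorem le_of_liesOver_of_isDomain {A B N : Type u} [CommRing A] [CommRing B] [Algebra A B]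
    [AddCommGroup N] [Module B N] (eN : N ≃ₗ[B] B) (t' : Ideal A) [t'.IsPrime]
    [IsDomain (t'.Fiber B)] (P : Ideal B) [P.IsPrime] [P.LiesOver t']
    (hass : FlatCA.fiberIdeal t' P ∈ associatedPrimes (t'.Fiber B) (FlatCA.fiberMod t' B N))
    (Q : Ideal B) [Q.IsPrime] [Q.LiesOver t'] : P ≤ Q := by
  obtain ⟨hp, w, hw⟩ := hass
  let F := t'.Fiber B
  let e : FlatCA.fiberMod t' B N ≃ₗ[F] F :=
    (AlgebraTensorModule.congr (LinearEquiv.refl F F) eN).trans (AlgebraTensorModule.rid B F F)
  have hw0 : w ≠ 0 := fun h => hp.ne_top (by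
    rw [hw, CAlgH3.colon_bot_singleton, (CAlgH3.annEl_eq_top (R := F)).2 h, Ideal.radical_top])
  have hbot : FlatCA.fiberIdeal t' P = ⊥ := by
    rw [eq_bot_iff, hw, CAlgH3.colon_bot_singleton]
    rintro x ⟨k, hk⟩
    have h1 : x ^ k * e w = 0 := by
      rw [← smul_eq_mul, ← map_smul, CAlgH3.mem_annEl.1 hk, map_zero]
    exact (Submodule.mem_bot _).2 (eq_zero_of_pow_eq_zero
      ((mul_eq_zero.1 h1).resolve_right fun h => hw0 (e.map_eq_zero_iff.1 h)))
  rw [← comap_fiberIdeal t' P, ← comap_fiberIdeal t' Q, hbot]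
  exact Ideal.comap_mono bot_le

set_option maxHeartbeats 800000 in
theorem isPure_of_fibresDomain {A B : Type u} [CommRing A] [CommRing B] [Algebra A B] [Module.Flat A B]
    (h : FibresDomain A B) : FlatCA.IsPure A B B := by
  intro p _ A' B' N' _ _ _ _ _ _ _ _ _ _ _ _ _ _ f t' t _ _ P _ _ ⟨hpo, hf, htt, _, hover, hass, hno⟩
  have : Algebra.IsPushout A A' B B' := hpo.symm
  have hdom : ∀ (k : Ideal A') [k.IsPrime], IsDomain (k.Fiber B') := fun k _ => by
    let e : k.ResidueField ⊗[A'] B' ≃ₐ[k.ResidueField] k.ResidueField ⊗[A] B :=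
      (Algebra.TensorProduct.congr AlgEquiv.refl (Algebra.IsPushout.equiv A A' B B').symm).trans
        (Algebra.TensorProduct.cancelBaseChange A A' k.ResidueField k.ResidueField B)
    have := h k.ResidueField
    exact MulEquiv.isDomain (k.ResidueField ⊗[A] B) e.toMulEquiv
  have : Module.Flat A' B' :=
    Module.Flat.of_linearEquiv (Algebra.IsPushout.equiv A A' B B').symm.toLinearEquiv
  obtain ⟨T, hT⟩ := (inferInstance : Nonempty (PrimeSpectrum (t.Fiber B')))
  let Q : Ideal B' := T.comap (algebraMap B' (t.Fiber B'))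
  have : Q.LiesOver t := (fiberPrime_spec t T).1
  obtain ⟨Q', hQ'le, hQ', hQ't⟩ := Ideal.exists_ideal_le_liesOver_of_le Q htt
  have := hdom t'
  have hle := le_of_liesOver_of_isDomain (hf.equiv.symm.trans (AlgebraTensorModule.rid B B' B')) t' P
    hass Q'
  exact hno Q (hle.trans hQ'le) inferInstance

theorem projective_of_fibresDomain {A B : Type u} [CommRing A] [CommRing B] [Algebra A B]
    [Algebra.FinitePresentation A B] [Module.Flat A B] (h : FibresDomain A B) :
    Module.Projective A B :=
  projective_of_isPure B (isPure_of_fibresDomain h)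

end Groth.Agent.FlatMorDevissage
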