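import Groth.Agent.FlatMorDevissage.AssSpec
import Mathlib.RingTheory.Flat.FaithfullyFlat.Basic
import Mathlib.LinearAlgebra.DirectSum.Finsupp

/-!
# Associated points of fibres under change of base
-/

set_option autoImplicit false
set_option backward.isDefEq.respectTransparency false

universe u

open TensorProduct Function

namespace Groth.Agent.FlatMorDevissage

open Groth.Agent

attribute [local instance] Algebra.TensorProduct.rightAlgebra

/-- Coordinates of an element of a free extension of scalars. -/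
theorem exists_coords {S F F₂ N : Type u} [CommRing S] [CommRing F] [CommRing F₂] [Algebra S F]
    [Algebra F F₂] [Algebra S F₂] [IsScalarTower S F F₂] [Module.Free F F₂] [AddCommGroup N]
    [Module S N] (z : F₂ ⊗[S] N) :
    ∃ T : Finset (F ⊗[S] N), ∀ s : S, s • z = 0 ↔ ∀ w ∈ T, s • w = 0 := by
  classical
  let e : F₂ ⊗[S] N ≃ₗ[F] Module.Free.ChooseBasisIndex F F₂ →₀ F ⊗[S] N :=
    ((AlgebraTensorModule.cancelBaseChange S F F F₂ N).symm.trans
      (TensorProduct.congr (Module.Free.chooseBasis F F₂).repr (LinearEquiv.refl F (F ⊗[S] N)))).trans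
      (TensorProduct.finsuppScalarLeft F (F ⊗[S] N) _)
  refine ⟨(e z).support.image (e z), fun s => ?_⟩
  have hs : e (s • z) = algebraMap S F s • e z := by
    rw [← map_smul e, algebraMap_smul]
  rw [← LinearEquiv.map_eq_zero_iff e, hs]
  constructor
  · intro h w hw
    obtain ⟨i, -, rfl⟩ := Finset.mem_image.1 hw
    rw [← algebraMap_smul F s, ← Finsupp.smul_apply, h, Finsupp.zero_apply]
  · intro h
    ext i
    rw [Finsupp.smul_apply, Finsupp.zero_apply, algebraMap_smul]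
    by_cases hi : i ∈ (e z).support
    · exact h _ (Finset.mem_image_of_mem _ hi)
    · rw [Finsupp.notMem_support_iff.1 hi, smul_zero]

/-- A nonzero free extension of scalars is injective on tensor products. -/
theorem eq_zero_of_free_tensor {S F F₂ N : Type u} [CommRing S] [CommRing F] [CommRing F₂] [Algebra S F]
    [Algebra F F₂] [Algebra S F₂] [IsScalarTower S F F₂] [Module.Free F F₂] [Nontrivial F₂]
    [AddCommGroup N] [Module S N] (s : S) (n : N) (h : s • ((1 : F₂) ⊗ₜ[S] n) = 0) :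
    s • ((1 : F) ⊗ₜ[S] n) = 0 := by
  let e := AlgebraTensorModule.cancelBaseChange S F F F₂ N
  have h1 : (1 : F₂) ⊗ₜ[F] (s • ((1 : F) ⊗ₜ[S] n)) = (0 : F₂ ⊗[F] (F ⊗[S] N)) := by
    apply e.injective
    rw [map_zero, ← h, TensorProduct.tmul_smul, ← algebraMap_smul F s, map_smul, algebraMap_smul]
    congr 1
    simp [e]
  exact Module.FaithfullyFlat.tensorProduct_mk_injective (A := F) (B := F₂) (F ⊗[S] N)
    (h1.trans (TensorProduct.tmul_zero _ _).symm)

variable {R S R₂ S₂ : Type u} [CommRing R] [CommRing S] [CommRing R₂] [CommRing S₂] [Algebra R S]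
  [Algebra R R₂] [Algebra R₂ S₂] [Algebra S S₂] [Algebra R S₂] [IsScalarTower R S S₂]
  [IsScalarTower R R₂ S₂] [Algebra.IsPushout R S R₂ S₂]

set_option maxHeartbeats 800000 in
/-- The fibre ring over a point of a base change is free over the fibre ring below. -/
theorem exists_fibre_algebra (t : Ideal R) [t.IsPrime] (t₂ : Ideal R₂) [t₂.IsPrime] [ht : t₂.LiesOver t] :
    ∃ φ : t.Fiber S →+* t₂.Fiber S₂,
      (∀ s : S, φ (algebraMap S (t.Fiber S) s) = algebraMap S₂ (t₂.Fiber S₂) (algebraMap S S₂ s)) ∧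
      (letI := φ.toAlgebra; Module.Free (t.Fiber S) (t₂.Fiber S₂)) ∧
      (Nontrivial (t.Fiber S) → Nontrivial (t₂.Fiber S₂)) := by
  let g := Ideal.ResidueField.mapₐ t t₂ (Algebra.ofId R R₂) ht.over
  let _ : Algebra t.ResidueField t₂.ResidueField := g.toRingHom.toAlgebra
  have : IsScalarTower R t.ResidueField t₂.ResidueField := .of_algebraMap_eq fun r => (g.commutes r).symm
  let _ : Algebra S (t₂.Fiber S₂) := ((algebraMap S₂ (t₂.Fiber S₂)).comp (algebraMap S S₂)).toAlgebra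
  have : IsScalarTower S S₂ (t₂.Fiber S₂) := .of_algebraMap_eq' rfl
  have hcompat : ∀ r : R, algebraMap R (t₂.Fiber S₂) r =
      algebraMap S (t₂.Fiber S₂) (algebraMap R S r) := fun r => by
    show _ = algebraMap S₂ (t₂.Fiber S₂) (algebraMap S S₂ (algebraMap R S r))
    rw [← IsScalarTower.algebraMap_apply R S S₂, IsScalarTower.algebraMap_apply R R₂ S₂,
      ← IsScalarTower.algebraMap_apply R₂ S₂, ← IsScalarTower.algebraMap_apply R R₂]
  have : IsScalarTower R S (t₂.Fiber S₂) := .of_algebraMap_eq hcompat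
  have : IsScalarTower R S₂ (t₂.Fiber S₂) := .of_algebraMap_eq fun r => by
    rw [IsScalarTower.algebraMap_apply R R₂ S₂, ← IsScalarTower.algebraMap_apply R₂ S₂,
      ← IsScalarTower.algebraMap_apply R R₂]
  let φ : t.Fiber S →ₐ[R] t₂.Fiber S₂ := Algebra.TensorProduct.lift
    ((IsScalarTower.toAlgHom R t₂.ResidueField (t₂.Fiber S₂)).comp
      (IsScalarTower.toAlgHom R t.ResidueField t₂.ResidueField))
    (IsScalarTower.toAlgHom R S (t₂.Fiber S₂)) (fun _ _ => Commute.all _ _)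
  let _ : Algebra (t.Fiber S) (t₂.Fiber S₂) := φ.toRingHom.toAlgebra
  have hS : ∀ s : S, φ (algebraMap S (t.Fiber S) s) = algebraMap S (t₂.Fiber S₂) s := fun s => by
    show φ ((1 : t.ResidueField) ⊗ₜ[R] s) = _
    simp only [φ, Algebra.TensorProduct.lift_tmul, map_one, one_mul]
    rfl
  have : IsScalarTower S (t.Fiber S) (t₂.Fiber S₂) := .of_algebraMap_eq fun s => (hS s).symm
  have : IsScalarTower t.ResidueField t₂.ResidueField (t₂.Fiber S₂) := inferInstance
  have : IsScalarTower R t.ResidueField (t₂.Fiber S₂) := .of_algebraMap_eq fun r => by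
    rw [IsScalarTower.algebraMap_apply t.ResidueField t₂.ResidueField (t₂.Fiber S₂),
      ← IsScalarTower.algebraMap_apply R t.ResidueField t₂.ResidueField,
      ← IsScalarTower.algebraMap_apply R t₂.ResidueField]
  have : IsScalarTower t.ResidueField (t.Fiber S) (t₂.Fiber S₂) := .of_algebraMap_eq fun c => by
    show _ = φ (c ⊗ₜ[R] (1 : S))
    rw [Algebra.TensorProduct.lift_tmul, map_one, mul_one]
    rfl
  have h₁ : Algebra.IsPushout R R₂ S S₂ := Algebra.IsPushout.symm ‹_›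
  have h₂ : Algebra.IsPushout R₂ t₂.ResidueField S₂ (t₂.Fiber S₂) := inferInstance
  have h₃ : Algebra.IsPushout R t₂.ResidueField S (t₂.Fiber S₂) :=
    (Algebra.IsPushout.comp_iff R R₂ S S₂).2 h₂
  have h₄ : Algebra.IsPushout t.ResidueField t₂.ResidueField (t.Fiber S) (t₂.Fiber S₂) :=
    (Algebra.IsPushout.comp_iff R t.ResidueField S (t.Fiber S)).1 h₃
  have h₅ : Algebra.IsPushout t.ResidueField (t.Fiber S) t₂.ResidueField (t₂.Fiber S₂) :=
    Algebra.IsPushout.symm h₄
  let e := Algebra.IsPushout.equiv t.ResidueField (t.Fiber S) t₂.ResidueField (t₂.Fiber S₂)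
  have : Module.Free t.ResidueField t₂.ResidueField := Module.Free.of_divisionRing _ _
  have : Module.Flat t.ResidueField t₂.ResidueField := Module.Flat.of_free
  have : Module.Free (t.Fiber S) (t.Fiber S ⊗[t.ResidueField] t₂.ResidueField) :=
    Module.Free.of_basis (Algebra.TensorProduct.basis (t.Fiber S) (Module.Free.chooseBasis t.ResidueField t₂.ResidueField))
  refine ⟨φ.toRingHom, hS, Module.Free.of_equiv e.toLinearEquiv, fun hn => ?_⟩
  have : Nontrivial (t.Fiber S ⊗[t.ResidueField] t₂.ResidueField) :=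
    Algebra.TensorProduct.nontrivial_of_algebraMap_injective_of_flat_right t.ResidueField (t.Fiber S)
      t₂.ResidueField (algebraMap t.ResidueField (t.Fiber S)).injective
  exact e.injective.nontrivial

variable {N N₂ : Type u} [AddCommGroup N] [Module S N] [Module R N] [IsScalarTower R S N]
  [AddCommGroup N₂] [Module S₂ N₂] [Module R₂ N₂] [IsScalarTower R₂ S₂ N₂] [Module S N₂]
  [IsScalarTower S S₂ N₂] (f : N →ₗ[S] N₂) (hf : IsBaseChange S₂ f)

set_option maxHeartbeats 800000 in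
omit [Module R N] [IsScalarTower R S N] [Module R₂ N₂] [IsScalarTower R₂ S₂ N₂] in
include hf in
/-- Annihilators of elements of a fibre of a base change. -/
theorem exists_fibre_coords (t : Ideal R) [t.IsPrime] (t₂ : Ideal R₂) [t₂.IsPrime] [t₂.LiesOver t]
    [Nontrivial (t.Fiber S)] :
    (∀ z : FlatCA.fiberMod t₂ S₂ N₂, ∃ T : Finset (FlatCA.fiberMod t S N),
      ∀ s : S, algebraMap S S₂ s • z = 0 ↔ ∀ w ∈ T, s • w = 0) ∧
    ∀ n : N, FlatCA.toFiberMod t₂ S₂ N₂ (f n) = 0 ↔ FlatCA.toFiberMod t S N n = 0 := by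
  obtain ⟨φ, hφ, hfree, hnon⟩ := exists_fibre_algebra (S := S) (S₂ := S₂) t t₂
  let _ : Algebra (t.Fiber S) (t₂.Fiber S₂) := φ.toAlgebra
  have := hfree
  have := hnon inferInstance
  let _ : Algebra S (t₂.Fiber S₂) := ((algebraMap S₂ (t₂.Fiber S₂)).comp (algebraMap S S₂)).toAlgebra
  have : IsScalarTower S S₂ (t₂.Fiber S₂) := .of_algebraMap_eq' rfl
  have : IsScalarTower S (t.Fiber S) (t₂.Fiber S₂) := .of_algebraMap_eq fun s => (hφ s).symm
  let e : (t₂.Fiber S₂) ⊗[S₂] N₂ ≃ₗ[t₂.Fiber S₂] (t₂.Fiber S₂) ⊗[S] N :=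
    (AlgebraTensorModule.congr (LinearEquiv.refl (t₂.Fiber S₂) (t₂.Fiber S₂)) hf.equiv.symm).trans
      (AlgebraTensorModule.cancelBaseChange S S₂ (t₂.Fiber S₂) (t₂.Fiber S₂) N)
  have he : ∀ (s : S) (z : (t₂.Fiber S₂) ⊗[S₂] N₂), e (algebraMap S S₂ s • z) = s • e z := fun s z => by
    rw [← algebraMap_smul (t₂.Fiber S₂) (algebraMap S S₂ s) z, map_smul,
      ← IsScalarTower.algebraMap_apply, algebraMap_smul]
  refine ⟨fun z => ?_, fun n => ?_⟩
  · change (t₂.Fiber S₂) ⊗[S₂] N₂ at z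
    obtain ⟨T, hT⟩ := exists_coords (F := t.Fiber S) (e z)
    refine ⟨T, fun s => ?_⟩
    show algebraMap S S₂ s • z = 0 ↔ _
    rw [← LinearEquiv.map_eq_zero_iff e, he]
    exact hT s
  · show ((1 : t₂.Fiber S₂) ⊗ₜ[S₂] f n) = 0 ↔ ((1 : t.Fiber S) ⊗ₜ[S] n) = 0
    have he1 : e ((1 : t₂.Fiber S₂) ⊗ₜ[S₂] f n) = (1 : t₂.Fiber S₂) ⊗ₜ[S] n := by
      simp [e, hf.equiv_symm_apply]
    rw [← LinearEquiv.map_eq_zero_iff e, he1]
    refine ⟨fun h => ?_, fun h => ?_⟩
    · have h2 := eq_zero_of_free_tensor (F := t.Fiber S) (F₂ := t₂.Fiber S₂) (1 : S) n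
        (by rw [one_smul]; exact h)
      rwa [one_smul] at h2
    · let g : (t.Fiber S) ⊗[S] N →ₗ[S] (t₂.Fiber S₂) ⊗[S] N :=
        (IsScalarTower.toAlgHom S (t.Fiber S) (t₂.Fiber S₂)).toLinearMap.rTensor N
      have h2 : g ((1 : t.Fiber S) ⊗ₜ[S] n) = (1 : t₂.Fiber S₂) ⊗ₜ[S] n := by
        show (algebraMap (t.Fiber S) (t₂.Fiber S₂) 1) ⊗ₜ[S] n = _
        rw [map_one]
      rw [← h2, h, map_zero]

/-- A prime is associated in its fibre as soon as it is the annihilator of an element of the fibre. -/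
theorem assFibre_of_annEl [Algebra.FiniteType R S] (t : Ideal R) [t.IsPrime] (P : Ideal S) [P.IsPrime]
    (z : FlatCA.fiberMod t S N) (hz : CAlgH3.annEl S z = P) :
    FlatCA.fiberIdeal t P ∈ associatedPrimes (t.Fiber S) (FlatCA.fiberMod t S N) := by
  obtain ⟨P', _, _, hass, h1, h2⟩ := exists_assFibre_prime t z P hz.le
  rwa [le_antisymm (hz.ge.trans h1) h2]

/-- An associated point of a fibre is the annihilator of an element of the fibre. -/
theorem exists_annEl_of_assFibre [Algebra.FiniteType R S] (t : Ideal R) [t.IsPrime] (P : Ideal S)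
    [P.IsPrime] [P.LiesOver t]
    (hass : FlatCA.fiberIdeal t P ∈ associatedPrimes (t.Fiber S) (FlatCA.fiberMod t S N)) :
    ∃ n : N, CAlgH3.annEl S (FlatCA.toFiberMod t S N n) = P := by
  have : IsNoetherianRing (t.Fiber S) := Algebra.FiniteType.isNoetherianRing t.ResidueField _
  obtain ⟨-, w, hw⟩ := isAssociatedPrime_iff.1 hass
  obtain ⟨n, hn⟩ := CAlgH3.FiberMod.exists_annEl_eq_toFiberMod (S := S) t w
  exact ⟨n, by rw [hn, CAlgH3.FiberMod.annEl_fiber, ← CAlgH3.colon_bot_singleton, ← hw, comap_fiberIdeal]⟩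

theorem nontrivial_fiber_of_liesOver (t : Ideal R) [t.IsPrime] (P : Ideal S) [P.IsPrime]
    [P.LiesOver t] : Nontrivial (t.Fiber S) := by
  by_contra h
  rw [not_nontrivial_iff_subsingleton] at h
  have h1 := comap_fiberIdeal t P
  rw [Subsingleton.elim (FlatCA.fiberIdeal t P) ⊤, Ideal.comap_top] at h1
  exact ‹P.IsPrime›.ne_top h1.symm

include hf in
/-- Associated points of the fibres of a base change lie over associated points of the fibres. -/
theorem assFibre_comap [Algebra.FiniteType R S] [Algebra.FiniteType R₂ S₂] (t : Ideal R) [t.IsPrime]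
    (t₂ : Ideal R₂) [t₂.IsPrime] [t₂.LiesOver t] (P₂ : Ideal S₂) [P₂.IsPrime] [P₂.LiesOver t₂]
    (hass : FlatCA.fiberIdeal t₂ P₂ ∈ associatedPrimes (t₂.Fiber S₂) (FlatCA.fiberMod t₂ S₂ N₂)) :
    (P₂.comap (algebraMap S S₂)).LiesOver t ∧
    FlatCA.fiberIdeal t (P₂.comap (algebraMap S S₂)) ∈
      associatedPrimes (t.Fiber S) (FlatCA.fiberMod t S N) := by
  classical
  have hPt : (P₂.comap (algebraMap S S₂)).LiesOver t := ⟨by
    rw [Ideal.under_def, Ideal.comap_comap, ← IsScalarTower.algebraMap_eq,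
      IsScalarTower.algebraMap_eq R R₂ S₂, ← Ideal.comap_comap]
    exact (‹t₂.LiesOver t›.over).trans (congrArg (Ideal.comap (algebraMap R R₂)) ‹P₂.LiesOver t₂›.over)⟩
  refine ⟨hPt, ?_⟩
  have := nontrivial_fiber_of_liesOver t (P₂.comap (algebraMap S S₂))
  obtain ⟨n₂, hn₂⟩ := exists_annEl_of_assFibre t₂ P₂ hass
  obtain ⟨T, hT⟩ := (exists_fibre_coords f hf t t₂).1 (FlatCA.toFiberMod t₂ S₂ N₂ n₂)
  have hle : T.inf (fun w => CAlgH3.annEl S w) ≤ P₂.comap (algebraMap S S₂) := fun s hs => by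
    rw [Ideal.mem_comap, ← hn₂]
    exact CAlgH3.mem_annEl.2 ((hT s).2 fun w hw =>
      CAlgH3.mem_annEl.1 (Finset.inf_le (f := fun w => CAlgH3.annEl S w) hw hs))
  obtain ⟨w, hw, hwP⟩ := (Ideal.IsPrime.inf_le' inferInstance).1 hle
  refine assFibre_of_annEl t _ w (le_antisymm hwP fun s hs => CAlgH3.mem_annEl.2 ((hT s).1 ?_ w hw))
  exact CAlgH3.mem_annEl.1 (hn₂.ge hs)

include hf in
/-- Associated points of the fibres lift to associated points of the fibres of a base change. -/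
theorem exists_assFibre_over [Algebra.FiniteType R S] [Algebra.FiniteType R₂ S₂] (t : Ideal R)
    [t.IsPrime] (t₂ : Ideal R₂) [t₂.IsPrime] [t₂.LiesOver t] (P : Ideal S) [P.IsPrime] [P.LiesOver t]
    (hass : FlatCA.fiberIdeal t P ∈ associatedPrimes (t.Fiber S) (FlatCA.fiberMod t S N)) :
    ∃ (P₂ : Ideal S₂) (_ : P₂.IsPrime), P₂.LiesOver t₂ ∧ P₂.comap (algebraMap S S₂) = P ∧
      FlatCA.fiberIdeal t₂ P₂ ∈ associatedPrimes (t₂.Fiber S₂) (FlatCA.fiberMod t₂ S₂ N₂) := by
  have := nontrivial_fiber_of_liesOver t P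
  obtain ⟨n, hn⟩ := exists_annEl_of_assFibre t P hass
  let z := FlatCA.toFiberMod t₂ S₂ N₂ (f n)
  have hJ : (CAlgH3.annEl S₂ z).comap (algebraMap S S₂) = P := by
    ext s
    rw [← hn, Ideal.mem_comap, CAlgH3.mem_annEl, CAlgH3.mem_annEl]
    show algebraMap S S₂ s • FlatCA.toFiberMod t₂ S₂ N₂ (f n) = 0 ↔ _
    rw [← map_smul (FlatCA.toFiberMod t₂ S₂ N₂), ← map_smul (FlatCA.toFiberMod t S N), algebraMap_smul,
      ← map_smul f]
    exact (exists_fibre_coords f hf t t₂).2 _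
  obtain ⟨Q, hQ, hQP⟩ := Ideal.exists_minimalPrimes_comap_eq (algebraMap S S₂) P
    (by rw [hJ, Ideal.minimalPrimes_eq_subsingleton_self]; rfl)
  have := hQ.1.1
  obtain ⟨P', _, hover, hass', h1, h2⟩ := exists_assFibre_prime t₂ z Q hQ.1.2
  obtain rfl : P' = Q := le_antisymm h2 (hQ.2 ⟨inferInstance, h1⟩ h2)
  exact ⟨P', inferInstance, hover, hQP, hass'⟩

end Groth.Agent.FlatMorDevissage
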