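import Groth.Agent.FlatMorDevissage.FibreInjective
import Groth.Agent.CAlgH.TorFibres

/-!
# Flat algebras meeting all associated primes of the fibres
-/

set_option autoImplicit false
set_option backward.isDefEq.respectTransparency false

universe u

open TensorProduct Function

namespace Groth.Agent.FlatMorDevissage

open Groth.Agent

attribute [local instance] Algebra.TensorProduct.rightAlgebra

/-- If `1 ⊗ z` vanishes in a flat extension, no contracted prime contains the annihilator. -/
theorem not_annEl_le_comap {S S' : Type u} [CommRing S] [CommRing S'] [Algebra S S']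
    [Module.Flat S S'] {W : Type u} [AddCommGroup W] [Module S W] (z : W)
    (hz : (1 : S') ⊗ₜ[S] z = 0) (q' : Ideal S') [q'.IsPrime] :
    ¬ CAlgH3.annEl S z ≤ q'.comap (algebraMap S S') := by
  intro hle
  let A := CAlgH3.annEl S z
  let f : (S ⧸ A) →ₗ[S] W := Submodule.liftQ A (LinearMap.toSpanSingleton S W z)
    fun a ha => CAlgH3.mem_annEl.1 ha
  have hf : Injective f := by
    rw [← LinearMap.ker_eq_bot, Submodule.ker_liftQ_eq_bot _ _ _ fun a ha => CAlgH3.mem_annEl.2 (LinearMap.mem_ker.1 ha)]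
  have h1 : (1 : S ⧸ A) ⊗ₜ[S] (1 : S') = 0 := by
    refine Module.Flat.rTensor_preserves_injective_linearMap (M := S') f hf ?_
    rw [LinearMap.rTensor_tmul, map_zero,
      show f (1 : S ⧸ A) = z from one_smul S z, ← TensorProduct.comm_tmul, hz, map_zero]
  have h2 := (mem_smul_top_iff_tmul A (1 : S')).2 h1
  rw [Ideal.smul_top_eq_map, Submodule.restrictScalars_mem] at h2
  exact ‹q'.IsPrime›.ne_top ((Ideal.eq_top_iff_one _).2 (Ideal.map_le_iff_le_comap.2 hle h2))

variable {R S : Type u} [CommRing R] [CommRing S] [Algebra R S]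

/-- Vanishing in the fibre of an `R`-module. -/
theorem eq_zero_residue {M : Type u} [AddCommGroup M] [Module R M] (p : Ideal R) [p.IsPrime]
    (m : M) (h : (1 : p.ResidueField) ⊗ₜ[R] m = 0) :
    ∃ r ∉ p, r • m ∈ p • (⊤ : Submodule R M) := by
  have := CAlgH.TorFibres.isLocalizedModule_residueField p
  let ι := (IsScalarTower.toAlgHom R (R ⧸ p) p.ResidueField).toLinearMap
  have hloc : IsLocalizedModule p.primeCompl (ι.rTensor M) :=
    inferInstanceAs (IsLocalizedModule p.primeCompl (AlgebraTensorModule.rTensor R M ι))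
  have h1 : ι.rTensor M ((1 : R ⧸ p) ⊗ₜ m) = 0 := by
    rw [LinearMap.rTensor_tmul, ← h]
    congr 1
    exact map_one (algebraMap (R ⧸ p) p.ResidueField)
  obtain ⟨⟨r, hr⟩, hrm⟩ := (IsLocalizedModule.eq_zero_iff p.primeCompl (ι.rTensor M)).1 h1
  refine ⟨r, hr, (mem_smul_top_iff_tmul p _).2 ?_⟩
  rw [TensorProduct.tmul_smul]
  exact hrm

theorem tmul_residue_eq_zero {M : Type u} [AddCommGroup M] [Module R M] (p : Ideal R) [p.IsPrime]
    {r : R} (hr : r ∉ p) {m : M} (h : r • m ∈ p • (⊤ : Submodule R M)) :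
    (1 : p.ResidueField) ⊗ₜ[R] m = 0 := by
  have h1 : ∀ w ∈ p • (⊤ : Submodule R M), (1 : p.ResidueField) ⊗ₜ[R] w = 0 := fun w hw => by
    refine Submodule.smul_induction_on hw (fun a ha v _ => ?_) (fun a b ha hb => ?_)
    · rw [← TensorProduct.smul_tmul, Algebra.smul_def, mul_one,
        Ideal.algebraMap_residueField_eq_zero.2 ha, TensorProduct.zero_tmul]
    · rw [TensorProduct.tmul_add, ha, hb, add_zero]
  have h2 := h1 _ h
  rw [TensorProduct.tmul_smul, ← algebraMap_smul p.ResidueField r] at h2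
  exact (Ne.isUnit (by rwa [Ne, Ideal.algebraMap_residueField_eq_zero])).smul_eq_zero.1 h2

/-- Above an annihilator in the fibre module and below a given prime there is an associated prime
of the fibre module. -/
theorem exists_assFibre_prime [Algebra.FiniteType R S] (p : Ideal R) [p.IsPrime] {N : Type u}
    [AddCommGroup N] [Module S N] [Module R N] [IsScalarTower R S N]
    (z : FlatCA.fiberMod p S N) (Q : Ideal S) [Q.IsPrime] (hzQ : CAlgH3.annEl S z ≤ Q) :
    ∃ (P : Ideal S) (_ : P.IsPrime), P.LiesOver p ∧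
      FlatCA.fiberIdeal p P ∈ associatedPrimes (p.Fiber S) (FlatCA.fiberMod p S N) ∧
      CAlgH3.annEl S z ≤ P ∧ P ≤ Q := by
  have : IsNoetherianRing (p.Fiber S) := Algebra.FiniteType.isNoetherianRing p.ResidueField _
  obtain ⟨P, hP, hPQ⟩ := Ideal.exists_minimalPrimes_le hzQ
  have hP' := hP
  rw [CAlgH3.FiberMod.annEl_fiber] at hP'
  obtain ⟨P', hP'min, rfl⟩ := Ideal.exists_minimalPrimes_comap_eq _ P hP'
  obtain ⟨hprime, m, hm⟩ := CAlgH3.mem_ass.1
    (CAlgH3.mem_ass_of_mem_weakAss_of_fg (IsNoetherian.noetherian P') ⟨z, hP'min⟩)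
  have hass : P' ∈ associatedPrimes (p.Fiber S) (FlatCA.fiberMod p S N) :=
    isAssociatedPrime_iff.2 ⟨hprime, m, hm.trans (CAlgH3.colon_bot_singleton m).symm⟩
  have hmap : FlatCA.fiberIdeal p (P'.comap (algebraMap S (p.Fiber S))) = P' := by
    refine le_antisymm ?_ fun f hf => ?_
    · exact Ideal.map_le_iff_le_comap.2 fun a ha => ha
    · obtain ⟨s, hs, t, ht⟩ := CAlgH3.FiberMod.exists_ι_mul_eq p f
      have htP : t ∈ P'.comap (algebraMap S (p.Fiber S)) := by
        rw [Ideal.mem_comap, ← ht]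
        exact P'.mul_mem_left _ hf
      refine (Ideal.unit_mul_mem_iff_mem _ (CAlgH3.FiberMod.isUnit_ι (S := S) p hs)).1 ?_
      rw [ht]
      exact Ideal.mem_map_of_mem _ htP
  refine ⟨_, inferInstance, ⟨?_⟩, hmap.symm ▸ hass, hP.1.2, hPQ⟩
  ext r
  refine ⟨fun hr => ?_, fun hr => ?_⟩
  · show algebraMap S (p.Fiber S) (algebraMap R S r) ∈ P'
    rw [CAlgH3.FiberMod.ι_eq_zero p hr]
    exact P'.zero_mem
  · by_contra hrp
    exact hprime.ne_top (P'.eq_top_of_isUnit_mem hr (CAlgH3.FiberMod.isUnit_ι p hrp))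

/-- A fibre element killed in a flat algebra meeting all associated primes vanishes. -/
theorem fiberMod_eq_zero_of_cover [Algebra.FiniteType R S] {S' : Type u} [CommRing S']
    [Algebra S S'] [Module.Flat S S'] (p : Ideal R) [p.IsPrime] {N : Type u} [AddCommGroup N]
    [Module S N] [Module R N] [IsScalarTower R S N]
    (h : ∀ (q : Ideal S) [q.IsPrime] [q.LiesOver p],
      FlatCA.fiberIdeal p q ∈ associatedPrimes (p.Fiber S) (FlatCA.fiberMod p S N) →
      ∃ q' : Ideal S', q'.IsPrime ∧ q'.comap (algebraMap S S') = q)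
    (z : FlatCA.fiberMod p S N) (hz : (1 : S') ⊗ₜ[S] z = 0) : z = 0 := by
  by_contra hz0
  obtain ⟨Q, hQ, hzQ⟩ := Ideal.exists_le_maximal _ (fun e => hz0 ((CAlgH3.annEl_eq_top (R := S)).1 e))
  obtain ⟨P, _, _, hass, hzP, -⟩ := exists_assFibre_prime p z Q hzQ
  obtain ⟨q', _, hq'⟩ := h P hass
  exact not_annEl_le_comap z hz q' (hq' ▸ hzP)

/-- `N → S' ⊗_S N` is injective on the fibre at `p`. -/
theorem injective_lTensor_mk_of_cover [Algebra.FiniteType R S] {S' : Type u} [CommRing S']
    [Algebra S S'] [Algebra R S'] [IsScalarTower R S S'] [Module.Flat S S'] (p : Ideal R)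
    [p.IsPrime] {N : Type u} [AddCommGroup N] [Module S N] [Module R N] [IsScalarTower R S N]
    (h : ∀ (q : Ideal S) [q.IsPrime] [q.LiesOver p],
      FlatCA.fiberIdeal p q ∈ associatedPrimes (p.Fiber S) (FlatCA.fiberMod p S N) →
      ∃ q' : Ideal S', q'.IsPrime ∧ q'.comap (algebraMap S S') = q) :
    Injective (((TensorProduct.mk S S' N 1).restrictScalars R).lTensor p.ResidueField) := by
  rw [injective_iff_map_eq_zero]
  intro y hy
  obtain ⟨c, hc, n, hn⟩ : ∃ c ∉ p, ∃ n : N, c • y = (1 : p.ResidueField) ⊗ₜ[R] n := by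
    clear hy
    induction y using TensorProduct.induction_on with
    | zero => exact ⟨1, p.one_notMem, 0, by simp⟩
    | tmul k n =>
      obtain ⟨a, b, hb, habk⟩ := IsFractionRing.div_surjective (R ⧸ p) (K := p.ResidueField) k
      obtain ⟨a, rfl⟩ := Ideal.Quotient.mk_surjective a
      obtain ⟨b, rfl⟩ := Ideal.Quotient.mk_surjective b
      have hb' : b ∉ p := fun h => nonZeroDivisors.ne_zero hb (Ideal.Quotient.eq_zero_iff_mem.2 h)
      refine ⟨b, hb', a • n, ?_⟩
      rw [TensorProduct.smul_tmul', ← TensorProduct.smul_tmul]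
      congr 1
      rw [← habk, Algebra.smul_def, Algebra.smul_def, mul_one]
      exact mul_div_cancel₀ _ (by rwa [Ne, Ideal.algebraMap_residueField_eq_zero])
    | add y y' hy hy' =>
      obtain ⟨c, hc, n, hn⟩ := hy
      obtain ⟨c', hc', n', hn'⟩ := hy'
      exact ⟨c * c', p.primeCompl.mul_mem hc hc', c' • n + c • n', by
        rw [smul_add, mul_smul, mul_smul, smul_comm c c' y, hn, hn', TensorProduct.tmul_add,
          TensorProduct.tmul_smul, TensorProduct.tmul_smul]⟩
  have h1 : (1 : p.ResidueField) ⊗ₜ[R] ((1 : S') ⊗ₜ[S] n) = 0 := by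
    have := congrArg ((((TensorProduct.mk S S' N 1).restrictScalars R).lTensor p.ResidueField)) hn
    rw [map_smul, hy, smul_zero, LinearMap.lTensor_tmul] at this
    exact this.symm
  obtain ⟨r, hr, hrn⟩ := eq_zero_residue p _ h1
  have h2 : FlatCA.toFiberMod p S N n = 0 := by
    refine fiberMod_eq_zero_of_cover p h _ ?_
    let ψ : S' ⊗[S] N →ₗ[S] S' ⊗[S] FlatCA.fiberMod p S N := (FlatCA.toFiberMod p S N).lTensor S'
    have h3 : ∀ w ∈ p • (⊤ : Submodule R (S' ⊗[S] N)), ψ w = 0 := fun w hw => by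
      refine Submodule.smul_induction_on hw (fun a ha w _ => ?_) (fun a b ha hb => ?_)
      · rw [← algebraMap_smul S a w, map_smul]
        clear * - ha
        induction w using TensorProduct.induction_on with
        | zero => simp
        | add a b ha hb => rw [map_add, smul_add, ha, hb, add_zero]
        | tmul s m =>
          rw [LinearMap.lTensor_tmul, TensorProduct.smul_tmul', TensorProduct.smul_tmul, ← map_smul]
          rw [CAlgH3.FiberMod.toFiberMod_mk_eq_zero p
            (Submodule.smul_mem_smul (Ideal.mem_map_of_mem _ ha) trivial), TensorProduct.tmul_zero]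
      · rw [map_add, ha, hb, add_zero]
    have h4 : algebraMap R S r • ((1 : S') ⊗ₜ[S] FlatCA.toFiberMod p S N n) = 0 := by
      have := h3 _ hrn
      rwa [← algebraMap_smul S r, map_smul] at this
    have hinj := CAlgH3.FiberMod.injective_smul_of_notMem (S := S) N p hr
    let g : FlatCA.fiberMod p S N →ₗ[S] FlatCA.fiberMod p S N :=
      LinearMap.lsmul S _ (algebraMap R S r)
    refine Module.Flat.lTensor_preserves_injective_linearMap (M := S') g hinj ?_
    rw [LinearMap.lTensor_tmul, map_zero, ← h4]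
    exact (TensorProduct.tmul_smul _ _ _)
  obtain ⟨r', hr', hrn'⟩ := (CAlgH3.FiberMod.toFiberMod_eq_zero_iff N p n).1 h2
  have h5 : (1 : p.ResidueField) ⊗ₜ[R] n = 0 := by
    have h6 : r' • n ∈ p • (⊤ : Submodule R N) := by
      rw [algebraMap_smul] at hrn'
      rwa [← Submodule.restrictScalars_top R S N, ← Ideal.smul_restrictScalars]
    exact tmul_residue_eq_zero p hr' h6
  rw [h5] at hn
  rw [← algebraMap_smul p.ResidueField c] at hn
  exact (Ne.isUnit (by rwa [Ne, Ideal.algebraMap_residueField_eq_zero])).smul_eq_zero.1 hn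

/-- A flat base change of an `R`-flat module is `R`-flat. -/
theorem flat_tensor_flat (S' : Type u) [CommRing S'] [Algebra S S'] [Algebra R S']
    [IsScalarTower R S S'] [Module.Flat S S'] (N : Type u) [AddCommGroup N] [Module R N] [Module S N]
    [IsScalarTower R S N] [Module.Flat R N] : Module.Flat R (S' ⊗[S] N) := by
  rw [Module.Flat.iff_lTensor_preserves_injective_linearMap]
  intro P Q _ _ _ _ v hv
  have h1 := Module.Flat.lTensor_preserves_injective_linearMap (M := N) v hv
  have h2 := Module.Flat.lTensor_preserves_injective_linearMap (M := S')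
    (AlgebraTensorModule.lTensor S N v) h1
  let eP := AlgebraTensorModule.assoc R S S S' N P
  let eQ := AlgebraTensorModule.assoc R S S S' N Q
  have h3 : (AlgebraTensorModule.lTensor S (S' ⊗[S] N) v) =
      eQ.symm.toLinearMap ∘ₗ ((AlgebraTensorModule.lTensor S N v).lTensor S') ∘ₗ eP.toLinearMap := by
    ext b n q; rfl
  have h4 : Injective (AlgebraTensorModule.lTensor S (S' ⊗[S] N) v) := by
    rw [h3]; exact eQ.symm.injective.comp (h2.comp eP.injective)
  exact h4

end Groth.Agent.FlatMorDevissage
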