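import Groth.Agent.CAlgML.Projective
import Groth.Agent.CAlgML.Countable
import Groth.Agent.CommAlg4.UnivInjCompl

/-!
# Projectivity over the base descends along faithfully flat algebra maps upstairs
-/

set_option autoImplicit false
set_option backward.isDefEq.respectTransparency false

universe u

open TensorProduct Function

namespace Groth.Agent.FlatMorDevissage

open Groth.Agent CAlgX

/-- `M → C ⊗[B] M` is universally injective over the base. -/
theorem ui_mk_of_faithfullyFlat {A B C M : Type u} [CommRing A] [CommRing B] [CommRing C]
    [Algebra A B] [Algebra A C] [Algebra B C] [IsScalarTower A B C] [Module.FaithfullyFlat B C]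
    [AddCommGroup M] [Module B M] [Module A M] [IsScalarTower A B M] :
    UniversallyInjective A ((TensorProduct.mk B C M 1).restrictScalars A) := by
  intro Q _ _
  have key : ∀ z : M ⊗[A] Q, TensorProduct.AlgebraTensorModule.assoc A B B C M Q
      (((TensorProduct.mk B C M 1).restrictScalars A).rTensor Q z) =
        TensorProduct.mk B C (M ⊗[A] Q) 1 z := by
    intro z
    induction z with
    | zero => simp
    | tmul m q => rfl
    | add x y hx hy => simp only [map_add, hx, hy]
  intro x y hxy
  have h := congrArg (TensorProduct.AlgebraTensorModule.assoc A B B C M Q) hxy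
  rw [key, key] at h
  exact Module.FaithfullyFlat.tensorProduct_mk_injective (A := B) (B := C) (M ⊗[A] Q) h

/-- If `C ⊗[B] M` is projective over `A` with `C` faithfully flat over `B`, so is `M`. -/
theorem projective_of_faithfullyFlat_cover {A B C M : Type u} [CommRing A] [CommRing B] [CommRing C]
    [Algebra A B] [Algebra.FiniteType A B] [Algebra A C] [Algebra B C] [IsScalarTower A B C]
    [Module.FaithfullyFlat B C] [AddCommGroup M] [Module B M] [Module A M] [IsScalarTower A B M]
    [Module.Finite B M] [Module.Projective A (C ⊗[B] M)] : Module.Projective A M := by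
  have hui := ui_mk_of_faithfullyFlat (A := A) (B := B) (C := C) (M := M)
  have : Module.Flat A M := Module.Flat.iff_lTensor_preserves_injective_linearMap.2
    fun N N' _ _ _ _ i hi => by
      let u := (TensorProduct.mk B C M 1).restrictScalars A
      have h1 : Injective (u.rTensor N' ∘ₗ i.lTensor M) := by
        rw [LinearMap.rTensor_comp_lTensor, ← LinearMap.lTensor_comp_rTensor]
        exact (Module.Flat.lTensor_preserves_injective_linearMap i hi).comp (hui N)
      exact Injective.of_comp (f := u.rTensor N') h1
  exact CAlgML.projective_of_flat_ml (CAlgML.ml_of_ui _ hui (CAlgML.ml_of_projective (R := A) (M := C ⊗[B] M)))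
    (CommAlg4.isCountablyGenerated_of_finiteType (R := A) (S := B) (N := M))

end Groth.Agent.FlatMorDevissage
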