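import Groth.Agent.FlatMorDevissage.ProjectiveNhd

/-!
# Projectivity over an etale neighbourhood along a whole fibre
-/

set_option autoImplicit false
set_option backward.isDefEq.respectTransparency false

universe u

open TensorProduct Function

namespace Groth.Agent.FlatMorDevissage

open Groth.Agent

attribute [local instance] Algebra.TensorProduct.rightAlgebra

/-- Base change to a finite product of algebras is projective if the factors are. -/
theorem projective_pi_tensor {A S N : Type u} [CommRing A] [CommRing S] [AddCommGroup N] [Module S N]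
    {ι : Type} [Finite ι] (C : ι → Type u) [∀ i, CommRing (C i)] [∀ i, Algebra S (C i)]
    [∀ i, Algebra A (C i)] (h : ∀ i, Module.Projective A (C i ⊗[S] N)) :
    Module.Projective A ((Π i, C i) ⊗[S] N) := by
  classical
  have := Fintype.ofFinite ι
  let P := Π i, C i
  let _ : ∀ i, Algebra P (C i) := fun i => (Pi.evalRingHom C i).toAlgebra
  have : ∀ i, IsScalarTower S P (C i) := fun i => .of_algebraMap_eq fun _ => rfl
  have : ∀ i, IsScalarTower A P (C i) := fun i => .of_algebraMap_eq fun _ => rfl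
  let φ : P ⊗[S] N →ₗ[P] Π i, C i ⊗[S] N :=
    LinearMap.liftBaseChange P (LinearMap.pi fun i => TensorProduct.mk S (C i) N 1)
  have hφ : ∀ t, φ t = TensorProduct.piLeft S N C t := by
    intro t
    induction t with
    | zero => simp
    | tmul c n =>
      ext i
      simp [φ, TensorProduct.smul_tmul', Algebra.smul_def]
      rfl
    | add x y hx hy => rw [map_add, map_add, hx, hy]
  let e : P ⊗[S] N ≃ₗ[P] Π i, C i ⊗[S] N := LinearEquiv.ofBijective φ (by
    rw [show (φ : _ → _) = TensorProduct.piLeft S N C from funext hφ]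
    exact LinearEquiv.bijective _)
  have : Module.Projective A (Π i, C i ⊗[S] N) :=
    Module.Projective.of_equiv (M := Π₀ i, C i ⊗[S] N) DFinsupp.linearEquivFunOnFintype
  exact Module.Projective.of_equiv (e.restrictScalars A).symm

set_option maxHeartbeats 1000000 in
/-- Flatness along a fibre gives, after an etale localisation of the base, an etale algebra covering
the fibre over which the module is projective over the base. -/
theorem exists_projective_cover {R S : Type u} [CommRing R] [CommRing S] [Algebra R S]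
    [Algebra.FinitePresentation R S] (N : Type u) [AddCommGroup N] [Module S N] [Module R N]
    [IsScalarTower R S N] [Module.FinitePresentation S N] (p : Ideal R) [p.IsPrime]
    (hflat : ∀ (q : Ideal S) [q.IsPrime], q.LiesOver p → FlatCA.FlatAt R q N) :
    ∃ (R' S' : Type u) (_ : CommRing R') (_ : CommRing S') (_ : Algebra R R') (_ : Algebra S S')
      (_ : Algebra R' S') (_ : Algebra R S') (_ : IsScalarTower R R' S') (_ : IsScalarTower R S S')
      (p' : Ideal R') (_ : p'.IsPrime),
      FlatCA.IsEtaleNhd R R' p p' ∧ Algebra.Etale S S' ∧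
      (∀ (q : Ideal S) [q.IsPrime], q.LiesOver p →
        ∃ q' : Ideal S', q'.IsPrime ∧ q'.comap (algebraMap S S') = q ∧
          q'.comap (algebraMap R' S') = p') ∧
      Module.Projective R' (S' ⊗[S] N) := by
  classical
  let F : Set (PrimeSpectrum S) := {x | x.asIdeal.LiesOver p}
  have hFc : IsCompact F := by
    have : F = Set.range (PrimeSpectrum.comap
        (Algebra.TensorProduct.includeRight (R := R) (A := p.ResidueField) (B := S)).toRingHom) := by
      refine Set.ext fun x => ⟨fun hx => ?_, ?_⟩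
      · obtain ⟨Q, hQ⟩ := EGA43.FibDepth.exists_prime_over (A := R) (p := p) (p.Fiber S) x
          (hx : x.asIdeal.LiesOver p).over
        exact ⟨Q, hQ⟩
      · rintro ⟨Q, rfl⟩
        exact ⟨EGA43.FibDepth.comap_algebraMap_eq (R := S) p Q⟩
    rw [this]
    exact isCompact_range (PrimeSpectrum.continuous_comap _)
  have hpiece : ∀ x : F, _ := fun x => by
    have : x.1.asIdeal.LiesOver p := x.2
    exact exists_projective_nhd N p x.1.asIdeal (hflat _ this)
  choose R₀ S₀ iR₀ iS₀ iRR₀ iSS₀ iR₀S₀ iRS₀ tRR₀ tRS₀ p₀ q₀ hp₀ hq₀ hnhd hSnhd hover hproj using hpiece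
  have he : ∀ x, ∃ e ∉ p₀ x, ∀ Q : Ideal (R₀ x), Q.IsPrime → Q.LiesOver p → e ∉ Q → Q = p₀ x :=
    fun x => by
      obtain ⟨he, ho, -⟩ := id (hnhd x)
      exact exists_unique_over p (p₀ x)
  choose e he hu using he
  let U : F → Set (PrimeSpectrum S) := fun x => PrimeSpectrum.comap (algebraMap S (S₀ x)) ''
    (PrimeSpectrum.basicOpen (algebraMap (R₀ x) (S₀ x) (e x)) : Set _)
  have hUo : ∀ x, IsOpen (U x) := fun x => by
    have := (hSnhd x).1
    exact PrimeSpectrum.isOpenMap_comap_of_hasGoingDown_of_finitePresentation _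
      (PrimeSpectrum.isOpen_basicOpen)
  have hcov : F ⊆ ⋃ x, U x := fun x hx => Set.mem_iUnion.2 ⟨⟨x, hx⟩, ⟨q₀ ⟨x, hx⟩, hq₀ ⟨x, hx⟩⟩,
    fun hm => he ⟨x, hx⟩ (by rw [(hover ⟨x, hx⟩).over]; exact hm),
    PrimeSpectrum.ext (hSnhd ⟨x, hx⟩).2.1.over.symm⟩
  obtain ⟨t, ht⟩ := hFc.elim_finite_subcover U hUo hcov
  let k := t.card
  let idx : Fin k → F := fun i => (t.equivFin.symm i).1
  obtain ⟨R', _, _, p', _, hR', hmaps⟩ := exists_common_nhd p k (fun i => R₀ (idx i))
    (fun i => p₀ (idx i)) fun i => hnhd (idx i)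
  choose φ hφ using hmaps
  obtain ⟨heR', hoR', hbR'⟩ := id hR'
  let iAlg : ∀ i, Algebra (R₀ (idx i)) R' := fun i => (φ i).toRingHom.toAlgebra
  have tφ : ∀ i, IsScalarTower R (R₀ (idx i)) R' := fun i =>
    .of_algebraMap_eq fun r => ((φ i).commutes r).symm
  let C : Fin k → Type u := fun i => R' ⊗[R₀ (idx i)] S₀ (idx i)
  let aSC : ∀ i, Algebra S (C i) := fun i =>
    ((algebraMap (S₀ (idx i)) (C i)).comp (algebraMap S (S₀ (idx i)))).toAlgebra
  have hC : ∀ i, Algebra.Etale S (C i) ∧ IsScalarTower R S (C i) ∧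
      Module.Projective R' (C i ⊗[S] N) := by
    intro i
    have := (hSnhd (idx i)).1
    have := (hnhd (idx i)).1
    have := tφ i
    have : Algebra.Etale (R₀ (idx i)) R' := Algebra.Etale.of_restrictScalars R _ _
    have : Algebra.Etale (S₀ (idx i)) (C i) := etale_rightAlgebra
    have : IsScalarTower S (S₀ (idx i)) (C i) := .of_algebraMap_eq' rfl
    have : IsScalarTower R S (C i) := IsScalarTower.of_algebraMap_eq (R := R) (S := S) (A := C i)
      fun r => by
      rw [IsScalarTower.algebraMap_apply R R' (C i),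
        IsScalarTower.algebraMap_apply S (S₀ (idx i)) (C i), ← IsScalarTower.algebraMap_apply R S,
        IsScalarTower.algebraMap_apply R (R₀ (idx i)) (S₀ (idx i)),
        ← IsScalarTower.algebraMap_apply (R₀ (idx i)) (S₀ (idx i)) (C i),
        IsScalarTower.algebraMap_apply (R₀ (idx i)) R' (C i),
        ← IsScalarTower.algebraMap_apply R (R₀ (idx i)) R']
    refine ⟨Algebra.Etale.comp S (S₀ (idx i)) (C i), this, ?_⟩
    have := hproj (idx i)
    let e₁ : C i ⊗[S₀ (idx i)] (S₀ (idx i) ⊗[S] N) ≃ₗ[R'] R' ⊗[R₀ (idx i)] (S₀ (idx i) ⊗[S] N) :=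
      Algebra.IsPushout.cancelBaseChange (R₀ (idx i)) R' (S₀ (idx i)) (C i) (S₀ (idx i) ⊗[S] N)
    let e₂ : C i ⊗[S₀ (idx i)] (S₀ (idx i) ⊗[S] N) ≃ₗ[C i] C i ⊗[S] N :=
      TensorProduct.AlgebraTensorModule.cancelBaseChange S (S₀ (idx i)) (C i) (C i) N
    exact Module.Projective.of_equiv (e₁.symm.trans (e₂.restrictScalars R'))
  have : ∀ i, Algebra.Etale S (C i) := fun i => (hC i).1
  have : ∀ i, IsScalarTower R S (C i) := fun i => (hC i).2.1
  have : IsScalarTower R S (Π i, C i) := IsScalarTower.of_algebraMap_eq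
    (R := R) (S := S) (A := Π i, C i) fun r => funext fun i => IsScalarTower.algebraMap_apply R S (C i) r
  have : IsScalarTower R R' (Π i, C i) := IsScalarTower.of_algebraMap_eq
    (R := R) (S := R') (A := Π i, C i) fun r => funext fun i => IsScalarTower.algebraMap_apply R R' (C i) r
  refine ⟨R', Π i, C i, inferInstance, inferInstance, inferInstance, inferInstance, inferInstance,
    inferInstance, inferInstance, inferInstance, p', inferInstance, hR', inferInstance,
    fun q _ hq => ?_, projective_pi_tensor C fun i => (hC i).2.2⟩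
  obtain ⟨x, hx, Q, hQe, hQ⟩ :=
    Set.mem_iUnion₂.1 (ht (show (⟨q, inferInstance⟩ : PrimeSpectrum S) ∈ F from hq))
  let i : Fin k := t.equivFin ⟨x, hx⟩
  have hidx : idx i = x := by simp [idx, i]
  clear_value i
  subst hidx
  have hQq : Q.asIdeal.comap (algebraMap S (S₀ (idx i))) = q := congrArg PrimeSpectrum.asIdeal hQ
  obtain ⟨he₀, ho₀, hb₀⟩ := id (hnhd (idx i))
  have hQp : Q.asIdeal.LiesOver (p₀ (idx i)) := by
    refine ⟨(hu (idx i) (Q.asIdeal.comap (algebraMap (R₀ (idx i)) (S₀ (idx i)))) inferInstance ⟨?_⟩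
      hQe).symm⟩
    rw [Ideal.under, Ideal.comap_comap, ← IsScalarTower.algebraMap_eq,
      IsScalarTower.algebraMap_eq R S (S₀ (idx i)), ← Ideal.comap_comap, hQq]
    exact hq.over
  have := tφ i
  have : p'.LiesOver (p₀ (idx i)) := ⟨(hφ i).symm⟩
  have hbij : Bijective (Ideal.ResidueField.mapₐ (p₀ (idx i)) p' (Algebra.ofId _ R')
      (p'.over_def (p₀ (idx i)))) := by
    let f₁ := Ideal.ResidueField.mapₐ p (p₀ (idx i)) (Algebra.ofId R (R₀ (idx i)))
      ((p₀ (idx i)).over_def p)
    let f₂ := Ideal.ResidueField.mapₐ (p₀ (idx i)) p' (Algebra.ofId (R₀ (idx i)) R')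
      (p'.over_def (p₀ (idx i)))
    let f' := Ideal.ResidueField.mapₐ p p' (Algebra.ofId R R') (p'.over_def p)
    have key : f'.toRingHom = f₂.toRingHom.comp f₁.toRingHom := by
      refine Ideal.ResidueField.ringHom_ext (RingHom.ext fun a => ?_)
      simp [f', f₁, f₂, Ideal.ResidueField.mapₐ_apply,
        ← IsScalarTower.algebraMap_apply R (R₀ (idx i)) R']
    have key' : (f' : _ → _) = f₂ ∘ f₁ := funext fun z => RingHom.congr_fun key z
    exact (Function.Bijective.of_comp_iff f₂ hb₀).1 (key' ▸ hbR')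
  obtain ⟨Q', hQ', hQ'Q, hQ'p⟩ := exists_prime_isPushout (S' := C i) (p₀ (idx i)) p' hbij Q.asIdeal
  refine ⟨Q'.comap (Pi.evalRingHom C i), inferInstance, ?_, ?_⟩
  swap
  · rw [Ideal.comap_comap]
    exact hQ'p.over.symm
  rw [Ideal.comap_comap, show (Pi.evalRingHom C i).comp (algebraMap S (Π i, C i)) =
    (algebraMap (S₀ (idx i)) (C i)).comp (algebraMap S (S₀ (idx i))) from rfl, ← Ideal.comap_comap]
  exact (congrArg (Ideal.comap _) hQ'Q.over.symm).trans hQq

end Groth.Agent.FlatMorDevissage
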