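import Groth.Agent.FlatMorDevissage.GoodNhd2
import Groth.Agent.FlatMorDevissage.StepNhd
import Groth.Agent.FlatMorDevissage.Elem
import Groth.Agent.FlatCrit.SupportBC

/-!
# Existence of complete dévissages
-/

set_option autoImplicit false
set_option backward.isDefEq.respectTransparency false

universe u

open TensorProduct Function

namespace Groth.Agent.FlatMorDevissage

open Groth.Agent

/-- A point of the smooth ring of an elementary dévissage of the same transcendence degree. -/
theorem exists_point_trd {R S : Type u} [CommRing R] [CommRing S] [Algebra R S]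
    [Algebra.FiniteType R S] (N : Type u) [AddCommGroup N] [Module S N] [Module.Finite S N]
    (p : Ideal R) [p.IsPrime] (q : Ideal S) [q.IsPrime] [q.LiesOver p] {n : ℕ}
    (E : FlatCA.ElemDevissage R S N p q n) (w : PrimeSpectrum S) (hwq : w.asIdeal ≤ q)
    (hwp : w.asIdeal.comap (algebraMap R S) = p) (hwN : Module.annihilator S N ≤ w.asIdeal) :
    ∃ v : PrimeSpectrum E.D, v.asIdeal.comap (algebraMap E.R' E.D) = E.p' ∧
      Module.annihilator E.D E.G ≤ v.asIdeal ∧
      EGA43.FibDepth.trd E.R' v = EGA43.FibDepth.trd R w := by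
  obtain ⟨hRe, hRo, hRb⟩ := E.etaleR
  obtain ⟨hSe, hSo, -⟩ := E.etaleS
  obtain ⟨P, hPle, hP, hPw⟩ :=
    Ideal.exists_ideal_le_liesOver_of_le (p := w.asIdeal) (q := q) E.q' hwq
  have hPR : (P.comap (algebraMap E.R' E.S')).comap (algebraMap R E.R') = p := by
    rw [Ideal.comap_comap, ← IsScalarTower.algebraMap_eq, IsScalarTower.algebraMap_eq R S E.S',
      ← Ideal.comap_comap]
    exact (congrArg (Ideal.comap (algebraMap R S)) hPw.over.symm).trans hwp
  have hPp : P.comap (algebraMap E.R' E.S') = E.p' :=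
    Algebra.QuasiFinite.eq_of_le_of_under_eq (R := R) _ _
      ((Ideal.comap_mono hPle).trans E.q'Over.over.symm.le) (hPR.trans hRo.over)
  -- support
  have hPsupp : Module.annihilator E.S' E.N' ≤ P := by
    have h1 : (⟨P, hP⟩ : PrimeSpectrum E.S') ∈ Module.support E.S' (E.S' ⊗[S] N) := by
      rw [FlatCrit.mem_support_baseChange_iff, Module.mem_support_iff_of_finite]
      exact hwN.trans hPw.over.le
    rw [E.isBaseChange.equiv.support_eq] at h1
    exact Module.annihilator_le_of_mem_support h1
  have hker : RingHom.ker (algebraMap E.S' E.C) ≤ P := by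
    refine le_trans (fun a ha => ?_) hPsupp
    rw [Module.mem_annihilator]
    intro x
    apply E.iso.injective
    rw [map_smul, map_zero, ← algebraMap_smul E.C a, RingHom.mem_ker.1 ha, zero_smul]
  let PC := P.map (algebraMap E.S' E.C)
  have : PC.IsPrime := Ideal.map_isPrime_of_surjective E.surjC hker
  have hPC : PC.comap (algebraMap E.S' E.C) = P := by
    rw [Ideal.comap_map_of_surjective _ E.surjC, sup_eq_left, ← RingHom.ker_eq_comap_bot]
    exact hker
  have hG : Module.annihilator E.C E.G ≤ PC := by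
    intro c hc
    obtain ⟨a, rfl⟩ := E.surjC c
    refine Ideal.mem_map_of_mem _ (hPsupp (Module.mem_annihilator.2 fun x => ?_))
    apply E.iso.injective
    rw [map_smul, map_zero, ← algebraMap_smul E.C a]
    exact Module.mem_annihilator.1 hc _
  let PC' : PrimeSpectrum E.C := ⟨PC, inferInstance⟩
  refine ⟨PrimeSpectrum.comap (algebraMap E.D E.C) PC', ?_, ?_, ?_⟩
  · show (PC.comap (algebraMap E.D E.C)).comap (algebraMap E.R' E.D) = E.p'
    rw [Ideal.comap_comap, ← IsScalarTower.algebraMap_eq, IsScalarTower.algebraMap_eq E.R' E.S' E.C,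
      ← Ideal.comap_comap, hPC, hPp]
  · rw [annihilator_eq_comap (A := E.C)]
    exact Ideal.comap_mono hG
  · have := E.finiteDC
    rw [← EGA43.FibDepth.trd_eq_of_quasiFinite (A := E.R') (B := E.D) PC',
      ← EGA43.FibDepth.trd_comap_of_surjectiveOnStalks (IsScalarTower.toAlgHom E.R' E.S' E.C)
        (RingHom.surjectiveOnStalks_of_surjective E.surjC) PC']
    have hcomap : PrimeSpectrum.comap (IsScalarTower.toAlgHom E.R' E.S' E.C).toRingHom PC' =
        (⟨P, hP⟩ : PrimeSpectrum E.S') := PrimeSpectrum.ext hPC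
    rw [hcomap, ← trd_eq_of_bijective p E.p' hRb (⟨P, hP⟩ : PrimeSpectrum E.S') hPp.symm,
      EGA43.FibDepth.trd_eq_of_quasiFinite (A := R) (B := S) (⟨P, hP⟩ : PrimeSpectrum E.S')]
    congr 1
    exact PrimeSpectrum.ext hPw.over.symm

/-- The annihilator vanishes at the generic point of the fibre of the smooth ring. -/
theorem annihilator_le_map {R S : Type u} [CommRing R] [CommRing S] [Algebra R S]
    [Algebra.FiniteType R S] (N : Type u) [AddCommGroup N] [Module S N] [Module.Finite S N]
    (p : Ideal R) [p.IsPrime] (q : Ideal S) [q.IsPrime] [q.LiesOver p] {n : ℕ}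
    (E : FlatCA.ElemDevissage R S N p q n) (w : PrimeSpectrum S) (hwq : w.asIdeal ≤ q)
    (hwp : w.asIdeal.comap (algebraMap R S) = p) (hwN : Module.annihilator S N ≤ w.asIdeal)
    (hw : EGA43.FibDepth.trd R w = n) [(E.p'.map (algebraMap E.R' E.D)).IsPrime] :
    Module.annihilator E.D E.G ≤ E.p'.map (algebraMap E.R' E.D) := by
  by_contra hI
  obtain ⟨v, hv, hvG, hvt⟩ := exists_point_trd N p q E w hwq hwp hwN
  have : Algebra.Smooth E.R' E.D := smooth_of_smoothRelDim E.smooth
  have h1 := krullDim_primesOverGE_lt (p := E.p')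
    (krullDim_primesOverGE_le (p := E.p') E.smooth) hI
  have h2 := trd_le_krullDim E.p' v hv _ hvG
  rw [hvt, hw] at h2
  exact not_lt_of_ge h2 h1

/-- The transcendence degrees drop on the support of the cokernel. -/
theorem trd_lt_of_not_le {R D : Type u} [CommRing R] [CommRing D] [Algebra R D] {n : ℕ}
    (hsm : FlatCA.SmoothRelDim n R D) (p : Ideal R) [p.IsPrime] [(p.map (algebraMap R D)).IsPrime]
    {I : Ideal D} (hI : ¬ I ≤ p.map (algebraMap R D)) (w : PrimeSpectrum D)
    (hw : w.asIdeal.comap (algebraMap R D) = p) (hIw : I ≤ w.asIdeal) :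
    EGA43.FibDepth.trd R w < n := by
  have : Algebra.Smooth R D := smooth_of_smoothRelDim hsm
  have := (trd_le_krullDim p w hw I hIw).trans_lt
    (krullDim_primesOverGE_lt (p := p) (krullDim_primesOverGE_le (p := p) hsm) hI)
  exact_mod_cast this

set_option maxHeartbeats 1000000 in
/-- The first step from an elementary dévissage, given the rest. -/
theorem hasChainNhd_of_elemDevissage {R S : Type u} [CommRing R] [CommRing S] [Algebra R S]
    [Algebra.FiniteType R S] (N : Type u) [AddCommGroup N] [Module S N] [Module.Finite S N]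
    (p : Ideal R) [p.IsPrime] (q : Ideal S) [q.IsPrime] [q.LiesOver p] {n : ℕ}
    (E : FlatCA.ElemDevissage R S N p q n) (w : PrimeSpectrum S) (hwq : w.asIdeal ≤ q)
    (hwp : w.asIdeal.comap (algebraMap R S) = p) (hwN : Module.annihilator S N ≤ w.asIdeal)
    (hw : EGA43.FibDepth.trd R w = n)
    (IH : ∀ k < n, ∀ (D : Type u) [CommRing D] [Algebra E.R' D] [Algebra.FiniteType E.R' D]
      (Q : Type u) [AddCommGroup Q] [Module D Q] [Module.Finite D Q] (y : Ideal D) [y.IsPrime]
      [y.LiesOver E.p'],
      (∀ v : PrimeSpectrum D, v.asIdeal ≤ y → v.asIdeal.comap (algebraMap E.R' D) = E.p' →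
        Module.annihilator D Q ≤ v.asIdeal → EGA43.FibDepth.trd E.R' v ≤ k) →
      Module.annihilator D Q ≤ y → HasChainNhd E.R' E.p' D Q y) :
    HasChainNhd R p S N q := by
  have hsm := E.smooth
  have : Algebra.Smooth E.R' E.D := smooth_of_smoothRelDim hsm
  have hdom : FibresDomain E.R' E.D := fibresDomain_of_geomIntegral E.geomInt
  have hξ := isPrime_map_of_fibresDomain hdom E.p'
  have := E.finiteDC
  have := E.finiteG
  have : Module.Finite E.D E.G := Module.Finite.trans E.C E.G
  obtain ⟨r, α, hr, hα, hQξ⟩ := exists_alpha (E.p'.map (algebraMap E.R' E.D))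
    (annihilator_le_map N p q E w hwq hwp hwN hw)
  let Q := E.G ⧸ LinearMap.range α
  have hnhd := exists_good_nhd hsm hdom E.pureTrans Q (by
    by_cases hy : Module.annihilator E.D Q ≤ E.y
    · have hlt := fun v hv hvQ => trd_lt_of_not_le hsm E.p' hQξ v hv hvQ
      have hn : n ≠ 0 := fun h0 => by
        have := hlt ⟨E.y, inferInstance⟩ E.yOver.over.symm hy
        omega
      exact Or.inr (IH (n - 1) (by omega) E.D Q E.y
        (fun v _ hv hvQ => by have := hlt v hv hvQ; omega) hy)
    · exact Or.inl hy)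
  obtain ⟨R₅, B', _, _, _, _, _, _, _, _, p₅, y₅, _, _, hR₅, hB', hy₅p, hdom₅, hrest⟩ := hnhd
  let s : Step E.R' E.p' E.S' E.N' E.q' :=
    { A := E.C
      B := E.D
      M := E.G
      r := r
      rpos := hr
      α := α
      qA := E.z
      qB := E.y
      surjSA := E.surjC
      fpSA := E.fpC
      finiteBA := E.finiteDC
      finiteM := E.finiteG
      isoN := E.iso
      d := n
      relDim := hsm
      dom := hdom
      fibreIso := hα
      pureTrans := E.pureTrans
      uniq := E.uniq
      q0 := E.zOver.over.symm }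
  obtain ⟨S'', _, _, _, _, _, _, q'', _, hS'', hq''p, hchain⟩ :=
    s.exists_nhd p₅ hR₅ B' y₅ hB' hdom₅ hrest
  let _ : Algebra R R₅ := ((algebraMap E.R' R₅).comp (algebraMap R E.R')).toAlgebra
  have : IsScalarTower R E.R' R₅ := .of_algebraMap_eq' rfl
  let _ : Algebra S S'' := ((algebraMap E.S' S'').comp (algebraMap S E.S')).toAlgebra
  have : IsScalarTower S E.S' S'' := .of_algebraMap_eq' rfl
  let _ : Algebra R S'' := ((algebraMap R₅ S'').comp (algebraMap R R₅)).toAlgebra
  have : IsScalarTower R S S'' := .of_algebraMap_eq fun a => by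
    show algebraMap R₅ S'' (algebraMap E.R' R₅ (algebraMap R E.R' a)) =
      algebraMap E.S' S'' (algebraMap S E.S' (algebraMap R S a))
    rw [← IsScalarTower.algebraMap_apply E.R' R₅ S'', IsScalarTower.algebraMap_apply E.R' E.S' S'',
      ← IsScalarTower.algebraMap_apply R E.R' E.S', IsScalarTower.algebraMap_apply R S E.S']
  refine ⟨R₅, S'', inferInstance, inferInstance, inferInstance, inferInstance, inferInstance,
    inferInstance, .of_algebraMap_eq' rfl, inferInstance, p₅, q'', ‹_›, ‹_›,
    isEtaleNhd_comp E.etaleR hR₅, isEtaleNhd_comp E.etaleS hS'', hq''p, fun N'' _ _ _ _ f hf => ?_⟩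
  let _ : Module E.S' N'' := Module.compHom N'' (algebraMap E.S' S'')
  have : IsScalarTower E.S' S'' N'' := .of_algebraMap_smul fun _ _ => rfl
  have : IsScalarTower S E.S' N'' := .of_algebraMap_smul fun a x => by
    show algebraMap E.S' S'' (algebraMap S E.S' a) • x = a • x
    rw [← IsScalarTower.algebraMap_apply S E.S' S'', algebraMap_smul]
  refine hchain N'' (E.isBaseChange.lift f) ?_
  refine E.isBaseChange.of_comp ?_
  rw [E.isBaseChange.lift_comp f]
  exact hf

set_option maxHeartbeats 400000 in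
/-- Complete dévissages exist after etale localisation. -/
theorem exists_hasChainNhd (n : ℕ) :
    ∀ {R S : Type u} [CommRing R] [CommRing S] [Algebra R S] [Algebra.FiniteType R S]
      (N : Type u) [AddCommGroup N] [Module S N] [Module.Finite S N]
      (p : Ideal R) [p.IsPrime] (q : Ideal S) [q.IsPrime] [q.LiesOver p],
      (∀ w : PrimeSpectrum S, w.asIdeal ≤ q → w.asIdeal.comap (algebraMap R S) = p →
        Module.annihilator S N ≤ w.asIdeal → EGA43.FibDepth.trd R w ≤ n) →
      Module.annihilator S N ≤ q → HasChainNhd R p S N q := by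
  induction n using Nat.strong_induction_on with
  | _ n IH =>
    intro R S _ _ _ _ N _ _ _ p _ q _ _ hd hNq
    let T : Set ℕ := {t | ∃ w : PrimeSpectrum S, w.asIdeal ≤ q ∧
      w.asIdeal.comap (algebraMap R S) = p ∧ Module.annihilator S N ≤ w.asIdeal ∧
      EGA43.FibDepth.trd R w = t}
    have hne : T.Nonempty :=
      ⟨_, ⟨q, inferInstance⟩, le_refl q, (q.over_def p).symm, hNq, rfl⟩
    have hbdd : BddAbove T := ⟨n, by rintro t ⟨w, h1, h2, h3, rfl⟩; exact hd w h1 h2 h3⟩
    obtain ⟨w, hwq, hwp, hwN, hw⟩ : sSup T ∈ T := Nat.sSup_mem hne hbdd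
    have hmn : sSup T ≤ n := hw ▸ hd w hwq hwp hwN
    obtain ⟨E⟩ := exists_elemDevissage N p q (sSup T)
      (fun v h1 h2 h3 => le_csSup hbdd ⟨v, h1, h2, h3, rfl⟩) hNq
    exact hasChainNhd_of_elemDevissage N p q E w hwq hwp hwN hw
      fun k hk D _ _ _ Q _ _ _ y _ _ => IH k (lt_of_lt_of_le hk hmn) Q E.p' y

end Groth.Agent.FlatMorDevissage
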