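import Groth.Agent.FlatMorDevissage.FPFlat
import Groth.Agent.Flatn12.RelFP

/-!
# Relative finite presentation near a point of flatness
-/

set_option autoImplicit false
set_option backward.isDefEq.respectTransparency false

universe u

open Function

namespace Groth.Agent.FlatMorDevissage

open Groth.Agent

/-- A surjection stays surjective after inverting an element. -/
theorem exists_surjective_away {R P S : Type u} [CommRing R] [CommRing P] [CommRing S] [Algebra R P]
    [Algebra R S] (φ : P →ₐ[R] S) (hφ : Surjective φ) (g : P) :
    ∃ ψ : Localization.Away g →ₐ[R] Localization.Away (φ g), Surjective ψ ∧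
      ∀ x, ψ (algebraMap P _ x) = algebraMap S _ (φ x) := by
  let T := Localization.Away (φ g)
  let ψ : Localization.Away g →ₐ[R] T :=
    IsLocalization.liftAlgHom (M := Submonoid.powers g)
      (f := (IsScalarTower.toAlgHom R S T).comp φ) fun y => by
        obtain ⟨k, hk⟩ := y.2
        rw [← hk, map_pow]
        exact (IsLocalization.Away.algebraMap_isUnit (φ g)).pow k
  have hψ : ∀ x : P, ψ (algebraMap P _ x) = algebraMap S T (φ x) := fun x =>
    IsLocalization.lift_eq (M := Submonoid.powers g) _ x
  refine ⟨ψ, fun z => ?_, hψ⟩
  obtain ⟨⟨b, ⟨_, k, rfl⟩⟩, hz⟩ := IsLocalization.surj (Submonoid.powers (φ g)) z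
  obtain ⟨x, rfl⟩ := hφ b
  let w : Submonoid.powers g := ⟨g ^ k, k, rfl⟩
  refine ⟨IsLocalization.mk' _ x w, ?_⟩
  refine ((IsLocalization.map_units T (⟨φ g ^ k, k, rfl⟩ :
    Submonoid.powers (φ g))).mul_left_inj).1 ?_
  refine Eq.trans ?_ hz.symm
  show _ = algebraMap S T (φ x)
  have hw : ψ (algebraMap P _ w.1) = algebraMap S T (φ g ^ k) := by
    rw [hψ]
    show algebraMap S T (φ (g ^ k)) = _
    rw [map_pow]
  rw [← hw, ← map_mul, IsLocalization.mk'_spec, hψ]

/-- Near a point of flatness a finite module over a finite type algebra is flat and finitely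
presented relative to the base. -/
theorem exists_nbhd_relFP {R S : Type u} [CommRing R] [CommRing S] [Algebra R S]
    [Algebra.FiniteType R S] (hR : (FlatCA.weakAss R R).Finite) (N : Type u) [AddCommGroup N]
    [Module S N] [Module R N] [IsScalarTower R S N] [Module.Finite S N] (q : Ideal S) [q.IsPrime]
    (hq : FlatCA.FlatAt R q N) :
    ∃ g : S, g ∉ q ∧ Module.Flat R (LocalizedModule (Submonoid.powers g) N) ∧
      FlatCA.RelFinitePresentation R (Localization.Away g) (LocalizedModule (Submonoid.powers g) N) := by
  obtain ⟨s, φ, hφ⟩ := Algebra.FiniteType.iff_quotient_mvPolynomial''.1 ‹Algebra.FiniteType R S›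
  let P := MvPolynomial (Fin s) R
  let _ : Algebra P S := φ.toRingHom.toAlgebra
  have : IsScalarTower R P S := .of_algebraMap_eq fun r => (φ.commutes r).symm
  let _ : Module P N := Module.compHom N φ.toRingHom
  have : IsScalarTower P S N := .of_algebraMap_smul fun _ _ => rfl
  have : IsScalarTower R P N := .of_algebraMap_smul fun r m => by
    show φ (algebraMap R P r) • m = r • m
    rw [AlgHom.commutes, algebraMap_smul]
  have : Module.Finite P S := Module.Finite.of_surjective (Algebra.linearMap P S) hφ
  have : Module.Finite P N := Module.Finite.trans S N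
  have hmap : (q.comap (algebraMap P S)).primeCompl.map (algebraMap P S) = q.primeCompl := by
    ext x
    obtain ⟨y, rfl⟩ := hφ x
    exact ⟨fun ⟨z, hz, hzy⟩ h => hz (show algebraMap P S z ∈ q by rw [hzy]; exact h),
      fun h => ⟨y, h, rfl⟩⟩
  obtain ⟨g, hg, hfp, hflat⟩ := exists_nbhd_fp_flat (S := P) hR (q.comap (algebraMap P S))
    (M := N) (by rw [FlatCA.FlatAt, flat_localized_algebraMap_iff (S := S), hmap]; exact hq)
  refine ⟨φ g, hg, ?_, ?_⟩
  · have h : Module.Flat R (LocalizedModule (Submonoid.powers g) N) := flat_away_of_forall N g hflat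
    rw [flat_localized_algebraMap_iff (S := S), Submonoid.map_powers] at h
    exact h
  obtain ⟨ψ, hψs, hψ⟩ := exists_surjective_away φ hφ g
  let L := LocalizedModule (Submonoid.powers (φ g)) N
  have : Algebra.FinitePresentation R (Localization.Away g) := by
    have : RingHom.FinitePresentation
        ((algebraMap P (Localization.Away g)).comp (algebraMap R P)) :=
      (RingHom.finitePresentation_holdsForLocalizationAway _ g).comp
        (RingHom.finitePresentation_algebraMap.2 inferInstance)
    rw [← IsScalarTower.algebraMap_eq R P (Localization.Away g)] at this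
    exact RingHom.finitePresentation_algebraMap.1 this
  refine (Flatn12.relFP_iff_fpVia ψ hψs).2 ?_
  let _ : Module (Localization.Away g) L := Module.compHom L ψ.toRingHom
  have : IsScalarTower P (Localization.Away g) L := .of_algebraMap_smul fun x l => by
    show ψ (algebraMap P _ x) • l = x • l
    rw [hψ, algebraMap_smul]
    exact algebraMap_smul S x l
  let f := (LocalizedModule.mkLinearMap (Submonoid.powers (φ g)) N).restrictScalars P
  have : IsLocalizedModule (Submonoid.powers g) f :=
    IsLocalizedModule.restrictScalars_powers (A := S) g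
      (h := inferInstanceAs (IsLocalizedModule (Submonoid.powers (φ g))
        (LocalizedModule.mkLinearMap (Submonoid.powers (φ g)) N))) _
  let e : LocalizedModule (Submonoid.powers g) N ≃ₗ[P] L :=
    IsLocalizedModule.iso (Submonoid.powers g) f
  have := hfp
  exact Module.FinitePresentation.of_equiv
    (LinearEquiv.extendScalarsOfIsLocalizationEquiv (Submonoid.powers g) (Localization.Away g) e)

end Groth.Agent.FlatMorDevissage
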