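import Groth.Agent.FlatMorDevissage.FPFlat
import Mathlib.AlgebraicGeometry.Morphisms.SchemeTheoreticallyDominant
import Mathlib.AlgebraicGeometry.Morphisms.FinitePresentation
import Mathlib.AlgebraicGeometry.Morphisms.Flat

/-!
# Flat morphisms of finite type are of finite presentation
-/

set_option autoImplicit false
set_option backward.isDefEq.respectTransparency false

universe u

open CategoryTheory Limits AlgebraicGeometry Function TopologicalSpace

namespace Groth.Agent.FlatMorDevissage

open Groth.Agent

/-- A flat algebra of finite type which is finitely presented on a dense union of basic opens of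
the base is finitely presented. -/
theorem algebra_finitePresentation_of_flat_of_dense {A B : Type u} [CommRing A] [CommRing B]
    [Algebra A B] [Algebra.FiniteType A B] [Module.Flat A B] {n : ℕ} (f : Fin n → A)
    (hdense : Function.Injective (RingHom.pi (fun i => algebraMap A (Localization.Away (f i)))))
    (hfp : ∀ i, Algebra.FinitePresentation A (Localization.Away (algebraMap A B (f i)))) :
    Algebra.FinitePresentation A B := by
  obtain ⟨s, φ, hφ⟩ := Algebra.FiniteType.iff_quotient_mvPolynomial''.1 ‹Algebra.FiniteType A B›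
  let P := MvPolynomial (Fin s) A
  let _ : Algebra P B := φ.toRingHom.toAlgebra
  have : IsScalarTower A P B := .of_algebraMap_eq fun r => (φ.commutes r).symm
  have : Module.Finite P B := Module.Finite.of_surjective (Algebra.linearMap P B) hφ
  have : Module.FinitePresentation P B := by
    refine finitePresentation_of_flat_of_dense (S := P) B f hdense fun i => ?_
    refine (fp_localized_iff (Algebra.linearMap P B) hφ _).2 ?_
    have := hfp i
    let g := algebraMap A P (f i)
    have : Algebra.FinitePresentation A (Localization.Away g) := by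
      have : RingHom.FinitePresentation
          ((algebraMap P (Localization.Away g)).comp (algebraMap A P)) :=
        (RingHom.finitePresentation_holdsForLocalizationAway _ g).comp
          (RingHom.finitePresentation_algebraMap.2 inferInstance)
      rw [← IsScalarTower.algebraMap_eq A P (Localization.Away g)] at this
      exact RingHom.finitePresentation_algebraMap.1 this
    let Bf := Localization.Away (algebraMap A B (f i))
    have hunit : IsUnit (((IsScalarTower.toAlgHom A B Bf).comp φ) g) := by
      rw [AlgHom.comp_apply, AlgHom.commutes, IsScalarTower.toAlgHom_apply]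
      exact IsLocalization.Away.algebraMap_isUnit _
    let ψ : Localization.Away g →ₐ[A] Bf :=
      IsLocalization.liftAlgHom (M := Submonoid.powers g)
        (f := (IsScalarTower.toAlgHom A B Bf).comp φ) fun y => by
          obtain ⟨k, hk⟩ := y.2
          rw [← hk, map_pow]
          exact hunit.pow k
    have hψ : ∀ x : P, ψ (algebraMap P _ x) = algebraMap B Bf (φ x) := fun x =>
      IsLocalization.lift_eq (M := Submonoid.powers g) _ x
    have hsurj : Surjective ψ := by
      intro z
      obtain ⟨⟨b, ⟨_, k, rfl⟩⟩, hz⟩ := IsLocalization.surj (Submonoid.powers (algebraMap A B (f i))) z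
      obtain ⟨x, rfl⟩ := hφ b
      let w : Submonoid.powers g := ⟨g ^ k, k, rfl⟩
      refine ⟨IsLocalization.mk' _ x w, ?_⟩
      have hw : ψ (algebraMap P _ w.1) = algebraMap B Bf (algebraMap A B (f i) ^ k) := by
        rw [hψ]
        show algebraMap B Bf (φ (g ^ k)) = _
        rw [map_pow, AlgHom.commutes]
      refine ((IsLocalization.map_units Bf (⟨algebraMap A B (f i) ^ k, k, rfl⟩ :
        Submonoid.powers (algebraMap A B (f i)))).mul_left_inj).1 ?_
      refine Eq.trans ?_ hz.symm
      show _ = algebraMap B Bf (φ x)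
      rw [← hw, ← map_mul, IsLocalization.mk'_spec, hψ]
    obtain ⟨G, hG⟩ := Algebra.FinitePresentation.ker_fG_of_surjective ψ hsurj
    have hrep : ∀ z : G, ∃ x : P, φ x = 0 ∧
        z.1 ∈ Ideal.span {algebraMap P (Localization.Away g) x} := fun z => by
      obtain ⟨⟨x, t⟩, hzt⟩ := IsLocalization.surj (Submonoid.powers g) z.1
      have h0 : algebraMap B Bf (φ x) = 0 := by
        have hz0 : ψ z.1 = 0 := by
          have : z.1 ∈ RingHom.ker ψ.toRingHom := hG ▸ Submodule.subset_span z.2
          simpa using this
        rw [← hψ, ← hzt, map_mul, hz0, zero_mul]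
      obtain ⟨⟨_, k, rfl⟩, hk⟩ := (IsLocalization.map_eq_zero_iff
        (Submonoid.powers (algebraMap A B (f i))) Bf _).1 h0
      refine ⟨g ^ k * x, ?_, ?_⟩
      · rw [map_mul, map_pow, AlgHom.commutes]
        exact hk
      · rw [map_mul, ← hzt, Ideal.mem_span_singleton]
        have hu1 : IsUnit (algebraMap P (Localization.Away g) (g ^ k)) :=
          IsLocalization.map_units _ (⟨g ^ k, k, rfl⟩ : Submonoid.powers g)
        have hu2 : IsUnit (algebraMap P (Localization.Away g) t.1) := IsLocalization.map_units _ t
        exact (hu1.mul_left_dvd.2 (hu2.mul_right_dvd.2 dvd_rfl))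
    choose x hx0 hxG using hrep
    refine ⟨Ideal.span (Set.range x), Submodule.fg_span (Set.finite_range x), ?_, fun y hy => ?_⟩
    · exact Ideal.span_le.2 (by rintro _ ⟨z, rfl⟩; exact hx0 z)
    have hy' : algebraMap P (Localization.Away g) y ∈
        (Ideal.span (Set.range x)).map (algebraMap P (Localization.Away g)) := by
      have h1 : algebraMap P (Localization.Away g) y ∈ Ideal.span (G : Set (Localization.Away g)) := by
        rw [show Ideal.span (G : Set (Localization.Away g)) = RingHom.ker ψ.toRingHom from hG]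
        show ψ _ = 0
        rw [hψ, show φ y = 0 from hy, map_zero]
      refine Ideal.span_le.2 (fun z hz => ?_) h1
      refine Ideal.span_le.2 ?_ (hxG ⟨z, hz⟩)
      rintro _ rfl
      exact Ideal.mem_map_of_mem _ (Ideal.subset_span ⟨_, rfl⟩)
    obtain ⟨t, ht, hty⟩ := (IsLocalization.algebraMap_mem_map_algebraMap_iff
      (Submonoid.powers g) _ _ y).1 hy'
    exact ⟨t, ht, hty⟩
  refine Algebra.FinitePresentation.of_surjective hφ ?_
  exact Module.FinitePresentation.fg_ker (Algebra.linearMap P B) hφ

/-- Flat and locally of finite type over an integral scheme implies locally of finite presentation. -/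
theorem lfp_of_flat_of_isIntegral {X S : Scheme.{u}} (f : X ⟶ S) [IsIntegral S] [Flat f]
    [LocallyOfFiniteType f] : LocallyOfFinitePresentation f := by
  rw [HasRingHomProperty.iff_appLE (P := @LocallyOfFinitePresentation)]
  intro U V e
  algebraize [(f.appLE U V e).hom]
  have : Algebra.FiniteType Γ(S, U) Γ(X, V) :=
    HasRingHomProperty.appLE (P := @LocallyOfFiniteType) f inferInstance U V e
  have : Module.Flat Γ(S, U) Γ(X, V) :=
    HasRingHomProperty.appLE (P := @Flat) f inferInstance U V e
  refine algebra_finitePresentation_of_flat ?_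
  rcases isEmpty_or_nonempty U with hU | hU
  · have : Subsingleton Γ(S, U) := by
      rw [show (U : S.Opens) = ⊥ from Opens.ext (Set.eq_empty_iff_forall_notMem.2
        fun x hx => hU.false ⟨x, hx⟩)]
      infer_instance
    rw [CAlgH3.weakAss_eq_empty_iff.2 this]
    exact Set.finite_empty
  · exact weakAss_finite_of_isDomain _

/-- Flat, locally of finite type and locally of finite presentation over a quasi-compact
scheme-theoretically dense open implies locally of finite presentation. -/
theorem lfp_of_flat_of_dense {X S : Scheme.{u}} (f : X ⟶ S) [LocallyOfFiniteType f] [Flat f]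
    (U : S.Opens) [QuasiCompact U.ι] [IsSchemeTheoreticallyDominant U.ι]
    [hfp : LocallyOfFinitePresentation (f ∣_ U)] : LocallyOfFinitePresentation f := by
  classical
  rw [HasRingHomProperty.iff_appLE (P := @LocallyOfFinitePresentation)]
  rintro ⟨W, hW⟩ ⟨V, hV⟩ e
  algebraize [(f.appLE W V e).hom]
  have : Algebra.FiniteType Γ(S, W) Γ(X, V) :=
    HasRingHomProperty.appLE (P := @LocallyOfFiniteType) f inferInstance ⟨W, hW⟩ ⟨V, hV⟩ e
  have : Module.Flat Γ(S, W) Γ(X, V) :=
    HasRingHomProperty.appLE (P := @Flat) f inferInstance ⟨W, hW⟩ ⟨V, hV⟩ e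
  have hcpt : IsCompact (U.ι '' (U.ι ⁻¹ᵁ W : Set U.toScheme)) :=
    (U.ι.isCompact_preimage hW.isCompact).image U.ι.continuous
  have hbo : ∀ x : (U ⊓ W : S.Opens), ∃ a : Γ(S, W), S.basicOpen a ≤ U ∧ x.1 ∈ S.basicOpen a :=
    fun x => hW.exists_basicOpen_le (V := U) ⟨x.1, x.2.1⟩ x.2.2
  choose a haU hax using hbo
  have hcover : U.ι '' (U.ι ⁻¹ᵁ W : Set U.toScheme) ⊆
      ⋃ x : (U ⊓ W : S.Opens), (S.basicOpen (a x) : Set S) := by
    rintro _ ⟨y, hy, rfl⟩
    exact Set.mem_iUnion.2 ⟨⟨U.ι y, y.2, hy⟩, hax _⟩
  obtain ⟨T, hT⟩ := hcpt.elim_finite_subcover _ (fun x => (S.basicOpen (a x)).isOpen) hcover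
  let eT := T.equivFin
  refine algebra_finitePresentation_of_flat_of_dense (fun i => a (eT.symm i).1) ?_ fun i => ?_
  · intro r r' hr
    rw [← sub_eq_zero]
    refine U.ι.app_injective W ?_
    rw [map_zero]
    refine (Scheme.sheaf U.toScheme).eq_of_locally_eq'
      (fun x : T => U.ι ⁻¹ᵁ S.basicOpen (a x.1)) _
      (fun x => homOfLE ((Opens.map U.ι.base).map (homOfLE (S.basicOpen_le _))).le) ?_ _ _
      fun x => ?_
    · rintro y hy
      obtain ⟨x, hx, hyx⟩ := Set.mem_iUnion₂.1 (hT ⟨y, hy, rfl⟩)
      exact Opens.mem_iSup.2 ⟨⟨x, hx⟩, hyx⟩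
    have h1 : S.presheaf.map (homOfLE (S.basicOpen_le (a x.1))).op (r - r') = 0 := by
      let := (hW.isLocalization_basicOpen (a x.1))
      have h2 := congrFun hr (eT x)
      rw [RingHom.pi_apply, RingHom.pi_apply, ← sub_eq_zero, ← map_sub,
        IsLocalization.map_eq_zero_iff (Submonoid.powers (a (eT.symm (eT x)).1)), eT.symm_apply_apply] at h2
      exact (IsLocalization.map_eq_zero_iff (Submonoid.powers (a x.1)) Γ(S, S.basicOpen (a x.1)) _).2 h2
    rw [map_zero]
    refine Eq.trans ?_ (congrArg (U.ι.app (S.basicOpen (a x.1))) h1 |>.trans (map_zero _))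
    exact (ConcreteCategory.congr_hom (U.ι.naturality (homOfLE (S.basicOpen_le (a x.1))).op) (r - r')).symm
  · set c := a (eT.symm i).1 with hc
    let D := S.basicOpen c
    have hDU : D ≤ U := haU _
    let W' := X.basicOpen (f.appLE W V e c)
    have hW' : W' = V ⊓ f ⁻¹ᵁ D := Scheme.basicOpen_appLE f V W e c
    have hW'D : W' ≤ f ⁻¹ᵁ D := hW'.trans_le inf_le_right
    have hW'U : W' ≤ f ⁻¹ᵁ U := hW'D.trans (fun y hy => hDU hy)
    have hres : RingHom.FinitePresentation (f.appLE D W' hW'D).hom := by
      have h := HasRingHomProperty.appLE (P := @LocallyOfFinitePresentation) (f ∣_ U) hfp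
        ⟨U.ι ⁻¹ᵁ D, (hW.basicOpen c).preimage_of_isOpenImmersion _ (by simpa using hDU)⟩
        ⟨(f ⁻¹ᵁ U).ι ⁻¹ᵁ W', (hV.basicOpen _).preimage_of_isOpenImmersion _ (by
          intro y hy; exact ⟨⟨y, hW'U hy⟩, rfl⟩)⟩
        (fun y hy => by
          show (f ∣_ U) y ∈ U.ι ⁻¹ᵁ D
          show U.ι ((f ∣_ U) y) ∈ D
          rw [← Scheme.Hom.comp_apply, morphismRestrict_ι, Scheme.Hom.comp_apply]
          exact hW'D hy)
      rw [morphismRestrict_appLE] at h
      refine (Scheme.Hom.appLE_congr f _ ?_ ?_
        (fun {R S} φ => RingHom.FinitePresentation φ.hom)).1 h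
      · exact (U.ι.image_preimage_eq_opensRange_inf D).trans (by simpa using hDU)
      · exact ((f ⁻¹ᵁ U).ι.image_preimage_eq_opensRange_inf W').trans (by simpa using hW'U)
    have : IsLocalization.Away c Γ(S, D) := hW.isLocalization_basicOpen c
    have hres' : RingHom.FinitePresentation (f.appLE W W' (hW'D.trans
        (fun y hy => S.basicOpen_le c hy))).hom := by
      rw [← Scheme.Hom.map_appLE f hW'D (homOfLE (S.basicOpen_le c)).op, CommRingCat.hom_comp]
      exact hres.comp (RingHom.finitePresentation_holdsForLocalizationAway Γ(S, D) c)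
    have hloc : IsLocalization.Away (algebraMap Γ(S, W) Γ(X, V) c) Γ(X, W') :=
      hV.isLocalization_basicOpen (f.appLE W V e c)
    rw [← Scheme.Hom.appLE_map f e (homOfLE (X.basicOpen_le (f.appLE W V e c))).op,
      CommRingCat.hom_comp] at hres'
    rw [← RingHom.finitePresentation_algebraMap]
    let eq := IsLocalization.algEquiv (Submonoid.powers (algebraMap Γ(S, W) Γ(X, V) c))
      Γ(X, W') (Localization.Away (algebraMap Γ(S, W) Γ(X, V) c))
    have hfin := RingHom.finitePresentation_respectsIso.1 _ eq.toRingEquiv hres'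
    convert hfin using 1
    ext r
    exact ((IsScalarTower.algebraMap_apply Γ(S, W) Γ(X, V) _ r)).trans (eq.commutes _).symm

end Groth.Agent.FlatMorDevissage
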