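import Groth.Agent.FlatMorDevissage.Local
import Groth.Agent.FlatMorDevissage.FPTransfer

/-!
# From an etale neighbourhood to a basic open
-/

set_option autoImplicit false
set_option backward.isDefEq.respectTransparency false

universe u

open TensorProduct Function

namespace Groth.Agent.FlatMorDevissage

open Groth.Agent

/-- Flatness and finite presentation descend from an etale algebra to a basic open in its image. -/
theorem exists_away_of_etale {A SA C : Type u} [CommRing A] [CommRing SA] [CommRing C] [Algebra A SA]
    [Algebra SA C] [Algebra.Etale SA C] [Algebra A C] [IsScalarTower A SA C] (NA : Type u)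
    [AddCommGroup NA] [Module SA NA] [Module A NA] [IsScalarTower A SA NA] [Module.Finite SA NA]
    (x : Ideal C) [x.IsPrime] [Module.Flat A (C ⊗[SA] NA)] :
    ∃ g ∉ x.comap (algebraMap SA C),
      Module.Flat A (LocalizedModule (Submonoid.powers g) NA) ∧
      (Module.FinitePresentation C (C ⊗[SA] NA) →
        Module.FinitePresentation (Localization.Away g) (LocalizedModule (Submonoid.powers g) NA)) := by
  have hopen := PrimeSpectrum.isOpenMap_comap_of_hasGoingDown_of_finitePresentation
    (R := SA) (S := C) _ isOpen_univ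
  obtain ⟨_, ⟨g, rfl⟩, hgx, hsub⟩ :=
    PrimeSpectrum.isTopologicalBasis_basic_opens.exists_subset_of_mem_open
      (show PrimeSpectrum.comap (algebraMap SA C) ⟨x, inferInstance⟩ ∈
        PrimeSpectrum.comap (algebraMap SA C) '' (Set.univ : Set (PrimeSpectrum C))
        from ⟨_, trivial, rfl⟩) hopen
  refine ⟨g, hgx, (flat_away_iff g).2 fun P hP hgP => ?_, fun hfp => ?_⟩
  · obtain ⟨P', -, hP'⟩ := hsub (show (⟨P, hP⟩ : PrimeSpectrum SA) ∈ PrimeSpectrum.basicOpen g from hgP)
    have e : P'.asIdeal.comap (algebraMap SA C) = P := congrArg PrimeSpectrum.asIdeal hP'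
    subst e
    refine (flatAt_baseChange_iff (TensorProduct.isBaseChange SA NA C) P'.asIdeal).1 ?_
    refine (flatAt_iff_kerKilled P'.asIdeal).2 fun X Y _ _ _ _ i hi y hy =>
      ⟨1, Ideal.one_notMem P'.asIdeal, ?_⟩
    rw [one_smul]
    exact Module.Flat.lTensor_preserves_injective_linearMap (M := C ⊗[SA] NA) i hi
      (hy.trans (map_zero _).symm)
  · refine fp_localized_of_baseChange (T' := Submonoid.powers (algebraMap SA C g))
      (TensorProduct.isBaseChange SA NA C) (fun P hP hd => ?_) ?_
    · have hgP : g ∉ P := fun h => Set.disjoint_left.1 hd (Submonoid.mem_powers g) h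
      obtain ⟨P', -, hP'⟩ :=
        hsub (show (⟨P, hP⟩ : PrimeSpectrum SA) ∈ PrimeSpectrum.basicOpen g from hgP)
      have e : P'.asIdeal.comap (algebraMap SA C) = P := congrArg PrimeSpectrum.asIdeal hP'
      refine ⟨P'.asIdeal, P'.isPrime, Set.disjoint_left.2 ?_, e⟩
      rintro _ ⟨k, rfl⟩ hk
      exact hgP (e ▸ P'.isPrime.mem_of_pow_mem k hk)
    · exact inferInstance

/-- Flatness at a point spreads to a basic open over the local ring of an etale neighbourhood. -/
theorem exists_flat_away_local {R S : Type u} [CommRing R] [CommRing S] [Algebra R S]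
    [Algebra.FiniteType R S] (N : Type u) [AddCommGroup N] [Module S N] [Module R N]
    [IsScalarTower R S N] [Module.Finite S N] (p : Ideal R) [p.IsPrime] (q : Ideal S) [q.IsPrime]
    [q.LiesOver p] (hflat : FlatCA.FlatAt R q N) :
    ∃ (R' : Type u) (_ : CommRing R') (_ : Algebra R R') (p' : Ideal R') (_ : p'.IsPrime),
      FlatCA.IsEtaleNhd R R' p p' ∧
      ∀ (SA NA : Type u) [CommRing SA] [Algebra R SA] [Algebra S SA]
        [Algebra (Localization.AtPrime p') SA]
        [IsScalarTower R S SA] [IsScalarTower R (Localization.AtPrime p') SA]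
        [Algebra.IsPushout R S (Localization.AtPrime p') SA]
        [AddCommGroup NA] [Module SA NA] [Module S NA] [IsScalarTower S SA NA]
        [Module (Localization.AtPrime p') NA] [IsScalarTower (Localization.AtPrime p') SA NA]
        (f : N →ₗ[S] NA), IsBaseChange SA f →
        ∃ g : SA, (∀ (Q : Ideal SA) [Q.IsPrime], Q.LiesOver q →
            Q.LiesOver (IsLocalRing.maximalIdeal (Localization.AtPrime p')) → g ∉ Q) ∧
          Module.Flat (Localization.AtPrime p') (LocalizedModule (Submonoid.powers g) NA) ∧
          (Algebra.FinitePresentation R S →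
            Module.FinitePresentation (Localization.Away g)
              (LocalizedModule (Submonoid.powers g) NA)) := by
  obtain ⟨R', _, _, p', _, hR, hmain⟩ := exists_free_etale_local N p q hflat
  refine ⟨R', inferInstance, inferInstance, p', inferInstance, hR, ?_⟩
  intro SA NA _ _ _ _ _ _ _ _ _ _ _ _ _ f hf
  obtain ⟨C, _, _, _, _, x, _, hCe, hxq, hxm, hfree, hfp, -⟩ := hmain SA NA f hf
  have : Module.Finite SA NA := Module.Finite.of_surjective hf.equiv.toLinearMap hf.equiv.surjective
  obtain ⟨g, hg, hgflat, hgfp⟩ :=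
    exists_away_of_etale (A := Localization.AtPrime p') (SA := SA) (C := C) NA x
  obtain ⟨_, hpA⟩ := bijective_residueField_localRing hR
  refine ⟨g, fun Q hQ hQq hQm => ?_, hgflat, fun h => hgfp (hfp h)⟩
  have : Algebra.IsPushout R (Localization.AtPrime p') S SA := Algebra.IsPushout.symm ‹_›
  rw [eq_of_isPushout p (IsLocalRing.maximalIdeal (Localization.AtPrime p')) hpA Q
    (x.comap (algebraMap SA C)) (hQq.over.symm.trans hxq.over)]
  exact hg

end Groth.Agent.FlatMorDevissage
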