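import Groth.Agent.FlatMorDevissage.Cover
import Groth.Agent.FlatMorDevissage.LocalApps

/-!
# Flatness along a fibre, over the local ring of one etale neighbourhood
-/

set_option autoImplicit false
set_option backward.isDefEq.respectTransparency false

universe u

open TensorProduct Function

namespace Groth.Agent.FlatMorDevissage

open Groth.Agent

/-- Flatness along the fibre gives basic opens over the local ring of one etale neighbourhood. -/
theorem exists_flat_away_fibre {R S : Type u} [CommRing R] [CommRing S] [Algebra R S]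
    [Algebra.FiniteType R S] (N : Type u) [AddCommGroup N] [Module S N] [Module R N]
    [IsScalarTower R S N] [Module.Finite S N] (p : Ideal R) [p.IsPrime]
    (hflat : ∀ (q : Ideal S) [q.IsPrime], q.LiesOver p → FlatCA.FlatAt R q N) :
    ∃ (R' : Type u) (_ : CommRing R') (_ : Algebra R R') (p' : Ideal R') (_ : p'.IsPrime),
      FlatCA.IsEtaleNhd R R' p p' ∧
      ∀ (SA NA : Type u) [CommRing SA] [Algebra R SA] [Algebra S SA]
        [Algebra (Localization.AtPrime p') SA]
        [IsScalarTower R S SA] [IsScalarTower R (Localization.AtPrime p') SA]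
        [Algebra.IsPushout R S (Localization.AtPrime p') SA]
        [AddCommGroup NA] [Module SA NA] [Module S NA] [IsScalarTower S SA NA]
        [Module (Localization.AtPrime p') NA] [IsScalarTower (Localization.AtPrime p') SA NA]
        (f : N →ₗ[S] NA), IsBaseChange SA f →
        ∀ (Q : Ideal SA) [Q.IsPrime],
          Q.LiesOver (IsLocalRing.maximalIdeal (Localization.AtPrime p')) →
        ∃ g : SA, g ∉ Q ∧
          Module.Flat (Localization.AtPrime p') (LocalizedModule (Submonoid.powers g) NA) ∧
          (Algebra.FinitePresentation R S →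
            Module.FinitePresentation (Localization.Away g)
              (LocalizedModule (Submonoid.powers g) NA)) := by
  obtain ⟨R', _, _, p', _, k, C₀, _, _, _, _, _, _, hR, hC₀, hcov⟩ :=
    exists_chain_cover (R := R) (S := S) N p
  refine ⟨R', inferInstance, inferInstance, p', inferInstance, hR, ?_⟩
  intro SA NA _ _ _ _ _ _ _ _ _ _ _ _ _ f hf Q _ hQ
  obtain ⟨_, hpA⟩ := bijective_residueField_localRing hR
  obtain ⟨he, ho, hb⟩ := id hR
  have hq : (Q.comap (algebraMap S SA)).LiesOver p := ⟨by
    rw [Ideal.under, Ideal.comap_comap, ← IsScalarTower.algebraMap_eq,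
      IsScalarTower.algebraMap_eq R (Localization.AtPrime p') SA, ← Ideal.comap_comap]
    exact ((IsLocalRing.maximalIdeal (Localization.AtPrime p')).over_def p).trans
      (congrArg _ hQ.over)⟩
  obtain ⟨i, Q', hQ', hQ'p, hQ'q⟩ := hcov _ hq
  obtain ⟨hCe, hCp⟩ := hC₀ i
  obtain ⟨C, _, _, _, _, hC, hx, hzero, hfree⟩ := exists_piece_local (S' := C₀ i) N hR SA NA f hf
  obtain ⟨x, _, hxq, hxm, -⟩ := hx Q' hQ'p
  have hmain : Module.Free (Localization.AtPrime p') (C ⊗[SA] NA) ∧
      (Algebra.FinitePresentation R S → Module.FinitePresentation C (C ⊗[SA] NA)) := by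
    rcases hCp (C₀ i ⊗[S] N) (TensorProduct.mk S (C₀ i) N 1)
      (TensorProduct.isBaseChange S N (C₀ i)) with h | ⟨q'', _, hq'', hch⟩
    · have := hzero h
      exact ⟨inferInstance, fun _ => inferInstance⟩
    · refine (fun h => ⟨h.1, h.2.1⟩) (hfree q'' hq'' hch (hflat _ ⟨?_⟩))
      rw [Ideal.under, Ideal.comap_comap, ← IsScalarTower.algebraMap_eq,
        IsScalarTower.algebraMap_eq R R' (C₀ i), ← Ideal.comap_comap]
      exact ho.over.trans (congrArg _ hq''.over)
  have := hmain.1
  have : Module.Finite SA NA := Module.Finite.of_surjective hf.equiv.toLinearMap hf.equiv.surjective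
  obtain ⟨g, hg, hgflat, hgfp⟩ :=
    exists_away_of_etale (A := Localization.AtPrime p') (SA := SA) (C := C) NA x
  refine ⟨g, fun hgQ => hg ?_, hgflat, fun h => hgfp (hmain.2 h)⟩
  have : Algebra.IsPushout R (Localization.AtPrime p') S SA := Algebra.IsPushout.symm ‹_›
  rw [eq_of_isPushout (S := S) p (IsLocalRing.maximalIdeal (Localization.AtPrime p')) hpA
    (x.comap (algebraMap SA C)) Q ((hxq.over.symm).trans hQ'q)]
  exact hgQ

end Groth.Agent.FlatMorDevissage
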