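import Groth.Agent.FlatMorDevissage.InjMod
import Groth.Agent.FlatMorDevissage.IntegralProjective
import Groth.Agent.FlatCxLib.Algebra

/-!
# A basis of the generic fibre of the closed fibre tests flatness (local base)
-/

set_option autoImplicit false
set_option backward.isDefEq.respectTransparency false

universe u

open TensorProduct Function IsLocalRing

namespace Groth.Agent.FlatMorDevissage

open Groth.Agent

/-- `reflects_of_free` for projective sources. -/
theorem reflects_of_projective {R : Type u} [CommRing R] [IsLocalRing R] {P M : Type u}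
    [AddCommGroup P] [Module R P] [Module.Projective R P] [AddCommGroup M] [Module R M]
    [Module.Flat R M] (u : P →ₗ[R] M) (h : ModInj u) : Reflects u := by
  obtain ⟨s, hs⟩ := (Module.projective_def (R := R) (P := P)).1 inferInstance
  let π : (P →₀ R) →ₗ[R] P := Finsupp.linearCombination R id
  let u' : (P →₀ R) →ₗ[R] M × (P →₀ R) := (u ∘ₗ π).prod (LinearMap.id - s ∘ₗ π)
  have hsmul : ∀ (J : Ideal R) (z : M × (P →₀ R)),
      z ∈ J • (⊤ : Submodule R (M × (P →₀ R))) →
      z.1 ∈ J • (⊤ : Submodule R M) ∧ z.2 ∈ J • (⊤ : Submodule R (P →₀ R)) := fun J z hz =>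
    ⟨(Submodule.map_smul'' J ⊤ (LinearMap.fst R M (P →₀ R))).trans_le
        (Submodule.smul_mono le_rfl le_top) (Submodule.mem_map_of_mem hz),
      (Submodule.map_smul'' J ⊤ (LinearMap.snd R M (P →₀ R))).trans_le
        (Submodule.smul_mono le_rfl le_top) (Submodule.mem_map_of_mem hz)⟩
  have hu' : ModInj u' := fun z hz => by
    obtain ⟨h1, h2⟩ := hsmul _ _ hz
    have h3 : s (π z) ∈ maximalIdeal R • (⊤ : Submodule R (P →₀ R)) :=
      (Submodule.map_smul'' _ ⊤ s).trans_le (Submodule.smul_mono le_rfl le_top)
        (Submodule.mem_map_of_mem (h (π z) h1))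
    simpa [u'] using add_mem h2 h3
  have : Module.Flat R (M × (P →₀ R)) :=
    FlatCxLib.flat_of_exact_mid (LinearMap.inl R M (P →₀ R)) (LinearMap.snd R M (P →₀ R))
      (Function.Exact.inl_snd) LinearMap.snd_surjective LinearMap.inl_injective
  intro J x hx
  have hπs : π (s x) = x := hs x
  have hsx : u' (s x) ∈ J • (⊤ : Submodule R (M × (P →₀ R))) := by
    have : u' (s x) = LinearMap.inl R M (P →₀ R) (u x) := by simp [u', hπs]
    rw [this]
    exact (Submodule.map_smul'' J ⊤ (LinearMap.inl R M (P →₀ R))).trans_le
      (Submodule.smul_mono le_rfl le_top) (Submodule.mem_map_of_mem hx)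
  have := reflects_of_free u' ((modInj_iff u').1 hu') J (s x) hsx
  rw [← hπs]
  exact (Submodule.map_smul'' J ⊤ π).trans_le (Submodule.smul_mono le_rfl le_top)
    (Submodule.mem_map_of_mem this)

variable {R D G : Type u} [CommRing R] [IsLocalRing R] [CommRing D] [Algebra R D] [AddCommGroup G]
  [Module D G] [Module R G] [IsScalarTower R D G]

theorem mem_smul_top_pi {r : ℕ} (x : Fin r → D)
    (hx : ∀ i, x i ∈ (maximalIdeal R).map (algebraMap R D)) :
    x ∈ maximalIdeal R • (⊤ : Submodule R (Fin r → D)) := by
  rw [← Finset.univ_sum_single x]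
  refine Submodule.sum_mem _ fun i _ => ?_
  have h : x i ∈ maximalIdeal R • (⊤ : Submodule R D) := by
    rw [Ideal.smul_top_eq_map]
    exact hx i
  exact (Submodule.map_smul'' (maximalIdeal R) ⊤ (LinearMap.single R (fun _ : Fin r => D) i)).trans_le
    (Submodule.smul_mono le_rfl le_top) (Submodule.mem_map_of_mem h)

omit [IsLocalRing R] in
theorem projective_pi [Module.Projective R D] (r : ℕ) : Module.Projective R (Fin r → D) :=
  Module.Projective.of_equiv (DirectSum.linearEquivFunOnFintype R (Fin r) fun _ => D)

omit [IsLocalRing R] in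
theorem flat_pi [Module.Flat R D] (r : ℕ) : Module.Flat R (Fin r → D) :=
  Module.Flat.of_linearEquiv (DirectSum.linearEquivFunOnFintype R (Fin r) fun _ => D).symm

variable [Module.Projective R D] [((maximalIdeal R).map (algebraMap R D)).IsPrime]

/-- An element outside `𝔪 D` is universally regular on free modules. -/
theorem eq_zero_of_smul_fibre {c : D} (hc : c ∉ (maximalIdeal R).map (algebraMap R D)) {r : ℕ}
    {x : Fin r → D} (hx : c • x = 0) : x = 0 := by
  have := projective_pi (R := R) (D := D) r
  have hr := reflects_of_projective ((LinearMap.lsmul D (Fin r → D) c).restrictScalars R) fun y hy => by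
    refine mem_smul_top_pi y fun i => ?_
    have h1 := (Submodule.map_smul'' (maximalIdeal R) ⊤
      (LinearMap.proj (R := R) (φ := fun _ : Fin r => D) i)).trans_le
      (Submodule.smul_mono le_rfl le_top) (Submodule.mem_map_of_mem hy)
    rw [Ideal.smul_top_eq_map, Submodule.restrictScalars_mem] at h1
    exact (Ideal.IsPrime.mem_or_mem ‹_› h1).resolve_left hc
  exact hr.injective (hx.trans (smul_zero c).symm)

/-- Flatness at `y` of the target makes `α` universally injective and the cokernel flat at `y`. -/
theorem key_projective (y : Ideal D) [y.IsPrime] (hy : (maximalIdeal R).map (algebraMap R D) ≤ y)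
    {r : ℕ} (α : (Fin r → D) →ₗ[D] G)
    (hα : Injective (α.baseChange ((maximalIdeal R).map (algebraMap R D)).ResidueField))
    (hflat : FlatCA.FlatAt R y G) :
    Injective α ∧ FlatCA.UnivInj R (α.restrictScalars R) ∧
      FlatCA.FlatAt R y (G ⧸ LinearMap.range α) := by
  have : Module.Flat R (LocalizedModule y.primeCompl G) := hflat
  have := projective_pi (R := R) (D := D) r
  let mk := (LocalizedModule.mkLinearMap y.primeCompl G).restrictScalars R
  let u : (Fin r → D) →ₗ[R] LocalizedModule y.primeCompl G := mk ∘ₗ α.restrictScalars R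
  have hu : ModInj u := by
    intro x hx
    obtain ⟨c, hc, hcm⟩ := exists_smul_mem_of_mk_mem y.primeCompl _ (α x) hx
    let K := ((maximalIdeal R).map (algebraMap R D)).ResidueField
    have h0 : ∀ g ∈ maximalIdeal R • (⊤ : Submodule R G), (1 : K) ⊗ₜ[D] g = 0 := by
      intro g hg
      refine Submodule.smul_induction_on hg (fun a ha w _ => ?_)
        fun v w hv hw => by rw [tmul_add, hv, hw, add_zero]
      rw [← algebraMap_smul D a w, ← TensorProduct.smul_tmul, Algebra.smul_def, mul_one,
        (Ideal.algebraMap_residueField_eq_zero).2 (Ideal.mem_map_of_mem _ ha), zero_tmul]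
    have h1 : algebraMap D K c • α.baseChange K ((1 : K) ⊗ₜ x) = 0 := by
      rw [LinearMap.baseChange_tmul, algebraMap_smul, ← tmul_smul]
      exact h0 _ hcm
    have hcK : algebraMap D K c ≠ 0 := fun h => hc (hy (Ideal.algebraMap_residueField_eq_zero.1 h))
    have h2 : (1 : K) ⊗ₜ[D] x = 0 :=
      hα (((smul_eq_zero.1 h1).resolve_left hcK).trans (map_zero _).symm)
    refine mem_smul_top_pi x fun i => ?_
    have h3 := congrArg (fun w => TensorProduct.rid D K
      ((LinearMap.proj (R := D) (φ := fun _ : Fin r => D) i).lTensor K w)) h2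
    simp only [LinearMap.lTensor_tmul, LinearMap.proj_apply, TensorProduct.rid_tmul, map_zero] at h3
    rw [Algebra.smul_def, mul_one] at h3
    exact Ideal.algebraMap_residueField_eq_zero.1 h3
  have hr := reflects_of_projective u hu
  have hinj : Injective α := fun a b hab => hr.injective (congrArg mk hab)
  refine ⟨hinj, fun Q _ _ => ?_, ?_⟩
  · have h := hr.univInj Q
    rw [LinearMap.lTensor_comp] at h
    exact Injective.of_comp (f := mk.lTensor Q) h
  · let αy := (LocalizedModule.map y.primeCompl α).restrictScalars R
    let gy := (LocalizedModule.map y.primeCompl (LinearMap.range α).mkQ).restrictScalars R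
    have hex : Exact αy gy :=
      LocalizedModule.map_exact _ α _ (LinearMap.exact_map_mkQ_range α)
    have hgy : Surjective gy := LocalizedModule.map_surjective _ _ (Submodule.mkQ_surjective _)
    have hry : Reflects αy := by
      intro J z hz
      induction z using LocalizedModule.induction_on with
      | h x s =>
        have hz' : u x ∈ J • (⊤ : Submodule R (LocalizedModule y.primeCompl G)) := by
          have := smul_mem_smul_top J (s : D) hz
          convert this using 1
          show LocalizedModule.mk (α x) 1 = (s : D) • LocalizedModule.map y.primeCompl α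
            (LocalizedModule.mk x s)
          rw [LocalizedModule.map_mk, LocalizedModule.smul'_mk, LocalizedModule.mk_eq]
          exact ⟨1, by simp [Submonoid.smul_def]⟩
        let ψ : (Fin r → D) →ₗ[R] LocalizedModule y.primeCompl (Fin r → D) :=
          { toFun := fun w => LocalizedModule.mk w s
            map_add' := fun a b => by
              rw [LocalizedModule.mk_add_mk, LocalizedModule.mk_eq]
              exact ⟨1, by simp only [one_smul, Submonoid.smul_def, smul_add, mul_smul]⟩
            map_smul' := fun a w => by simp [LocalizedModule.smul'_mk] }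
        exact (Submodule.map_smul'' J ⊤ ψ).trans_le (Submodule.smul_mono le_rfl le_top)
          (Submodule.mem_map_of_mem (hr J x hz'))
    have := hry.flat_coker
    exact Module.Flat.of_linearEquiv (hex.linearEquivOfSurjective hgy).symm

omit [Module.Projective R D] [((maximalIdeal R).map (algebraMap R D)).IsPrime] [IsLocalRing R] in
/-- Localisation of an injective map with flat cokernel at a point. -/
theorem flatAt_of_injective_of_flat_coker [Module.Flat R D] (y : Ideal D) [y.IsPrime] {r : ℕ}
    (α : (Fin r → D) →ₗ[D] G) (hα : Injective (LocalizedModule.map y.primeCompl α))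
    (hC : FlatCA.FlatAt R y (G ⧸ LinearMap.range α)) : FlatCA.FlatAt R y G := by
  have := flat_pi (R := R) (D := D) r
  have : Module.Flat R (LocalizedModule y.primeCompl (Fin r → D)) :=
    (flatAt_iff_kerKilled y).2 fun _ _ _ _ _ _ i hi x hx => ⟨1, Ideal.one_notMem y, by
      rw [one_smul]
      exact Module.Flat.lTensor_preserves_injective_linearMap (M := Fin r → D) i hi
        (hx.trans (map_zero _).symm)⟩
  have : Module.Flat R (LocalizedModule y.primeCompl (G ⧸ LinearMap.range α)) := hC
  exact FlatCxLib.flat_of_exact_mid ((LocalizedModule.map y.primeCompl α).restrictScalars R)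
    ((LocalizedModule.map y.primeCompl (LinearMap.range α).mkQ).restrictScalars R)
    (LocalizedModule.map_exact _ α _ (LinearMap.exact_map_mkQ_range α))
    (LocalizedModule.map_surjective _ _ (Submodule.mkQ_surjective _)) hα

omit [Algebra R D] [Module.Projective R D] [((maximalIdeal R).map (algebraMap R D)).IsPrime] [IsLocalRing R] [Module R G] [IsScalarTower R D G] [CommRing R] in
/-- Surjective at the residue field implies surjective on the localisation. -/
theorem surjective_localized_of_residue [Module.Finite D G] (P : Ideal D) [P.IsPrime] {r : ℕ}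
    (α : (Fin r → D) →ₗ[D] G) (hα : Surjective (α.baseChange P.ResidueField)) :
    Surjective (LocalizedModule.map P.primeCompl α) := by
  let C := G ⧸ LinearMap.range α
  have hsub : Subsingleton (TensorProduct D P.ResidueField C) := by
    refine subsingleton_of_forall_eq 0 fun x => ?_
    obtain ⟨y, rfl⟩ := LinearMap.lTensor_surjective _ (Submodule.mkQ_surjective (LinearMap.range α)) x
    obtain ⟨z, rfl⟩ := hα y
    show LinearMap.lTensor _ (Submodule.mkQ _) (LinearMap.lTensor _ α z) = 0
    rw [← LinearMap.lTensor_comp_apply, LinearMap.range_mkQ_comp, LinearMap.lTensor_zero,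
      LinearMap.zero_apply]
  have hns : ¬ Module.annihilator D C ≤ P := fun hle => by
    have h1 : (⟨⊥, Ideal.isPrime_bot⟩ : PrimeSpectrum P.ResidueField) ∈
        Module.support P.ResidueField (TensorProduct D P.ResidueField C) := by
      rw [FlatCrit.mem_support_baseChange_iff, Module.mem_support_iff_of_finite,
        PrimeSpectrum.comap_asIdeal, ← RingHom.ker_eq_comap_bot, Ideal.ker_algebraMap_residueField]
      exact hle
    rw [(Module.support_eq_empty_iff (R := P.ResidueField)
      (M := TensorProduct D P.ResidueField C)).2 hsub] at h1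
    exact h1
  obtain ⟨c, hcC, hcP⟩ := SetLike.not_le_iff_exists.1 hns
  intro z
  induction z using LocalizedModule.induction_on with
  | h g s =>
    obtain ⟨x, hx⟩ : c • g ∈ LinearMap.range α :=
      (Submodule.Quotient.mk_eq_zero _).1 (Module.mem_annihilator.1 hcC (Submodule.Quotient.mk g))
    refine ⟨LocalizedModule.mk x (⟨c, hcP⟩ * s), ?_⟩
    rw [LocalizedModule.map_mk, hx]
    exact LocalizedModule.mk_cancel_common_left ⟨c, hcP⟩ s g

end Groth.Agent.FlatMorDevissage
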