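import Groth.Agent.FlatMorDevissage.FPFlat
import Groth.Agent.FlatMorDevissage.LocalUniv
import Groth.Agent.FlatMorDevissage.AssCover
import Groth.Agent.EGA43.FlatDescent.Model

/-!
# Fibrewise regular elements on finite modules flat at a prime
-/

set_option autoImplicit false
set_option backward.isDefEq.respectTransparency false

universe u

open TensorProduct Function

namespace Groth.Agent.FlatMorDevissage

open Groth.Agent Groth.Agent.EGA43 EGA43.InjFibre

attribute [local instance] Algebra.TensorProduct.rightAlgebra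

theorem smul_top_restrict {A B N : Type u} [CommRing A] [CommRing B] [Algebra A B] [AddCommGroup N]
    [Module B N] [Module A N] [IsScalarTower A B N] (p : Ideal A) (n : N) :
    n ∈ p • (⊤ : Submodule A N) ↔ n ∈ p.map (algebraMap A B) • (⊤ : Submodule B N) := by
  rw [← Submodule.restrictScalars_top A B N, ← Ideal.smul_restrictScalars]
  rfl

theorem map_mem_smul_top {B N N' : Type u} [CommRing B] [AddCommGroup N] [Module B N]
    [AddCommGroup N'] [Module B N'] (φ : N →ₗ[B] N') (J : Ideal B) {n : N}
    (hn : n ∈ J • (⊤ : Submodule B N)) : φ n ∈ J • (⊤ : Submodule B N') :=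
  (Submodule.map_smul'' J ⊤ φ).trans_le (Submodule.smul_mono le_rfl le_top)
    (Submodule.mem_map_of_mem hn)

set_option maxHeartbeats 800000 in
theorem uInjAt_lsmul_fp {A B : Type u} [CommRing A] [CommRing B] [Algebra A B]
    [Algebra.FinitePresentation A B] {N : Type u} [AddCommGroup N] [Module B N] [Module A N]
    [IsScalarTower A B N] [Module.Finite B N] (t : PrimeSpectrum B)
    (hflat : FlatCA.FlatAt A t.asIdeal N) (s : B) (h : FibInjAt A B (LinearMap.lsmul B N s) t) :
    UInjAt A B (LinearMap.lsmul B N s) t := by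
  let T := t.asIdeal.primeCompl
  let Nt := LocalizedModule T N
  let j : N →ₗ[B] Nt := LocalizedModule.mkLinearMap T N
  have : Module.FinitePresentation (Localization T) Nt := fp_localization_of_flatAt N t.asIdeal hflat
  obtain ⟨N₀, _, _, φ, _, hloc⟩ :=
    EGA43.Cons.exists_fp_model_module (C := B) (S' := Localization T) (M := Nt) T
  let _ : Module A N₀ := Module.compHom N₀ (algebraMap A B)
  have : IsScalarTower A B N₀ := .of_algebraMap_smul fun _ _ => rfl
  have hA₀ : Module.Flat A (LocalizedModule T N₀) :=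
    @Module.Flat.of_linearEquiv A Nt (LocalizedModule T N₀) _ _ _ _ _ hflat
      ((IsLocalizedModule.iso T φ).restrictScalars A)
  have hfib : FibInjAt A B (LinearMap.lsmul B N₀ s) t := by
    rintro n₀ ⟨c, hc, hcn⟩
    rw [smul_top_restrict (B := B)] at hcn
    obtain ⟨⟨n, c₁⟩, hn⟩ := IsLocalizedModule.surj T j (φ n₀)
    have hn' : (c₁ : B) • φ n₀ = j n := hn
    have h1 : j (c • s • n) ∈ (t.asIdeal.comap (algebraMap A B)).map (algebraMap A B) •
        (⊤ : Submodule B Nt) := by
      rw [map_smul, map_smul, ← hn', smul_comm s, smul_comm c, ← map_smul, ← map_smul]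
      exact Submodule.smul_mem _ _ (map_mem_smul_top φ _ hcn)
    obtain ⟨c₂, hc₂⟩ := exists_smul_mem_of_map_mem T j _ _ h1
    obtain ⟨d, hd, hdn⟩ := h n ⟨c₂ * c, T.mul_mem c₂.2 hc, by
      rw [smul_top_restrict (B := B), mul_smul, LinearMap.lsmul_apply]
      exact hc₂⟩
    rw [smul_top_restrict (B := B)] at hdn
    have h2 := map_mem_smul_top j _ hdn
    rw [map_smul, ← hn', smul_smul, ← map_smul] at h2
    obtain ⟨c₃, hc₃⟩ := exists_smul_mem_of_map_mem T φ _ _ h2
    refine ⟨(c₃ : B) * (d * (c₁ : B)), T.mul_mem c₃.2 (T.mul_mem hd c₁.2), ?_⟩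
    rw [smul_top_restrict (B := B), mul_smul]
    exact hc₃
  have hU := uInjAt_of_fibInjAt hA₀ hfib
  intro X _ _ z hz
  let jX := AlgebraTensorModule.rTensor A X j
  let φX := AlgebraTensorModule.rTensor A X φ
  have : IsLocalizedModule T φX := inferInstance
  have : IsLocalizedModule T jX := inferInstance
  have hls : ∀ {L : Type u} [AddCommGroup L] [Module B L] [Module A L] [IsScalarTower A B L]
      (y : L ⊗[A] X), AlgebraTensorModule.rTensor A X (LinearMap.lsmul B L s) y = s • y := fun y => by
    induction y using TensorProduct.induction_on with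
    | zero => simp
    | tmul a b => rw [AlgebraTensorModule.rTensor_tmul, TensorProduct.smul_tmul']; rfl
    | add a b ha hb => rw [map_add, ha, hb, smul_add]
  rw [hls] at hz
  obtain ⟨⟨z₀, c₁⟩, hz₀⟩ := IsLocalizedModule.surj T φX (jX z)
  have hz₀' : (c₁ : B) • jX z = φX z₀ := hz₀
  have h1 : φX (s • z₀) = 0 := by
    rw [map_smul, ← hz₀', smul_comm, ← map_smul, hz, map_zero, smul_zero]
  obtain ⟨c, hc⟩ := (IsLocalizedModule.eq_zero_iff T φX).1 h1
  obtain ⟨d, hd, hdz⟩ := hU ((c : B) • z₀) (by
    rw [hls, smul_comm]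
    exact hc)
  have h2 : jX ((d * c * c₁ : B) • z) = 0 := by
    rw [map_smul, mul_smul, hz₀', ← map_smul, mul_smul, hdz, map_zero]
  obtain ⟨e, he⟩ := (IsLocalizedModule.eq_zero_iff T jX).1 h2
  refine ⟨(e : B) * (d * c * c₁), T.mul_mem e.2 (T.mul_mem (T.mul_mem hd c.2) c₁.2), ?_⟩
  rw [mul_smul]
  exact he

set_option maxHeartbeats 800000 in
/-- **Fibrewise regular implies universally regular** at a prime where a finite module over a finite
type algebra is flat. -/
theorem uInjAt_lsmul {A B : Type u} [CommRing A] [CommRing B] [Algebra A B] [Algebra.FiniteType A B]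
    {N : Type u} [AddCommGroup N] [Module B N] [Module A N] [IsScalarTower A B N] [Module.Finite B N]
    (t : PrimeSpectrum B) (hflat : FlatCA.FlatAt A t.asIdeal N) (s : B)
    (h : FibInjAt A B (LinearMap.lsmul B N s) t) : UInjAt A B (LinearMap.lsmul B N s) t := by
  obtain ⟨k, ψ, hψ⟩ := Algebra.FiniteType.iff_quotient_mvPolynomial''.1 ‹Algebra.FiniteType A B›
  let P := MvPolynomial (Fin k) A
  let _ : Algebra P B := ψ.toRingHom.toAlgebra
  let _ : Module P N := Module.compHom N ψ.toRingHom
  have : IsScalarTower P B N := .of_algebraMap_smul fun _ _ => rfl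
  have : IsScalarTower A P N := .of_algebraMap_smul fun a n => by
    show ψ (algebraMap A P a) • n = a • n
    rw [ψ.commutes, algebraMap_smul]
  have : Module.Finite P B := Module.Finite.of_surjective (Algebra.linearMap P B) hψ
  have : Module.Finite P N := Module.Finite.trans B N
  obtain ⟨s', rfl⟩ := hψ s
  have hflat' : FlatCA.FlatAt A (t.asIdeal.comap ψ.toRingHom) N :=
    (FlatDescent.flat_localized_iff ψ.toRingHom hψ (LinearEquiv.refl A N) (fun _ _ => rfl)
      t.asIdeal).2 hflat
  exact UInjAt.of_comap ψ (LinearEquiv.refl A N) (LinearEquiv.refl A N) (fun _ _ => rfl)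
    (fun _ => rfl) (uInjAt_lsmul_fp (PrimeSpectrum.comap ψ.toRingHom t) hflat' s'
      (FibInjAt.comap ψ hψ (LinearEquiv.refl A N) (LinearEquiv.refl A N) (fun _ _ => rfl)
        (fun _ _ => rfl) (fun _ => rfl) h))

end Groth.Agent.FlatMorDevissage
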