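import Groth.Agent.FlatMorDevissage.FibreBasis
import Groth.Agent.FlatMorDevissage.InjModEss
import Groth.Agent.FlatMorDevissage.UInjFinite
import Mathlib.RingTheory.Localization.BaseChange

/-!
# A basis of the generic fibre tests flatness (global base)
-/

set_option autoImplicit false
set_option backward.isDefEq.respectTransparency false

universe u

open TensorProduct Function IsLocalRing

namespace Groth.Agent.FlatMorDevissage

open Groth.Agent

variable {R S : Type u} [CommRing R] [CommRing S] [Algebra R S]

/-- Kernel elements of `α ⊗ Q` are killed by `T`, for every `Q`. -/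
def KillsKer (R : Type u) [CommRing R] {S : Type u} [CommRing S] [Algebra R S] {F G : Type u}
    [AddCommGroup F] [Module R F] [Module S F] [IsScalarTower R S F] [AddCommGroup G] [Module R G]
    [Module S G] [IsScalarTower R S G] (α : F →ₗ[S] G) (T : Set S) : Prop :=
  ∀ ⦃Q : Type u⦄ [AddCommGroup Q] [Module R Q] (z : F ⊗[R] Q),
    AlgebraTensorModule.rTensor R Q α z = 0 → ∃ c ∈ T, c • z = 0

section Kills

variable {F G : Type u} [AddCommGroup F] [Module R F] [Module S F] [IsScalarTower R S F]
  [AddCommGroup G] [Module R G] [Module S G] [IsScalarTower R S G] (α : F →ₗ[S] G)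

theorem univInj_map_of_killsKer (T : Submonoid S) (h : KillsKer R α (T : Set S)) :
    FlatCA.UnivInj R ((LocalizedModule.map T α).restrictScalars R) := by
  intro Q _ _
  rw [LinearMap.lTensor_inj_iff_rTensor_inj, injective_iff_map_eq_zero]
  intro w hw
  let ιF := AlgebraTensorModule.rTensor R Q (LocalizedModule.mkLinearMap T F)
  let ιG := AlgebraTensorModule.rTensor R Q (LocalizedModule.mkLinearMap T G)
  let αT := AlgebraTensorModule.rTensor R Q ((LocalizedModule.map T α).restrictScalars S)
  have hw' : αT w = 0 := hw
  obtain ⟨⟨z, s⟩, hs⟩ := IsLocalizedModule.surj T ιF w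
  have hc : ∀ z, αT (ιF z) = ιG (AlgebraTensorModule.rTensor R Q α z) := by
    intro z
    induction z using TensorProduct.induction_on with
    | zero => simp only [map_zero]
    | add a b ha hb => simp only [map_add, ha, hb]
    | tmul x q =>
      simp only [ιF, ιG, αT, AlgebraTensorModule.rTensor_tmul, LinearMap.coe_restrictScalars,
        LocalizedModule.mkLinearMap_apply, LocalizedModule.map_mk]
  have h1 : ιG (AlgebraTensorModule.rTensor R Q α z) = 0 := by
    rw [← hc, ← hs, Submonoid.smul_def, map_smul, hw', smul_zero]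
  obtain ⟨s', hs'⟩ := (IsLocalizedModule.eq_zero_iff T ιG).1 h1
  rw [Submonoid.smul_def, ← map_smul] at hs'
  obtain ⟨c, hc', hcz⟩ := h ((s' : S) • z) hs'
  have h2 : ιF z = 0 := (IsLocalizedModule.eq_zero_iff T ιF).2 ⟨⟨c, hc'⟩ * s', by
    rw [Submonoid.smul_def, Submonoid.coe_mul, mul_smul]; exact hcz⟩
  have hu := IsLocalizedModule.map_units ιF s
  rw [Module.End.isUnit_iff] at hu
  exact hu.1 (show (s : S) • w = (s : S) • 0 by
    rw [smul_zero, ← Submonoid.smul_def, show s • w = ιF z from hs, h2])

theorem killsKer_of_univInj_map (T : Submonoid S)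
    (h : FlatCA.UnivInj R ((LocalizedModule.map T α).restrictScalars R)) :
    KillsKer R α (T : Set S) := by
  intro Q _ _ z hz
  let ιF := AlgebraTensorModule.rTensor R Q (LocalizedModule.mkLinearMap T F)
  let ιG := AlgebraTensorModule.rTensor R Q (LocalizedModule.mkLinearMap T G)
  have hc : ∀ z, ((LocalizedModule.map T α).restrictScalars R).rTensor Q (ιF z) =
      ιG (AlgebraTensorModule.rTensor R Q α z) := by
    intro z
    induction z using TensorProduct.induction_on with
    | zero => simp only [map_zero]
    | add a b ha hb => simp only [map_add, ha, hb]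
    | tmul x q =>
      simp only [ιF, ιG, AlgebraTensorModule.rTensor_tmul, LinearMap.rTensor_tmul,
        LinearMap.coe_restrictScalars, LocalizedModule.mkLinearMap_apply, LocalizedModule.map_mk]
  have h1 : ιF z = 0 :=
    (LinearMap.lTensor_inj_iff_rTensor_inj _ _).1 (h Q) (by rw [map_zero, hc, hz, map_zero])
  obtain ⟨c, hcz⟩ := (IsLocalizedModule.eq_zero_iff T ιF).1 h1
  exact ⟨c.1, c.2, hcz⟩

theorem killsKer_powers_of_primes (f : R)
    (h : ∀ (p : Ideal R) [p.IsPrime], f ∉ p →
      KillsKer R α (Algebra.algebraMapSubmonoid S p.primeCompl : Set S)) :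
    KillsKer R α (Submonoid.powers (algebraMap R S f) : Set S) := by
  intro Q _ _ z hz
  let K : Ideal S := LinearMap.ker (LinearMap.toSpanSingleton S (F ⊗[R] Q) z)
  let I : Ideal R := K.comap (algebraMap R S)
  by_contra! hne
  have hfI : f ∉ I.radical := by
    rintro ⟨k, hk⟩
    exact hne _ ⟨k, rfl⟩ (by simpa [I, K] using hk)
  rw [Ideal.radical_eq_sInf, Submodule.mem_sInf] at hfI
  push Not at hfI
  obtain ⟨p, ⟨hIp, hp⟩, hfp⟩ := hfI
  have := hp
  obtain ⟨_, ⟨t, ht, rfl⟩, htz⟩ := h p hfp z hz
  exact ht (hIp (show algebraMap R S t • z = 0 from htz))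

theorem injective_map_mono {T T' : Submonoid S} (hle : T ≤ T')
    (h : Injective (LocalizedModule.map T α)) : Injective (LocalizedModule.map T' α) := by
  refine (injective_iff_map_eq_zero _).2 fun w hw => ?_
  induction w using LocalizedModule.induction_on with
  | h x s =>
    rw [LocalizedModule.map_mk] at hw
    obtain ⟨c, hc⟩ := (LocalizedModule.mk_eq.1 (hw.trans (LocalizedModule.zero_mk 1).symm))
    simp only [one_smul, smul_zero, Submonoid.smul_def] at hc
    rw [← map_smul] at hc
    have h1 : LocalizedModule.mk ((c : S) • x) (1 : T) = 0 := h (by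
      rw [LocalizedModule.map_mk, hc, LocalizedModule.zero_mk, map_zero])
    obtain ⟨d, hd⟩ := LocalizedModule.mk_eq.1 (h1.trans (LocalizedModule.zero_mk 1).symm)
    simp only [one_smul, smul_zero, Submonoid.smul_def] at hd
    rw [← LocalizedModule.zero_mk s, LocalizedModule.mk_eq]
    refine ⟨⟨d.1, hle d.2⟩ * c, ?_⟩
    simp only [smul_zero, Submonoid.smul_def, Submonoid.coe_mul]
    rw [mul_smul, smul_comm (c : S) (s : S), smul_comm (d : S) (s : S), show (d : S) • (c : S) • x = 0 from hd, smul_zero]

end Kills

/-- A bijective localisation kills kernel elements. -/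
theorem exists_smul_eq_zero_of_bijective {F G : Type u} [AddCommGroup F] [Module R F] [Module S F]
    [IsScalarTower R S F] [AddCommGroup G] [Module R G] [Module S G] [IsScalarTower R S G]
    (α : F →ₗ[S] G) (T : Submonoid S) (h : Bijective (LocalizedModule.map T α)) :
    KillsKer R α (T : Set S) :=
  killsKer_of_univInj_map α T fun Q _ _ =>
    ((((LinearEquiv.ofBijective _ h).restrictScalars R).lTensor Q)).injective

attribute [local instance] Algebra.TensorProduct.rightAlgebra

/-- Coordinates in `J S` give membership in `J` times the localised module. -/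
theorem mkLinearMap_mem_smul_of_pi (J : Ideal R) (T : Submonoid S) {r : ℕ} (x : Fin r → S)
    (hx : ∀ i, x i ∈ J.map (algebraMap R S)) (s : T) :
    LocalizedModule.mk x s ∈ J • (⊤ : Submodule R (LocalizedModule T (Fin r → S))) := by
  have hmem : x ∈ J • (⊤ : Submodule R (Fin r → S)) := by
    rw [← Finset.univ_sum_single x]
    refine Submodule.sum_mem _ fun i _ => ?_
    have h : x i ∈ J • (⊤ : Submodule R S) := by
      rw [Ideal.smul_top_eq_map]
      exact hx i
    exact (Submodule.map_smul'' J ⊤ (LinearMap.single R (fun _ : Fin r => S) i)).trans_le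
      (Submodule.smul_mono le_rfl le_top) (Submodule.mem_map_of_mem h)
  let ψ : (Fin r → S) →ₗ[R] LocalizedModule T (Fin r → S) :=
    { toFun := fun w => LocalizedModule.mk w s
      map_add' := fun a b => by
        rw [LocalizedModule.mk_add_mk, LocalizedModule.mk_eq]
        exact ⟨1, by simp only [one_smul, Submonoid.smul_def, smul_add, mul_smul, Submonoid.coe_mul]⟩
      map_smul' := fun a w => by simp [LocalizedModule.smul'_mk] }
  exact (Submodule.map_smul'' J ⊤ ψ).trans_le (Submodule.smul_mono le_rfl le_top)
    (Submodule.mem_map_of_mem hmem)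

/-- An element outside `p S` is universally regular after localising the base at `p`. -/
theorem exists_smul_eq_zero_of_smul [Algebra.FinitePresentation R S] [Module.Flat R S]
    (hdom : FibresDomain R S) (p : Ideal R) [p.IsPrime] [(p.map (algebraMap R S)).IsPrime] (q : Ideal S) [q.LiesOver p] (c : S)
    (hc : c ∉ p.map (algebraMap R S)) {Q : Type u} [AddCommGroup Q] [Module R Q] (z : S ⊗[R] Q)
    (hz : c • z = 0) : ∃ t ∉ p, algebraMap R S t • z = 0 := by
  let A := Localization.AtPrime p
  let M := Algebra.algebraMapSubmonoid S p.primeCompl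
  let T := Localization M
  have : Algebra.IsPushout R S A T := Algebra.isPushout_of_isLocalization p.primeCompl A S T
  have hpo : Algebra.IsPushout R A S T := Algebra.IsPushout.symm this
  let e : A ⊗[R] S ≃ₐ[A] T := Algebra.IsPushout.equiv R A S T
  have : Algebra.FinitePresentation A T := Algebra.FinitePresentation.equiv e
  have : Module.Flat A T := Module.Flat.of_linearEquiv e.toLinearEquiv.symm
  have hdomT : FibresDomain A T := fun K _ _ => by
    have := hdom.baseChange A K
    exact (Algebra.TensorProduct.congr (AlgEquiv.refl (R := K) (A₁ := K)) e).toMulEquiv.symm.isDomain _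
  have : Module.Projective A T := projective_of_fibresDomain hdomT
  let cT := algebraMap S T c
  have hPT : (maximalIdeal A).map (algebraMap A T) = (p.map (algebraMap R S)).map (algebraMap S T) := by
    rw [← Localization.AtPrime.map_eq_maximalIdeal, Ideal.map_map, Ideal.map_map,
      ← IsScalarTower.algebraMap_eq, ← IsScalarTower.algebraMap_eq]
  have hd : Disjoint (M : Set S) (p.map (algebraMap R S) : Set S) := by
    rw [Set.disjoint_left]
    rintro _ ⟨r, hr, rfl⟩ hmem
    exact hr ((Ideal.mem_of_liesOver q p r).2 (Ideal.map_le_iff_le_comap.2 (q.over_def p).le hmem))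
  have hprime : ((p.map (algebraMap R S)).map (algebraMap S T)).IsPrime :=
    IsLocalization.isPrime_of_isPrime_disjoint M T _ ‹_› hd
  have hcT : cT ∉ (maximalIdeal A).map (algebraMap A T) := by
    rw [hPT]
    intro h
    rw [← Ideal.mem_comap, ← Ideal.under_def,
      IsLocalization.under_map_of_isPrime_disjoint M T ‹_› hd] at h
    exact hc h
  have : ((maximalIdeal A).map (algebraMap A T)).IsPrime := hPT ▸ hprime
  have hr := reflects_of_projective ((LinearMap.lsmul T T cT).restrictScalars A) fun y hy => by
    have h1 : cT * y ∈ maximalIdeal A • (⊤ : Submodule A T) := hy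
    rw [Ideal.smul_top_eq_map, Submodule.restrictScalars_mem] at h1 ⊢
    exact (Ideal.IsPrime.mem_or_mem ‹_› h1).resolve_left hcT
  let ι := AlgebraTensorModule.rTensor R Q (Algebra.linearMap S T)
  let κ := AlgebraTensorModule.cancelBaseChange R A T T Q
  have hinj : Injective (((LinearMap.lsmul T T cT).restrictScalars A).rTensor (A ⊗[R] Q)) :=
    (LinearMap.lTensor_inj_iff_rTensor_inj _ _).1 (hr.univInj (A ⊗[R] Q))
  have hsmul : ∀ w, ((LinearMap.lsmul T T cT).restrictScalars A).rTensor (A ⊗[R] Q) w = cT • w := by
    intro w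
    induction w using TensorProduct.induction_on with
    | zero => simp only [map_zero, smul_zero]
    | add a b ha hb => simp only [map_add, smul_add, ha, hb]
    | tmul x q =>
      rw [LinearMap.rTensor_tmul, smul_tmul']
      rfl
  have h0 : ι z = 0 := by
    have h1 : cT • ι z = 0 := by rw [algebraMap_smul, ← map_smul, hz, map_zero]
    apply κ.symm.injective
    apply hinj
    rw [hsmul, hsmul, ← map_smul, h1, map_zero, smul_zero]
  obtain ⟨⟨_, t, ht, rfl⟩, htz⟩ := (IsLocalizedModule.eq_zero_iff M ι).1 h0
  exact ⟨t, ht, htz⟩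

set_option maxHeartbeats 800000 in
/-- Where the target is flat, a map which is injective at the generic point of the fibre is injective
with flat cokernel. -/
theorem injective_localized_of_flatAt [Algebra.FiniteType R S] [Module.Flat R S] {N : Type u}
    [AddCommGroup N] [Module S N] [Module R N] [IsScalarTower R S N] (p : Ideal R) [p.IsPrime]
    [(p.map (algebraMap R S)).IsPrime] (q : Ideal S) [q.IsPrime] [q.LiesOver p] {r : ℕ}
    (α : (Fin r → S) →ₗ[S] N) (hα : Injective (α.baseChange (p.map (algebraMap R S)).ResidueField))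
    (hflat : FlatCA.FlatAt R q N) :
    Injective (LocalizedModule.map q.primeCompl α) ∧
      FlatCA.FlatAt R q (N ⧸ LinearMap.range α) := by
  let A := Localization.AtPrime p
  let B := Localization.AtPrime q
  have hAB : ∀ r : p.primeCompl, IsUnit (algebraMap R B r.1) := fun r => by
    rw [IsScalarTower.algebraMap_apply R S B]
    exact IsLocalization.map_units B
      (⟨algebraMap R S r.1, fun h' => r.2 ((Ideal.mem_of_liesOver q p r.1).2 h')⟩ : q.primeCompl)
  let _ : Algebra A B := (IsLocalization.lift (M := p.primeCompl) (g := algebraMap R B) hAB).toAlgebra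
  have : IsScalarTower R A B := .of_algebraMap_eq fun r =>
    (IsLocalization.lift_eq (M := p.primeCompl) (S := A) hAB r).symm
  have : Algebra.EssFiniteType S B := Algebra.EssFiniteType.of_isLocalization B q.primeCompl
  have : Algebra.EssFiniteType R B := Algebra.EssFiniteType.comp R S B
  have : Algebra.EssFiniteType A B := Algebra.EssFiniteType.of_comp R A B
  have : IsLocalHom (algebraMap A B) := ((local_hom_TFAE (algebraMap A B)).out 0 4).2 (by
    refine le_antisymm (le_maximalIdeal (Ideal.comap_ne_top _ (maximalIdeal.isMaximal B).ne_top)) ?_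
    rw [← IsLocalization.map_under p.primeCompl A (maximalIdeal A)]
    refine Ideal.map_le_iff_le_comap.2 ?_
    rw [IsLocalization.AtPrime.under_maximalIdeal A p, Ideal.comap_comap,
      ← IsScalarTower.algebraMap_eq, IsScalarTower.algebraMap_eq R S B, ← Ideal.comap_comap]
    exact (q.over_def p).le.trans
      (Ideal.comap_mono (IsLocalization.AtPrime.under_maximalIdeal B q).ge))
  let X := LocalizedModule q.primeCompl (Fin r → S)
  let Y := LocalizedModule q.primeCompl N
  let _ : Module A X := Module.compHom _ (algebraMap A B)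
  have : IsScalarTower A B X := .of_algebraMap_smul fun _ _ => rfl
  let _ : Module A Y := Module.compHom _ (algebraMap A B)
  have : IsScalarTower A B Y := .of_algebraMap_smul fun _ _ => rfl
  have : IsScalarTower R A X := .of_algebraMap_smul fun r x => by
    show algebraMap A B (algebraMap R A r) • x = r • x
    rw [← IsScalarTower.algebraMap_apply, IsScalarTower.algebraMap_apply R S B, algebraMap_smul,
      algebraMap_smul]
  have : IsScalarTower R A Y := .of_algebraMap_smul fun r x => by
    show algebraMap A B (algebraMap R A r) • x = r • x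
    rw [← IsScalarTower.algebraMap_apply, IsScalarTower.algebraMap_apply R S B, algebraMap_smul,
      algebraMap_smul]
  have : Module.Flat A Y := (Module.flat_iff_of_isLocalization A p.primeCompl _).2 hflat
  have : Module.Finite B X :=
    Module.Finite.of_isLocalizedModule q.primeCompl (LocalizedModule.mkLinearMap q.primeCompl (Fin r → S))
  let u : X →ₗ[B] Y := LocalizedModule.map q.primeCompl α
  have hu : ModInj (u.restrictScalars A) := by
    intro x hx
    have hpA : ∀ (X : Type u) [AddCommGroup X] [Module R X] [Module A X] [IsScalarTower R A X] (x : X),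
        x ∈ maximalIdeal A • (⊤ : Submodule A X) ↔ x ∈ p • (⊤ : Submodule R X) := fun X _ _ _ _ x => by
      rw [smul_top_restrict (B := A) p x, Localization.AtPrime.map_eq_maximalIdeal]
    rw [hpA] at hx ⊢
    induction x using LocalizedModule.induction_on with
    | h x s =>
      have h1 : LocalizedModule.mkLinearMap q.primeCompl N (α x) ∈ p • (⊤ : Submodule R Y) := by
        have h2 := smul_mem_smul_top p (s : S) hx
        rwa [LinearMap.restrictScalars_apply, show u (LocalizedModule.mk x s) =
            LocalizedModule.mk (α x) s from LocalizedModule.map_mk _ _ _ _,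
          LocalizedModule.smul'_mk, show LocalizedModule.mk ((s : S) • α x) s =
            LocalizedModule.mkLinearMap q.primeCompl N (α x) from LocalizedModule.mk_cancel s _] at h2
      obtain ⟨c, hc, hcm⟩ := exists_smul_mem_of_mk_mem q.primeCompl p (α x) h1
      let P := p.map (algebraMap R S)
      let K := P.ResidueField
      have h0 : ∀ g ∈ p • (⊤ : Submodule R N), (1 : K) ⊗ₜ[S] g = 0 := by
        intro g hg
        refine Submodule.smul_induction_on hg (fun a ha w _ => ?_)
          fun v w hv hw => by rw [tmul_add, hv, hw, add_zero]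
        rw [← algebraMap_smul S a w, ← TensorProduct.smul_tmul, Algebra.smul_def, mul_one,
          (Ideal.algebraMap_residueField_eq_zero).2 (Ideal.mem_map_of_mem _ ha), zero_tmul]
      have h2 : algebraMap S K c • α.baseChange K ((1 : K) ⊗ₜ x) = 0 := by
        rw [LinearMap.baseChange_tmul, algebraMap_smul, ← tmul_smul]
        exact h0 _ hcm
      have hcK : algebraMap S K c ≠ 0 := fun h => hc
        (Ideal.map_le_iff_le_comap.2 (q.over_def p).le (Ideal.algebraMap_residueField_eq_zero.1 h))
      have h3 : (1 : K) ⊗ₜ[S] x = 0 :=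
        hα (((smul_eq_zero.1 h2).resolve_left hcK).trans (map_zero _).symm)
      refine mkLinearMap_mem_smul_of_pi p q.primeCompl x (fun i => ?_) s
      have h4 := congrArg (fun w => TensorProduct.rid S K
        ((LinearMap.proj (R := S) (φ := fun _ : Fin r => S) i).lTensor K w)) h3
      simp only [LinearMap.lTensor_tmul, LinearMap.proj_apply, TensorProduct.rid_tmul, map_zero] at h4
      rw [Algebra.smul_def, mul_one] at h4
      exact Ideal.algebraMap_residueField_eq_zero.1 h4
  obtain ⟨hinj, hcok, -⟩ := injMod_of_essFiniteType u hu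
  refine ⟨hinj, ?_⟩
  have hex : Exact (u.restrictScalars R)
      ((LocalizedModule.map q.primeCompl (LinearMap.range α).mkQ).restrictScalars R) :=
    LocalizedModule.map_exact _ α _ (LinearMap.exact_map_mkQ_range α)
  have : Module.Flat R (Y ⧸ LinearMap.range (u.restrictScalars R)) :=
    (Module.flat_iff_of_isLocalization A p.primeCompl (Y ⧸ LinearMap.range u)).1 hcok
  exact Module.Flat.of_linearEquiv (hex.linearEquivOfSurjective
    (LocalizedModule.map_surjective _ _ (Submodule.mkQ_surjective _))).symm

set_option maxHeartbeats 400000 in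
/-- Bijective at the generic point of a fibre: universally injective over the local ring below. -/
theorem killsKer_of_bijective [Algebra.FinitePresentation R S] [Module.Flat R S]
    (hdom : FibresDomain R S) {N : Type u} [AddCommGroup N] [Module S N] [Module R N]
    [IsScalarTower R S N] (p : Ideal R) [p.IsPrime] [(p.map (algebraMap R S)).IsPrime]
    (q : Ideal S) [q.LiesOver p] {r : ℕ} (α : (Fin r → S) →ₗ[S] N)
    (h : Bijective (LocalizedModule.map (p.map (algebraMap R S)).primeCompl α)) :
    KillsKer R α (Algebra.algebraMapSubmonoid S p.primeCompl : Set S) := by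
  classical
  intro Q _ _ z hz
  obtain ⟨c, hc, hcz⟩ := exists_smul_eq_zero_of_bijective α _ h z hz
  let π : ∀ i : Fin r, (Fin r → S) ⊗[R] Q →ₗ[S] S ⊗[R] Q := fun i =>
    AlgebraTensorModule.rTensor R Q (LinearMap.proj (R := S) (φ := fun _ : Fin r => S) i)
  have hi : ∀ i, ∃ t ∉ p, algebraMap R S t • π i z = 0 := fun i =>
    exists_smul_eq_zero_of_smul hdom p q c hc (π i z) (by rw [← map_smul, hcz, map_zero])
  choose t ht htz using hi
  refine ⟨algebraMap R S (∏ i, t i), ⟨_, fun hp => ?_, rfl⟩, ?_⟩
  · obtain ⟨i, -, hi⟩ := (Ideal.IsPrime.prod_mem_iff).1 hp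
    exact ht i hi
  · let ε : ∀ i : Fin r, S ⊗[R] Q →ₗ[S] (Fin r → S) ⊗[R] Q := fun i =>
      AlgebraTensorModule.rTensor R Q (LinearMap.single S (fun _ : Fin r => S) i)
    have hdec : ∀ z, z = ∑ i, ε i (π i z) := fun z => by
      induction z using TensorProduct.induction_on with
      | zero => simp only [map_zero, Finset.sum_const_zero]
      | add a b ha hb =>
        conv_lhs => rw [ha, hb]
        simp only [map_add, Finset.sum_add_distrib]
      | tmul x w =>
        simp only [ε, π, AlgebraTensorModule.rTensor_tmul, ← TensorProduct.sum_tmul,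
          LinearMap.proj_apply, LinearMap.coe_single, Finset.univ_sum_single]
    rw [hdec z, Finset.smul_sum]
    refine Finset.sum_eq_zero fun i _ => ?_
    obtain ⟨d, hd⟩ := Finset.dvd_prod_of_mem t (Finset.mem_univ i)
    rw [← map_smul, hd, map_mul, mul_comm, mul_smul, htz, smul_zero, map_zero]

set_option maxHeartbeats 400000 in
/-- Bijective at the generic point of a fibre: universally injective over a neighbourhood below. -/
theorem exists_killsKer_powers [Algebra.FinitePresentation R S] [Module.Flat R S]
    (hdom : FibresDomain R S) {N : Type u} [AddCommGroup N] [Module S N] [Module R N]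
    [IsScalarTower R S N] [Module.FinitePresentation S N] (p : Ideal R) [p.IsPrime]
    [(p.map (algebraMap R S)).IsPrime] (q : Ideal S) [q.IsPrime] [q.LiesOver p] {r : ℕ}
    (α : (Fin r → S) →ₗ[S] N)
    (h : Bijective (LocalizedModule.map (p.map (algebraMap R S)).primeCompl α)) :
    ∃ f ∉ p, KillsKer R α (Submonoid.powers (algebraMap R S f) : Set S) := by
  let P := p.map (algebraMap R S)
  obtain ⟨g, hgP, hg⟩ := exists_bijective_map_powers P.primeCompl
    (LocalizedModule.mkLinearMap P.primeCompl _) (LocalizedModule.mkLinearMap P.primeCompl N) α h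
  have hg' := hg g dvd_rfl
  have hopen := PrimeSpectrum.isOpenMap_comap_of_hasGoingDown_of_finitePresentation
    (R := R) (S := S) (PrimeSpectrum.basicOpen g : Set (PrimeSpectrum S))
    (PrimeSpectrum.basicOpen g).isOpen
  have hpmem : (⟨p, inferInstance⟩ : PrimeSpectrum R) ∈
      PrimeSpectrum.comap (algebraMap R S) '' (PrimeSpectrum.basicOpen g : Set (PrimeSpectrum S)) := by
    refine ⟨⟨P, inferInstance⟩, hgP, PrimeSpectrum.ext (le_antisymm ?_ Ideal.le_comap_map)⟩
    exact (Ideal.comap_mono (Ideal.map_le_iff_le_comap.2 (q.over_def p).le)).trans (q.over_def p).ge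
  obtain ⟨_, ⟨f, rfl⟩, hfp, hsub⟩ :=
    PrimeSpectrum.isTopologicalBasis_basic_opens.exists_subset_of_mem_open hpmem hopen
  refine ⟨f, hfp, killsKer_powers_of_primes α f fun p' _ hfp' => ?_⟩
  obtain ⟨Q, hgQ, hQ⟩ := hsub (show (⟨p', ‹_›⟩ : PrimeSpectrum R) ∈ PrimeSpectrum.basicOpen f from hfp')
  have hQp : Q.asIdeal.comap (algebraMap R S) = p' := congrArg PrimeSpectrum.asIdeal hQ
  have : Q.asIdeal.LiesOver p' := ⟨hQp.symm⟩
  have : (p'.map (algebraMap R S)).IsPrime := isPrime_map_of_fibresDomain hdom p'
  have hle : Submonoid.powers g ≤ (p'.map (algebraMap R S)).primeCompl := by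
    rw [Submonoid.powers_le]
    exact fun hmem => hgQ (Ideal.map_le_iff_le_comap.2 hQp.ge hmem)
  refine killsKer_of_bijective hdom p' Q.asIdeal α
    ⟨injective_map_mono α hle hg'.injective, fun w => ?_⟩
  induction w using LocalizedModule.induction_on with
  | h n s =>
    obtain ⟨v, hv⟩ := hg'.surjective (LocalizedModule.mk n 1)
    induction v using LocalizedModule.induction_on with
    | h x t =>
      rw [LocalizedModule.map_mk, LocalizedModule.mk_eq] at hv
      obtain ⟨c, hc⟩ := hv
      refine ⟨LocalizedModule.mk x (⟨t.1, hle t.2⟩ * s), ?_⟩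
      rw [LocalizedModule.map_mk, LocalizedModule.mk_eq]
      refine ⟨⟨c.1, hle c.2⟩, ?_⟩
      simp only [one_smul, Submonoid.smul_def, Submonoid.coe_mul] at hc ⊢
      rw [smul_comm (c : S), hc]
      simp only [smul_smul]
      congr 1
      ring

end Groth.Agent.FlatMorDevissage
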