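import Mathlib

/-!
# Modules over a finite product of algebras
-/

set_option autoImplicit false
set_option backward.isDefEq.respectTransparency false

universe u

open TensorProduct Function

namespace Groth.Agent.FlatMorDevissage

/-- Base change to a finite product is free, resp. finitely presented, if the base changes to the
factors are. -/
theorem free_fp_pi_tensor {A SA NA : Type u} [CommRing A] [CommRing SA] [Algebra A SA]
    [AddCommGroup NA] [Module SA NA] {ι : Type} [Finite ι] (C : ι → Type u) [∀ i, CommRing (C i)]
    [∀ i, Algebra SA (C i)] [∀ i, Algebra A (C i)] [∀ i, IsScalarTower A SA (C i)]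
    (hfree : ∀ i, Module.Free A (C i ⊗[SA] NA)) :
    Module.Free A ((Π i, C i) ⊗[SA] NA) ∧
      ((∀ i, Module.FinitePresentation (C i) (C i ⊗[SA] NA)) →
        Module.FinitePresentation (Π i, C i) ((Π i, C i) ⊗[SA] NA)) := by
  classical
  have := Fintype.ofFinite ι
  let P := Π i, C i
  let _ : ∀ i, Algebra P (C i) := fun i => (Pi.evalRingHom C i).toAlgebra
  have : ∀ i, IsScalarTower SA P (C i) := fun i => .of_algebraMap_eq fun _ => rfl
  have : ∀ i, IsScalarTower A P (C i) := fun i => .of_algebraMap_eq fun _ => rfl
  let φ : P ⊗[SA] NA →ₗ[P] Π i, C i ⊗[SA] NA :=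
    LinearMap.liftBaseChange P (LinearMap.pi fun i => TensorProduct.mk SA (C i) NA 1)
  have hφ : ∀ t, φ t = TensorProduct.piLeft SA NA C t := by
    intro t
    induction t with
    | zero => simp
    | tmul c n =>
      ext i
      simp [φ, TensorProduct.smul_tmul', Algebra.smul_def]
      rfl
    | add x y hx hy => rw [map_add, map_add, hx, hy]
  let e : P ⊗[SA] NA ≃ₗ[P] Π i, C i ⊗[SA] NA := LinearEquiv.ofBijective φ (by
    rw [show (φ : _ → _) = TensorProduct.piLeft SA NA C from funext hφ]
    exact LinearEquiv.bijective _)
  refine ⟨Module.Free.of_equiv (e.restrictScalars A).symm, fun hfp => ?_⟩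
  have : ∀ i, Module.FinitePresentation P (C i) := fun i => by
    have : Module.Projective P (C i) := Module.Projective.of_split (M := P)
      { toFun := Pi.single i
        map_add' := fun x y => Pi.single_add i x y
        map_smul' := fun c x => funext fun j => by
          rcases eq_or_ne j i with rfl | hj
          · show Pi.single j (c j * x) j = c j * Pi.single j x j
            rw [Pi.single_eq_same, Pi.single_eq_same]
          · show Pi.single i (c i * x) j = c j * Pi.single i x j
            rw [Pi.single_eq_of_ne hj, Pi.single_eq_of_ne hj, mul_zero] }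
      (Algebra.linearMap P (C i)) (LinearMap.ext fun x => Pi.single_eq_same i x)
    have : Module.Finite P (C i) := Module.Finite.of_surjective (Algebra.linearMap P (C i))
      fun x => ⟨Pi.single i x, Pi.single_eq_same i x⟩
    exact Module.finitePresentation_of_projective P (C i)
  have : ∀ i, Module.FinitePresentation P (C i ⊗[SA] NA) := fun i =>
    have := hfp i
    Module.FinitePresentation.trans P (C i ⊗[SA] NA) (C i)
  exact Module.FinitePresentation.of_equiv e.symm

end Groth.Agent.FlatMorDevissage
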