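import Groth.Agent.FlatMorDevissage.Cover
import Groth.Agent.FlatMorDevissage.PiFree

/-!
# Freeness over the local ring of an etale neighbourhood along a whole fibre
-/

set_option autoImplicit false
set_option backward.isDefEq.respectTransparency false

universe u

open TensorProduct Function IsLocalRing

namespace Groth.Agent.FlatMorDevissage

open Groth.Agent

set_option maxHeartbeats 1000000 in
/-- Flatness along the fibre over `p` gives, over the local ring `A` of an etale neighbourhood, an
etale `SA`-algebra covering the fibre over which the module is free over `A`. -/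
theorem exists_free_etale_fibre {R S : Type u} [CommRing R] [CommRing S] [Algebra R S]
    [Algebra.FiniteType R S] (N : Type u) [AddCommGroup N] [Module S N] [Module R N]
    [IsScalarTower R S N] [Module.Finite S N] (p : Ideal R) [p.IsPrime]
    (hflat : ∀ (q : Ideal S) [q.IsPrime], q.LiesOver p → FlatCA.FlatAt R q N) :
    ∃ (R' : Type u) (_ : CommRing R') (_ : Algebra R R') (p' : Ideal R') (_ : p'.IsPrime),
      FlatCA.IsEtaleNhd R R' p p' ∧
      ∀ (SA NA : Type u) [CommRing SA] [Algebra R SA] [Algebra S SA]
        [Algebra (Localization.AtPrime p') SA]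
        [IsScalarTower R S SA] [IsScalarTower R (Localization.AtPrime p') SA]
        [Algebra.IsPushout R S (Localization.AtPrime p') SA]
        [AddCommGroup NA] [Module SA NA] [Module S NA] [IsScalarTower S SA NA]
        (f : N →ₗ[S] NA), IsBaseChange SA f →
        ∃ (C : Type u) (_ : CommRing C) (_ : Algebra SA C) (_ : Algebra (Localization.AtPrime p') C)
          (_ : IsScalarTower (Localization.AtPrime p') SA C),
          Algebra.Etale SA C ∧
          (∀ (q : Ideal S) [q.IsPrime], q.LiesOver p → ∃ x : Ideal C, x.IsPrime ∧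
            x.comap ((algebraMap SA C).comp (algebraMap S SA)) = q ∧
            x.LiesOver (maximalIdeal (Localization.AtPrime p'))) ∧
          Module.Free (Localization.AtPrime p') (C ⊗[SA] NA) ∧
          (Algebra.FinitePresentation R S → Module.FinitePresentation C (C ⊗[SA] NA)) := by
  classical
  obtain ⟨R', _, _, p', _, k, C₀, _, _, _, _, _, _, hR, hC₀, hcov⟩ :=
    exists_chain_cover (R := R) (S := S) N p
  refine ⟨R', inferInstance, inferInstance, p', inferInstance, hR, ?_⟩
  intro SA NA _ _ _ _ _ _ _ _ _ _ _ f hf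
  obtain ⟨he, ho, hb⟩ := id hR
  have hp : ∀ i, ∃ (C : Type u) (_ : CommRing C) (_ : Algebra SA C)
      (_ : Algebra (Localization.AtPrime p') C) (_ : IsScalarTower (Localization.AtPrime p') SA C),
      Algebra.Etale SA C ∧ Module.Free (Localization.AtPrime p') (C ⊗[SA] NA) ∧
      (Algebra.FinitePresentation R S → Module.FinitePresentation C (C ⊗[SA] NA)) ∧
      ∀ (Q' : Ideal (C₀ i)) [Q'.IsPrime], Q'.LiesOver p' → ∃ (x : Ideal C) (_ : x.IsPrime),
        (x.comap (algebraMap SA C)).LiesOver (Q'.comap (algebraMap S (C₀ i))) ∧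
        (x.comap (algebraMap SA C)).LiesOver (maximalIdeal (Localization.AtPrime p')) := by
    intro i
    obtain ⟨hCe, hCp⟩ := hC₀ i
    obtain ⟨C, _, _, _, _, hC, hx, hzero, hfree⟩ := exists_piece_local (S' := C₀ i) N hR SA NA f hf
    have hmain : Module.Free (Localization.AtPrime p') (C ⊗[SA] NA) ∧
        (Algebra.FinitePresentation R S → Module.FinitePresentation C (C ⊗[SA] NA)) := by
      rcases hCp (C₀ i ⊗[S] N) (TensorProduct.mk S (C₀ i) N 1)
        (TensorProduct.isBaseChange S N (C₀ i)) with h | ⟨q'', _, hq'', hch⟩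
      · have := hzero h
        exact ⟨inferInstance, fun _ => inferInstance⟩
      · refine (fun h => ⟨h.1, h.2.1⟩) (hfree q'' hq'' hch (hflat _ ⟨?_⟩))
        rw [Ideal.under, Ideal.comap_comap, ← IsScalarTower.algebraMap_eq,
          IsScalarTower.algebraMap_eq R R' (C₀ i), ← Ideal.comap_comap]
        exact ho.over.trans (congrArg _ hq''.over)
    exact ⟨C, inferInstance, inferInstance, inferInstance, inferInstance, hC, hmain.1, hmain.2,
      fun Q' _ hQ' => let ⟨x, hx', hxq, hxm, _⟩ := hx Q' hQ'; ⟨x, hx', hxq, hxm⟩⟩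
  choose C iC iSA iA tA hC hfree hfp hx using hp
  obtain ⟨h1, h2⟩ := free_fp_pi_tensor (NA := NA) C hfree
  refine ⟨Π i, C i, inferInstance, inferInstance, inferInstance, inferInstance, inferInstance,
    fun q _ hq => ?_, h1, fun h => h2 fun i => hfp i h⟩
  obtain ⟨i, Q', hQ', hQ'p, hQ'q⟩ := hcov q hq
  obtain ⟨x, hxp, hxq, hxm⟩ := hx i Q' hQ'p
  refine ⟨x.comap (Pi.evalRingHom C i), inferInstance, ?_, ⟨?_⟩⟩
  · rw [Ideal.comap_comap]
    exact hQ'q ▸ hxq.over.symm
  · rw [Ideal.under, Ideal.comap_comap]
    refine hxm.over.trans ?_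
    rw [Ideal.under, Ideal.comap_comap, ← IsScalarTower.algebraMap_eq]
    rfl

end Groth.Agent.FlatMorDevissage
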