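import Groth.Agent.FlatMorDevissage.LocalFP

/-!
# The flat locus in a fibre is open
-/

set_option autoImplicit false
set_option backward.isDefEq.respectTransparency false

universe u

open TensorProduct Function

namespace Groth.Agent.FlatMorDevissage

open Groth.Agent

attribute [local instance] Algebra.TensorProduct.rightAlgebra

/-- An open set of the fibre ring around a point of flatness, on which the module is flat. -/
theorem exists_open_flatAt_fibre {R S : Type u} [CommRing R] [CommRing S] [Algebra R S]
    [Algebra.FiniteType R S] (N : Type u) [AddCommGroup N] [Module S N] [Module R N]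
    [IsScalarTower R S N] [Module.Finite S N] (p : Ideal R) [p.IsPrime]
    (x : PrimeSpectrum (p.Fiber S)) (q : Ideal S) [q.IsPrime]
    (hxq : x.asIdeal.comap
      (Algebra.TensorProduct.includeRight (R := R) (A := p.ResidueField) (B := S)).toRingHom = q)
    (hflat : FlatCA.FlatAt R q N) :
    ∃ c ∉ x.asIdeal, ∀ y : PrimeSpectrum (p.Fiber S), c ∉ y.asIdeal →
      FlatCA.FlatAt R (y.asIdeal.comap
        (Algebra.TensorProduct.includeRight (R := R) (A := p.ResidueField) (B := S)).toRingHom) N := by
  have hfib : ∀ y : PrimeSpectrum (p.Fiber S), (y.asIdeal.comap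
      (Algebra.TensorProduct.includeRight (R := R) (A := p.ResidueField) (B := S)).toRingHom).comap
        (algebraMap R S) = p := fun y => (EGA43.FibDepth.comap_algebraMap_eq (R := S) p y).symm
  have : q.LiesOver p := ⟨by rw [← hxq]; exact (hfib x).symm⟩
  obtain ⟨R', _, _, p', _, hR, hmain⟩ := exists_flat_away_local N p q hflat
  obtain ⟨SA, NA, _, _, _, _, _, _, _, _, _, _, _, _, _, f, hf⟩ :=
    exists_model R (Localization.AtPrime p') S N
  obtain ⟨g, hg, hgflat, -⟩ := hmain SA NA f hf
  let A := Localization.AtPrime p'
  obtain ⟨_, hpA⟩ := bijective_residueField_localRing hR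
  let m := IsLocalRing.maximalIdeal A
  let e : p.ResidueField ≃ₐ[R] m.ResidueField := AlgEquiv.ofBijective _ hpA
  let γA : A →ₐ[R] p.Fiber S := (Algebra.TensorProduct.includeLeft (S := R)).comp
    (e.symm.toAlgHom.comp (IsScalarTower.toAlgHom R A m.ResidueField))
  let γ : SA →ₐ[R] p.Fiber S := Algebra.pushoutDesc SA
    (Algebra.TensorProduct.includeRight (R := R) (A := p.ResidueField) (B := S)) γA
    fun _ _ => mul_comm _ _
  have hγS : ∀ b, γ (algebraMap S SA b) = (1 : p.ResidueField) ⊗ₜ[R] b := fun b => by
    simp only [γ, Algebra.pushoutDesc_left]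
    rfl
  have hγA : ∀ a, γ (algebraMap A SA a) = γA a := fun a => by
    simp only [γ, Algebra.pushoutDesc_right]
  have hover : ∀ y : PrimeSpectrum (p.Fiber S), (y.asIdeal.comap γ.toRingHom).LiesOver m ∧
      (y.asIdeal.comap γ.toRingHom).comap (algebraMap S SA) = y.asIdeal.comap
        (Algebra.TensorProduct.includeRight (R := R) (A := p.ResidueField) (B := S)).toRingHom := by
    intro y
    refine ⟨⟨le_antisymm (fun a ha => ?_) (IsLocalRing.le_maximalIdeal
      (Ideal.IsPrime.ne_top inferInstance))⟩, ?_⟩
    · show γ (algebraMap A SA a) ∈ y.asIdeal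
      rw [hγA]
      show Algebra.TensorProduct.includeLeft (R := R) (S := R) (A := p.ResidueField) (B := S) (e.symm (algebraMap A m.ResidueField a)) ∈ y.asIdeal
      rw [Ideal.algebraMap_residueField_eq_zero.2 ha, map_zero, map_zero]
      exact y.asIdeal.zero_mem
    · rw [Ideal.comap_comap]
      congr 1
      exact RingHom.ext hγS
  refine ⟨γ g, fun hm => ?_, fun y hy => ?_⟩
  · obtain ⟨h1, h2⟩ := hover x
    exact hg (x.asIdeal.comap γ.toRingHom) ⟨(h2.trans hxq).symm⟩ h1 hm
  · obtain ⟨h1, h2⟩ := hover y
    let Q := y.asIdeal.comap γ.toRingHom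
    have := hR.1
    have : Module.Flat R A := Module.Flat.trans R R' A
    have : Module.Flat S SA :=
      Module.Flat.of_linearEquiv (R := S) (M := S ⊗[R] A)
        (Algebra.IsPushout.equiv R S A SA).toLinearEquiv.symm
    let _ : Module R NA := Module.compHom NA (algebraMap R A)
    have : IsScalarTower R A NA := .of_algebraMap_smul fun _ _ => rfl
    have : IsScalarTower R SA NA := .of_algebraMap_smul fun r z => by
      rw [IsScalarTower.algebraMap_apply R A SA, algebraMap_smul, algebraMap_smul]
    have hA : FlatCA.FlatAt A Q NA := (flat_away_iff g).1 hgflat Q hy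
    have hA' : Module.Flat A (LocalizedModule Q.primeCompl NA) := hA
    have hRflat : FlatCA.FlatAt R Q NA := Module.Flat.trans R A (LocalizedModule Q.primeCompl NA)
    have := (flatAt_baseChange_iff hf Q).1 hRflat
    simp only [← h2]
    exact this

end Groth.Agent.FlatMorDevissage
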