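import Groth.Agent.FlatMorDevissage.InjModEss
import Groth.Agent.FlatMorDevissage.AssSpec

/-!
# Flatness is checked at the associated points of the fibre
-/

set_option autoImplicit false
set_option backward.isDefEq.respectTransparency false

universe u

open TensorProduct Function IsLocalRing

namespace Groth.Agent.FlatMorDevissage

open Groth.Agent

attribute [local instance] Algebra.TensorProduct.rightAlgebra

variable {R S : Type u} [CommRing R] [CommRing S] [Algebra R S] {N : Type u} [AddCommGroup N]
  [Module S N] [Module R N] [IsScalarTower R S N]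

/-- Flatness passes to generizations. -/
theorem flatAt_of_le {q' q : Ideal S} [q'.IsPrime] [q.IsPrime] (h : q' ≤ q)
    (hq : FlatCA.FlatAt R q N) : FlatCA.FlatAt R q' N :=
  (flatAt_iff_kerKilled q').2 fun _ _ _ _ _ _ i hi x hx => by
    obtain ⟨t, ht, htx⟩ := (flatAt_iff_kerKilled q).1 hq i hi x hx
    exact ⟨t, fun h' => ht (h h'), htx⟩

theorem mkLinearMap_mem_smul_of_smul_mem (T : Submonoid S) (J : Ideal R) (n : N) (c : S) (hc : c ∈ T)
    (h : c • n ∈ J • (⊤ : Submodule R N)) (t : T) :
    LocalizedModule.mk n t ∈ J • (⊤ : Submodule R (LocalizedModule T N)) := by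
  let ψ : N →ₗ[R] LocalizedModule T N :=
    { toFun := fun w => LocalizedModule.mk w (⟨c, hc⟩ * t)
      map_add' := fun a b => by
        rw [LocalizedModule.mk_add_mk, LocalizedModule.mk_eq]
        exact ⟨1, by simp only [one_smul, Submonoid.smul_def, smul_add, mul_smul]⟩
      map_smul' := fun a w => by simp [LocalizedModule.smul'_mk] }
  have := Submodule.mem_map_of_mem (f := ψ) h
  rw [Submodule.map_smul''] at this
  rw [show LocalizedModule.mk n t = ψ (c • n) from
    (LocalizedModule.mk_cancel_common_left ⟨c, hc⟩ t n).symm]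
  exact Submodule.smul_mono le_rfl le_top this

set_option maxHeartbeats 1600000 in
/-- **Flatness at a point is checked at the associated points of the fibre below it.** -/
theorem flatAt_of_assFibre [Algebra.FiniteType R S] [Module.Finite S N] (p : Ideal R) [p.IsPrime]
    (q : Ideal S) [q.IsPrime] [q.LiesOver p]
    (h : ∀ (q' : Ideal S) [q'.IsPrime], q' ≤ q → q'.LiesOver p →
      FlatCA.fiberIdeal p q' ∈ associatedPrimes (p.Fiber S) (FlatCA.fiberMod p S N) →
      FlatCA.FlatAt R q' N) : FlatCA.FlatAt R q N := by
  classical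
  have : IsNoetherianRing (p.Fiber S) := Algebra.FiniteType.isNoetherianRing p.ResidueField _
  have : Module.Finite (p.Fiber S) (FlatCA.fiberMod p S N) :=
    inferInstanceAs (Module.Finite (p.Fiber S) ((p.Fiber S) ⊗[S] N))
  have : Finite ↥(associatedPrimes (p.Fiber S) (FlatCA.fiberMod p S N)) :=
    (associatedPrimes.finite (p.Fiber S) (FlatCA.fiberMod p S N)).to_subtype
  let ι := {P : ↥(associatedPrimes (p.Fiber S) (FlatCA.fiberMod p S N)) //
    (P.1).comap (algebraMap S (p.Fiber S)) ≤ q}
  let Q : ι → Ideal S := fun i => (i.1.1).comap (algebraMap S (p.Fiber S))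
  have hQ : ∀ i, (Q i).IsPrime := fun i =>
    have := i.1.2.isPrime
    Ideal.comap_isPrime _ _
  have hQflat : ∀ i, FlatCA.FlatAt R (Q i) N := fun i => by
    have := i.1.2.isPrime
    obtain ⟨hover, heq⟩ := fiberPrime_spec p i.1.1
    exact h (Q i) i.2 hover (by rw [heq]; exact i.1.2)
  let A := Localization.AtPrime p
  let B := Localization.AtPrime q
  let Mi : ι → Type u := fun i => LocalizedModule (Q i).primeCompl N
  have hle : ∀ i, q.primeCompl ≤ (Q i).primeCompl := fun i c hc h' => hc (i.2 h')
  -- the map
  have hu : ∀ (i : ι) (c : q.primeCompl), IsUnit (algebraMap S (Module.End S (Mi i)) c) := fun i c =>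
    IsLocalizedModule.map_units (LocalizedModule.mkLinearMap (Q i).primeCompl N) ⟨c.1, hle i c.2⟩
  let ui : ∀ i, LocalizedModule q.primeCompl N →ₗ[S] Mi i := fun i =>
    IsLocalizedModule.lift q.primeCompl (LocalizedModule.mkLinearMap q.primeCompl N)
      (LocalizedModule.mkLinearMap (Q i).primeCompl N) (hu i)
  -- module structures over the local rings
  let γ : ∀ i, B →+* Localization.AtPrime (Q i) := fun i =>
    IsLocalization.lift (M := q.primeCompl) (g := algebraMap S (Localization.AtPrime (Q i)))
      fun c => IsLocalization.map_units (Localization.AtPrime (Q i)) ⟨c.1, hle i c.2⟩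
  let _ : ∀ i, Module B (Mi i) := fun i =>
    Module.compHom (LocalizedModule (Q i).primeCompl N) (γ i)
  have : ∀ i, IsScalarTower S B (Mi i) := fun i => .of_algebraMap_smul fun s x => by
    show γ i (algebraMap S B s) • x = s • x
    rw [IsLocalization.lift_eq, algebraMap_smul]
  have hAB : ∀ r : p.primeCompl, IsUnit (algebraMap R B r.1) := fun r => by
    rw [IsScalarTower.algebraMap_apply R S B]
    exact IsLocalization.map_units B
      (⟨algebraMap R S r.1, fun h' => r.2 ((Ideal.mem_of_liesOver q p r.1).2 h')⟩ : q.primeCompl)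
  let _ : Algebra A B := (IsLocalization.lift (M := p.primeCompl) (g := algebraMap R B) hAB).toAlgebra
  have : IsScalarTower R A B := .of_algebraMap_eq fun r =>
    (IsLocalization.lift_eq (M := p.primeCompl) (S := A) hAB r).symm
  have : Algebra.EssFiniteType S B := Algebra.EssFiniteType.of_isLocalization B q.primeCompl
  have : Algebra.EssFiniteType R B := Algebra.EssFiniteType.comp R S B
  have : Algebra.EssFiniteType A B := Algebra.EssFiniteType.of_comp R A B
  have : IsLocalHom (algebraMap A B) := ((local_hom_TFAE (algebraMap A B)).out 0 4).2 (by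
    refine le_antisymm (le_maximalIdeal (Ideal.comap_ne_top _ (maximalIdeal.isMaximal B).ne_top)) ?_
    rw [← IsLocalization.map_under p.primeCompl A (maximalIdeal A)]
    refine Ideal.map_le_iff_le_comap.2 ?_
    rw [IsLocalization.AtPrime.under_maximalIdeal A p, Ideal.comap_comap,
      ← IsScalarTower.algebraMap_eq, IsScalarTower.algebraMap_eq R S B, ← Ideal.comap_comap]
    exact (q.over_def p).le.trans
      (Ideal.comap_mono (IsLocalization.AtPrime.under_maximalIdeal B q).ge))
  let _ : Module A (LocalizedModule q.primeCompl N) :=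
    Module.compHom _ (algebraMap A B)
  have : IsScalarTower A B (LocalizedModule q.primeCompl N) := .of_algebraMap_smul fun _ _ => rfl
  let _ : ∀ i, Module A (Mi i) := fun i => Module.compHom (Mi i) (algebraMap A B)
  have : ∀ i, IsScalarTower A B (Mi i) := fun i => .of_algebraMap_smul fun _ _ => rfl
  have : ∀ i, IsScalarTower R A (Mi i) := fun i => .of_algebraMap_smul fun r x => by
    show algebraMap A B (algebraMap R A r) • x = r • x
    rw [← IsScalarTower.algebraMap_apply, IsScalarTower.algebraMap_apply R S B, algebraMap_smul,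
      algebraMap_smul]
  have : IsScalarTower R A (LocalizedModule q.primeCompl N) := .of_algebraMap_smul fun r x => by
    show algebraMap A B (algebraMap R A r) • x = r • x
    rw [← IsScalarTower.algebraMap_apply, IsScalarTower.algebraMap_apply R S B, algebraMap_smul,
      algebraMap_smul]
  have : ∀ i, Module.Flat A (Mi i) := fun i =>
    (Module.flat_iff_of_isLocalization A p.primeCompl _).2 (hQflat i)
  have : Module.Finite B (LocalizedModule q.primeCompl N) :=
    Module.Finite.of_isLocalizedModule q.primeCompl (LocalizedModule.mkLinearMap q.primeCompl N)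
  have : Fintype ι := Fintype.ofFinite ι
  let u : LocalizedModule q.primeCompl N →ₗ[B] (∀ i, Mi i) :=
    LinearMap.pi fun i => (ui i).extendScalarsOfIsLocalization q.primeCompl B
  have hpA : ∀ (X : Type u) [AddCommGroup X] [Module R X] [Module A X] [IsScalarTower R A X] (x : X),
      x ∈ maximalIdeal A • (⊤ : Submodule A X) ↔ x ∈ p • (⊤ : Submodule R X) := fun X _ _ _ _ x => by
    rw [smul_top_restrict (B := A) p x, Localization.AtPrime.map_eq_maximalIdeal]
  have hinj : ModInj (u.restrictScalars A) := by
    intro x hx
    rw [hpA] at hx ⊢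
    induction x using LocalizedModule.induction_on with
    | h n s =>
      by_contra hne
      have hzQ : CAlgH3.annEl S (FlatCA.toFiberMod p S N n) ≤ q := fun d hd => by
        by_contra hdq
        have h0 := CAlgH3.mem_annEl.1 hd
        rw [← map_smul] at h0
        obtain ⟨r, hr, hrd⟩ := (CAlgH3.FiberMod.toFiberMod_eq_zero_iff N p _).1 h0
        rw [← smul_top_restrict, smul_smul] at hrd
        exact hne (mkLinearMap_mem_smul_of_smul_mem q.primeCompl p n (algebraMap R S r * d)
          (q.primeCompl.mul_mem (fun h' => hr ((Ideal.mem_of_liesOver q p r).2 h')) hdq) hrd s)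
      obtain ⟨P, _, hPp, hPass, hzP, hPq⟩ := exists_assFibre_prime p _ q hzQ
      let i : ι := ⟨⟨FlatCA.fiberIdeal p P, hPass⟩, (comap_fiberIdeal p P).le.trans hPq⟩
      have hxi : ui i (LocalizedModule.mk n s) ∈ p • (⊤ : Submodule R (Mi i)) := by
        have := Submodule.mem_map_of_mem
          (f := (LinearMap.proj (R := R) (φ := Mi) i)) hx
        rw [Submodule.map_smul''] at this
        exact Submodule.smul_mono le_rfl le_top this
      have h1 : LocalizedModule.mkLinearMap (Q i).primeCompl N n ∈
          p • (⊤ : Submodule R (Mi i)) := by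
        have h2 := smul_mem_smul_top p (s : S) hxi
        rwa [← map_smul, LocalizedModule.smul'_mk, show LocalizedModule.mk ((s : S) • n) s =
          LocalizedModule.mkLinearMap q.primeCompl N n from LocalizedModule.mk_cancel s n,
          IsLocalizedModule.lift_apply] at h2
      obtain ⟨c, hc, hcn⟩ := exists_smul_mem_of_mk_mem (Q i).primeCompl p n h1
      have h0 : FlatCA.toFiberMod p S N (c • n) = 0 :=
        (CAlgH3.FiberMod.toFiberMod_eq_zero_iff N p _).2 ⟨1, Ideal.one_notMem p, by
          rw [map_one, one_smul, ← smul_top_restrict]; exact hcn⟩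
      rw [map_smul] at h0
      refine hc ?_
      show c ∈ Ideal.comap (algebraMap S (p.Fiber S)) (FlatCA.fiberIdeal p P)
      rw [comap_fiberIdeal]
      exact hzP (CAlgH3.mem_annEl.2 h0)
  have : Module.Flat A (∀ i, Mi i) :=
    Module.Flat.of_linearEquiv (DirectSum.linearEquivFunOnFintype A ι Mi).symm
  obtain ⟨-, -, -, hflat, -⟩ := injMod_of_essFiniteType u hinj
  exact (Module.flat_iff_of_isLocalization A p.primeCompl _).1 hflat

end Groth.Agent.FlatMorDevissage
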