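import Groth.Agent.FlatMorDevissage.InjMod

/-!
# Flat localised modules of a chain are unions of free modules, universally injectively
-/

set_option autoImplicit false
set_option backward.isDefEq.respectTransparency false

universe u

open TensorProduct Function IsLocalRing

namespace Groth.Agent.FlatMorDevissage

open Groth.Agent

section Basic

variable {R : Type u} [CommRing R] [IsLocalRing R] {N : Type u} [AddCommGroup N] [Module R N]

variable (R N) in
/-- Every finite family lies in the image of a free module mapping injectively modulo the maximal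
ideal. -/
def LocFree : Prop :=
  ∀ (k : ℕ) (x : Fin k → N), ∃ (F : Type u) (_ : AddCommGroup F) (_ : Module R F)
    (_ : Module.Free R F) (φ : F →ₗ[R] N), ModInj φ ∧ ∀ i, x i ∈ LinearMap.range φ

theorem LocFree.of_subsingleton [Subsingleton N] : LocFree R N := fun _ x =>
  ⟨N, inferInstance, inferInstance, inferInstance, LinearMap.id, fun _ h => h, fun i => ⟨x i, rfl⟩⟩

theorem LocFree.of_equiv {N' : Type u} [AddCommGroup N'] [Module R N'] (h : LocFree R N)
    (e : N ≃ₗ[R] N') : LocFree R N' := fun k x => by
  obtain ⟨F, _, _, _, φ, hφ, hx⟩ := h k (fun i => e.symm (x i))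
  refine ⟨F, inferInstance, inferInstance, inferInstance, e.toLinearMap ∘ₗ φ, fun f hf => ?_,
    fun i => ?_⟩
  · refine hφ f ?_
    have := (Submodule.map_smul'' (maximalIdeal R) ⊤ e.symm.toLinearMap).trans_le
      (Submodule.smul_mono le_rfl le_top) (Submodule.mem_map_of_mem hf)
    simpa using this
  · obtain ⟨f, hf⟩ := hx i
    exact ⟨f, by simp [hf]⟩

theorem LocFree.of_exact {N₁ N₂ : Type u} [AddCommGroup N₁] [Module R N₁] [AddCommGroup N₂]
    [Module R N₂] (a : N₁ →ₗ[R] N) (b : N →ₗ[R] N₂) (hab : Exact a b) (hb : Surjective b)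
    (ha : ModInj a) (h₁ : LocFree R N₁) (h₂ : LocFree R N₂) : LocFree R N := fun k x => by
  classical
  obtain ⟨F₂, _, _, _, φ₂, hφ₂, hx₂⟩ := h₂ k (fun i => b (x i))
  choose f₂ hf₂ using hx₂
  obtain ⟨ψ, hψ⟩ := Module.projective_lifting_property b φ₂ hb
  have hv : ∀ i, ∃ v, a v = x i - ψ (f₂ i) := fun i => (hab _).1 (by
    rw [map_sub, sub_eq_zero, ← hf₂ i]
    exact (congr($hψ (f₂ i))).symm)
  choose v hv using hv
  obtain ⟨F₁, _, _, _, φ₁, hφ₁, hx₁⟩ := h₁ k v
  choose f₁ hf₁ using hx₁
  refine ⟨F₁ × F₂, inferInstance, inferInstance, inferInstance, (a ∘ₗ φ₁).coprod ψ, ?_, fun i => ?_⟩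
  · rintro ⟨g₁, g₂⟩ hg
    rw [LinearMap.coprod_apply, LinearMap.comp_apply] at hg
    have h2 : g₂ ∈ maximalIdeal R • (⊤ : Submodule R F₂) := by
      refine hφ₂ g₂ ?_
      have := (Submodule.map_smul'' (maximalIdeal R) ⊤ b).trans_le
        (Submodule.smul_mono le_rfl le_top) (Submodule.mem_map_of_mem hg)
      rwa [map_add, hab.apply_apply_eq_zero, zero_add,
        show b (ψ g₂) = φ₂ g₂ from congr($hψ g₂)] at this
    have hψg : ψ g₂ ∈ maximalIdeal R • (⊤ : Submodule R N) :=
      (Submodule.map_smul'' (maximalIdeal R) ⊤ ψ).trans_le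
        (Submodule.smul_mono le_rfl le_top) (Submodule.mem_map_of_mem h2)
    have h1 : g₁ ∈ maximalIdeal R • (⊤ : Submodule R F₁) :=
      hφ₁ g₁ (ha _ (by simpa using sub_mem hg hψg))
    have e : ((g₁, g₂) : F₁ × F₂) =
        LinearMap.inl R F₁ F₂ g₁ + LinearMap.inr R F₁ F₂ g₂ := by simp
    rw [e]
    exact add_mem
      ((Submodule.map_smul'' (maximalIdeal R) ⊤ (LinearMap.inl R F₁ F₂)).trans_le
        (Submodule.smul_mono le_rfl le_top) (Submodule.mem_map_of_mem h1))
      ((Submodule.map_smul'' (maximalIdeal R) ⊤ (LinearMap.inr R F₁ F₂)).trans_le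
        (Submodule.smul_mono le_rfl le_top) (Submodule.mem_map_of_mem h2))
  · exact ⟨(f₁ i, f₂ i), by
      rw [LinearMap.coprod_apply, LinearMap.comp_apply, hf₁, hv, sub_add_cancel]⟩

end Basic

section Key

variable {R D G : Type u} [CommRing R] [IsLocalRing R] [CommRing D] [Algebra R D] [Algebra.Smooth R D]
  [((maximalIdeal R).map (algebraMap R D)).IsPrime] [AddCommGroup G] [Module D G] [Module R G]
  [IsScalarTower R D G]

/-- The localised free module of a step. -/
theorem locFree_localized_pi (hdom : FibresDomain R D) (y : Ideal D) [y.IsPrime]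
    (hy : (maximalIdeal R).map (algebraMap R D) ≤ y) (r : ℕ) :
    LocFree R (LocalizedModule y.primeCompl (Fin r → D)) := fun k x => by
  classical
  have : Module.Free R D := free_of_fibresDomain hdom
  obtain ⟨s, hs⟩ := IsLocalizedModule.exist_integer_multiples y.primeCompl
    (LocalizedModule.mkLinearMap y.primeCompl (Fin r → D)) Finset.univ x
  let ψ : (Fin r → D) →ₗ[R] LocalizedModule y.primeCompl (Fin r → D) :=
    { toFun := fun w => LocalizedModule.mk w s
      map_add' := fun a b => by
        rw [LocalizedModule.mk_add_mk, LocalizedModule.mk_eq]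
        exact ⟨1, by simp only [one_smul, Submonoid.smul_def, smul_add, mul_smul]⟩
      map_smul' := fun a w => by simp [LocalizedModule.smul'_mk] }
  have hψs : ∀ w, (s : D) • ψ w = LocalizedModule.mkLinearMap y.primeCompl (Fin r → D) w := fun w => by
    show (s : D) • LocalizedModule.mk w s = LocalizedModule.mk w 1
    rw [LocalizedModule.smul'_mk]
    exact LocalizedModule.mk_cancel s w
  refine ⟨Fin r → D, inferInstance, inferInstance, inferInstance, ψ, fun w hw => ?_, fun i => ?_⟩
  · have h1 : LocalizedModule.mkLinearMap y.primeCompl (Fin r → D) w ∈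
        maximalIdeal R • (⊤ : Submodule R (LocalizedModule y.primeCompl (Fin r → D))) := by
      have := smul_mem_smul_top (maximalIdeal R) (s : D) hw
      rwa [show (s : D) • ψ w = LocalizedModule.mkLinearMap y.primeCompl (Fin r → D) w from
        hψs w] at this
    obtain ⟨c, hc, hcw⟩ := exists_smul_mem_of_mk_mem y.primeCompl _ w h1
    refine mem_smul_top_of_mem_ξ w fun i => ?_
    have h2 := (Submodule.map_smul'' (maximalIdeal R) ⊤
      (LinearMap.proj (R := R) (φ := fun _ : Fin r => D) i)).trans_le
      (Submodule.smul_mono le_rfl le_top) (Submodule.mem_map_of_mem hcw)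
    rw [Ideal.smul_top_eq_map, Submodule.restrictScalars_mem] at h2
    exact (Ideal.IsPrime.mem_or_mem ‹_› h2).resolve_left fun h => hc (hy h)
  · obtain ⟨w, hw⟩ := hs i (Finset.mem_univ i)
    refine ⟨w, ?_⟩
    have hu := (Module.End.isUnit_iff _).1 (IsLocalizedModule.map_units
      (LocalizedModule.mkLinearMap y.primeCompl (Fin r → D)) s)
    refine hu.1 (show (s : D) • ψ w = (s : D) • x i from ?_)
    rw [hψs w, hw]

/-- A step of the dévissage. -/
theorem locFree_step (hdom : FibresDomain R D) (y : Ideal D) [y.IsPrime]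
    (hy : (maximalIdeal R).map (algebraMap R D) ≤ y) {r : ℕ} (α : (Fin r → D) →ₗ[D] G)
    (hα : Injective (α.baseChange ((maximalIdeal R).map (algebraMap R D)).ResidueField))
    (hflat : FlatCA.FlatAt R y G)
    (h : LocFree R (LocalizedModule y.primeCompl (G ⧸ LinearMap.range α))) :
    LocFree R (LocalizedModule y.primeCompl G) := by
  have : Module.Flat R (LocalizedModule y.primeCompl G) := hflat
  refine LocFree.of_exact ((LocalizedModule.map y.primeCompl α).restrictScalars R)
    ((LocalizedModule.map y.primeCompl (LinearMap.range α).mkQ).restrictScalars R)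
    (LocalizedModule.map_exact _ α _ (LinearMap.exact_map_mkQ_range α))
    (LocalizedModule.map_surjective _ _ (Submodule.mkQ_surjective _)) ?_
    (locFree_localized_pi hdom y hy r) h
  intro z hz
  exact reflects_localized_comp hdom y hy α hα LinearMap.id (fun _ h => h) (maximalIdeal R) z hz

end Key

section Transfer

variable {R B A : Type u} [CommRing R] [IsLocalRing R] [CommRing B] [CommRing A] [Algebra B A]
  [Algebra R B] [Algebra R A] [IsScalarTower R B A] {y : Ideal B} [y.IsPrime]
  {Q : Ideal A} [Q.IsPrime] [Q.LiesOver y] {G : Type u} [AddCommGroup G] [Module A G] [Module B G]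
  [IsScalarTower B A G] [Module R G] [IsScalarTower R B G] [IsScalarTower R A G]

theorem locFree_iff (h : DividesBase y Q) :
    LocFree R (LocalizedModule Q.primeCompl G) ↔
      LocFree R (LocalizedModule y.primeCompl G) := by
  have := isLocalizedModule_restrictScalars (G := G) h
  have : IsScalarTower R B (LocalizedModule Q.primeCompl G) := ⟨fun r b z => by
    induction z using LocalizedModule.induction_on with
    | h g s => simp only [LocalizedModule.smul'_mk, smul_assoc]⟩
  let e := (IsLocalizedModule.iso y.primeCompl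
    ((LocalizedModule.mkLinearMap Q.primeCompl G).restrictScalars B)).restrictScalars R
  exact ⟨fun hf => hf.of_equiv e.symm, fun hf => hf.of_equiv e⟩

end Transfer

theorem LocFree.localized_congr {R B : Type u} [CommRing R] [IsLocalRing R] [CommRing B]
    [Algebra R B] {y : Ideal B} [y.IsPrime] {G G' : Type u} [AddCommGroup G] [Module B G] [Module R G]
    [IsScalarTower R B G] [AddCommGroup G'] [Module B G'] [Module R G'] [IsScalarTower R B G']
    (h : LocFree R (LocalizedModule y.primeCompl G')) (e : G ≃ₗ[B] G') :
    LocFree R (LocalizedModule y.primeCompl G) := by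
  have : IsLocalizedModule y.primeCompl
      ((LocalizedModule.mkLinearMap y.primeCompl G').comp e.toLinearMap) :=
    IsLocalizedModule.of_linearEquiv_right _ _ e
  exact h.of_equiv ((IsLocalizedModule.iso y.primeCompl
    ((LocalizedModule.mkLinearMap y.primeCompl G').comp e.toLinearMap)).restrictScalars R).symm

theorem Step.locFree {R : Type u} [CommRing R] [IsLocalRing R] {S : Type u} [CommRing S]
    [Algebra R S] {N : Type u} [AddCommGroup N] [Module S N] [Module R N] [IsScalarTower R S N]
    {q : Ideal S} [q.IsPrime] (s : Step R (maximalIdeal R) S N q) (hflat : FlatCA.FlatAt R q N)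
    (h : ∀ [Module R (s.M ⧸ LinearMap.range s.α)] [IsScalarTower R s.B (s.M ⧸ LinearMap.range s.α)],
      FlatCA.FlatAt R s.qB (s.M ⧸ LinearMap.range s.α) →
      LocFree R (LocalizedModule s.qB.primeCompl (s.M ⧸ LinearMap.range s.α))) :
    LocFree R (LocalizedModule q.primeCompl N) := by
  let _ : Module R s.M := Module.compHom s.M (algebraMap R s.B)
  have : IsScalarTower R s.B s.M := .of_algebraMap_smul fun _ _ => rfl
  have : IsScalarTower R s.A s.M := isScalarTower_of_three R s.B s.A s.M
  have : IsScalarTower R S s.M := isScalarTower_of_top R S s.A s.M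
  have := s.smooth
  have := s.finiteBA
  have : s.qA.LiesOver q := ⟨s.q0.symm⟩
  have hdB := dividesBase_of_finite s.qB s.qA fun Q _ hQ => s.uniq Q hQ
  have hfB : FlatCA.FlatAt R s.qB s.M := (flatAt_iff hdB).1
    ((flatAt_iff (dividesBase_of_surjective s.surjSA q s.qA)).2 ((flatAt_congr s.isoN).1 hflat))
  have hy := Ideal.map_le_iff_le_comap.2 (s.qB.over_def (maximalIdeal R)).le
  have hB : LocFree R (LocalizedModule s.qB.primeCompl s.M) :=
    locFree_step s.dom s.qB hy s.α s.fibreIso.injective hfB
      (h (key s.dom s.qB hy s.α s.fibreIso.injective hfB).2.2)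
  exact ((locFree_iff (dividesBase_of_surjective s.surjSA q s.qA)).1
    ((locFree_iff hdB).2 hB)).localized_congr s.isoN

/-- Flat at the point of a chain over a local base: a universally injective union of free modules. -/
theorem Chain.locFree {R : Type u} [CommRing R] [IsLocalRing R] {S : Type u} [CommRing S]
    [Algebra R S] {N : Type u} [AddCommGroup N] [Module S N] {q : Ideal S}
    (hc : Chain R (maximalIdeal R) S N q) [Module R N] [IsScalarTower R S N] [q.IsPrime]
    (hflat : FlatCA.FlatAt R q N) : LocFree R (LocalizedModule q.primeCompl N) := by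
  rename_i iR it hq
  revert iR it hq
  induction hc with
  | last s hs =>
    intro _ _ _ hflat
    refine s.locFree hflat fun {_} {_} _ => ?_
    have : Subsingleton (s.M ⧸ LinearMap.range s.α) :=
      Submodule.Quotient.subsingleton_iff.2 (LinearMap.range_eq_top.2 hs)
    have : Subsingleton (LocalizedModule s.qB.primeCompl (s.M ⧸ LinearMap.range s.α)) :=
      (IsLocalizedModule.iso s.qB.primeCompl
        (LocalizedModule.mkLinearMap s.qB.primeCompl (s.M ⧸ LinearMap.range s.α))).symm.toEquiv.subsingleton
    exact .of_subsingleton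
  | cons s _ ih =>
    intro _ _ _ hflat
    exact s.locFree hflat fun {_} {_} hf => ih (hq := s.hqB) hf

end Groth.Agent.FlatMorDevissage
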