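import Groth.Agent.FlatMorDevissage.GoodNhd

/-!
# The neighbourhood of the smooth ring that the induction on the dimension needs
-/

set_option autoImplicit false
set_option backward.isDefEq.respectTransparency false

universe u

open TensorProduct Function

namespace Groth.Agent.FlatMorDevissage

open Groth.Agent

attribute [local instance] Algebra.TensorProduct.rightAlgebra

/-- A module killed by an element invertible in `T` becomes zero over `T`. -/
theorem subsingleton_tensor_of_isUnit {D T Q : Type u} [CommRing D] [CommRing T] [Algebra D T]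
    [AddCommGroup Q] [Module D Q] {d : D} (hd : d ∈ Module.annihilator D Q)
    (hu : IsUnit (algebraMap D T d)) : Subsingleton (T ⊗[D] Q) := by
  refine subsingleton_of_forall_eq 0 fun x => ?_
  induction x with
  | zero => rfl
  | add a b ha hb => rw [ha, hb, add_zero]
  | tmul t q =>
    have : t = d • (t * ↑hu.unit⁻¹) := by
      rw [Algebra.smul_def, mul_left_comm, IsUnit.mul_val_inv, mul_one]
    rw [this, TensorProduct.smul_tmul, Module.mem_annihilator.1 hd q, TensorProduct.tmul_zero]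

set_option maxHeartbeats 1000000 in
/-- Over an etale neighbourhood of the smooth ring: integral fibres, and either a zero module or a
chain. -/
theorem exists_good_nhd {R : Type u} [CommRing R] {p : Ideal R} [p.IsPrime] {D : Type u} [CommRing D]
    [Algebra R D] {n : ℕ} (hsm : FlatCA.SmoothRelDim n R D) (hdom : FibresDomain R D) {y : Ideal D}
    [y.IsPrime] [y.LiesOver p] (hpt : FlatCA.PurelyTranscendental p y) (Q : Type u) [AddCommGroup Q]
    [Module D Q] (h : ¬ Module.annihilator D Q ≤ y ∨ HasChainNhd R p D Q y) :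
    ∃ (R' B' : Type u) (_ : CommRing R') (_ : CommRing B') (_ : Algebra R R') (_ : Algebra D B')
      (_ : Algebra R' B') (_ : Algebra R B') (_ : IsScalarTower R R' B') (_ : IsScalarTower R D B')
      (p' : Ideal R') (y' : Ideal B') (_ : p'.IsPrime) (_ : y'.IsPrime),
      FlatCA.IsEtaleNhd R R' p p' ∧ FlatCA.IsEtaleNhd D B' y y' ∧ y'.LiesOver p' ∧
      FibresDomain R' B' ∧ (Subsingleton (B' ⊗[D] Q) ∨ Chain R' p' B' (B' ⊗[D] Q) y') := by
  have : Algebra.Smooth R D := smooth_of_smoothRelDim hsm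
  rcases h with h | ⟨R₁, D₁, _, _, _, _, _, _, _, _, p₁, y₁, _, _, hR₁, hD₁, hy₁p, hch⟩
  · obtain ⟨d, hdQ, hdy⟩ := SetLike.not_le_iff_exists.1 h
    obtain ⟨f, hf, hlift⟩ := exists_notMem_forall_lift p y d hdy
    let R₅ := Localization.Away f
    obtain ⟨p₅, hp₅, hR₅⟩ := isEtaleNhd_away (L := R₅) f p hf
    let Z := R₅ ⊗[R] D
    let T := Localization.Away ((1 : R₅) ⊗ₜ[R] d : Z)
    have : IsScalarTower R D T := .of_algebraMap_eq fun r => by
      rw [IsScalarTower.algebraMap_apply R Z T, IsScalarTower.algebraMap_apply D Z T,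
        ← IsScalarTower.algebraMap_apply R D Z]
    have : IsScalarTower R R₅ T := .of_algebraMap_eq fun r => by
      rw [IsScalarTower.algebraMap_apply R Z T, IsScalarTower.algebraMap_apply R₅ Z T,
        ← IsScalarTower.algebraMap_apply R R₅ Z]
    obtain ⟨y', hy', hB, hy'p⟩ := exists_prime_away_tensor p p₅ hR₅ y hdy T
    refine ⟨R₅, T, inferInstance, inferInstance, inferInstance, inferInstance, inferInstance,
      inferInstance, inferInstance, inferInstance, p₅, y', hp₅, hy', hR₅, hB, hy'p,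
      fibresDomain_away_tensor hdom R₅ d f (IsLocalization.Away.algebraMap_isUnit f) hlift,
      Or.inl (subsingleton_tensor_of_isUnit hdQ ?_)⟩
    rw [IsScalarTower.algebraMap_apply D Z T]
    exact IsLocalization.Away.algebraMap_isUnit ((1 : R₅) ⊗ₜ[R] d)
  · obtain ⟨hR₁e, hR₁o, hR₁b⟩ := id hR₁
    obtain ⟨hD₁e, hD₁o, hD₁b⟩ := id hD₁
    have c₁ : Chain R₁ p₁ D₁ (D₁ ⊗[D] Q) y₁ :=
      hch (D₁ ⊗[D] Q) (TensorProduct.mk D D₁ Q 1) (TensorProduct.isBaseChange D Q D₁)
    have hsm₁ : FlatCA.SmoothRelDim n R₁ D₁ := smoothRelDim_of_etale (R := R) (B := D) hsm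
    have hpt₁ : FlatCA.PurelyTranscendental p₁ y₁ :=
      purelyTranscendental_transfer p p₁ y y₁ hR₁b hD₁b hpt
    obtain ⟨R₄, T₁, _, _, _, _, _, _, _, _, p₄, y₄, _, _, hR₄, hT₁, hy₄p, ⟨g, hg, hgood⟩, c₂⟩ :=
      exists_chain_goodAt c₁ hsm₁ hpt₁
    have := hR₄.1
    have := hT₁.1
    have : Algebra.Smooth R₄ T₁ :=
      smooth_of_smoothRelDim (smoothRelDim_of_etale (R := R₁) (B := D₁) (R' := R₄) (B' := T₁) hsm₁)
    obtain ⟨R₅, T₂, _, _, _, _, _, _, _, _, p₅, y₅, _, _, hR₅, hT₂, hy₅p, hdom₅, c₃⟩ :=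
      exists_chain_fibresDomain c₂ hg hgood
    let _ : Algebra R R₄ := ((algebraMap R₁ R₄).comp (algebraMap R R₁)).toAlgebra
    have : IsScalarTower R R₁ R₄ := .of_algebraMap_eq' rfl
    let _ : Algebra R R₅ := ((algebraMap R₄ R₅).comp (algebraMap R R₄)).toAlgebra
    have : IsScalarTower R R₄ R₅ := .of_algebraMap_eq' rfl
    let _ : Algebra D T₁ := ((algebraMap D₁ T₁).comp (algebraMap D D₁)).toAlgebra
    have : IsScalarTower D D₁ T₁ := .of_algebraMap_eq' rfl
    let _ : Algebra D T₂ := ((algebraMap T₁ T₂).comp (algebraMap D T₁)).toAlgebra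
    have : IsScalarTower D T₁ T₂ := .of_algebraMap_eq' rfl
    let _ : Algebra D₁ T₂ := ((algebraMap T₁ T₂).comp (algebraMap D₁ T₁)).toAlgebra
    have : IsScalarTower D₁ T₁ T₂ := .of_algebraMap_eq' rfl
    have : IsScalarTower D D₁ T₂ := .of_algebraMap_eq' rfl
    let _ : Algebra R T₂ := ((algebraMap R₅ T₂).comp (algebraMap R R₅)).toAlgebra
    have : IsScalarTower R D T₂ := .of_algebraMap_eq fun r => by
      show algebraMap R₅ T₂ (algebraMap R₄ R₅ (algebraMap R₁ R₄ (algebraMap R R₁ r))) =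
        algebraMap T₁ T₂ (algebraMap D₁ T₁ (algebraMap D D₁ (algebraMap R D r)))
      rw [← IsScalarTower.algebraMap_apply R₄ R₅ T₂, IsScalarTower.algebraMap_apply R₄ T₁ T₂,
        ← IsScalarTower.algebraMap_apply R₁ R₄ T₁, IsScalarTower.algebraMap_apply R₁ D₁ T₁,
        ← IsScalarTower.algebraMap_apply R R₁ D₁, IsScalarTower.algebraMap_apply R D D₁]
    refine ⟨R₅, T₂, inferInstance, inferInstance, inferInstance, inferInstance, inferInstance,
      inferInstance, .of_algebraMap_eq' rfl, inferInstance, p₅, y₅, ‹_›, ‹_›,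
      isEtaleNhd_comp (isEtaleNhd_comp hR₁ hR₄) hR₅, isEtaleNhd_comp (isEtaleNhd_comp hD₁ hT₁) hT₂,
      hy₅p, hdom₅, Or.inr (c₃.congr ?_)⟩
    exact ((TensorProduct.AlgebraTensorModule.cancelBaseChange D₁ T₁ T₂ T₂ (D₁ ⊗[D] Q)).trans
      (TensorProduct.AlgebraTensorModule.cancelBaseChange D D₁ T₂ T₂ Q)).symm

end Groth.Agent.FlatMorDevissage
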