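import Groth.Agent.HenselLib.PtPrime
import Groth.Agent.HenselLib.HullFlat
import Groth.Prelude.Def_FlatCA

/-!
# A flat local algebra receiving all etale neighbourhoods of a prime
-/

set_option autoImplicit false
set_option backward.isDefEq.respectTransparency false

universe u

open Function

namespace Groth.Agent.FlatMorDevissage

open Groth.Agent

/-- A local algebra `H` over `R` with maximal ideal `pH` and residue field `κ(p)` which receives
every elementary etale neighbourhood of `p`. -/
structure IsPointHull (R : Type u) [CommRing R] (p : Ideal R) [p.IsPrime] (H : Type u) [CommRing H]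
    [Algebra R H] (m : Ideal H) : Prop where
  isPrime : m.IsPrime
  le_jacobson : ∀ x, x ∉ m → IsUnit x
  eq_map : m = p.map (algebraMap R H)
  over : m.LiesOver p
  res : ∀ x : H, ∃ a s : R, s ∉ p ∧ algebraMap R H s * x - algebraMap R H a ∈ m
  factor : ∀ (R' : Type u) [CommRing R'] [Algebra R R'] (p' : Ideal R') [p'.IsPrime],
    FlatCA.IsEtaleNhd R R' p p' → ∃ φ : R' →ₐ[R] H, m.comap φ.toRingHom = p'

theorem exists_pointHull {R : Type u} [CommRing R] (p : Ideal R) [p.IsPrime] :
    ∃ (H : Type u) (_ : CommRing H) (_ : Algebra R H) (m : Ideal H),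
      Module.Flat R H ∧ IsPointHull R p H m := by
  let H := HenselLib.Hull R p.ResidueField
  let σ₀ := HenselLib.hullPt R p.ResidueField
  let m : Ideal H := RingHom.ker σ₀
  have hm : m = p.map (algebraMap R H) :=
    HenselLib.PtPrime.ker_hullPt_eq_map p p.ker_algebraMap_residueField
  refine ⟨H, inferInstance, inferInstance, m, HenselLib.flat_hull, ⟨RingHom.ker_isPrime _,
    fun x hx => HenselLib.isUnit_of_isUnit_hullPt (Ne.isUnit hx), hm, ⟨?_⟩, fun x => ?_,
    fun R' _ _ p' _ hR => ?_⟩⟩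
  · ext r
    show r ∈ p ↔ σ₀ (algebraMap R H r) = 0
    rw [AlgHom.commutes, Ideal.algebraMap_residueField_eq_zero]
  · obtain ⟨a, s, hs, h⟩ := HenselLib.PtPrime.exists_mul_eq p (σ₀ x)
    refine ⟨a, s, hs, ?_⟩
    show σ₀ _ = 0
    rw [map_sub, map_mul, AlgHom.commutes, AlgHom.commutes, h, sub_self]
  · obtain ⟨he, ho, hb⟩ := hR
    obtain ⟨σ, hσ⟩ := HenselLib.PtPrime.exists_point p p' ho.over hb
    obtain ⟨P, e, hPe⟩ := HenselLib.Pt.exists_equiv R' σ
    refine ⟨(HenselLib.ι P).comp e.symm.toAlgHom, ?_⟩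
    ext r
    show σ₀ (HenselLib.ι P (e.symm r)) = 0 ↔ r ∈ p'
    rw [HenselLib.hullPt_ι, ← hPe, e.apply_symm_apply, ← hσ]
    rfl

end Groth.Agent.FlatMorDevissage

namespace Groth.Agent.FlatMorDevissage

open Groth.Agent

/-- A residue extension is trivial when all elements are fractions from below modulo the prime. -/
theorem bijective_residueField_of_res {A H : Type u} [CommRing A] [CommRing H] [Algebra A H]
    (P : Ideal A) [P.IsPrime] (m : Ideal H) [m.IsPrime] [m.LiesOver P]
    (hres : ∀ x : H, ∃ a s : A, s ∉ P ∧ algebraMap A H s * x - algebraMap A H a ∈ m) :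
    Bijective (Ideal.ResidueField.mapₐ P m (Algebra.ofId A H) (m.over_def P)) := by
  set f := Ideal.ResidueField.mapₐ P m (Algebra.ofId A H) (m.over_def P) with hf
  refine ⟨RingHom.injective f.toRingHom, ?_⟩
  have key : ∀ x : H, ∃ z, f z = algebraMap H m.ResidueField x := fun x => by
    obtain ⟨a, s, hs, hm⟩ := hres x
    refine ⟨algebraMap A P.ResidueField a / algebraMap A P.ResidueField s, ?_⟩
    have hs' : algebraMap A m.ResidueField s ≠ 0 := by
      rw [IsScalarTower.algebraMap_apply A H m.ResidueField, Ne,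
        Ideal.algebraMap_residueField_eq_zero]
      exact fun h => hs ((Ideal.mem_of_liesOver m P s).2 h)
    rw [map_div₀, f.commutes, f.commutes, div_eq_iff hs']
    rw [← Ideal.algebraMap_residueField_eq_zero (I := m), map_sub, map_mul, sub_eq_zero,
      ← IsScalarTower.algebraMap_apply, ← IsScalarTower.algebraMap_apply] at hm
    rw [← hm, mul_comm]
  intro y
  obtain ⟨y, rfl⟩ := IsLocalRing.residue_surjective y
  obtain ⟨a, ⟨c, hc⟩, rfl⟩ := IsLocalization.exists_mk'_eq m.primeCompl y
  obtain ⟨za, hza⟩ := key a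
  obtain ⟨zc, hzc⟩ := key c
  refine ⟨za / zc, ?_⟩
  have hc' : algebraMap H m.ResidueField c ≠ 0 := by
    rw [Ne, Ideal.algebraMap_residueField_eq_zero]; exact hc
  rw [map_div₀, hza, hzc, div_eq_iff hc']
  exact (congrArg (IsLocalRing.residue (Localization.AtPrime m))
    (IsLocalization.mk'_spec (Localization.AtPrime m) a (⟨c, hc⟩ : m.primeCompl))).symm.trans
      (map_mul _ _ _)

variable {R : Type u} [CommRing R] {p : Ideal R} [p.IsPrime] {H : Type u} [CommRing H]
  [Algebra R H] {m : Ideal H}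

/-- A quotient of a point hull is a point hull. -/
theorem IsPointHull.quotient (h : IsPointHull R p H m) (J : Ideal H) (hJ : J ≤ m) :
    IsPointHull R p (H ⧸ J) (m.map (Ideal.Quotient.mk J)) := by
  have := h.isPrime
  have hc : (m.map (Ideal.Quotient.mk J)).comap (Ideal.Quotient.mk J) = m :=
    Ideal.comap_map_mk hJ
  have hmem : ∀ x : H, Ideal.Quotient.mk J x ∈ m.map (Ideal.Quotient.mk J) ↔ x ∈ m := fun x => by
    rw [← Ideal.mem_comap, hc]
  refine ⟨Ideal.map_isPrime_of_surjective Ideal.Quotient.mk_surjective (by rwa [Ideal.mk_ker]),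
    fun x hx => ?_, ?_, ⟨?_⟩, fun x => ?_, fun R' _ _ p' _ hR => ?_⟩
  · obtain ⟨x, rfl⟩ := Ideal.Quotient.mk_surjective x
    exact (h.le_jacobson x fun hx' => hx ((hmem x).2 hx')).map _
  · rw [h.eq_map, Ideal.map_map]
    rfl
  · rw [h.over.over]
    ext r
    exact (hmem _).symm
  · obtain ⟨x, rfl⟩ := Ideal.Quotient.mk_surjective x
    obtain ⟨a, s, hs, hm⟩ := h.res x
    exact ⟨a, s, hs, (hmem _).2 hm⟩
  · obtain ⟨φ, hφ⟩ := h.factor R' p' hR
    refine ⟨(Ideal.Quotient.mkₐ R J).comp φ, ?_⟩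
    rw [← hφ]
    ext r
    exact hmem _

theorem IsPointHull.eq_of_isMaximal (h : IsPointHull R p H m) (m' : Ideal H) [m'.IsMaximal] :
    m' = m := by
  refine Ideal.IsMaximal.eq_of_le ‹_› h.isPrime.ne_top fun x hx => ?_
  by_contra hxm
  exact ‹m'.IsMaximal›.ne_top (Ideal.eq_top_of_isUnit_mem _ hx (h.le_jacobson x hxm))

end Groth.Agent.FlatMorDevissage
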