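import Groth.Agent.FlatMorDevissage.PureDescend

/-!
# Impurities and closed immersions
-/

set_option autoImplicit false
set_option backward.isDefEq.respectTransparency false

universe u

open TensorProduct Function

namespace Groth.Agent.FlatMorDevissage.ImpurityClosed

open Groth.Agent

attribute [local instance] Algebra.TensorProduct.rightAlgebra

theorem toFiberMod_eq_zero {R S M : Type u} [CommRing R] [CommRing S] [Algebra R S] [AddCommGroup M]
    [Module S M] [Module R M] [IsScalarTower R S M] (p : Ideal R) [p.IsPrime] (n : M) :
    FlatCA.toFiberMod p S M n = 0 ↔ ∃ s ∉ p, s • n ∈ p • (⊤ : Submodule R M) := by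
  rw [CAlgH3.FiberMod.toFiberMod_eq_zero_iff M p n]
  exact exists_congr fun s => and_congr_right fun _ => by
    rw [algebraMap_smul]
    exact (smul_top_restrict p (s • n)).symm

section

variable {R S T : Type u} [CommRing R] [CommRing S] [CommRing T] [Algebra R S] [Algebra R T]
  [Algebra S T] [IsScalarTower R S T] {M : Type u} [AddCommGroup M] [Module T M] [Module S M]
  [IsScalarTower S T M] [Module R M] [IsScalarTower R S M] [IsScalarTower R T M]

theorem annEl_comap (p : Ideal R) [p.IsPrime] (n : M) :
    CAlgH3.annEl S (FlatCA.toFiberMod p S M n) =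
      (CAlgH3.annEl T (FlatCA.toFiberMod p T M n)).comap (algebraMap S T) := by
  ext a
  rw [Ideal.mem_comap, CAlgH3.mem_annEl, CAlgH3.mem_annEl, ← map_smul, ← map_smul,
    toFiberMod_eq_zero, toFiberMod_eq_zero]
  simp only [algebraMap_smul]

variable [Algebra.FiniteType R S] [Algebra.FiniteType R T]

/-- Associated points of fibres do not change along a closed immersion. -/
theorem assFibre_surjective_iff (hsurj : Surjective (algebraMap S T)) (p : Ideal R) [p.IsPrime]
    (P : Ideal T) [P.IsPrime] [P.LiesOver p] [(P.comap (algebraMap S T)).LiesOver p] :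
    FlatCA.fiberIdeal p P ∈ associatedPrimes (p.Fiber T) (FlatCA.fiberMod p T M) ↔
      FlatCA.fiberIdeal p (P.comap (algebraMap S T)) ∈
        associatedPrimes (p.Fiber S) (FlatCA.fiberMod p S M) := by
  constructor
  · intro h
    obtain ⟨n, hn⟩ := exists_annEl_of_assFibre p P h
    exact assFibre_of_annEl p _ (FlatCA.toFiberMod p S M n) (by rw [annEl_comap (T := T), hn])
  · intro h
    obtain ⟨n, hn⟩ := exists_annEl_of_assFibre p _ h
    rw [annEl_comap (T := T)] at hn
    exact assFibre_of_annEl p _ (FlatCA.toFiberMod p T M n)
      (Ideal.comap_injective_of_surjective _ hsurj hn)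

omit [Algebra.FiniteType R T] in
include T in
/-- Associated points of the fibres lie on the closed subscheme. -/
theorem ker_le_of_assFibre (p : Ideal R) [p.IsPrime] (P : Ideal S) [P.IsPrime] [P.LiesOver p]
    (h : FlatCA.fiberIdeal p P ∈ associatedPrimes (p.Fiber S) (FlatCA.fiberMod p S M)) :
    RingHom.ker (algebraMap S T) ≤ P := fun a ha => by
  obtain ⟨n, hn⟩ := exists_annEl_of_assFibre p P h
  rw [← hn, CAlgH3.mem_annEl, ← map_smul, ← algebraMap_smul T a n, RingHom.mem_ker.1 ha, zero_smul,
    map_zero]

end

/-- The base change along a closed immersion: structure. -/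
theorem exists_closed_map {A B C A' B' C' : Type u} [CommRing A] [CommRing B] [CommRing C] [CommRing A']
    [CommRing B'] [CommRing C'] [Algebra A B] [Algebra A C] [Algebra B C] [IsScalarTower A B C]
    [Algebra A A'] [Algebra B B'] [Algebra A' B'] [Algebra A B'] [IsScalarTower A B B']
    [IsScalarTower A A' B'] [Algebra.IsPushout A B A' B'] [Algebra C C'] [Algebra A' C'] [Algebra A C']
    [IsScalarTower A C C'] [IsScalarTower A A' C'] [Algebra.IsPushout A C A' C']
    [Algebra B C'] [IsScalarTower B C C'] (hBC : Surjective (algebraMap B C)) :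
    ∃ (_ : Algebra B' C') (_ : IsScalarTower B B' C') (_ : IsScalarTower A' B' C'),
      Algebra.IsPushout B C B' C' ∧ Surjective (algebraMap B' C') := by
  have : IsScalarTower A B C' := .of_algebraMap_eq fun a => by
    rw [IsScalarTower.algebraMap_apply B C C', ← IsScalarTower.algebraMap_apply A B C,
      ← IsScalarTower.algebraMap_apply A C C']
  let φ : B' →ₐ[A] C' := Algebra.pushoutDesc B' (IsScalarTower.toAlgHom A B C')
    (IsScalarTower.toAlgHom A A' C') fun _ _ => mul_comm _ _
  let _ : Algebra B' C' := φ.toRingHom.toAlgebra
  have h1 : IsScalarTower B B' C' := IsScalarTower.of_algebraMap_eq fun b =>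
    (Algebra.pushoutDesc_left B' (IsScalarTower.toAlgHom A B C') _ (fun _ _ => mul_comm _ _) b).symm
  have h2 : IsScalarTower A' B' C' := IsScalarTower.of_algebraMap_eq fun a =>
    (Algebra.pushoutDesc_right B' _ (IsScalarTower.toAlgHom A A' C') (fun _ _ => mul_comm _ _) a).symm
  have : IsScalarTower A B' C' := IsScalarTower.of_algebraMap_eq fun a => (φ.commutes a).symm
  refine ⟨_, h1, h2, (Algebra.IsPushout.comp_iff A B A' B').1 ‹_›, fun x => ?_⟩
  refine (Algebra.IsPushout.out (R := A) (S := C) (R' := A') (S' := C')).inductionOn x
    (motive := fun x => ∃ y, algebraMap B' C' y = x) ⟨0, map_zero _⟩ (fun a => ⟨algebraMap A' B' a, ?_⟩)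
    (fun c y hy => ?_) (fun y z hy hz => ?_)
  · rw [← IsScalarTower.algebraMap_apply A' B' C']
    rfl
  · obtain ⟨b, rfl⟩ := hBC c
    obtain ⟨y', rfl⟩ := hy
    exact ⟨algebraMap B B' b * y', by
      rw [map_mul, ← IsScalarTower.algebraMap_apply B B' C', Algebra.smul_def,
        ← IsScalarTower.algebraMap_apply B C C']⟩
  · obtain ⟨y', rfl⟩ := hy
    obtain ⟨z', rfl⟩ := hz
    exact ⟨y' + z', map_add _ _ _⟩

set_option maxHeartbeats 800000 in
/-- Impurities correspond along closed immersions. -/
theorem hasImpurity_iff {A B C : Type u} [CommRing A] [CommRing B] [CommRing C] [Algebra A B]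
    [Algebra B C] [Algebra A C] [IsScalarTower A B C] [Algebra.FiniteType A B] [Algebra.FiniteType A C]
    (hBC : Surjective (algebraMap B C)) (N : Type u) [AddCommGroup N] [Module C N] [Module B N]
    [IsScalarTower B C N] (p : Ideal A) [p.IsPrime]
    (Q : ∀ (A' : Type u) [CommRing A'] [Algebra A A'], Ideal A' → Prop) :
    FlatCA.HasImpurity A C N p Q ↔ FlatCA.HasImpurity A B N p Q := by
  constructor
  · rintro ⟨A', C', N', _, _, _, _, _, _, _, _, _, _, _, _, _, _, fC, t', t, _, _, P, _,
      ⟨hpoC, hfC, htt, htp, hover, hass, hno⟩, hQt⟩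
    obtain ⟨B', NB, _, _, _, _, _, _, hpo, _, _, _, _, _, _, fB, hfB⟩ := exists_model A A' B N
    have := hpo
    have := hpoC
    have := hover
    let _ : Algebra B C' := ((algebraMap C C').comp (algebraMap B C)).toAlgebra
    have : IsScalarTower B C C' := .of_algebraMap_eq' rfl
    obtain ⟨_, _, _, hP, hsurj⟩ := exists_closed_map (A := A) (A' := A') (B' := B') (C' := C') hBC
    let _ : Module B' N' := Module.compHom N' (algebraMap B' C')
    have : IsScalarTower B' C' N' := .of_algebraMap_smul fun _ _ => rfl
    have : IsScalarTower A' B' N' := .of_algebraMap_smul fun a x => by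
      show algebraMap B' C' (algebraMap A' B' a) • x = _
      rw [← IsScalarTower.algebraMap_apply, algebraMap_smul]
    let _ : Module B N' := Module.compHom N' (algebraMap B C')
    have : IsScalarTower B C N' := .of_algebraMap_smul fun b x => by
      show algebraMap B C b • x = algebraMap B C' b • x
      rw [IsScalarTower.algebraMap_apply B C C']
      exact (algebraMap_smul C' _ x).symm
    have : IsScalarTower B B' N' := .of_algebraMap_smul fun b x => by
      show algebraMap B' C' (algebraMap B B' b) • x = algebraMap B C' b • x
      rw [← IsScalarTower.algebraMap_apply]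
    have : Algebra.IsPushout B B' C C' := hP.symm
    have hN : IsBaseChange B' (fC.restrictScalars B) :=
      IsBaseChange.of_equiv ((Algebra.IsPushout.cancelBaseChange B B' C C' N).symm ≪≫ₗ
        hfC.equiv.restrictScalars B') fun m => by
          simp only [LinearEquiv.trans_apply, Algebra.IsPushout.cancelBaseChange_symm_tmul, map_one]
          exact (hfC.equiv_tmul 1 m).trans (one_smul _ _)
    have : Algebra.IsPushout A A' B B' := hpo.symm
    have : Algebra.FiniteType A' B' :=
      Algebra.FiniteType.equiv (Algebra.FiniteType.baseChange (A := B) A') (Algebra.IsPushout.equiv A A' B B')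
    have : Algebra.FiniteType A' C' :=
      Algebra.FiniteType.of_surjective (IsScalarTower.toAlgHom A' B' C') hsurj
    have : (P.comap (algebraMap B' C')).LiesOver t' := ⟨by
      rw [Ideal.under_def, Ideal.comap_comap, ← IsScalarTower.algebraMap_eq]
      exact hover.over⟩
    refine ⟨A', B', N', inferInstance, inferInstance, inferInstance, inferInstance, inferInstance,
      inferInstance, inferInstance, inferInstance, inferInstance, inferInstance, inferInstance,
      inferInstance, inferInstance, inferInstance, fC.restrictScalars B, t', t, inferInstance, inferInstance,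
      P.comap (algebraMap B' C'), inferInstance,
      ⟨hpo, hN, htt, htp, inferInstance, (assFibre_surjective_iff hsurj t' P).1 hass,
        fun W _ hle hW => ?_⟩, hQt⟩
    have hk : RingHom.ker (algebraMap B' C') ≤ W := (Ideal.ker_le_comap _).trans hle
    have hback : (W.map (algebraMap B' C')).comap (algebraMap B' C') = W := by
      rw [Ideal.comap_map_of_surjective _ hsurj, ← RingHom.ker_eq_comap_bot, sup_eq_left]
      exact hk
    have := Ideal.map_isPrime_of_surjective hsurj hk
    refine hno (W.map (algebraMap B' C')) ?_ ⟨?_⟩
    · rw [← Ideal.map_comap_of_surjective _ hsurj P]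
      exact Ideal.map_mono hle
    · rw [Ideal.under_def, IsScalarTower.algebraMap_eq A' B' C', ← Ideal.comap_comap, hback]
      exact hW.over
  · rintro ⟨A', B', NB, _, _, _, _, _, _, _, _, _, _, _, _, _, _, fB, t', t, _, _, P, _,
      ⟨hpo, hfB, htt, htp, hover, hass, hno⟩, hQt⟩
    obtain ⟨C', N', _, _, _, _, _, _, hpoC, _, _, _, _, _, _, fC, hfC⟩ := exists_model A A' C N
    have := hpo
    have := hpoC
    let _ : Algebra B C' := ((algebraMap C C').comp (algebraMap B C)).toAlgebra
    have : IsScalarTower B C C' := .of_algebraMap_eq' rfl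
    obtain ⟨_, _, _, hP, hsurj⟩ := exists_closed_map (A := A) (A' := A') (B' := B') (C' := C') hBC
    let _ : Module B' N' := Module.compHom N' (algebraMap B' C')
    have : IsScalarTower B' C' N' := .of_algebraMap_smul fun _ _ => rfl
    have : IsScalarTower A' B' N' := .of_algebraMap_smul fun a x => by
      show algebraMap B' C' (algebraMap A' B' a) • x = _
      rw [← IsScalarTower.algebraMap_apply, algebraMap_smul]
    let _ : Module B N' := Module.compHom N' (algebraMap B C')
    have : IsScalarTower B C N' := .of_algebraMap_smul fun b x => by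
      show algebraMap B C b • x = algebraMap B C' b • x
      rw [IsScalarTower.algebraMap_apply B C C']
      exact (algebraMap_smul C' _ x).symm
    have : IsScalarTower B B' N' := .of_algebraMap_smul fun b x => by
      show algebraMap B' C' (algebraMap B B' b) • x = algebraMap B C' b • x
      rw [← IsScalarTower.algebraMap_apply]
    have : Algebra.IsPushout B B' C C' := hP.symm
    have hN : IsBaseChange B' (fC.restrictScalars B) :=
      IsBaseChange.of_equiv ((Algebra.IsPushout.cancelBaseChange B B' C C' N).symm ≪≫ₗ
        hfC.equiv.restrictScalars B') fun m => by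
          simp only [LinearEquiv.trans_apply, Algebra.IsPushout.cancelBaseChange_symm_tmul, map_one]
          exact (hfC.equiv_tmul 1 m).trans (one_smul _ _)
    have : Algebra.IsPushout A A' B B' := hpo.symm
    have : Algebra.FiniteType A' B' :=
      Algebra.FiniteType.equiv (Algebra.FiniteType.baseChange (A := B) A') (Algebra.IsPushout.equiv A A' B B')
    have : Algebra.FiniteType A' C' :=
      Algebra.FiniteType.of_surjective (IsScalarTower.toAlgHom A' B' C') hsurj
    have := hover
    -- transport the associated point to the new model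
    let _ : Algebra A' A' := Algebra.id A'
    have : Algebra.IsPushout A' B' A' B' := Algebra.IsPushout.symm inferInstance
    have hid : IsBaseChange B' (hfB.lift (fC.restrictScalars B)) :=
      IsBaseChange.of_comp hfB (by rw [IsBaseChange.lift_comp]; exact hN)
    have ht : t'.LiesOver t' := ⟨(Ideal.comap_id t').symm⟩
    obtain ⟨P', _, hP't, hP'P, hass'⟩ :=
      exists_assFibre_over (hfB.lift (fC.restrictScalars B)) hid t' t' P hass
    obtain rfl : P' = P := by rw [← hP'P, Algebra.algebraMap_self, Ideal.comap_id]
    have hk : RingHom.ker (algebraMap B' C') ≤ P' := ker_le_of_assFibre (M := N') t' P' hass'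
    have hback : (P'.map (algebraMap B' C')).comap (algebraMap B' C') = P' := by
      rw [Ideal.comap_map_of_surjective _ hsurj, ← RingHom.ker_eq_comap_bot, sup_eq_left]
      exact hk
    have := Ideal.map_isPrime_of_surjective hsurj hk
    have hl : (P'.map (algebraMap B' C')).LiesOver t' := ⟨by
      rw [Ideal.under_def, IsScalarTower.algebraMap_eq A' B' C', ← Ideal.comap_comap, hback]
      exact hover.over⟩
    have : ((P'.map (algebraMap B' C')).comap (algebraMap B' C')).LiesOver t' := by
      rw [hback]; exact hover
    refine ⟨A', C', N', inferInstance, inferInstance, inferInstance, inferInstance, inferInstance,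
      inferInstance, inferInstance, inferInstance, inferInstance, inferInstance, inferInstance,
      inferInstance, inferInstance, inferInstance, fC, t', t, inferInstance, inferInstance,
      P'.map (algebraMap B' C'), inferInstance,
      ⟨hpoC, hfC, htt, htp, hl, ?_, fun W _ hle hW => ?_⟩, hQt⟩
    · exact (assFibre_surjective_iff hsurj t' (P'.map (algebraMap B' C'))).2 (by simpa only [hback] using hass')
    · refine hno (W.comap (algebraMap B' C')) (hback.ge.trans (Ideal.comap_mono hle)) ⟨?_⟩
      rw [Ideal.under_def, Ideal.comap_comap, ← IsScalarTower.algebraMap_eq]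
      exact hW.over

end Groth.Agent.FlatMorDevissage.ImpurityClosed
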