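import Groth.Agent.FlatMorDevissage.ImpurityQF
import Groth.Agent.FlatMorDevissage.FlatTransfer
import Groth.Agent.FlatMorDevissage.FlatAssFibre
import Groth.Agent.EGA43.GenFree
import Mathlib.RingTheory.Ideal.KrullsHeightTheorem
import Mathlib.RingTheory.ZariskisMainTheorem

/-!
# Impurities over Noetherian rings come from quasi-finite base changes
-/

set_option autoImplicit false
set_option backward.isDefEq.respectTransparency false

universe u

open TensorProduct Function

namespace Groth.Agent.FlatMorDevissage.ImpurityCurve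

open Groth.Agent

attribute [local instance] Algebra.TensorProduct.rightAlgebra

/-- In a Noetherian domain a prime all of whose nonzero subprimes contain a fixed nonzero element
has no other nonzero subprime. -/
theorem eq_of_forall_mem {R : Type u} [CommRing R] [IsDomain R] [IsNoetherianRing R] {g : R}
    (hg : g ≠ 0) (t : Ideal R) [t.IsPrime] (ht : t ≠ ⊥)
    (h : ∀ r : Ideal R, r.IsPrime → r ≠ ⊥ → r ≤ t → g ∈ r) (r : Ideal R) [r.IsPrime]
    (hr : r ≠ ⊥) (hrt : r ≤ t) : r = t := by
  have hfin := (Ideal.span {g}).finite_minimalPrimes_of_isNoetherianRing R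
  have hsub : (t : Set R) ⊆ ⋃ Q ∈ (↑hfin.toFinset : Set (Ideal R)), (Q : Set R) := fun x hx => by
    by_cases hx0 : x = 0
    · subst hx0
      obtain ⟨z, hz, hz0⟩ := Submodule.exists_mem_ne_zero_of_ne_bot ht
      obtain ⟨Q, hQ, -⟩ := Ideal.exists_minimalPrimes_le
        (I := Ideal.span {g}) (J := t) ((Ideal.span_singleton_le_iff_mem _).2 (h t inferInstance ht le_rfl))
      exact Set.mem_iUnion₂.2 ⟨Q, hfin.mem_toFinset.2 hQ, Q.zero_mem⟩
    · obtain ⟨Q, hQ, hQt⟩ := Ideal.exists_minimalPrimes_le (I := Ideal.span {x}) (J := t)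
        ((Ideal.span_singleton_le_iff_mem _).2 hx)
      have := hQ.1.1
      have hxQ : x ∈ Q := hQ.1.2 (Ideal.mem_span_singleton_self x)
      have hQ0 : Q ≠ ⊥ := fun e => hx0 (by rw [e] at hxQ; exact hxQ)
      have hgQ : g ∈ Q := h Q inferInstance hQ0 hQt
      obtain ⟨Q', hQ', hQ'Q⟩ := Ideal.exists_minimalPrimes_le (I := Ideal.span {g}) (J := Q)
        ((Ideal.span_singleton_le_iff_mem _).2 hgQ)
      have := hQ'.1.1
      rcases eq_or_lt_of_le hQ'Q with he | hlt
      · exact Set.mem_iUnion₂.2 ⟨Q', hfin.mem_toFinset.2 hQ', he.symm ▸ hxQ⟩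
      · have hQ'0 : (⊥ : Ideal R) < Q' := bot_lt_iff_ne_bot.2 fun e =>
          hg (by have := hQ'.1.2 (Ideal.mem_span_singleton_self g); rw [e] at this; exact this)
        have h1 := Ideal.height_le_one_of_isPrincipal_of_mem_minimalPrimes _ Q hQ
        have h2 := (Ideal.height_strict_mono_of_isPrime_of_isPrime hlt).trans_le h1
        have h3 := (Ideal.height_strict_mono_of_isPrime_of_isPrime hQ'0).trans_le
          (Order.lt_one_iff.1 h2).le
        exact absurd h3 (not_lt_bot)
  obtain ⟨Q, hQ, hle⟩ := (Ideal.subset_union_prime ⊥ ⊥ fun Q hQ _ _ =>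
    (hfin.mem_toFinset.1 hQ).1.1).1 hsub
  have hQm := hfin.mem_toFinset.1 hQ
  have hgr : Ideal.span {g} ≤ r := (Ideal.span_singleton_le_iff_mem _).2 (h r inferInstance hr hrt)
  have := hQm.2 ⟨inferInstance, hgr⟩ (hrt.trans hle)
  exact le_antisymm hrt (hle.trans this)

/-- An isolated point of a fibre is quasi-finite. -/
theorem quasiFiniteAt_of_isolated {R S : Type u} [CommRing R] [CommRing S] [Algebra R S]
    [Algebra.FiniteType R S] (p : Ideal R) [p.IsPrime] (q : Ideal S) [q.IsPrime] [q.LiesOver p]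
    (hmin : ∀ r : Ideal S, r.IsPrime → r ≤ q → r.LiesOver p → r = q)
    (hmax : ∀ r : Ideal S, r.IsPrime → q ≤ r → r.LiesOver p → r = q) :
    Algebra.QuasiFiniteAt R q := by
  obtain ⟨Q, hQ⟩ := EGA43.FibDepth.exists_prime_over (A := R) (p := p) (p.Fiber S)
    (⟨q, inferInstance⟩ : PrimeSpectrum S) (q.over_def p)
  have : IsJacobsonRing (p.Fiber S) := isJacobsonRing_of_finiteType (A := p.ResidueField)
  have : IsNoetherianRing (p.Fiber S) := Algebra.FiniteType.isNoetherianRing p.ResidueField _
  have hQq : Q.asIdeal.comap (algebraMap S (p.Fiber S)) = q := congrArg PrimeSpectrum.asIdeal hQ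
  have hback : ∀ U : PrimeSpectrum (p.Fiber S), U.asIdeal.comap (algebraMap S (p.Fiber S)) = q →
      U = Q := fun U hU => PrimeSpectrum.ext (le_antisymm
    (EGA43.FibDepth.le_of_comap_le (R := S) p (hU.trans hQq.symm).le)
    (EGA43.FibDepth.le_of_comap_le (R := S) p (hQq.trans hU.symm).le))
  have hopen : IsOpen ({Q} : Set (PrimeSpectrum (p.Fiber S))) := by
    have htf : IsOpen ({Q} : Set (PrimeSpectrum (p.Fiber S))) ↔
        IsClosed ({Q} : Set (PrimeSpectrum (p.Fiber S))) ∧ StableUnderGeneralization ({Q} : Set (PrimeSpectrum (p.Fiber S))) :=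
      (PrimeSpectrum.isOpen_singleton_tfae_of_isNoetherian_of_isJacobsonRing Q).out 0 2
    refine htf.2 ⟨(PrimeSpectrum.isClosed_singleton_iff_isMaximal Q).2 ?_, fun U V hUV hU => ?_⟩
    · obtain ⟨M, hM, hle⟩ := Q.asIdeal.exists_le_maximal Q.isPrime.ne_top
      rw [← congrArg PrimeSpectrum.asIdeal (hback ⟨M, hM.isPrime⟩
        (hmax _ inferInstance (hQq ▸ Ideal.comap_mono hle) (fiberPrime_spec p M).1))]
      exact hM
    · obtain rfl : U = Q := hU
      refine hback V (hmin _ inferInstance ?_ (fiberPrime_spec p V.asIdeal).1)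
      rw [← hQq]
      exact Ideal.comap_mono ((PrimeSpectrum.le_iff_specializes V U).2 hUV)
  have := Algebra.QuasiFiniteAt.of_isOpen_singleton (R := p.ResidueField) Q hopen
  exact Algebra.QuasiFiniteAt.of_quasiFiniteAt_residueField p q Q.asIdeal hQq

/-- Projectivity over the local ring of a point over `p` when `p` dies there. -/
theorem exists_specialization_of_killed {A B D : Type u} [CommRing A] [CommRing B] [CommRing D]
    [Algebra A B] [Algebra A D] [Algebra.FiniteType A B] (N : Type u) [AddCommGroup N] [Module B N]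
    (p : Ideal A) [p.IsPrime] (hp : p ≤ RingHom.ker (algebraMap A D)) (t' t : Ideal D) [t'.IsPrime]
    [t.IsPrime] [t.LiesOver p] (htt : t' ≤ t) (P : Ideal (D ⊗[A] B)) [P.IsPrime] [P.LiesOver t']
    (hass : FlatCA.fiberIdeal t' P ∈ associatedPrimes (t'.Fiber (D ⊗[A] B))
      (FlatCA.fiberMod t' (D ⊗[A] B) ((D ⊗[A] B) ⊗[B] N))) :
    ∃ Q : Ideal (D ⊗[A] B), Q.IsPrime ∧ P ≤ Q ∧ Q.LiesOver t := by
  let _ : Module A N := Module.compHom N (algebraMap A B)
  have : IsScalarTower A B N := .of_algebraMap_smul fun _ _ => rfl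
  let L := Localization.AtPrime t
  let κ := p.ResidueField
  have hu : p.primeCompl ≤ (IsUnit.submonoid L).comap (algebraMap A L) := fun a ha => by
    show IsUnit (algebraMap A L a)
    rw [IsScalarTower.algebraMap_apply A D L]
    exact IsLocalization.map_units L (⟨algebraMap A D a, fun h => ha
      ((‹t.LiesOver p›).over.ge h)⟩ : t.primeCompl)
  let φ : κ →+* L := Ideal.ResidueField.lift p (algebraMap A L)
    (fun a ha => by
      rw [RingHom.mem_ker, IsScalarTower.algebraMap_apply A D L, RingHom.mem_ker.1 (hp ha), map_zero]) hu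
  let _ : Algebra κ L := φ.toAlgebra
  have : IsScalarTower A κ L := .of_algebraMap_eq fun a => by
    show _ = φ (algebraMap A κ a)
    rw [Ideal.ResidueField.lift_algebraMap]
  have : Module.Projective L (L ⊗[A] N) :=
    Module.Projective.of_equiv (AlgebraTensorModule.cancelBaseChange A κ L L N)
  have : Module.Projective L (L ⊗[D] ((D ⊗[A] B) ⊗[B] N)) :=
    Module.Projective.of_equiv ((AlgebraTensorModule.cancelBaseChange A D L L N).symm.trans
      (AlgebraTensorModule.congr (LinearEquiv.refl L L)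
        (Algebra.IsPushout.cancelBaseChange A D B (D ⊗[A] B) N).symm))
  exact exists_specialization_of_local (L := L) t' t
    (IsLocalization.AtPrime.under_maximalIdeal L t) htt P hass

/-- Generic nonemptiness of fibres. -/
theorem exists_over_of_notMem {D C : Type u} [CommRing D] [IsDomain D] [IsNoetherianRing D]
    [CommRing C] [Algebra D C] [Algebra.FiniteType D C] (hinj : Injective (algebraMap D C)) :
    ∃ f : D, f ≠ 0 ∧ ∀ q : Ideal D, q.IsPrime → f ∉ q →
      ∃ W : Ideal C, W.IsPrime ∧ W.comap (algebraMap D C) = q := by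
  obtain ⟨f, hf, hfree⟩ := EGA43.GenFree.gFree (R := D) (S := C) C
  refine ⟨f, hf, fun q hq hfq => ?_⟩
  let L := Localization.Away f
  have : Nontrivial (L ⊗[D] C) := by
    have hle : Submonoid.powers f ≤ nonZeroDivisors D := powers_le_nonZeroDivisors_of_noZeroDivisors hf
    have : Nontrivial L := (IsLocalization.injective L hle).nontrivial
    have h1 : Injective ((Algebra.linearMap D C).lTensor L) :=
      Module.Flat.lTensor_preserves_injective_linearMap _ hinj
    have : Nontrivial (L ⊗[D] D) := (TensorProduct.rid D L).toEquiv.nontrivial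
    exact h1.nontrivial
  have : Module.FaithfullyFlat L (L ⊗[D] C) := inferInstance
  have hd : Disjoint (Submonoid.powers f : Set D) (q : Set D) :=
    (Ideal.disjoint_powers_iff_notMem f hq.isRadical).2 hfq
  have := IsLocalization.isPrime_of_isPrime_disjoint (Submonoid.powers f) L q hq hd
  obtain ⟨W, hW⟩ := PrimeSpectrum.comap_surjective_of_faithfullyFlat (A := L) (B := L ⊗[D] C)
    ⟨q.map (algebraMap D L), this⟩
  refine ⟨W.asIdeal.comap (algebraMap C (L ⊗[D] C)), inferInstance, ?_⟩
  have h2 : W.asIdeal.comap (algebraMap L (L ⊗[D] C)) = q.map (algebraMap D L) :=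
    congrArg PrimeSpectrum.asIdeal hW
  rw [Ideal.comap_comap, ← IsScalarTower.algebraMap_eq, IsScalarTower.algebraMap_eq D L (L ⊗[D] C),
    ← Ideal.comap_comap, h2]
  exact IsLocalization.under_map_of_isPrime_disjoint (Submonoid.powers f) L hq hd

/-- Generic flatness at points. -/
theorem exists_flatAt_of_notMem {D C : Type u} [CommRing D] [IsDomain D] [IsNoetherianRing D]
    [CommRing C] [Algebra D C] [Algebra.FiniteType D C] (M : Type u) [AddCommGroup M] [Module C M]
    [Module D M] [IsScalarTower D C M] [Module.Finite C M] :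
    ∃ f : D, f ≠ 0 ∧ ∀ W : Ideal C, [W.IsPrime] → f ∉ W.comap (algebraMap D C) →
      FlatCA.FlatAt D W M := by
  obtain ⟨f, hf, hfree⟩ := EGA43.GenFree.gFree (R := D) (S := C) M
  refine ⟨f, hf, fun W _ hW => ?_⟩
  let L := Localization.Away f
  have : Module.Flat D (L ⊗[D] M) := Module.Flat.trans D L (L ⊗[D] M)
  have e : LocalizedModule (Submonoid.powers f) M ≃ₗ[L] L ⊗[D] M :=
    LocalizedModule.equivTensorProduct (Submonoid.powers f) M
  have h1 : Module.Flat D (LocalizedModule (Submonoid.powers f) M) :=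
    Module.Flat.of_linearEquiv (e.restrictScalars D)
  rw [flat_localized_algebraMap_iff (S := C), Submonoid.map_powers] at h1
  exact (flat_away_iff _).1 h1 W hW

/-- An impurity moves up along a base change along which the points lift and reflect. -/
theorem exists_lift_impurity {A B A' B' N' D BD ND : Type u} [CommRing A] [CommRing B]
    [Algebra A B] [Algebra.FiniteType A B] (N : Type u) [AddCommGroup N] [Module B N]
    (p : Ideal A) [p.IsPrime] [CommRing A'] [CommRing B'] [Algebra A A'] [Algebra B B'] [Algebra A' B']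
    [Algebra A B'] [IsScalarTower A B B'] [IsScalarTower A A' B'] [AddCommGroup N'] [Module B' N']
    [Module B N'] [IsScalarTower B B' N'] [Module A' N'] [IsScalarTower A' B' N'] (f : N →ₗ[B] N')
    (t' t : Ideal A') [t'.IsPrime] [t.IsPrime] (P : Ideal B') [P.IsPrime]
    (himp : FlatCA.IsImpurity A B N p A' B' N' f t' t P)
    [CommRing D] [Algebra A D] [Algebra A' D] [IsScalarTower A A' D]
    [CommRing BD] [Algebra B BD] [Algebra D BD] [Algebra A BD] [IsScalarTower A B BD]
    [IsScalarTower A D BD] [Algebra.IsPushout A B D BD] [AddCommGroup ND] [Module BD ND]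
    [Module B ND] [IsScalarTower B BD ND] [Module D ND] [IsScalarTower D BD ND]
    (fD : N →ₗ[B] ND) (hfD : IsBaseChange BD fD) (w' w : Ideal D) [w'.IsPrime] [w.IsPrime]
    (hw' : w'.LiesOver t') (hw : w.LiesOver t) (hww : w' ≤ w) :
    ∃ (PD : Ideal BD) (_ : PD.IsPrime), FlatCA.IsImpurity A B N p D BD ND fD w' w PD := by
  obtain ⟨hpo, hf, htt, htp, hover, hass, hno⟩ := himp
  have := hpo
  have := hover
  have := htp
  have : Algebra.FiniteType A' B' := by
    have : Algebra.IsPushout A A' B B' := hpo.symm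
    exact Algebra.FiniteType.equiv (Algebra.FiniteType.baseChange (A := B) A')
      (Algebra.IsPushout.equiv A A' B B')
  have : Algebra.FiniteType D BD := by
    have : Algebra.IsPushout A D B BD := Algebra.IsPushout.symm ‹Algebra.IsPushout A B D BD›
    exact Algebra.FiniteType.equiv (Algebra.FiniteType.baseChange (A := B) D)
      (Algebra.IsPushout.equiv A D B BD)
  obtain ⟨_, _, _, _, _, _⟩ := ImpurityQF.exists_maps A B A' B' D BD
  obtain ⟨PD, hPD, hPDw, hPDP, hassD⟩ := ImpurityQF.assFibre_up hf hfD t' w' P hass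
  refine ⟨PD, hPD, inferInstance, hfD, hww, Ideal.LiesOver.trans w t p, hPDw, hassD,
    fun W _ hle hWt => ?_⟩
  refine hno (W.comap (algebraMap B' BD)) (hPDP ▸ Ideal.comap_mono hle) ⟨?_⟩
  rw [Ideal.under_def, Ideal.comap_comap, ← IsScalarTower.algebraMap_eq,
    IsScalarTower.algebraMap_eq A' D BD, ← Ideal.comap_comap]
  exact hw.over.trans (congrArg (Ideal.comap (algebraMap A' D)) hWt.over)

theorem exists_closure {A A' : Type u} [CommRing A] [CommRing A'] [Algebra A A'] (t' : Ideal A')
    [t'.IsPrime] :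
    ∃ (D : Type u) (_ : CommRing D) (_ : IsDomain D) (_ : Algebra A D) (_ : Algebra A' D)
      (_ : IsScalarTower A A' D), Surjective (algebraMap A' D) ∧ RingHom.ker (algebraMap A' D) = t' :=
  ⟨A' ⧸ t', inferInstance, inferInstance, inferInstance, inferInstance, inferInstance,
    Ideal.Quotient.mk_surjective, Ideal.mk_ker⟩

/-- An impurity moves to the closure of the lower point. -/
theorem exists_quotient_impurity {A B A' B' N' : Type u} [CommRing A] [CommRing B]
    [Algebra A B] [Algebra.FiniteType A B] (N : Type u) [AddCommGroup N] [Module B N]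
    (p : Ideal A) [p.IsPrime] [CommRing A'] [CommRing B'] [Algebra A A'] [Algebra B B'] [Algebra A' B']
    [Algebra A B'] [IsScalarTower A B B'] [IsScalarTower A A' B'] [AddCommGroup N'] [Module B' N']
    [Module B N'] [IsScalarTower B B' N'] [Module A' N'] [IsScalarTower A' B' N'] (f : N →ₗ[B] N')
    (t' t : Ideal A') [t'.IsPrime] [t.IsPrime] (P : Ideal B') [P.IsPrime]
    (himp : FlatCA.IsImpurity A B N p A' B' N' f t' t P) :
    ∃ (D : Type u) (_ : CommRing D) (_ : IsDomain D) (_ : Algebra A D) (_ : Algebra A' D)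
      (_ : IsScalarTower A A' D) (_ : (⊥ : Ideal D).IsPrime) (tD : Ideal D) (_ : tD.IsPrime)
      (PD : Ideal (D ⊗[A] B)) (_ : PD.IsPrime),
      Surjective (algebraMap A' D) ∧ RingHom.ker (algebraMap A' D) = t' ∧
      tD.comap (algebraMap A' D) = t ∧
      FlatCA.IsImpurity A B N p D (D ⊗[A] B) ((D ⊗[A] B) ⊗[B] N)
        (TensorProduct.mk B (D ⊗[A] B) N 1) ⊥ tD PD := by
  have htt : t' ≤ t := himp.2.2.1
  obtain ⟨D, _, _, _, _, _, hsurj, hker⟩ := exists_closure (A := A) t'
  have : (⊥ : Ideal D).IsPrime := Ideal.isPrime_bot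
  have hb : (⊥ : Ideal D).LiesOver t' := ⟨by
    rw [Ideal.under_def, ← RingHom.ker_eq_comap_bot, hker]⟩
  have hkle : RingHom.ker (algebraMap A' D) ≤ t := hker.trans_le htt
  have : (t.map (algebraMap A' D)).IsPrime := Ideal.map_isPrime_of_surjective hsurj hkle
  have htD : (t.map (algebraMap A' D)).comap (algebraMap A' D) = t := by
    rw [Ideal.comap_map_of_surjective _ hsurj, ← RingHom.ker_eq_comap_bot, sup_eq_left]
    exact hkle
  obtain ⟨PD, hPD, h⟩ := exists_lift_impurity N p f t' t P himp
    (TensorProduct.mk B (D ⊗[A] B) N 1) (TensorProduct.isBaseChange B N (D ⊗[A] B)) (⊥ : Ideal D)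
    (t.map (algebraMap A' D)) hb ⟨htD.symm⟩ bot_le
  exact ⟨D, inferInstance, inferInstance, inferInstance, inferInstance, inferInstance, inferInstance,
    _, inferInstance, PD, hPD, hsurj, hker, htD, h⟩

set_option maxHeartbeats 800000 in
/-- The case of a domain with the generic point. -/
theorem hasImpurity_domain {A B D BD ND : Type u} [CommRing A] [IsNoetherianRing A] [CommRing B]
    [Algebra A B] [Algebra.FiniteType A B] (N : Type u) [AddCommGroup N] [Module B N] [Module.Finite B N]
    (p : Ideal A) [p.IsPrime] [CommRing D] [IsDomain D] [Algebra A D] [Algebra.FiniteType A D]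
    [CommRing BD] [Algebra B BD] [Algebra D BD] [Algebra A BD] [IsScalarTower A B BD]
    [IsScalarTower A D BD] [AddCommGroup ND] [Module BD ND] [Module B ND] [IsScalarTower B BD ND]
    [Module D ND] [IsScalarTower D BD ND] {f : N →ₗ[B] ND} (tD : Ideal D) [tD.IsPrime]
    (PD : Ideal BD) [PD.IsPrime] [(⊥ : Ideal D).IsPrime]
    (himp : FlatCA.IsImpurity A B N p D BD ND f ⊥ tD PD)
    (hπ : ∃ π ∈ p, algebraMap A D π ≠ 0)
    (hmax : ∀ r : Ideal D, r.IsPrime → tD ≤ r → r.LiesOver p → r = tD) :
    FlatCA.HasImpurity A B N p (fun A' _ _ t => ∃ _ : t.IsPrime, Algebra.FiniteType A A' ∧ Algebra.QuasiFiniteAt A t) := by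
  obtain ⟨π, hπp, hπ⟩ := hπ
  obtain ⟨hpo, hf, -, htDp, hPDbot, hassD, hnoD'⟩ := himp
  have := hpo
  have := hPDbot
  have : Algebra.FiniteType D BD := by
    have : Algebra.IsPushout A D B BD := hpo.symm
    exact Algebra.FiniteType.equiv (Algebra.FiniteType.baseChange (A := B) D)
      (Algebra.IsPushout.equiv A D B BD)
  have : IsNoetherianRing D := Algebra.FiniteType.isNoetherianRing A D
  have : Module.Finite BD ND := Module.Finite.equiv hf.equiv
  have hnoD : ∀ W : Ideal BD, W.IsPrime → PD ≤ W → W.comap (algebraMap D BD) ≠ tD :=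
    fun W hW hle he => hnoD' W hle ⟨he.symm⟩
  obtain ⟨f₁, hf₁, hflat⟩ := exists_flatAt_of_notMem (D := D) (C := BD) ND
  let C := BD ⧸ PD
  have hinj : Injective (algebraMap D C) := (injective_iff_map_eq_zero _).2 fun x hx => by
    rw [IsScalarTower.algebraMap_apply D BD C, Ideal.Quotient.algebraMap_eq,
      Ideal.Quotient.eq_zero_iff_mem] at hx
    exact hPDbot.over.ge hx
  obtain ⟨f₂, hf₂, hne⟩ := exists_over_of_notMem hinj
  let g : D := algebraMap A D π * (f₁ * f₂)
  have hg : g ≠ 0 := mul_ne_zero hπ (mul_ne_zero hf₁ hf₂)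
  have hW : ∀ q : Ideal D, q.IsPrime → g ∉ q → ∃ W : Ideal BD, W.IsPrime ∧ PD ≤ W ∧
      W.comap (algebraMap D BD) = q := fun q hq hgq => by
    obtain ⟨W, hW, hWq⟩ := hne q hq fun h => hgq (Ideal.mul_mem_left q _ (Ideal.mul_mem_left q _ h))
    refine ⟨W.comap (Ideal.Quotient.mk PD), inferInstance, Ideal.mk_ker.ge.trans (Ideal.ker_le_comap _), ?_⟩
    rw [Ideal.comap_comap, Ideal.Quotient.mk_comp_algebraMap, hWq]
  have hgt : g ∈ tD := by
    by_contra h
    obtain ⟨W, hW', hle, hWt⟩ := hW tD inferInstance h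
    exact hnoD W hW' hle hWt
  -- the curve
  obtain ⟨q, ⟨hq, hqt, hgq⟩, hqmax⟩ := set_has_maximal_iff_noetherian.2
    (inferInstance : IsNoetherian D D) {q : Ideal D | q.IsPrime ∧ q ≤ tD ∧ g ∉ q}
    ⟨⊥, Ideal.isPrime_bot, bot_le, fun h => hg h⟩
  obtain ⟨W, hW', hle, hWq⟩ := hW q hq hgq
  have hfl : FlatCA.FlatAt D W ND := hflat W (by
    rw [hWq]; exact fun h => hgq (Ideal.mul_mem_left q _ (Ideal.mul_mem_right _ q h)))
  obtain ⟨P₁, _, hPP₁, -, hP₁q, hass₁⟩ :=
    exists_assFibre_specialization q (⊥ : Ideal D) PD hassD ⟨W, hW'⟩ hWq hle hfl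
  have himp₁ : FlatCA.IsImpurity A B N p D BD ND f q tD P₁ :=
    ⟨hpo, hf, hqt, htDp, hP₁q, hass₁, fun W' _ hle' hW' => hnoD' W' (hPP₁.trans hle') hW'⟩
  obtain ⟨E, _, _, _, _, _, _, tE, _, PE, _, hsurj, hker, htE, himpE⟩ :=
    exists_quotient_impurity N p f q tD P₁ himp₁
  have : Algebra.FiniteType A E :=
    Algebra.FiniteType.of_surjective (IsScalarTower.toAlgHom A D E) hsurj
  have : IsNoetherianRing E := Algebra.FiniteType.isNoetherianRing A E
  have : tE.LiesOver p := himpE.2.2.2.1
  refine ⟨E, E ⊗[A] B, (E ⊗[A] B) ⊗[B] N, inferInstance, inferInstance, inferInstance,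
    inferInstance, inferInstance, inferInstance, inferInstance, inferInstance, inferInstance,
    inferInstance, inferInstance, inferInstance, inferInstance, inferInstance, _, ⊥,
    tE, inferInstance, inferInstance, PE, inferInstance, himpE, inferInstance, inferInstance, ?_⟩
  have hmem : ∀ x : D, algebraMap D E x = 0 → x ∈ q := fun x hx => hker.le hx
  -- the point is isolated in its fibre
  refine quasiFiniteAt_of_isolated p _ (fun r hr hrt hrp => ?_) (fun r hr hrt hrp => ?_)
  · have hπE : algebraMap A E π ≠ 0 := fun h => by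
      rw [IsScalarTower.algebraMap_apply A D E] at h
      exact hgq (Ideal.mul_mem_right _ q (hmem _ h))
    have hr0 : r ≠ ⊥ := fun e => hπE (show algebraMap A E π ∈ (⊥ : Ideal E) from e ▸ hrp.over.le hπp)
    refine eq_of_forall_mem (g := algebraMap D E g) (fun h => hgq (hmem _ h)) _
      (fun e => hr0 (le_bot_iff.1 (e ▸ hrt))) (fun s hs hs0 hst => ?_) r hr0 hrt
    by_contra hgs
    refine hqmax (s.comap (algebraMap D E)) ⟨inferInstance, htE ▸ Ideal.comap_mono hst, hgs⟩
      (lt_of_le_of_ne (hker.ge.trans (Ideal.ker_le_comap _)) fun he => hs0 ?_)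
    rw [← Ideal.map_comap_of_surjective _ hsurj s, ← he, Ideal.map_eq_bot_iff_le_ker, hker]
  · have h1 : r.comap (algebraMap D E) = tD := by
      refine hmax _ inferInstance (htE.ge.trans (Ideal.comap_mono hrt)) ⟨?_⟩
      rw [Ideal.under_def, Ideal.comap_comap, ← IsScalarTower.algebraMap_eq]
      exact hrp.over
    rw [← Ideal.map_comap_of_surjective _ hsurj r, h1, ← htE, Ideal.map_comap_of_surjective _ hsurj]

/-- **Over a Noetherian base an impurity yields one with quasi-finite base change.** -/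
theorem hasImpurity_quasiFinite {A B A' B' N' : Type u} [CommRing A] [IsNoetherianRing A] [CommRing B]
    [Algebra A B] [Algebra.FiniteType A B] (N : Type u) [AddCommGroup N] [Module B N] [Module.Finite B N]
    (p : Ideal A) [p.IsPrime] [CommRing A'] [CommRing B'] [Algebra A A'] [Algebra B B'] [Algebra A' B']
    [Algebra A B'] [IsScalarTower A B B'] [IsScalarTower A A' B'] [AddCommGroup N'] [Module B' N']
    [Module B N'] [IsScalarTower B B' N'] [Module A' N'] [IsScalarTower A' B' N'] {f : N →ₗ[B] N'}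
    {t' t : Ideal A'} [t'.IsPrime] [t.IsPrime] {P : Ideal B'} [P.IsPrime]
    (himp : FlatCA.IsImpurity A B N p A' B' N' f t' t P) [Algebra.FiniteType A A']
    (hmax : ∀ r : Ideal A', r.IsPrime → t ≤ r → r.LiesOver p → r = t) :
    FlatCA.HasImpurity A B N p (fun A' _ _ t => ∃ _ : t.IsPrime, Algebra.FiniteType A A' ∧ Algebra.QuasiFiniteAt A t) := by
  obtain ⟨D, _, _, _, _, _, _, tD, _, PD, _, hsurj, hker, htD, himpD⟩ :=
    exists_quotient_impurity N p f t' t P himp
  have : Algebra.FiniteType A D :=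
    Algebra.FiniteType.of_surjective (IsScalarTower.toAlgHom A A' D) hsurj
  refine hasImpurity_domain N p _ PD himpD ?_ fun r hr hle hrp => ?_
  · by_contra! hp
    obtain ⟨-, -, -, htp, hover, hassD, hno⟩ := himpD
    have := htp
    have := hover
    obtain ⟨Q, hQ, hle, hQt⟩ := exists_specialization_of_killed N p (fun a ha => hp a ha)
      (⊥ : Ideal D) tD bot_le PD hassD
    exact hno Q hle hQt
  · have h1 : r.comap (algebraMap A' D) = t := by
      refine hmax _ inferInstance (htD.ge.trans (Ideal.comap_mono hle)) ⟨?_⟩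
      rw [Ideal.under_def, Ideal.comap_comap, ← IsScalarTower.algebraMap_eq]
      exact hrp.over
    rw [← Ideal.map_comap_of_surjective _ hsurj r, h1, ← htD, Ideal.map_comap_of_surjective _ hsurj]

end Groth.Agent.FlatMorDevissage.ImpurityCurve
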