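import Groth.Agent.FlatMorDevissage.PureDescend

/-!
# Impurities descend to stages containing finitely many elements
-/

set_option autoImplicit false
set_option backward.isDefEq.respectTransparency false

universe u

open TensorProduct

namespace Groth.Agent.FlatMorDevissage.ImpurityDescend

attribute [local instance] Algebra.TensorProduct.rightAlgebra

variable {A B A' B' : Type u} [CommRing A] [CommRing B] [CommRing A'] [CommRing B'] [Algebra A B]
  [Algebra A A'] [Algebra B B'] [Algebra A' B'] [Algebra A B'] [IsScalarTower A B B']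
  [IsScalarTower A A' B']

variable (B B') in
/-- The map from a stage. -/
noncomputable def stageMap {G : Type u} [CommRing G] [Algebra A G] (φ : G →ₐ[A] A') :
    G ⊗[A] B →ₐ[A] B' :=
  Algebra.TensorProduct.lift ((IsScalarTower.toAlgHom A A' B').comp φ) (IsScalarTower.toAlgHom A B B')
    fun _ _ => .all _ _

theorem stageMap_left {G : Type u} [CommRing G] [Algebra A G] (φ : G →ₐ[A] A') (g : G) :
    stageMap B B' φ (algebraMap G (G ⊗[A] B) g) = algebraMap A' B' (φ g) := by
  show stageMap B B' φ (g ⊗ₜ 1) = _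
  simp [stageMap]

theorem stageMap_right {G : Type u} [CommRing G] [Algebra A G] (φ : G →ₐ[A] A') (b : B) :
    stageMap B B' φ (algebraMap B (G ⊗[A] B) b) = algebraMap B B' b := by
  show stageMap B B' φ (1 ⊗ₜ b) = _
  simp [stageMap]

/-- Every element of the base change comes from large stages. -/
theorem exists_finset_lift [Algebra.IsPushout A B A' B'] (x : B') :
    ∃ F : Finset A', ∀ (G : Type u) [CommRing G] [Algebra A G] (φ : G →ₐ[A] A'),
      (↑F : Set A') ⊆ Set.range φ → ∃ z, stageMap B B' φ z = x := by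
  classical
  refine (Algebra.IsPushout.out (R := A) (S := B) (R' := A') (S' := B')).inductionOn x
    (motive := fun x => ∃ F : Finset A', ∀ (G : Type u) [CommRing G] [Algebra A G] (φ : G →ₐ[A] A'),
      (↑F : Set A') ⊆ Set.range φ → ∃ z, stageMap B B' φ z = x)
    ⟨∅, fun G _ _ φ _ => ⟨0, map_zero _⟩⟩ (fun a => ?_) (fun b y hy => ?_) (fun y z hy hz => ?_)
  · refine ⟨{a}, fun G _ _ φ h => ?_⟩
    obtain ⟨g, hg⟩ := h (Finset.mem_singleton_self a)
    exact ⟨algebraMap G _ g, by rw [stageMap_left, hg]; rfl⟩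
  · obtain ⟨F, hF⟩ := hy
    refine ⟨F, fun G _ _ φ h => ?_⟩
    obtain ⟨z, hz⟩ := hF G φ h
    exact ⟨algebraMap B _ b * z, by rw [map_mul, hz, stageMap_right, Algebra.smul_def]⟩
  · obtain ⟨F₁, h₁⟩ := hy
    obtain ⟨F₂, h₂⟩ := hz
    refine ⟨F₁ ∪ F₂, fun G _ _ φ h => ?_⟩
    rw [Finset.coe_union, Set.union_subset_iff] at h
    obtain ⟨z₁, e₁⟩ := h₁ G φ h.1
    obtain ⟨z₂, e₂⟩ := h₂ G φ h.2
    exact ⟨z₁ + z₂, by rw [map_add, e₁, e₂]⟩

/-- Elements of an extended ideal come from the contracted ideals of large stages. -/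
theorem exists_finset_lift_map [Algebra.IsPushout A B A' B'] (t : Ideal A') (x : B')
    (hx : x ∈ t.map (algebraMap A' B')) :
    ∃ F : Finset A', ∀ (G : Type u) [CommRing G] [Algebra A G] (φ : G →ₐ[A] A'),
      (↑F : Set A') ⊆ Set.range φ →
        ∃ z ∈ (t.comap φ.toRingHom).map (algebraMap G (G ⊗[A] B)), stageMap B B' φ z = x := by
  classical
  rw [Ideal.map] at hx
  induction hx using Submodule.span_induction with
  | zero => exact ⟨∅, fun G _ _ φ _ => ⟨0, zero_mem _, map_zero _⟩⟩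
  | mem y hy =>
    obtain ⟨a, ha, rfl⟩ := hy
    refine ⟨{a}, fun G _ _ φ h => ?_⟩
    obtain ⟨g, hg⟩ := h (Finset.mem_singleton_self a)
    exact ⟨algebraMap G _ g, Ideal.mem_map_of_mem _ (show φ g ∈ t from hg.symm ▸ ha),
      by rw [stageMap_left, hg]⟩
  | add y z _ _ hy hz =>
    obtain ⟨F₁, h₁⟩ := hy
    obtain ⟨F₂, h₂⟩ := hz
    refine ⟨F₁ ∪ F₂, fun G _ _ φ h => ?_⟩
    rw [Finset.coe_union, Set.union_subset_iff] at h
    obtain ⟨z₁, m₁, e₁⟩ := h₁ G φ h.1
    obtain ⟨z₂, m₂, e₂⟩ := h₂ G φ h.2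
    exact ⟨z₁ + z₂, add_mem m₁ m₂, by rw [map_add, e₁, e₂]⟩
  | smul c y _ hy =>
    obtain ⟨F₁, h₁⟩ := exists_finset_lift (A := A) (B := B) (A' := A') c
    obtain ⟨F₂, h₂⟩ := hy
    refine ⟨F₁ ∪ F₂, fun G _ _ φ h => ?_⟩
    rw [Finset.coe_union, Set.union_subset_iff] at h
    obtain ⟨z₁, e₁⟩ := h₁ G φ h.1
    obtain ⟨z₂, m₂, e₂⟩ := h₂ G φ h.2
    exact ⟨z₁ * z₂, Ideal.mul_mem_left _ _ m₂, by rw [map_mul, e₁, e₂, smul_eq_mul]⟩

set_option maxHeartbeats 1600000 in
/-- **Impurities descend to stages.** -/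
theorem exists_stage_impurity [Algebra.FiniteType A B] (N : Type u) [AddCommGroup N] [Module B N]
    (p : Ideal A) [p.IsPrime] {N' : Type u} [AddCommGroup N'] [Module B' N'] [Module B N']
    [IsScalarTower B B' N'] [Module A' N'] [IsScalarTower A' B' N'] (f : N →ₗ[B] N')
    (t' t : Ideal A') [t'.IsPrime] [t.IsPrime] (P : Ideal B') [P.IsPrime]
    (himp : FlatCA.IsImpurity A B N p A' B' N' f t' t P) :
    ∃ F : Finset A', ∀ (G : Type u) [CommRing G] [Algebra A G] (φ : G →ₐ[A] A'),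
      (↑F : Set A') ⊆ Set.range φ → ∃ s : G, φ s ∉ t ∧ ∀ (t₁ : Ideal G) [t₁.IsPrime],
        t.comap φ.toRingHom ≤ t₁ → t₁.LiesOver p → s ∉ t₁ →
        ∀ Q : (∀ (C : Type u) [CommRing C] [Algebra A C], Ideal C → Prop), Q G t₁ →
          FlatCA.HasImpurity A B N p Q := by
  classical
  obtain ⟨hpo, hf, htt, htp, hover, hass, hno⟩ := himp
  have := hpo
  obtain ⟨a, haP, s, hs, has⟩ :
      ∃ a ∈ P, ∃ s ∉ t, a - algebraMap A' B' s ∈ t.map (algebraMap A' B') := by
    by_contra! h
    have hdisj : Disjoint ((P ⊔ t.map (algebraMap A' B') : Ideal B') : Set B')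
        (Algebra.algebraMapSubmonoid B' t.primeCompl : Set B') := Set.disjoint_left.2 fun x hx hx' => by
      obtain ⟨a, ha, b, hb, rfl⟩ := Submodule.mem_sup.1 hx
      obtain ⟨s, hs, hsx⟩ := hx'
      refine h a ha s hs ?_
      rw [hsx, sub_add_cancel_left]
      exact neg_mem hb
    obtain ⟨W, hW, hle, hWd⟩ := Ideal.exists_le_prime_disjoint _ _ hdisj
    refine hno W (le_sup_left.trans hle) ⟨le_antisymm
      (Ideal.map_le_iff_le_comap.1 (le_sup_right.trans hle)) fun x hx => ?_⟩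
    by_contra hxt
    exact Set.disjoint_left.1 hWd hx ⟨x, hxt, rfl⟩
  obtain ⟨F₀, h₀⟩ := exists_finset_lift_map (A := A) (B := B) t _ has
  refine ⟨insert s F₀, fun G _ _ φ hF => ?_⟩
  rw [Finset.coe_insert, Set.insert_subset_iff] at hF
  obtain ⟨⟨s₀, hs₀⟩, hF⟩ := hF
  obtain ⟨z, hz, hzx⟩ := h₀ G φ hF
  refine ⟨s₀, hs₀ ▸ hs, fun t₁ _ hle htp₁ hst Q hQ => ?_⟩
  let BG := G ⊗[A] B
  let NG := BG ⊗[B] N
  let _ : Algebra G A' := φ.toRingHom.toAlgebra
  have : IsScalarTower A G A' := .of_algebraMap_eq fun r => (φ.commutes r).symm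
  let ψ := stageMap B B' φ
  let _ : Algebra BG B' := ψ.toRingHom.toAlgebra
  let _ : Algebra G B' := ((algebraMap A' B').comp φ.toRingHom).toAlgebra
  have : IsScalarTower G A' B' := .of_algebraMap_eq' rfl
  have : IsScalarTower G BG B' := .of_algebraMap_eq fun g => (stageMap_left φ g).symm
  have : IsScalarTower B BG B' := .of_algebraMap_eq fun b => (stageMap_right φ b).symm
  have : IsScalarTower A BG B' := .of_algebraMap_eq fun r => (ψ.commutes r).symm
  have : Algebra.IsPushout A A' B B' := hpo.symm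
  have : Algebra.IsPushout G A' BG B' := (Algebra.IsPushout.comp_iff A G B BG).1 ‹_›
  have hpo' : Algebra.IsPushout G BG A' B' := Algebra.IsPushout.symm ‹_›
  have : Algebra.FiniteType A' B' :=
    Algebra.FiniteType.equiv (Algebra.FiniteType.baseChange (A := B) A')
      (Algebra.IsPushout.equiv A A' B B')
  let _ : Module BG N' := Module.compHom N' ψ.toRingHom
  have : IsScalarTower BG B' N' := .of_algebraMap_smul fun _ _ => rfl
  have : IsScalarTower B BG N' := .of_algebraMap_smul fun b m => by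
    show ψ (algebraMap B BG b) • m = b • m
    rw [stageMap_right, algebraMap_smul]
  let fG : N →ₗ[B] NG := TensorProduct.mk B BG N 1
  have hfG : IsBaseChange BG fG := TensorProduct.isBaseChange B N BG
  let g : NG →ₗ[BG] N' := hfG.lift f
  have hg : IsBaseChange B' g := IsBaseChange.of_comp hfG (by rw [IsBaseChange.lift_comp]; exact hf)
  let t₁' := t'.comap φ.toRingHom
  have : t'.LiesOver t₁' := ⟨rfl⟩
  have hPover := hover
  obtain ⟨hP₁, hass₁⟩ := assFibre_comap (R := G) (S := BG) (R₂ := A') (S₂ := B') g hg t₁' t' P hass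
  refine ⟨G, BG, NG, inferInstance, inferInstance, inferInstance, inferInstance, inferInstance,
    inferInstance, inferInstance, inferInstance, inferInstance, inferInstance, inferInstance,
    inferInstance, inferInstance, inferInstance, fG, t₁', t₁, inferInstance, inferInstance,
    P.comap (algebraMap BG B'), inferInstance,
    ⟨inferInstance, hfG, (Ideal.comap_mono htt).trans hle, htp₁, hP₁, hass₁, fun P' _ hPP' hP' => ?_⟩, hQ⟩
  have h1 : algebraMap G BG s₀ + z ∈ P' := hPP' (by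
    show ψ (algebraMap G BG s₀ + z) ∈ P
    rw [map_add, stageMap_left, hs₀, hzx, add_sub_cancel]
    exact haP)
  have h2 : z ∈ P' := Ideal.map_le_iff_le_comap.2 (hle.trans hP'.over.le) hz
  have h3 : algebraMap G BG s₀ ∈ P' := by simpa using sub_mem h1 h2
  exact hst (hP'.over.ge h3)

end Groth.Agent.FlatMorDevissage.ImpurityDescend
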