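import Groth.Agent.FlatMorDevissage.ImpurityCurve
import Groth.Agent.HenselLib.PtPrime
import Groth.Agent.HenselLib.HullFlat

/-!
# Impurities over henselizations; composing base changes
-/

set_option autoImplicit false
set_option backward.isDefEq.respectTransparency false

universe u

open TensorProduct IsLocalRing

namespace Groth.Agent.FlatMorDevissage.ImpurityHensel

open Groth.Agent

attribute [local instance] Algebra.TensorProduct.rightAlgebra

/-- An impurity of a base change is an impurity. -/
theorem hasImpurity_trans {A B A' B' N' : Type u} [CommRing A] [CommRing B] [Algebra A B]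
    (N : Type u) [AddCommGroup N] [Module B N] (p : Ideal A) [p.IsPrime] [CommRing A'] [CommRing B']
    [Algebra A A'] [Algebra B B'] [Algebra A' B'] [Algebra A B'] [IsScalarTower A B B']
    [IsScalarTower A A' B'] [Algebra.IsPushout A B A' B'] [AddCommGroup N'] [Module B' N'] [Module B N']
    [IsScalarTower B B' N'] {f : N →ₗ[B] N'} (hf : IsBaseChange B' f) (p' : Ideal A') [p'.IsPrime]
    [p'.LiesOver p] (Q' : ∀ (C : Type u) [CommRing C] [Algebra A' C], Ideal C → Prop)
    (Q : ∀ (C : Type u) [CommRing C] [Algebra A C], Ideal C → Prop)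
    (hQ : ∀ (C : Type u) [CommRing C] [Algebra A' C] [Algebra A C] [IsScalarTower A A' C] (t : Ideal C),
      Q' C t → Q C t)
    (h : FlatCA.HasImpurity A' B' N' p' Q') : FlatCA.HasImpurity A B N p Q := by
  obtain ⟨Aa, Ba, Na, _, _, _, _, _, _, _, _, _, _, _, _, _, _, fa, t', t, _, _, P, _,
    ⟨hpo, hfa, htt, htp, hover, hass, hno⟩, hQt⟩ := h
  let _ : Algebra A Aa := ((algebraMap A' Aa).comp (algebraMap A A')).toAlgebra
  have : IsScalarTower A A' Aa := .of_algebraMap_eq' rfl
  let _ : Algebra B Ba := ((algebraMap B' Ba).comp (algebraMap B B')).toAlgebra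
  have : IsScalarTower B B' Ba := .of_algebraMap_eq' rfl
  let _ : Algebra A Ba := ((algebraMap Aa Ba).comp (algebraMap A Aa)).toAlgebra
  have : IsScalarTower A Aa Ba := .of_algebraMap_eq' rfl
  have : IsScalarTower A B' Ba := .of_algebraMap_eq fun a => by
    show algebraMap Aa Ba (algebraMap A' Aa (algebraMap A A' a)) = _
    rw [← IsScalarTower.algebraMap_apply A' Aa Ba, IsScalarTower.algebraMap_apply A' B' Ba,
      ← IsScalarTower.algebraMap_apply A A' B']
  have : IsScalarTower A B Ba := .of_algebraMap_eq fun a => by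
    rw [IsScalarTower.algebraMap_apply A B' Ba, IsScalarTower.algebraMap_apply A B B']
    rfl
  have : Algebra.IsPushout A A' B B' := Algebra.IsPushout.symm ‹Algebra.IsPushout A B A' B'›
  have : Algebra.IsPushout A' Aa B' Ba := hpo.symm
  have hpo2 : Algebra.IsPushout A B Aa Ba :=
    Algebra.IsPushout.symm ((Algebra.IsPushout.comp_iff A A' B B').2 ‹Algebra.IsPushout A' Aa B' Ba›)
  let _ : Module B Na := Module.compHom Na (algebraMap B B')
  have : IsScalarTower B B' Na := .of_algebraMap_smul fun _ _ => rfl
  have : IsScalarTower B Ba Na := .of_algebraMap_smul fun b m => by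
    show algebraMap B' Ba (algebraMap B B' b) • m = algebraMap B B' b • m
    rw [algebraMap_smul]
  have htp' : t.LiesOver p := Ideal.LiesOver.trans t p' p
  exact ⟨Aa, Ba, Na, inferInstance, inferInstance, inferInstance, inferInstance, inferInstance,
    inferInstance, inferInstance, inferInstance, inferInstance, inferInstance, inferInstance,
    inferInstance, inferInstance, inferInstance, (fa.restrictScalars B) ∘ₗ f, t', t, inferInstance,
    inferInstance, P, inferInstance,
    ⟨hpo2, IsBaseChange.comp hf hfa, htt, htp', hover, hass, hno⟩, hQ Aa t hQt⟩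

/-- An impurity over an elementary etale neighbourhood moves to any flat henselian local algebra. -/
theorem hasImpurity_henselian {R S : Type u} [CommRing R] [CommRing S] [Algebra R S]
    [Algebra.FiniteType R S] (N : Type u) [AddCommGroup N] [Module S N] (r : Ideal R) [r.IsPrime]
    (H : Type u) [CommRing H] [HenselianLocalRing H] [Algebra R H] [Module.Flat R H]
    [hr : (maximalIdeal H).LiesOver r]
    (h : FlatCA.HasImpurity R S N r (fun A' _ _ t => ∃ _ : t.IsPrime, FlatCA.IsEtaleNhd R A' r t))
    (Q : ∀ (C : Type u) [CommRing C] [Algebra R C], Ideal C → Prop) (hQ : Q H (maximalIdeal H)) :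
    FlatCA.HasImpurity R S N r Q := by
  obtain ⟨A', B', N', _, _, _, _, _, _, _, _, _, _, _, _, _, _, f, t', t, _, _, P, _, himp, _,
    het, hto, hbij⟩ := h
  obtain ⟨σ, hσ⟩ := HenselLib.PtPrime.exists_point r t hto.over hbij
  have := HenselLib.henselianRing_maximalIdeal H
  let ψ : r.ResidueField →ₐ[R] H ⧸ maximalIdeal H :=
    { Ideal.ResidueField.lift r (algebraMap R (H ⧸ maximalIdeal H))
        (fun a ha => by
          rw [RingHom.mem_ker, IsScalarTower.algebraMap_apply R H (H ⧸ maximalIdeal H)]
          exact Ideal.Quotient.eq_zero_iff_mem.2 (hr.over.le ha))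
        (fun a ha => by
          show IsUnit (algebraMap R (H ⧸ maximalIdeal H) a)
          rw [IsScalarTower.algebraMap_apply R H (H ⧸ maximalIdeal H)]
          refine IsUnit.map _ ?_
          by_contra hu
          exact ha (hr.over.ge hu)) with
      commutes' := fun a => by simp }
  obtain ⟨τ, hτ, -⟩ := HenselLib.existsUnique_lift (maximalIdeal H) (ψ.comp σ)
  let _ : Algebra A' H := τ.toRingHom.toAlgebra
  have : IsScalarTower R A' H := .of_algebraMap_eq fun a => (τ.commutes a).symm
  have : Algebra.Etale R A' := het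
  have : Module.Flat A' H := HenselLib.flat_of_flat_of_etale (R := R)
  have hw : (maximalIdeal H).LiesOver t := ⟨by
    ext a
    rw [← hσ, RingHom.mem_ker, Ideal.under_def, Ideal.mem_comap,
      ← map_eq_zero_iff ψ ψ.toRingHom.injective]
    show ψ (σ a) = 0 ↔ τ a ∈ maximalIdeal H
    rw [← Ideal.Quotient.eq_zero_iff_mem]
    exact Iff.of_eq (congrArg (· = 0) congr($hτ a).symm)⟩
  obtain ⟨w', hw'le, hw', hw't⟩ :=
    (maximalIdeal H).exists_ideal_le_liesOver_of_le (p := t') (q := t) himp.2.2.1
  obtain ⟨PD, _, h'⟩ := ImpurityCurve.exists_lift_impurity N r f t' t P himp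
    (TensorProduct.mk S (H ⊗[R] S) N 1) (TensorProduct.isBaseChange S N (H ⊗[R] S)) w'
    (maximalIdeal H) hw't hw hw'le
  exact ⟨H, H ⊗[R] S, (H ⊗[R] S) ⊗[S] N, inferInstance, inferInstance, inferInstance, inferInstance,
    inferInstance, inferInstance, inferInstance, inferInstance, inferInstance, inferInstance,
    inferInstance, inferInstance, inferInstance, inferInstance, _, w', maximalIdeal H, inferInstance,
    inferInstance, PD, inferInstance, h', hQ⟩

end Groth.Agent.FlatMorDevissage.ImpurityHensel
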