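import Groth.Agent.FlatMorDevissage.PureDescend
import Groth.Agent.FlatMorDevissage.NhdLemmas
import Mathlib.RingTheory.Etale.QuasiFinite

/-!
# Impurities over quasi-finite base changes come from etale neighbourhoods
-/

set_option autoImplicit false
set_option backward.isDefEq.respectTransparency false

universe u

open TensorProduct

namespace Groth.Agent.FlatMorDevissage.ImpurityQF

attribute [local instance] Algebra.TensorProduct.rightAlgebra

section Models

variable {A B A₁ B₁ F BF : Type u} [CommRing A] [CommRing B] [CommRing A₁] [CommRing B₁]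
  [CommRing F] [CommRing BF] [Algebra A B] [Algebra A A₁] [Algebra B B₁] [Algebra A₁ B₁]
  [Algebra A B₁] [IsScalarTower A B B₁] [IsScalarTower A A₁ B₁] [Algebra.IsPushout A B A₁ B₁]
  [Algebra A F] [Algebra A₁ F] [IsScalarTower A A₁ F]
  [Algebra B BF] [Algebra F BF] [Algebra A BF] [IsScalarTower A B BF] [IsScalarTower A F BF]
  [Algebra.IsPushout A B F BF]
  {N N₁ NF : Type u} [AddCommGroup N] [Module B N] [AddCommGroup N₁] [Module B₁ N₁] [Module B N₁]
  [IsScalarTower B B₁ N₁] [AddCommGroup NF] [Module BF NF] [Module B NF] [IsScalarTower B BF NF]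
  [Module A₁ N₁] [IsScalarTower A₁ B₁ N₁] [Module F NF] [IsScalarTower F BF NF]

variable (A B A₁ B₁ F BF) in
include A B in
theorem exists_maps : ∃ (_ : Algebra B₁ BF) (_ : Algebra A₁ BF) (_ : IsScalarTower B B₁ BF)
    (_ : IsScalarTower A₁ B₁ BF) (_ : IsScalarTower A₁ F BF), Algebra.IsPushout A₁ B₁ F BF := by
  let u : A₁ →ₐ[A] BF := (IsScalarTower.toAlgHom A F BF).comp (IsScalarTower.toAlgHom A A₁ F)
  let d : B₁ →ₐ[A] BF := Algebra.pushoutDesc (R := A) (S := B) (R' := A₁) B₁
    (IsScalarTower.toAlgHom A B BF) u (fun _ _ => mul_comm _ _)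
  let _ : Algebra B₁ BF := d.toRingHom.toAlgebra
  let _ : Algebra A₁ BF := u.toRingHom.toAlgebra
  have h1 : IsScalarTower B B₁ BF := .of_algebraMap_eq fun b =>
    (Algebra.pushoutDesc_left B₁ (IsScalarTower.toAlgHom A B BF) u (fun _ _ => mul_comm _ _) b).symm
  have h2 : IsScalarTower A₁ B₁ BF := .of_algebraMap_eq fun a =>
    (Algebra.pushoutDesc_right B₁ (IsScalarTower.toAlgHom A B BF) u (fun _ _ => mul_comm _ _) a).symm
  have h3 : IsScalarTower A₁ F BF := .of_algebraMap_eq' rfl
  have : IsScalarTower A B₁ BF := .of_algebraMap_eq fun a => (d.commutes a).symm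
  have : Algebra.IsPushout A A₁ B B₁ := Algebra.IsPushout.symm ‹Algebra.IsPushout A B A₁ B₁›
  have : Algebra.IsPushout A F B BF := Algebra.IsPushout.symm ‹Algebra.IsPushout A B F BF›
  exact ⟨_, _, h1, h2, h3,
    Algebra.IsPushout.symm ((Algebra.IsPushout.comp_iff A A₁ B B₁).1 ‹Algebra.IsPushout A F B BF›)⟩

variable [Algebra B₁ BF] [Algebra A₁ BF] [IsScalarTower B B₁ BF] [IsScalarTower A₁ B₁ BF]
  [IsScalarTower A₁ F BF] [Algebra.IsPushout A₁ B₁ F BF] [Algebra.FiniteType A₁ B₁]
  [Algebra.FiniteType F BF]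
  {f₁ : N →ₗ[B] N₁} (hf₁ : IsBaseChange B₁ f₁) {fF : N →ₗ[B] NF} (hfF : IsBaseChange BF fF)
  (t : Ideal A₁) [t.IsPrime] (w : Ideal F) [w.IsPrime] [w.LiesOver t]

include hf₁ hfF in
theorem assFibre_up (P : Ideal B₁) [P.IsPrime] [P.LiesOver t]
    (hass : FlatCA.fiberIdeal t P ∈ associatedPrimes (t.Fiber B₁) (FlatCA.fiberMod t B₁ N₁)) :
    ∃ (Q : Ideal BF) (_ : Q.IsPrime), Q.LiesOver w ∧ Q.comap (algebraMap B₁ BF) = P ∧
      FlatCA.fiberIdeal w Q ∈ associatedPrimes (w.Fiber BF) (FlatCA.fiberMod w BF NF) := by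
  let _ : Module B₁ NF := Module.compHom NF (algebraMap B₁ BF)
  have : IsScalarTower B₁ BF NF := .of_algebraMap_smul fun _ _ => rfl
  have : IsScalarTower B B₁ NF := .of_algebraMap_smul fun b m => by
    show algebraMap B₁ BF (algebraMap B B₁ b) • m = b • m
    rw [← IsScalarTower.algebraMap_apply, algebraMap_smul]
  have hg : IsBaseChange BF (hf₁.lift fF) := IsBaseChange.of_comp hf₁ (by
    rw [IsBaseChange.lift_comp]; exact hfF)
  exact exists_assFibre_over (hf₁.lift fF) hg t w P hass

include hf₁ hfF in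
theorem assFibre_down (Q : Ideal BF) [Q.IsPrime] [Q.LiesOver w]
    (hass : FlatCA.fiberIdeal w Q ∈ associatedPrimes (w.Fiber BF) (FlatCA.fiberMod w BF NF)) :
    (Q.comap (algebraMap B₁ BF)).LiesOver t ∧ FlatCA.fiberIdeal t (Q.comap (algebraMap B₁ BF)) ∈
      associatedPrimes (t.Fiber B₁) (FlatCA.fiberMod t B₁ N₁) := by
  let _ : Module B₁ NF := Module.compHom NF (algebraMap B₁ BF)
  have : IsScalarTower B₁ BF NF := .of_algebraMap_smul fun _ _ => rfl
  have : IsScalarTower B B₁ NF := .of_algebraMap_smul fun b m => by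
    show algebraMap B₁ BF (algebraMap B B₁ b) • m = b • m
    rw [← IsScalarTower.algebraMap_apply, algebraMap_smul]
  have hg : IsBaseChange BF (hf₁.lift fF) := IsBaseChange.of_comp hf₁ (by
    rw [IsBaseChange.lift_comp]; exact hfF)
  exact assFibre_comap (hf₁.lift fF) hg t w Q hass

end Models

section Core

variable {A B A' B' R' B₁ F BF : Type u} [CommRing A] [CommRing B] [CommRing A'] [CommRing B']
  [CommRing R'] [CommRing B₁] [CommRing F] [CommRing BF] [Algebra A B] [Algebra A A'] [Algebra B B']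
  [Algebra A' B'] [Algebra A B'] [IsScalarTower A B B'] [IsScalarTower A A' B']
  [Algebra A R'] [Algebra B B₁] [Algebra R' B₁] [Algebra A B₁] [IsScalarTower A B B₁]
  [IsScalarTower A R' B₁] [Algebra.IsPushout A B R' B₁]
  [Algebra A F] [Algebra A' F] [IsScalarTower A A' F] [Algebra R' F] [IsScalarTower A R' F]
  [Algebra B BF] [Algebra F BF] [Algebra A BF] [IsScalarTower A B BF] [IsScalarTower A F BF]
  [Algebra.IsPushout A B F BF] [Algebra.FiniteType A' B'] [Algebra.FiniteType R' B₁]
  [Algebra.FiniteType F BF] [Module.Flat A' F] [Module.Finite R' F]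
  {N N' N₁ NF : Type u} [AddCommGroup N] [Module B N] [AddCommGroup N'] [Module B' N'] [Module B N']
  [IsScalarTower B B' N'] [Module A' N'] [IsScalarTower A' B' N']
  [AddCommGroup N₁] [Module B₁ N₁] [Module B N₁] [IsScalarTower B B₁ N₁] [Module R' N₁]
  [IsScalarTower R' B₁ N₁] [AddCommGroup NF] [Module BF NF] [Module B NF] [IsScalarTower B BF NF]
  [Module F NF] [IsScalarTower F BF NF]

/-- An impurity moves to a base over which the point has a finite neighbourhood. -/
theorem exists_core (p : Ideal A) [p.IsPrime] {f : N →ₗ[B] N'} {t' t : Ideal A'} [t'.IsPrime]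
    [t.IsPrime] {P : Ideal B'} [P.IsPrime] (himp : FlatCA.IsImpurity A B N p A' B' N' f t' t P)
    (f₁ : N →ₗ[B] N₁) (hf₁ : IsBaseChange B₁ f₁) (fF : N →ₗ[B] NF) (hfF : IsBaseChange BF fF)
    (P₁ : Ideal R') [P₁.IsPrime] [P₁.LiesOver p] (WF : Ideal F) [WF.IsPrime] [WF.LiesOver t]
    (hWFP₁ : WF.comap (algebraMap R' F) = P₁)
    (huniq : ∀ V : Ideal F, V.IsPrime → V.comap (algebraMap R' F) = P₁ →
      V.comap (algebraMap A' F) = t) :
    ∃ (t₁' : Ideal R') (_ : t₁'.IsPrime) (Q₁ : Ideal B₁) (_ : Q₁.IsPrime),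
      FlatCA.IsImpurity A B N p R' B₁ N₁ f₁ t₁' P₁ Q₁ := by
  obtain ⟨hpo, hf, htt, -, hover, hass, hno⟩ := himp
  have := hpo
  have := hover
  obtain ⟨W', hW'le, hW', hW't⟩ := WF.exists_ideal_le_liesOver_of_le (p := t') (q := t) htt
  obtain ⟨_, _, _, _, _, _⟩ := exists_maps A B A' B' F BF
  obtain ⟨Q, hQ, hQW', hQP, hQass⟩ := assFibre_up hf hfF t' W' P hass
  obtain ⟨_, _, _, _, _, _⟩ := exists_maps A B R' B₁ F BF
  let t₁' := W'.comap (algebraMap R' F)
  have : W'.LiesOver t₁' := ⟨rfl⟩
  obtain ⟨hQ₁, hass₁⟩ := assFibre_down hf₁ hfF t₁' W' Q hQass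
  refine ⟨t₁', inferInstance, Q.comap (algebraMap B₁ BF), inferInstance, inferInstance, hf₁,
    (Ideal.comap_mono hW'le).trans hWFP₁.le, inferInstance, hQ₁, hass₁, fun P' _ hle hP' => ?_⟩
  have : Algebra.IsPushout R' F B₁ BF := Algebra.IsPushout.symm ‹Algebra.IsPushout R' B₁ F BF›
  have : Module.Finite B₁ BF :=
    Module.Finite.equiv (‹Algebra.IsPushout R' F B₁ BF›.symm.out.equiv)
  obtain ⟨QF, hQle, hQF, hQFP'⟩ := Ideal.exists_ideal_over_prime_of_isIntegral P' Q hle
  have hVP₁ : (QF.comap (algebraMap F BF)).comap (algebraMap R' F) = P₁ := by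
    rw [Ideal.comap_comap, ← IsScalarTower.algebraMap_eq, IsScalarTower.algebraMap_eq R' B₁ BF,
      ← Ideal.comap_comap, hQFP']
    exact hP'.over.symm
  refine hno (QF.comap (algebraMap B' BF)) (hQP ▸ Ideal.comap_mono hQle) ⟨?_⟩
  rw [Ideal.under_def, Ideal.comap_comap, ← IsScalarTower.algebraMap_eq,
    IsScalarTower.algebraMap_eq A' F BF, ← Ideal.comap_comap, huniq _ inferInstance hVP₁]

end Core

/-- The point of a finite etale neighbourhood piece. -/
theorem exists_piece {A A' R' : Type u} [CommRing A] [CommRing A'] [CommRing R'] [Algebra A A']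
    [Algebra A R'] [Algebra.Etale A R'] (t : Ideal A') (P₁ : Ideal R') [P₁.IsPrime]
    (e : R' ⊗[A] A') (W : Ideal (R' ⊗[A] A')) [W.IsPrime] [hWP₁ : W.LiesOver P₁]
    (hWt : W.comap (Algebra.TensorProduct.includeRight : A' →ₐ[A] R' ⊗[A] A').toRingHom = t)
    (heW : e ∉ W) [Module.Finite R' (Localization.Away e)]
    (huniq : ∀ P'' : Ideal (R' ⊗[A] A'), P''.IsPrime → P''.LiesOver P₁ → e ∉ P'' → P'' = W) :
    ∃ (F : Type u) (_ : CommRing F) (_ : Algebra A F) (_ : Algebra A' F) (_ : IsScalarTower A A' F)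
      (_ : Algebra R' F) (_ : IsScalarTower A R' F) (_ : Module.Flat A' F) (_ : Module.Finite R' F)
      (WF : Ideal F) (_ : WF.IsPrime), WF.LiesOver t ∧ WF.comap (algebraMap R' F) = P₁ ∧
      ∀ V : Ideal F, V.IsPrime → V.comap (algebraMap R' F) = P₁ →
        V.comap (algebraMap A' F) = t := by
  let X := R' ⊗[A] A'
  let F := Localization.Away e
  have : IsScalarTower A A' F := .of_algebraMap_eq fun a => by
    rw [IsScalarTower.algebraMap_apply A' X F, ← IsScalarTower.algebraMap_apply A A' X,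
      ← IsScalarTower.algebraMap_apply A X F]
  have : IsScalarTower A R' F := .of_algebraMap_eq fun a => by
    rw [IsScalarTower.algebraMap_apply R' X F, ← IsScalarTower.algebraMap_apply A R' X,
      ← IsScalarTower.algebraMap_apply A X F]
  have hd : Disjoint (Submonoid.powers e : Set X) (W : Set X) :=
    (Ideal.disjoint_powers_iff_notMem e (Ideal.IsPrime.isRadical inferInstance)).2 heW
  let WF : Ideal F := W.map (algebraMap X F)
  have : WF.IsPrime :=
    IsLocalization.isPrime_of_isPrime_disjoint (Submonoid.powers e) F W inferInstance hd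
  have hWF : WF.comap (algebraMap X F) = W :=
    IsLocalization.under_map_of_isPrime_disjoint (Submonoid.powers e) F inferInstance hd
  have : Algebra.Etale A' X := etale_rightAlgebra
  have : Module.Flat A' F := Module.Flat.trans A' X F
  refine ⟨F, inferInstance, inferInstance, inferInstance, inferInstance, inferInstance, inferInstance,
    inferInstance, inferInstance, WF, inferInstance, ⟨?_⟩, ?_, fun V hV hVP₁ => ?_⟩
  · rw [Ideal.under_def, IsScalarTower.algebraMap_eq A' X F, ← Ideal.comap_comap, hWF]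
    exact hWt.symm
  · rw [IsScalarTower.algebraMap_eq R' X F, ← Ideal.comap_comap, hWF]
    exact hWP₁.over.symm
  · rw [IsScalarTower.algebraMap_eq A' X F, ← Ideal.comap_comap,
      huniq (V.comap (algebraMap X F)) inferInstance
        ⟨by rw [Ideal.under_def, Ideal.comap_comap, ← IsScalarTower.algebraMap_eq, hVP₁]⟩
        fun heV => hV.ne_top (V.eq_top_of_isUnit_mem heV (IsLocalization.Away.algebraMap_isUnit e))]
    exact hWt

set_option maxHeartbeats 1600000 in
/-- **An impurity over a quasi-finite base change gives one over an etale neighbourhood.** -/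
theorem hasImpurity_etaleNhd {A B : Type u} [CommRing A] [CommRing B] [Algebra A B]
    [Algebra.FiniteType A B] (N : Type u) [AddCommGroup N] [Module B N] (p : Ideal A) [p.IsPrime]
    (h : FlatCA.HasImpurity A B N p (fun A' _ _ t => ∃ _ : t.IsPrime, Algebra.FiniteType A A' ∧ Algebra.QuasiFiniteAt A t)) :
    FlatCA.HasImpurity A B N p (fun A' _ _ t => ∃ _ : t.IsPrime, FlatCA.IsEtaleNhd A A' p t) := by
  obtain ⟨A', B', N', _, _, _, _, _, _, _, _, _, _, _, _, _, _, f, t', t, _, _, P, _,
    himp, _, hft, hqf⟩ := h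
  have := himp.2.2.2.1
  obtain ⟨R', _, _, _, P₁, _, hP₁p, e, he, W, hW, hWP₁, hWt, heW, hbij, hfin, huniq⟩ :=
    Algebra.exists_etale_isIdempotentElem_forall_liesOver_eq p t
  obtain ⟨F, _, _, _, _, _, _, _, _, WF, _, _, hWFP₁, hu⟩ := exists_piece t P₁ e W hWt heW huniq
  have : Algebra.FiniteType A' B' := by
    have : Algebra.IsPushout A A' B B' := himp.1.symm
    exact Algebra.FiniteType.equiv (Algebra.FiniteType.baseChange (A := B) A')
      (Algebra.IsPushout.equiv A A' B B')
  obtain ⟨t₁', _, Q₁, _, himp₁⟩ := exists_core p himp (TensorProduct.mk B (R' ⊗[A] B) N 1)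
    (TensorProduct.isBaseChange B N (R' ⊗[A] B)) (TensorProduct.mk B (F ⊗[A] B) N 1)
    (TensorProduct.isBaseChange B N (F ⊗[A] B)) P₁ WF hWFP₁ hu
  exact ⟨R', R' ⊗[A] B, (R' ⊗[A] B) ⊗[B] N, inferInstance, inferInstance, inferInstance, inferInstance,
    inferInstance, inferInstance, inferInstance, inferInstance, inferInstance, inferInstance,
    inferInstance, inferInstance, inferInstance, inferInstance, _, t₁', P₁, inferInstance, inferInstance,
    Q₁, inferInstance, himp₁, inferInstance, ‹Algebra.Etale A R'›, hP₁p, hbij⟩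

set_option maxHeartbeats 1600000 in
/-- Purity along a fibre passes to quasi-finite base changes. -/
theorem isPureAlong_baseChange {A B : Type u} [CommRing A] [CommRing B] [Algebra A B] [Algebra.FiniteType A B]
    (N : Type u) [AddCommGroup N] [Module B N] (p : Ideal A) [p.IsPrime]
    {A' B' N' : Type u} [CommRing A'] [CommRing B'] [Algebra A A'] [Algebra B B'] [Algebra A' B'] [Algebra A B']
    [IsScalarTower A B B'] [IsScalarTower A A' B'] [Algebra.IsPushout A B A' B']
    [AddCommGroup N'] [Module B' N'] [Module B N'] [IsScalarTower B B' N'] (f : N →ₗ[B] N') (hf : IsBaseChange B' f)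
    (p' : Ideal A') [p'.IsPrime] [p'.LiesOver p] [Algebra.FiniteType A A'] [Algebra.QuasiFiniteAt A p']
    (h : FlatCA.IsPureAlong A B N p) : FlatCA.IsPureAlong A' B' N' p' := by
  intro Aa Ba Na _ _ _ _ _ _ _ _ _ _ _ _ _ _ fa t' t _ _ P _ ht ⟨hpo, hfa, htt, htp, hover, hass, hno⟩
  obtain ⟨het, hto, -⟩ := id ht
  let _ : Algebra A Aa := ((algebraMap A' Aa).comp (algebraMap A A')).toAlgebra
  have : IsScalarTower A A' Aa := .of_algebraMap_eq' rfl
  let _ : Algebra B Ba := ((algebraMap B' Ba).comp (algebraMap B B')).toAlgebra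
  have : IsScalarTower B B' Ba := .of_algebraMap_eq' rfl
  let _ : Algebra A Ba := ((algebraMap Aa Ba).comp (algebraMap A Aa)).toAlgebra
  have : IsScalarTower A Aa Ba := .of_algebraMap_eq' rfl
  have : IsScalarTower A B' Ba := .of_algebraMap_eq fun a => by
    show algebraMap Aa Ba (algebraMap A' Aa (algebraMap A A' a)) = _
    rw [← IsScalarTower.algebraMap_apply A' Aa Ba, IsScalarTower.algebraMap_apply A' B' Ba,
      ← IsScalarTower.algebraMap_apply A A' B']
  have : IsScalarTower A B Ba := .of_algebraMap_eq fun a => by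
    rw [IsScalarTower.algebraMap_apply A B' Ba, IsScalarTower.algebraMap_apply A B B']
    rfl
  have : Algebra.IsPushout A A' B B' := Algebra.IsPushout.symm ‹Algebra.IsPushout A B A' B'›
  have : Algebra.IsPushout A' Aa B' Ba := hpo.symm
  have hpo2 : Algebra.IsPushout A B Aa Ba :=
    Algebra.IsPushout.symm ((Algebra.IsPushout.comp_iff A A' B B').2 ‹Algebra.IsPushout A' Aa B' Ba›)
  let _ : Module B Na := Module.compHom Na (algebraMap B B')
  have : IsScalarTower B B' Na := .of_algebraMap_smul fun _ _ => rfl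
  have : IsScalarTower B Ba Na := .of_algebraMap_smul fun b m => by
    show algebraMap B' Ba (algebraMap B B' b) • m = algebraMap B B' b • m
    rw [algebraMap_smul]
  have htp' : t.LiesOver p := Ideal.LiesOver.trans t p' p
  let L := Localization.AtPrime p'
  let Lt := Localization.AtPrime t
  let _ : Algebra L Lt := (Localization.localRingHom p' t (algebraMap A' Aa) hto.over).toAlgebra
  have : IsScalarTower A' L Lt := .of_algebraMap_eq fun a => by
    rw [RingHom.algebraMap_toAlgebra, Localization.localRingHom_to_map,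
      ← IsScalarTower.algebraMap_apply]
  have : IsScalarTower A L Lt := .of_algebraMap_eq fun a => by
    rw [IsScalarTower.algebraMap_apply A A' L, ← IsScalarTower.algebraMap_apply A' L Lt,
      ← IsScalarTower.algebraMap_apply A A' Lt]
  have : Algebra.QuasiFinite A' Lt := Algebra.QuasiFinite.trans A' Aa Lt
  have : Algebra.QuasiFinite L Lt := Algebra.QuasiFinite.of_restrictScalars A' L Lt
  have hqf : Algebra.QuasiFiniteAt A t := Algebra.QuasiFinite.trans A L Lt
  have : Algebra.FiniteType A Aa :=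
    Algebra.FiniteType.trans (S := A') (inferInstance : Algebra.FiniteType A A') inferInstance
  obtain ⟨A₂, B₂, N₂, _, _, _, _, _, _, _, _, _, _, _, _, _, _, f₂, s', s, _, _, P₂, _, himp₂, ⟨_, hs⟩⟩ :=
    hasImpurity_etaleNhd N p ⟨Aa, Ba, Na, inferInstance, inferInstance, inferInstance, inferInstance,
      inferInstance, inferInstance, inferInstance, inferInstance, inferInstance, inferInstance,
      inferInstance, inferInstance, inferInstance, inferInstance, (fa.restrictScalars B) ∘ₗ f, t', t,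
      inferInstance, inferInstance, P, inferInstance,
      ⟨hpo2, IsBaseChange.comp hf hfa, htt, htp', hover, hass, hno⟩, inferInstance, inferInstance, hqf⟩
  exact h A₂ B₂ N₂ f₂ s' s P₂ hs himp₂

end Groth.Agent.FlatMorDevissage.ImpurityQF
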