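import Groth.Agent.FlatMorDevissage.InjMod
import Groth.Agent.FlatMorDevissage.Localize
import Groth.Agent.FlatMorDevissage.ExistsChain
import Groth.Agent.FlatMorDevissage.Local
import Groth.Agent.FlatMorDevissage.FlatTransfer
import Groth.Agent.FlatMorDevissage.AssCover
import Groth.Agent.FlatMorDevissage.LocalFP
import Mathlib.RingTheory.Flat.Localization

/-!
# Injective modulo the maximal ideal into a flat module: descent from an etale neighbourhood
-/

set_option autoImplicit false
set_option backward.isDefEq.respectTransparency false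

universe u

open TensorProduct Function IsLocalRing

namespace Groth.Agent.FlatMorDevissage

open Groth.Agent

attribute [local instance] Algebra.TensorProduct.rightAlgebra

/-- Flat base change does not see a localisation whose denominators become units. -/
theorem bijective_lTensor_localized {S L : Type u} [CommRing S] [CommRing L] [Algebra S L]
    [Module.Flat S L] (T : Submonoid S) (hT : ∀ t ∈ T, IsUnit (algebraMap S L t)) {N₀ N : Type u}
    [AddCommGroup N₀] [Module S N₀] [AddCommGroup N] [Module S N] (φ : N₀ →ₗ[S] N)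
    [IsLocalizedModule T φ] : Bijective (φ.lTensor L) := by
  refine ⟨(injective_iff_map_eq_zero _).2 fun z hz => ?_, fun z => ?_⟩
  · obtain ⟨w, rfl⟩ := (Module.Flat.lTensor_exact (M := L) (LinearMap.exact_subtype_ker_map φ) z).1 hz
    clear hz
    induction w using TensorProduct.induction_on with
    | zero => exact map_zero _
    | add v w hv hw => rw [map_add, hv, hw, add_zero]
    | tmul l k =>
      obtain ⟨t, ht⟩ := IsLocalizedModule.exists_of_eq (S := T) (f := φ)
        (show φ k.1 = φ 0 by rw [map_zero]; exact k.2)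
      obtain ⟨v, hv⟩ := hT t.1 t.2
      rw [LinearMap.lTensor_tmul, show l = (t : S) • (↑v⁻¹ * l) by
        rw [Algebra.smul_def, ← hv, ← mul_assoc, Units.mul_inv, one_mul], smul_tmul]
      rw [smul_zero, Submonoid.smul_def] at ht
      exact (congrArg ((↑v⁻¹ * l) ⊗ₜ[S] ·) ht).trans (tmul_zero _ _)
  · induction z using TensorProduct.induction_on with
    | zero => exact ⟨0, map_zero _⟩
    | add v w hv hw =>
      obtain ⟨a, rfl⟩ := hv
      obtain ⟨b, rfl⟩ := hw
      exact ⟨a + b, map_add _ _ _⟩
    | tmul l n =>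
      obtain ⟨⟨n₀, t⟩, ht⟩ := IsLocalizedModule.surj T φ n
      obtain ⟨v, hv⟩ := hT t.1 t.2
      refine ⟨(↑v⁻¹ * l) ⊗ₜ n₀, ?_⟩
      rw [LinearMap.lTensor_tmul, ← ht, Submonoid.smul_def, ← smul_tmul, Algebra.smul_def, ← hv,
        ← mul_assoc, Units.mul_inv, one_mul]

/-- Over a module on which the elements outside `q` act injectively, a flat local algebra over `q`
detects elements. -/
theorem eq_zero_of_one_tmul {S L : Type u} [CommRing S] [CommRing L] [IsLocalRing L] [Algebra S L]
    [Module.Flat S L] (q : Ideal S) (hq : q = (maximalIdeal L).comap (algebraMap S L)) {X : Type u}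
    [AddCommGroup X] [Module S X] (hX : ∀ c ∉ q, ∀ x : X, c • x = 0 → x = 0) (x : X)
    (hx : (1 : L) ⊗ₜ[S] x = 0) : x = 0 := by
  by_contra hne
  let K : Ideal S := LinearMap.ker (LinearMap.toSpanSingleton S X x)
  have hK : K ≤ q := fun a ha => Classical.not_not.1 fun haq => hne (hX a haq x (by simpa [K] using ha))
  let g : (S ⧸ K) →ₗ[S] X := K.liftQ (LinearMap.toSpanSingleton S _ x) le_rfl
  have hg : Injective g := LinearMap.ker_eq_bot.1 (Submodule.ker_liftQ_eq_bot _ _ _ le_rfl)
  have h0 : (1 : L) ⊗ₜ[S] (Submodule.Quotient.mk (p := K) (1 : S)) = (0 : L ⊗[S] (S ⧸ K)) := by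
    apply Module.Flat.lTensor_preserves_injective_linearMap g hg
    rw [map_zero, LinearMap.lTensor_tmul,
      show g (Submodule.Quotient.mk 1) = x from (Submodule.liftQ_apply _ _ _).trans (one_smul _ _), hx]
  let φ : (S ⧸ K) →ₗ[S] L ⧸ K.map (algebraMap S L) :=
    K.liftQ (Algebra.linearMap S (L ⧸ K.map (algebraMap S L))) fun a ha => by
      rw [LinearMap.mem_ker, Algebra.linearMap_apply,
        IsScalarTower.algebraMap_apply S L (L ⧸ K.map (algebraMap S L))]
      exact Ideal.Quotient.eq_zero_iff_mem.2 (Ideal.mem_map_of_mem _ ha)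
  have h1 := congrArg (LinearMap.liftBaseChange L φ) h0
  rw [LinearMap.liftBaseChange_tmul, map_zero,
    show φ (Submodule.Quotient.mk 1) = 1 from (Submodule.liftQ_apply _ _ _).trans (map_one (algebraMap S _)),
    one_smul] at h1
  have h2 : (1 : L) ∈ K.map (algebraMap S L) := Ideal.Quotient.eq_zero_iff_mem.1 h1
  exact (maximalIdeal L).ne_top_iff_one.1 (maximalIdeal.isMaximal L).ne_top
    (Ideal.map_le_iff_le_comap.2 (hK.trans hq.le) h2)

/-- A module which is flat at the maximal ideal of a local algebra is flat. -/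
theorem flat_of_flatAt_of_units {A S : Type u} [CommRing A] [CommRing S] [Algebra A S] (q : Ideal S)
    [q.IsPrime] {C : Type u} [AddCommGroup C] [Module S C] [Module A C] [IsScalarTower A S C]
    (hC : ∀ c ∉ q, Bijective fun x : C => c • x) (h : FlatCA.FlatAt A q C) : Module.Flat A C := by
  have : IsLocalizedModule q.primeCompl (LinearMap.id : C →ₗ[S] C) :=
    { map_units := fun c => (Module.End.isUnit_iff _).2 (hC c.1 c.2)
      surj := fun z => ⟨(z, 1), one_smul _ z⟩
      exists_of_eq := fun {a b} hab => ⟨1, congrArg ((1 : q.primeCompl) • ·) hab⟩ }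
  have : Module.Flat A (LocalizedModule q.primeCompl C) := h
  exact Module.Flat.of_linearEquiv ((IsLocalizedModule.iso q.primeCompl
    (LinearMap.id : C →ₗ[S] C)).restrictScalars A).symm

set_option maxHeartbeats 800000 in
/-- Descent from a flat local algebra `L` over `q` with a local base `B`. -/
theorem injMod_descent {A S B L : Type u} [CommRing A] [IsLocalRing A] [CommRing S] [Algebra A S]
    [CommRing B] [IsLocalRing B] [Algebra A B] [Module.Flat A B] [Algebra.EssFiniteType A B]
    [Algebra.FormallyUnramified A B] [CommRing L] [IsLocalRing L] [Algebra B L] [Algebra A L]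
    [IsScalarTower A B L] [Algebra S L] [IsScalarTower A S L] [Module.Flat S L]
    (hm : (maximalIdeal A).map (algebraMap A B) = maximalIdeal B)
    (q : Ideal S) [q.IsPrime] (hq : q = (maximalIdeal L).comap (algebraMap S L))
    {N M : Type u} [AddCommGroup N] [Module S N] [Module A N] [IsScalarTower A S N]
    [AddCommGroup M] [Module S M] [Module A M] [IsScalarTower A S M] [Module.Flat A M]
    (hN : ∀ c ∉ q, Bijective fun x : N => c • x) (hM : ∀ c ∉ q, Bijective fun x : M => c • x)
    (u : N →ₗ[S] M) (hu : ModInj (u.restrictScalars A))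
    (hprop : InjModProp B (L ⊗[S] N)) :
    Injective u ∧ Module.Flat A (M ⧸ LinearMap.range u) := by
  have hFM : Module.Flat A (L ⊗[S] M) := flat_tensor_flat L M
  have : Module.Flat B (L ⊗[S] M) := Algebra.FormallyUnramified.flat_of_restrictScalars A B _
  let uL := AlgebraTensorModule.lTensor L L u
  let JS : Ideal S := (maximalIdeal A).map (algebraMap A S)
  let PN : Submodule S N := JS • ⊤
  let PM : Submodule S M := JS • ⊤
  have hPM : ∀ m : M, m ∈ PM ↔ m ∈ maximalIdeal A • (⊤ : Submodule A M) := fun m => by
    rw [← Submodule.restrictScalars_mem A, Ideal.smul_restrictScalars, Submodule.restrictScalars_top]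
  have hPN : ∀ n : N, n ∈ PN ↔ n ∈ maximalIdeal A • (⊤ : Submodule A N) := fun n => by
    rw [← Submodule.restrictScalars_mem A, Ideal.smul_restrictScalars, Submodule.restrictScalars_top]
  have hle : PN ≤ PM.comap u := (Submodule.smul_top_le_comap_smul_top JS u)
  let ub : (N ⧸ PN) →ₗ[S] M ⧸ PM := PN.mapQ PM u hle
  have hub : Injective ub := by
    refine (injective_iff_map_eq_zero _).2 fun z hz => ?_
    obtain ⟨n, rfl⟩ := PN.mkQ_surjective z
    exact (Submodule.Quotient.mk_eq_zero _).2
      ((hPN n).2 (hu n ((hPM _).1 ((Submodule.Quotient.mk_eq_zero _).1 hz))))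
  have hmB : ∀ (X : Type u) [AddCommGroup X] [Module A X] [Module B X] [IsScalarTower A B X] (x : X),
      x ∈ maximalIdeal B • (⊤ : Submodule B X) ↔ x ∈ maximalIdeal A • (⊤ : Submodule A X) :=
    fun X _ _ _ _ x => by
      rw [← hm, ← Submodule.restrictScalars_mem A, Ideal.smul_restrictScalars,
        Submodule.restrictScalars_top]
  have huL : ModInj (uL.restrictScalars B) := by
    intro z hz
    rw [hmB] at hz ⊢
    have hzero : PM.mkQ.lTensor L (uL z) = 0 := by
      refine Submodule.smul_induction_on hz (fun a ha w hwtop => ?_)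
        fun v w hv hw => by rw [map_add, hv, hw, add_zero]
      clear hwtop
      induction w using TensorProduct.induction_on with
      | zero => rw [smul_zero, map_zero]
      | add v w hv hw => rw [smul_add, map_add, hv, hw, add_zero]
      | tmul l m =>
        rw [smul_tmul', ← algebraMap_smul S a l, smul_tmul, LinearMap.lTensor_tmul,
          Submodule.mkQ_apply, (Submodule.Quotient.mk_eq_zero _).2
            (Submodule.smul_mem_smul (Ideal.mem_map_of_mem _ ha) Submodule.mem_top), tmul_zero]
    have h1 : PN.mkQ.lTensor L z = 0 := by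
      apply Module.Flat.lTensor_preserves_injective_linearMap ub hub
      rw [map_zero, ← LinearMap.comp_apply, ← LinearMap.lTensor_comp,
        show ub ∘ₗ PN.mkQ = PM.mkQ ∘ₗ u from LinearMap.ext fun _ => rfl, LinearMap.lTensor_comp]
      exact hzero
    obtain ⟨w, rfl⟩ :=
      (Module.Flat.lTensor_exact (M := L) (LinearMap.exact_subtype_mkQ PN) z).1 h1
    clear hz hzero h1
    induction w using TensorProduct.induction_on with
    | zero => rw [map_zero]; exact zero_mem _
    | add v w hv hw => rw [map_add]; exact add_mem hv hw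
    | tmul l n =>
      rw [LinearMap.lTensor_tmul, Submodule.subtype_apply]
      refine Submodule.smul_induction_on (p := fun y : N => l ⊗ₜ[S] y ∈ maximalIdeal A • (⊤ : Submodule A (L ⊗[S] N)))
        ((hPN _).1 n.2) (fun a ha x _ => ?_)
        fun v w hv hw => by rw [tmul_add]; exact add_mem hv hw
      rw [← algebraMap_smul S a x, ← smul_tmul, algebraMap_smul, ← smul_tmul']
      exact Submodule.smul_mem_smul ha Submodule.mem_top
  obtain ⟨hinj, hflat⟩ := hprop (uL.restrictScalars B) huL
  have hNinj : ∀ c ∉ q, ∀ x : N, c • x = 0 → x = 0 := fun c hc x hx =>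
    (hN c hc).1 (hx.trans (smul_zero c).symm)
  refine ⟨(injective_iff_map_eq_zero _).2 fun x hx => eq_zero_of_one_tmul q hq hNinj x
    (hinj (by show (1 : L) ⊗ₜ[S] u x = uL 0; rw [map_zero, hx, tmul_zero])), ?_⟩
  let C := M ⧸ LinearMap.range u
  let g := AlgebraTensorModule.lTensor L L (LinearMap.range u).mkQ
  have hex : Exact (uL.restrictScalars B) (g.restrictScalars B) :=
    lTensor_exact L (LinearMap.exact_map_mkQ_range u) (Submodule.mkQ_surjective _)
  have hg : Surjective (g.restrictScalars B) :=
    LinearMap.lTensor_surjective L (Submodule.mkQ_surjective _)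
  have hB : Module.Flat B (L ⊗[S] C) :=
    Module.Flat.of_linearEquiv (hex.linearEquivOfSurjective hg).symm
  have hA : Module.Flat A (L ⊗[S] C) := Module.Flat.trans A B _
  have hLat : FlatCA.FlatAt A (maximalIdeal L) (L ⊗[S] C) :=
    (flatAt_iff_kerKilled _).2 fun X Y _ _ _ _ i hi x hx => ⟨1, Ideal.one_notMem _, by
      rw [one_smul]
      exact Module.Flat.lTensor_preserves_injective_linearMap (M := L ⊗[S] C) i hi
        (hx.trans (map_zero _).symm)⟩
  have hCat : FlatCA.FlatAt A q C := by
    have h := (flatAt_tensor_iff (maximalIdeal L)).1 hLat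
    simp only [← hq] at h
    exact h
  refine flat_of_flatAt_of_units q (fun c hc => ⟨?_, fun z => ?_⟩) hCat
  · intro z₁ z₂ hz
    obtain ⟨m₁, rfl⟩ := (LinearMap.range u).mkQ_surjective z₁
    obtain ⟨m₂, rfl⟩ := (LinearMap.range u).mkQ_surjective z₂
    obtain ⟨n, hn⟩ := (Submodule.Quotient.eq _).1
      (show Submodule.Quotient.mk (c • m₁) = Submodule.Quotient.mk (c • m₂) from hz)
    obtain ⟨n', rfl⟩ := (hN c hc).2 n
    refine (Submodule.Quotient.eq _).2 ⟨n', (hM c hc).1 ?_⟩
    show c • u n' = c • (m₁ - m₂)
    rw [← map_smul, hn, smul_sub]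
  · obtain ⟨m, rfl⟩ := (LinearMap.range u).mkQ_surjective z
    obtain ⟨m', hm'⟩ := (hM c hc).2 m
    exact ⟨Submodule.Quotient.mk m', congrArg Submodule.Quotient.mk hm'⟩

set_option maxHeartbeats 800000 in
/-- Descent from a chain over a local base. -/
theorem injMod_of_chain {A S B T : Type u} [CommRing A] [IsLocalRing A] [CommRing S] [Algebra A S]
    [CommRing B] [IsLocalRing B] [Algebra A B] [Module.Flat A B] [Algebra.EssFiniteType A B]
    [Algebra.FormallyUnramified A B] [CommRing T] [Algebra B T] [Algebra A T] [IsScalarTower A B T]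
    [Algebra S T] [IsScalarTower A S T] [Module.Flat S T]
    (hm : (maximalIdeal A).map (algebraMap A B) = maximalIdeal B)
    (q : Ideal S) [q.IsPrime] (q'' : Ideal T) [q''.IsPrime] (hqq : q = q''.comap (algebraMap S T))
    {N₀ N M : Type u} [AddCommGroup N₀] [Module S N₀] [AddCommGroup N] [Module S N] [Module A N]
    [IsScalarTower A S N] (φ : N₀ →ₗ[S] N) [IsLocalizedModule q.primeCompl φ]
    [AddCommGroup M] [Module S M] [Module A M] [IsScalarTower A S M] [Module.Flat A M]
    (hM : ∀ c ∉ q, Bijective fun x : M => c • x) (u : N →ₗ[S] M)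
    (hu : ModInj (u.restrictScalars A)) {NT : Type u} [AddCommGroup NT] [Module T NT] [Module S NT]
    [IsScalarTower S T NT] (f₁ : N₀ →ₗ[S] NT) (hf₁ : IsBaseChange T f₁)
    (hchain : Chain B (maximalIdeal B) T NT q'') :
    Injective u ∧ Module.Flat A (M ⧸ LinearMap.range u) := by
  let L := Localization.AtPrime q''
  let _ : Module B NT := Module.compHom NT (algebraMap B T)
  have : IsScalarTower B T NT := .of_algebraMap_smul fun _ _ => rfl
  have : Module.Flat S L := Module.Flat.trans S T L
  have hqL : q = (maximalIdeal L).comap (algebraMap S L) := by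
    rw [IsScalarTower.algebraMap_eq S T L, ← Ideal.comap_comap]
    exact hqq.trans (congrArg (Ideal.comap (algebraMap S T))
      (IsLocalization.AtPrime.under_maximalIdeal L q'').symm)
  have hprop : InjModProp B (LocalizedModule q''.primeCompl NT) := hchain.injModProp
  let f₂ : N₀ →ₗ[S] LocalizedModule q''.primeCompl NT :=
    ((LocalizedModule.mkLinearMap q''.primeCompl NT).restrictScalars S) ∘ₗ f₁
  have hf₂ : IsBaseChange L f₂ :=
    hf₁.comp (IsLocalizedModule.isBaseChange q''.primeCompl L _)
  have hN : ∀ c ∉ q, Bijective fun x : N => c • x := fun c hc =>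
    (Module.End.isUnit_iff _).1 (IsLocalizedModule.map_units φ (⟨c, hc⟩ : q.primeCompl))
  have hφ : Bijective (φ.lTensor L) :=
    bijective_lTensor_localized q.primeCompl (fun t ht => by
      by_contra h
      exact ht (hqL ▸ (mem_maximalIdeal _).2 h)) φ
  let e₂ : L ⊗[S] N₀ ≃ₗ[L] L ⊗[S] N :=
    LinearEquiv.ofBijective (AlgebraTensorModule.lTensor L L φ) hφ
  exact injMod_descent (A := A) (S := S) (B := B) (L := L) hm q hqL hN hM u hu
    (hprop.of_equiv ((hf₂.equiv.symm.trans e₂).restrictScalars B))

set_option maxHeartbeats 1600000 in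
/-- **A map into a flat module which is injective modulo the maximal ideal is injective with flat
cokernel** (finite type form, at a point). -/
theorem injMod_of_finiteType {A S : Type u} [CommRing A] [IsLocalRing A] [CommRing S] [Algebra A S]
    [Algebra.FiniteType A S] (q : Ideal S) [q.IsPrime] [q.LiesOver (maximalIdeal A)]
    {N₀ N M : Type u} [AddCommGroup N₀] [Module S N₀] [Module.Finite S N₀]
    [AddCommGroup N] [Module S N] [Module A N] [IsScalarTower A S N] (φ : N₀ →ₗ[S] N)
    [IsLocalizedModule q.primeCompl φ] [AddCommGroup M] [Module S M] [Module A M] [IsScalarTower A S M]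
    [Module.Flat A M] (hM : ∀ c ∉ q, Bijective fun x : M => c • x)
    (u : N →ₗ[S] M) (hu : ModInj (u.restrictScalars A)) :
    Injective u ∧ Module.Flat A (M ⧸ LinearMap.range u) := by
  have hN : ∀ c ∉ q, Bijective fun x : N => c • x := fun c hc =>
    (Module.End.isUnit_iff _).1 (IsLocalizedModule.map_units φ (⟨c, hc⟩ : q.primeCompl))
  by_cases hNq : Module.annihilator S N₀ ≤ q
  swap
  · obtain ⟨a, haN, haq⟩ := SetLike.not_le_iff_exists.1 hNq
    have : Subsingleton N := subsingleton_of_forall_eq 0 fun n => by
      obtain ⟨⟨n₀, t⟩, ht⟩ := IsLocalizedModule.surj q.primeCompl φ n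
      apply (hN _ t.2).1
      apply (hN a haq).1
      simp only [smul_zero]
      rw [show (t : S) • n = φ n₀ from ht, ← map_smul, Module.mem_annihilator.1 haN, map_zero]
    obtain ⟨h1, h2⟩ := (InjModProp.of_subsingleton (R := A) (N := N)) (u.restrictScalars A) hu
    exact ⟨h1, h2⟩
  obtain ⟨n, hd⟩ : ∃ n : ℕ, ∀ w : PrimeSpectrum S, EGA43.FibDepth.trd A w ≤ n := by
    obtain ⟨s, f, hf⟩ :=
      Algebra.FiniteType.iff_quotient_mvPolynomial''.1 ‹Algebra.FiniteType A S›
    refine ⟨s, fun w => ?_⟩
    rw [← EGA43.FibDepth.trd_comap_of_surjectiveOnStalks f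
      (RingHom.surjectiveOnStalks_of_surjective hf) w]
    exact EGA43.FibDepth.trd_mvPolynomial_le _
  obtain ⟨R', S', _, _, _, _, _, _, _, _, p', q', _, _, hR, hS, ho, hch⟩ :=
    exists_hasChainNhd n N₀ (maximalIdeal A) q (fun w _ _ _ => hd w) hNq
  obtain ⟨hRe, hRo, -⟩ := hR
  obtain ⟨hSe, hSo, -⟩ := hS
  let B := Localization.AtPrime p'
  let m := maximalIdeal B
  have hmp' : m.LiesOver p' := ⟨(IsLocalization.AtPrime.under_maximalIdeal B p').symm⟩
  obtain ⟨T, NT, _, _, _, _, _, _, _, _, _, _, _, _, _, μ, hμ⟩ :=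
    exists_model R' B S' (S' ⊗[S] N₀)
  have : Algebra.IsPushout R' B S' T := Algebra.IsPushout.symm ‹_›
  obtain ⟨q'', hq'', hq''q', hq''m⟩ := exists_prime_isPushout (S' := T) p' m
    ((RingHom.surjectiveOnStalks_of_isLocalization (M := p'.primeCompl)
      B).residueFieldMap_bijective p' m (m.over_def p')) q'
  have hchain : Chain B m T NT q'' :=
    (hch _ (TensorProduct.mk S S' N₀ 1) (TensorProduct.isBaseChange S N₀ S')).localize m T q'' NT μ hμ
  let _ : Algebra S T := ((algebraMap S' T).comp (algebraMap S S')).toAlgebra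
  have : IsScalarTower S S' T := .of_algebraMap_eq' rfl
  let _ : Algebra A T := ((algebraMap S T).comp (algebraMap A S)).toAlgebra
  have : IsScalarTower A S T := .of_algebraMap_eq' rfl
  have : IsScalarTower A B T := .of_algebraMap_eq fun a => by
    show algebraMap S' T (algebraMap S S' (algebraMap A S a)) = _
    rw [← IsScalarTower.algebraMap_apply A S S', IsScalarTower.algebraMap_apply A R' S',
      ← IsScalarTower.algebraMap_apply R' S' T, IsScalarTower.algebraMap_apply A R' B,
      ← IsScalarTower.algebraMap_apply R' B T]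
  let _ : Module S NT := Module.compHom NT (algebraMap S T)
  have : IsScalarTower S T NT := .of_algebraMap_smul fun _ _ => rfl
  have : IsScalarTower S S' NT := .of_algebraMap_smul fun c x => by
    rw [← algebraMap_smul T (algebraMap S S' c) x]
    rfl
  have : Module.Flat S' T :=
    Module.Flat.of_linearEquiv (R := S') (M := S' ⊗[R'] B)
      (Algebra.IsPushout.equiv R' S' B T).toLinearEquiv.symm
  have : Module.Flat R' B := IsLocalization.flat B p'.primeCompl
  have : Module.Flat S T := Module.Flat.trans S S' T
  have : Module.Flat A B := Module.Flat.trans A R' B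
  have : Algebra.FormallyUnramified A B := Algebra.FormallyUnramified.comp A R' B
  have : Algebra.EssFiniteType A B := Algebra.EssFiniteType.comp A R' B
  have hm : (maximalIdeal A).map (algebraMap A B) = maximalIdeal B := by
    have : IsLocalHom (algebraMap A B) :=
      ((local_hom_TFAE (algebraMap A B)).out 0 4).2 (by
        rw [IsScalarTower.algebraMap_eq A R' B, ← Ideal.comap_comap]
        exact (congrArg (Ideal.comap (algebraMap A R')) hmp'.over.symm).trans hRo.over.symm)
    exact Algebra.FormallyUnramified.map_maximalIdeal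
  have hqq : q = q''.comap (algebraMap S T) := by
    rw [IsScalarTower.algebraMap_eq S S' T, ← Ideal.comap_comap]
    exact hSo.over.trans (congrArg (Ideal.comap (algebraMap S S')) hq''q'.over)
  exact injMod_of_chain (A := A) (S := S) (B := B) (T := T) hm q q'' hqq φ hM u hu
    ((μ.restrictScalars S) ∘ₗ TensorProduct.mk S S' N₀ 1)
    ((TensorProduct.isBaseChange S N₀ S').comp hμ) hchain

end Groth.Agent.FlatMorDevissage
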