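import Groth.Prelude.Def_FlatCA
import Groth.Agent.FlatMorDevissage.FlatTransfer
import Groth.Agent.FlatMor12.FlatAtDescent
import Groth.Agent.FlatMorDevissage.FlatAssFibre
import Mathlib.RingTheory.TensorProduct.Finite

/-!
# Flatness above the closed points along local extensions
-/

set_option autoImplicit false
set_option backward.isDefEq.respectTransparency false

universe u

open TensorProduct IsLocalRing

namespace Groth.Agent.FlatMorDevissage.LocalExt

variable {A B C : Type u} [CommRing A] [CommRing B] [CommRing C] [Algebra A B] [Algebra B C]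
  [Algebra A C] [IsScalarTower A B C] {A' B' C' : Type u} [CommRing A'] [Algebra A A']
  [CommRing B'] [Algebra B B'] [Algebra A' B'] [Algebra A B'] [IsScalarTower A B B']
  [IsScalarTower A A' B'] [Algebra.IsPushout A B A' B']
  [CommRing C'] [Algebra C C'] [Algebra A' C'] [Algebra A C'] [IsScalarTower A C C']
  [IsScalarTower A A' C'] [Algebra.IsPushout A C A' C']

include A in
/-- The base changes of a tower form a pushout square. -/
theorem exists_algebra [Algebra B C'] [IsScalarTower B C C'] :
    ∃ (_ : Algebra B' C') (_ : IsScalarTower B B' C') (_ : IsScalarTower A' B' C'),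
      Algebra.IsPushout B C B' C' := by
  have : IsScalarTower A B C' := IsScalarTower.of_algebraMap_eq fun a => by
    rw [IsScalarTower.algebraMap_apply B C C', ← IsScalarTower.algebraMap_apply A B C,
      ← IsScalarTower.algebraMap_apply A C C']
  let φ : B' →ₐ[A] C' := Algebra.pushoutDesc B' (IsScalarTower.toAlgHom A B C')
    (IsScalarTower.toAlgHom A A' C') fun _ _ => mul_comm _ _
  let _ : Algebra B' C' := φ.toRingHom.toAlgebra
  have h1 : IsScalarTower B B' C' := IsScalarTower.of_algebraMap_eq fun b =>
    (Algebra.pushoutDesc_left B' (IsScalarTower.toAlgHom A B C') _ (fun _ _ => mul_comm _ _) b).symm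
  have h2 : IsScalarTower A' B' C' := IsScalarTower.of_algebraMap_eq fun a =>
    (Algebra.pushoutDesc_right B' _ (IsScalarTower.toAlgHom A A' C') (fun _ _ => mul_comm _ _) a).symm
  have : IsScalarTower A B' C' := IsScalarTower.of_algebraMap_eq fun a => (φ.commutes a).symm
  exact ⟨_, h1, h2, (Algebra.IsPushout.comp_iff A B A' B').1 ‹_›⟩

variable [IsLocalRing B] [IsLocalRing C] [IsLocalHom (algebraMap B C)] [Algebra B' C'] [Algebra B C']
  [IsScalarTower B C C'] [IsScalarTower B B' C'] [IsScalarTower A' B' C'] [IsLocalRing A']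

theorem le_comap (r : Ideal C') (hr : (maximalIdeal A').map (algebraMap A' C') ⊔
    (maximalIdeal C).map (algebraMap C C') ≤ r) :
    (maximalIdeal A').map (algebraMap A' B') ⊔ (maximalIdeal B).map (algebraMap B B') ≤
      r.comap (algebraMap B' C') := by
  refine sup_le (Ideal.map_le_iff_le_comap.2 fun a ha => ?_) (Ideal.map_le_iff_le_comap.2 fun b hb => ?_)
  · rw [Ideal.mem_comap, Ideal.mem_comap, ← IsScalarTower.algebraMap_apply]
    exact hr (Ideal.mem_sup_left (Ideal.mem_map_of_mem _ ha))
  · rw [Ideal.mem_comap, Ideal.mem_comap, ← IsScalarTower.algebraMap_apply,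
      IsScalarTower.algebraMap_apply B C C']
    refine hr (Ideal.mem_sup_right (Ideal.mem_map_of_mem _ ?_))
    rwa [← Ideal.mem_comap, IsLocalRing.maximalIdeal_comap]

theorem exists_over [Algebra.IsPushout B C B' C'] (q : Ideal B') [q.IsPrime]
    (hq : (maximalIdeal A').map (algebraMap A' B') ⊔ (maximalIdeal B).map (algebraMap B B') ≤ q) :
    ∃ r : Ideal C', r.IsPrime ∧ r.comap (algebraMap B' C') = q ∧
      (maximalIdeal A').map (algebraMap A' C') ⊔ (maximalIdeal C).map (algebraMap C C') ≤ r := by
  have hqB : q.comap (algebraMap B B') = maximalIdeal B :=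
    ((maximalIdeal.isMaximal B).eq_of_le (Ideal.IsPrime.ne_top inferInstance)
      (Ideal.map_le_iff_le_comap.1 (le_sup_right.trans hq))).symm
  obtain ⟨Q, hQ, hQl, hQr⟩ := FlatMor12.FlatAtDescent.exists_prime_over (maximalIdeal C) q
    ((IsLocalRing.maximalIdeal_comap (algebraMap B C)).trans hqB.symm)
  let e := Algebra.IsPushout.equiv B C B' C'
  let r := Q.comap e.symm.toRingEquiv.toRingHom
  have hr : r.IsPrime := inferInstance
  have hrq : r.comap (algebraMap B' C') = q := by
    ext x
    rw [← hQr]
    show e.symm (algebraMap B' C' x) ∈ Q ↔ (1 : C) ⊗ₜ[B] x ∈ Q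
    rw [Algebra.IsPushout.equiv_symm_algebraMap_right]
  refine ⟨r, hr, hrq, sup_le (Ideal.map_le_iff_le_comap.2 fun a ha => ?_)
    (Ideal.map_le_iff_le_comap.2 fun c hc => ?_)⟩
  · rw [Ideal.mem_comap, IsScalarTower.algebraMap_apply A' B' C', ← Ideal.mem_comap, hrq]
    exact hq (Ideal.mem_sup_left (Ideal.mem_map_of_mem _ ha))
  · show e.symm (algebraMap C C' c) ∈ Q
    rw [AlgEquiv.commutes]
    exact (Ideal.ext_iff.1 hQl c).2 hc

/-- Flat local extensions. -/
theorem flatAbove_iff_of_flat [Module.Flat B C] [Algebra.IsPushout B C B' C'] {M' N' : Type u}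
    [AddCommGroup M'] [Module B' M'] [Module A' M'] [IsScalarTower A' B' M']
    [AddCommGroup N'] [Module C' N'] [Module B' N'] [Module A' N'] [IsScalarTower A' B' N']
    [IsScalarTower B' C' N'] [IsScalarTower A' C' N'] {φ : M' →ₗ[B'] N'}
    (hφ : IsBaseChange C' φ) :
    FlatCA.FlatAboveClosedPoints B A' B' M' ↔ FlatCA.FlatAboveClosedPoints C A' C' N' := by
  have : Module.Flat B' C' :=
    Module.Flat.isBaseChange B B' C C' (Algebra.IsPushout.symm ‹Algebra.IsPushout B C B' C'›).out
  constructor
  · intro h r _ hr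
    exact (flatAt_baseChange_iff hφ r).2 (h _ (le_comap r hr))
  · intro h q _ hq
    obtain ⟨r, hr, hrq, hle⟩ := exists_over (C := C) (C' := C') q hq
    subst hrq
    exact (flatAt_baseChange_iff hφ r).1 (h r hle)

/-- Finite local extensions. -/
theorem flatAbove_iff_of_finite [Module.Finite B C] [Algebra.IsPushout B C B' C'] {N' : Type u}
    [AddCommGroup N'] [Module C' N'] [Module B' N'] [Module A' N'] [IsScalarTower A' B' N']
    [IsScalarTower B' C' N'] [IsScalarTower A' C' N'] :
    FlatCA.FlatAboveClosedPoints B A' B' N' ↔ FlatCA.FlatAboveClosedPoints C A' C' N' := by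
  have : Module.Finite B' C' :=
    Module.Finite.equiv (Algebra.IsPushout.symm ‹Algebra.IsPushout B C B' C'›).out.equiv
  have key (q : Ideal B') [q.IsPrime] : FlatCA.FlatAt A' q N' ↔ ∀ (P : Ideal C') [P.IsPrime],
      P.comap (algebraMap B' C') ≤ q → FlatCA.FlatAt A' P N' := by
    rw [FlatCA.FlatAt, flat_localized_algebraMap_iff (S := C'), flat_localized_iff]
    refine forall_congr' fun P => forall_congr' fun _ => imp_congr_left ?_
    refine ⟨fun hd x hx => Classical.not_not.1 fun hxq =>
      Set.disjoint_left.1 hd (Submonoid.mem_map_of_mem _ hxq) hx, fun hle => ?_⟩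
    refine Set.disjoint_left.2 ?_
    rintro _ ⟨t, ht, rfl⟩ htP
    exact ht (hle htP)
  constructor
  · intro h r _ hr
    exact (key _).1 (h _ (le_comap r hr)) r le_rfl
  · intro h q _ hq
    refine (key q).2 fun P _ hP => ?_
    obtain ⟨r, hPr, hr, hrq⟩ := Ideal.exists_ideal_over_prime_of_isIntegral q P hP
    refine flatAt_of_le hPr (h r ?_)
    refine sup_le (Ideal.map_le_iff_le_comap.2 fun a ha => ?_) (Ideal.map_le_iff_le_comap.2 fun c hc => ?_)
    · rw [Ideal.mem_comap, IsScalarTower.algebraMap_apply A' B' C', ← Ideal.mem_comap, hrq]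
      exact hq (Ideal.mem_sup_left (Ideal.mem_map_of_mem _ ha))
    · let rC := r.comap (algebraMap C C')
      have h1 : rC.comap (algebraMap B C) = maximalIdeal B := by
        rw [Ideal.comap_comap, ← IsScalarTower.algebraMap_eq, IsScalarTower.algebraMap_eq B B' C',
          ← Ideal.comap_comap, hrq]
        exact ((maximalIdeal.isMaximal B).eq_of_le (Ideal.IsPrime.ne_top inferInstance)
          (Ideal.map_le_iff_le_comap.1 (le_sup_right.trans hq))).symm
      have : (rC.comap (algebraMap B C)).IsMaximal := h1 ▸ maximalIdeal.isMaximal B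
      have := Ideal.isMaximal_of_isIntegral_of_isMaximal_comap rC this
      exact ((IsLocalRing.eq_maximalIdeal this).symm ▸ hc : c ∈ rC)

end Groth.Agent.FlatMorDevissage.LocalExt
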