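import Groth.Agent.FlatMorDevissage.OpenNhd
import Groth.Agent.FlatMorDevissage.Local

/-!
# Freeness on a basic open over the local ring of an etale neighbourhood
-/

set_option autoImplicit false
set_option backward.isDefEq.respectTransparency false

universe u

open TensorProduct Function IsLocalRing

namespace Groth.Agent.FlatMorDevissage

open Groth.Agent

set_option maxHeartbeats 1000000 in
/-- Flatness at `q` gives, over the local ring `A` of an etale neighbourhood of `p`, a basic open of
the base change through the point over which the module is free over `A`. -/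
theorem exists_free_open_local {R S : Type u} [CommRing R] [CommRing S] [Algebra R S]
    [Algebra.FiniteType R S] (N : Type u) [AddCommGroup N] [Module S N] [Module R N]
    [IsScalarTower R S N] [Module.Finite S N] (p : Ideal R) [p.IsPrime] (q : Ideal S) [q.IsPrime]
    [q.LiesOver p] (hflat : FlatCA.FlatAt R q N) :
    ∃ (R' : Type u) (_ : CommRing R') (_ : Algebra R R') (p' : Ideal R') (_ : p'.IsPrime),
      FlatCA.IsEtaleNhd R R' p p' ∧
      ∀ (SA NA : Type u) [CommRing SA] [Algebra R SA] [Algebra S SA]
        [Algebra (Localization.AtPrime p') SA]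
        [IsScalarTower R S SA] [IsScalarTower R (Localization.AtPrime p') SA]
        [Algebra.IsPushout R S (Localization.AtPrime p') SA]
        [AddCommGroup NA] [Module SA NA] [Module S NA] [IsScalarTower S SA NA]
        (f : N →ₗ[S] NA), IsBaseChange SA f →
        ∃ (g : SA) (Q : Ideal SA), Q.IsPrime ∧ g ∉ Q ∧ Q.LiesOver q ∧
          Q.LiesOver (maximalIdeal (Localization.AtPrime p')) ∧
          Module.Free (Localization.AtPrime p') (Localization.Away g ⊗[SA] NA) := by
  by_cases hNq : Module.annihilator S N ≤ q
  · obtain ⟨n, hd⟩ : ∃ n : ℕ, ∀ w : PrimeSpectrum S, EGA43.FibDepth.trd R w ≤ n := by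
      obtain ⟨s, f, hf⟩ :=
        Algebra.FiniteType.iff_quotient_mvPolynomial''.1 ‹Algebra.FiniteType R S›
      refine ⟨s, fun w => ?_⟩
      rw [← EGA43.FibDepth.trd_comap_of_surjectiveOnStalks f
        (RingHom.surjectiveOnStalks_of_surjective hf) w]
      exact EGA43.FibDepth.trd_mvPolynomial_le _
    obtain ⟨R', S', _, _, _, _, _, _, _, _, p', q', _, _, hR, hS, ho, hch⟩ :=
      exists_hasChainNhd n N p q (fun w _ _ _ => hd w) hNq
    refine ⟨R', inferInstance, inferInstance, p', inferInstance, hR, ?_⟩
    intro SA NA _ _ _ _ _ _ _ _ _ _ _ f hf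
    have := hS.1
    obtain ⟨C, _, _, _, _, hC, -, -, hfree⟩ := exists_piece_local (S' := S') N hR SA NA f hf
    have hq'q : q'.comap (algebraMap S S') = q := hS.2.1.over.symm
    obtain ⟨hfr, -, x, hx, hxq, hxm, hchain, hA⟩ := hfree q' ho
      (hch _ (TensorProduct.mk S S' N 1) (TensorProduct.isBaseChange S N S'))
      (by simp only [hq'q]; exact hflat)
    obtain ⟨D, ⟨hD⟩⟩ := hchain.hasCompleteDevissageAt
    let A := Localization.AtPrime p'
    have hα : ∀ i < D.n, ∀ (K : Type u) [Field K] [Algebra A K], IsUnit (algebraMap A K 1) →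
        Injective (((D.α i).restrictScalars A).lTensor K) := fun i hi K _ _ _ =>
      (step D hD hA i hi).2.1 K
    have hopen := PrimeSpectrum.isOpenMap_comap_of_hasGoingDown_of_finitePresentation
      (R := SA) (S := C) _ isOpen_univ
    obtain ⟨_, ⟨g, rfl⟩, hgx, hsub⟩ :=
      PrimeSpectrum.isTopologicalBasis_basic_opens.exists_subset_of_mem_open
        (show PrimeSpectrum.comap (algebraMap SA C) ⟨x, inferInstance⟩ ∈
          PrimeSpectrum.comap (algebraMap SA C) '' (Set.univ : Set (PrimeSpectrum C))
          from ⟨_, trivial, rfl⟩) hopen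
    refine ⟨g, x.comap (algebraMap SA C), inferInstance, hgx, ⟨?_⟩, hxm, ?_⟩
    · exact hq'q.symm.trans hxq.over
    obtain ⟨f', hf', hreg⟩ := exists_forall_regular_of_injective D hD
      (fun hm => (maximalIdeal.isMaximal A).ne_top ((Ideal.eq_top_iff_one _).2 hm)) hα
      (algebraMap SA C g) hgx
    have : Algebra.IsPushout R A S SA := Algebra.IsPushout.symm ‹_›
    have : Algebra.FiniteType A SA :=
      (inferInstance : Algebra.FiniteType A (A ⊗[R] S)).equiv (Algebra.IsPushout.equiv R A S SA)
    have : Module.Finite SA NA :=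
      Module.Finite.of_surjective hf.equiv.toLinearMap hf.equiv.surjective
    have : Module.Projective A (C ⊗[SA] NA) := Module.Projective.of_free
    have := projective_open_of_regular (R₁ := A) (S := SA) (T := SA) (S₁ := C) (N := NA) g
      (fun P hP hgP => by
        obtain ⟨Q, -, hQ⟩ :=
          hsub (show (⟨P, hP⟩ : PrimeSpectrum SA) ∈ PrimeSpectrum.basicOpen g from hgP)
        exact ⟨Q.asIdeal, Q.isPrime, congrArg PrimeSpectrum.asIdeal hQ⟩)
      (fun K _ _ => hreg K ((not_not.1 (fun hu => hf' ((mem_maximalIdeal _).2 hu))).map _))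
    exact CAlgML.free_of_projective
  · obtain ⟨a, haN, haq⟩ := SetLike.not_le_iff_exists.1 hNq
    obtain ⟨p', hp', hR⟩ := isEtaleNhd_away (L := Localization.Away (1 : R)) (1 : R) p
      (Ideal.one_notMem p)
    refine ⟨_, inferInstance, inferInstance, p', hp', hR, ?_⟩
    intro SA NA _ _ _ _ _ _ _ _ _ _ _ f hf
    obtain ⟨_, hpA⟩ := bijective_residueField_localRing hR
    let A := Localization.AtPrime p'
    have : Algebra.IsPushout R A S SA := Algebra.IsPushout.symm ‹_›
    obtain ⟨Q, hQ, hQq, hQm⟩ := exists_prime_isPushout (S' := SA) p (maximalIdeal A) hpA q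
    have haQ : algebraMap S SA a ∉ Q := fun h => haq (by rw [hQq.over]; exact h)
    let C := Localization.Away (algebraMap S SA a)
    have hann : algebraMap S SA a ∈ Module.annihilator SA NA := by
      rw [Module.mem_annihilator]
      intro y
      induction y using hf.inductionOn with
      | zero => rw [smul_zero]
      | tmul n => rw [algebraMap_smul, ← map_smul, Module.mem_annihilator.1 haN n, map_zero]
      | smul t y hy => rw [smul_comm, hy, smul_zero]
      | add y z hy hz => rw [smul_add, hy, hz, add_zero]
    have : Subsingleton (C ⊗[SA] NA) := subsingleton_tensor_of_isUnit hann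
      (IsLocalization.Away.algebraMap_isUnit (algebraMap S SA a))
    exact ⟨algebraMap S SA a, Q, hQ, haQ, hQq, hQm, inferInstance⟩

end Groth.Agent.FlatMorDevissage
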