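import Groth.Agent.FlatMorDevissage.LocalFP
import Groth.Agent.FlatMorDevissage.PureProjective
import Groth.Agent.FlatMorDevissage.FlatAssFibre
import Groth.Agent.FlatCx12.DevissageShrinkComplete

/-!
# Purity along a fibre gives projectivity over the local ring of an etale neighbourhood (finite type)
-/

set_option autoImplicit false
set_option backward.isDefEq.respectTransparency false

universe u

open TensorProduct Function IsLocalRing

namespace Groth.Agent.FlatMorDevissage

open Groth.Agent

attribute [local instance] Algebra.TensorProduct.rightAlgebra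

set_option maxHeartbeats 1600000 in
/-- A piece over the local ring of a larger etale neighbourhood. -/
theorem exists_piece_baseChange {R S A₁ A : Type u} [CommRing R] [CommRing S] [CommRing A₁] [CommRing A]
    [IsLocalRing A₁] [IsLocalRing A] [Algebra R S] [Algebra R A₁] [Algebra R A] [Algebra A₁ A]
    [IsScalarTower R A₁ A] [IsLocalHom (algebraMap A₁ A)] (p : Ideal R) [p.IsPrime]
    [(maximalIdeal A₁).LiesOver p]
    (hp : Bijective (Ideal.ResidueField.mapₐ p (maximalIdeal A₁) (Algebra.ofId R A₁)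
      ((maximalIdeal A₁).over_def p)))
    (q : Ideal S) [q.IsPrime] [q.LiesOver p] {N : Type u} [AddCommGroup N] [Module S N]
    {S₁ N₁ : Type u} [CommRing S₁] [Algebra R S₁] [Algebra S S₁] [Algebra A₁ S₁]
    [IsScalarTower R S S₁] [IsScalarTower R A₁ S₁] [Algebra.IsPushout R S A₁ S₁]
    [AddCommGroup N₁] [Module S₁ N₁] [Module S N₁] [IsScalarTower S S₁ N₁] (f₁ : N →ₗ[S] N₁)
    (hf₁ : IsBaseChange S₁ f₁)
    (SA NA : Type u) [CommRing SA] [Algebra R SA] [Algebra S SA] [Algebra A SA]
    [IsScalarTower R S SA] [IsScalarTower R A SA] [Algebra.IsPushout R S A SA]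
    [AddCommGroup NA] [Module SA NA] [Module S NA] [IsScalarTower S SA NA]
    (f : N →ₗ[S] NA) (hf : IsBaseChange SA f)
    {C₁ : Type u} [CommRing C₁] [Algebra S₁ C₁] [Algebra A₁ C₁] [IsScalarTower A₁ S₁ C₁]
    [Algebra.Etale S₁ C₁] [Module.Free A₁ (C₁ ⊗[S₁] N₁)] (x : Ideal C₁) [x.IsPrime]
    (hxq : (x.comap (algebraMap S₁ C₁)).LiesOver q)
    (hxm : (x.comap (algebraMap S₁ C₁)).LiesOver (maximalIdeal A₁)) :
    ∃ (C : Type u) (_ : CommRing C) (_ : Algebra SA C) (_ : Algebra A C) (_ : IsScalarTower A SA C),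
      Algebra.Etale SA C ∧ Module.Projective A (C ⊗[SA] NA) ∧
      ∀ (Q : Ideal SA) [Q.IsPrime], Q.LiesOver q → Q.LiesOver (maximalIdeal A) →
        ∃ y : Ideal C, y.IsPrime ∧ y.comap (algebraMap SA C) = Q := by
  let _ : Algebra A₁ SA := ((algebraMap A SA).comp (algebraMap A₁ A)).toAlgebra
  have : IsScalarTower A₁ A SA := .of_algebraMap_eq' rfl
  let θ : S₁ →ₐ[R] SA := Algebra.pushoutDesc S₁ (IsScalarTower.toAlgHom R S SA)
    ((IsScalarTower.toAlgHom R A SA).comp (IsScalarTower.toAlgHom R A₁ A)) fun _ _ => mul_comm _ _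
  let _ : Algebra S₁ SA := θ.toRingHom.toAlgebra
  have : IsScalarTower S S₁ SA := .of_algebraMap_eq fun b => by
    show _ = θ (algebraMap S S₁ b)
    simp only [θ, Algebra.pushoutDesc_left]
    rfl
  have : IsScalarTower A₁ S₁ SA := .of_algebraMap_eq fun a => by
    show _ = θ (algebraMap A₁ S₁ a)
    simp only [θ, Algebra.pushoutDesc_right]
    rfl
  have : IsScalarTower R A₁ SA := .of_algebraMap_eq fun r => by
    show _ = algebraMap A SA (algebraMap A₁ A (algebraMap R A₁ r))
    rw [← IsScalarTower.algebraMap_apply R A₁ A, ← IsScalarTower.algebraMap_apply R A SA]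
  have : Algebra.IsPushout R A₁ S S₁ := Algebra.IsPushout.symm ‹_›
  have : Algebra.IsPushout R A S SA := Algebra.IsPushout.symm ‹_›
  have hpo : Algebra.IsPushout A₁ A S₁ SA := (Algebra.IsPushout.comp_iff R A₁ S S₁).1 ‹_›
  let _ : Module S₁ NA := Module.compHom NA (algebraMap S₁ SA)
  have : IsScalarTower S₁ SA NA := .of_algebraMap_smul fun _ _ => rfl
  have : IsScalarTower S S₁ NA := .of_algebraMap_smul fun a y => by
    show algebraMap S₁ SA (algebraMap S S₁ a) • y = a • y
    rw [← IsScalarTower.algebraMap_apply S S₁ SA, algebraMap_smul]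
  have hg : IsBaseChange SA (hf₁.lift f) := hf₁.of_comp (by rw [hf₁.lift_comp]; exact hf)
  let C := SA ⊗[S₁] C₁
  let e : C ⊗[SA] NA ≃ₗ[A] A ⊗[A₁] (C₁ ⊗[S₁] N₁) :=
    ((((AlgebraTensorModule.congr (LinearEquiv.refl C C) hg.equiv.symm).trans
        (AlgebraTensorModule.cancelBaseChange S₁ SA C C N₁)).restrictScalars SA).trans
      (AlgebraTensorModule.assoc S₁ S₁ SA SA C₁ N₁)).restrictScalars A |>.trans
      (Algebra.IsPushout.cancelBaseChange A₁ A S₁ SA (C₁ ⊗[S₁] N₁))
  refine ⟨C, inferInstance, inferInstance, inferInstance, inferInstance, inferInstance,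
    Module.Projective.of_equiv e.symm, fun Q _ hQq hQm => ?_⟩
  have hQ1q : (Q.comap (algebraMap S₁ SA)).LiesOver q := ⟨by
    rw [Ideal.under_def, Ideal.comap_comap, ← IsScalarTower.algebraMap_eq]
    exact hQq.over⟩
  have : (Q.comap (algebraMap S₁ SA)).LiesOver (maximalIdeal A₁) := ⟨by
    rw [Ideal.under_def, Ideal.comap_comap, ← IsScalarTower.algebraMap_eq,
      IsScalarTower.algebraMap_eq A₁ A SA, ← Ideal.comap_comap]
    refine Eq.trans ?_ (congrArg (Ideal.comap (algebraMap A₁ A)) hQm.over)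
    exact Eq.symm (((local_hom_TFAE (algebraMap A₁ A)).out 0 4).1 ‹IsLocalHom (algebraMap A₁ A)›)⟩
  have := hxm
  have heq : x.comap (algebraMap S₁ C₁) = Q.comap (algebraMap S₁ SA) :=
    eq_of_isPushout p (maximalIdeal A₁) hp _ _ (hxq.over.symm.trans hQ1q.over)
  have : Q.LiesOver (Q.comap (algebraMap S₁ SA)) := ⟨rfl⟩
  have : x.LiesOver (Q.comap (algebraMap S₁ SA)) := ⟨heq.symm⟩
  obtain ⟨W, hW, hWQ⟩ := FlatCx12.DevissageShrink.exists_prime_tensor (Q.comap (algebraMap S₁ SA)) Q x
  exact ⟨W, hW, hWQ⟩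

set_option maxHeartbeats 1600000 in
/-- Over the local ring of an etale neighbourhood, an etale algebra over which the module is
projective and which covers finitely many given flat points of the fibre. -/
theorem exists_local_cover {R S : Type u} [CommRing R] [CommRing S] [Algebra R S]
    [Algebra.FiniteType R S] (N : Type u) [AddCommGroup N] [Module S N] [Module R N]
    [IsScalarTower R S N] [Module.Finite S N] (p : Ideal R) [p.IsPrime] (k : ℕ)
    (q : Fin k → Ideal S) [∀ i, (q i).IsPrime] [∀ i, (q i).LiesOver p]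
    (hflat : ∀ i, FlatCA.FlatAt R (q i) N) :
    ∃ (R' : Type u) (_ : CommRing R') (_ : Algebra R R') (p' : Ideal R') (_ : p'.IsPrime),
      FlatCA.IsEtaleNhd R R' p p' ∧
      ∀ (SA NA : Type u) [CommRing SA] [Algebra R SA] [Algebra S SA]
        [Algebra (Localization.AtPrime p') SA]
        [IsScalarTower R S SA] [IsScalarTower R (Localization.AtPrime p') SA]
        [Algebra.IsPushout R S (Localization.AtPrime p') SA]
        [AddCommGroup NA] [Module SA NA] [Module S NA] [IsScalarTower S SA NA]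
        (f : N →ₗ[S] NA), IsBaseChange SA f →
        ∃ (C : Type u) (_ : CommRing C) (_ : Algebra SA C) (_ : Algebra (Localization.AtPrime p') C)
          (_ : IsScalarTower (Localization.AtPrime p') SA C),
          Algebra.Etale SA C ∧ Module.Projective (Localization.AtPrime p') (C ⊗[SA] NA) ∧
          ∀ i, ∀ (Q : Ideal SA) [Q.IsPrime], Q.LiesOver (q i) →
            Q.LiesOver (maximalIdeal (Localization.AtPrime p')) →
            ∃ y : Ideal C, y.IsPrime ∧ y.comap (algebraMap SA C) = Q := by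
  classical
  have hpiece : ∀ i, _ := fun i => exists_free_etale_local N p (q i) (hflat i)
  choose R₀ iR₀ iRR₀ p₀ hp₀ hnhd hmain using hpiece
  obtain ⟨R', _, _, p', _, hR', hmaps⟩ := exists_common_nhd p k R₀ p₀ hnhd
  choose φ hφ using hmaps
  refine ⟨R', inferInstance, inferInstance, p', inferInstance, hR', ?_⟩
  intro SA NA _ _ _ _ _ _ _ _ _ _ _ f hf
  let A := Localization.AtPrime p'
  have hC : ∀ i, ∃ (C : Type u) (_ : CommRing C) (_ : Algebra SA C) (_ : Algebra A C)
      (_ : IsScalarTower A SA C), Algebra.Etale SA C ∧ Module.Projective A (C ⊗[SA] NA) ∧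
      ∀ (Q : Ideal SA) [Q.IsPrime], Q.LiesOver (q i) → Q.LiesOver (maximalIdeal A) →
        ∃ y : Ideal C, y.IsPrime ∧ y.comap (algebraMap SA C) = Q := by
    intro i
    let A₁ := Localization.AtPrime (p₀ i)
    obtain ⟨hm₁, hp₁⟩ := bijective_residueField_localRing (hnhd i)
    let ψ : A₁ →+* A := Localization.localRingHom (p₀ i) p' (φ i).toRingHom (hφ i).symm
    let _ : Algebra A₁ A := ψ.toAlgebra
    have : IsLocalHom (algebraMap A₁ A) :=
      Localization.isLocalHom_localRingHom (p₀ i) p' (φ i).toRingHom (hφ i).symm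
    have : IsScalarTower R A₁ A := .of_algebraMap_eq fun r => by
      show _ = ψ (algebraMap R A₁ r)
      rw [IsScalarTower.algebraMap_apply R (R₀ i) A₁, Localization.localRingHom_to_map,
        AlgHom.toRingHom_eq_coe, RingHom.coe_coe, AlgHom.commutes, ← IsScalarTower.algebraMap_apply]
    obtain ⟨S₁, N₁, _, _, _, _, _, _, _, _, _, _, _, _, _, f₁, hf₁⟩ := exists_model R A₁ S N
    obtain ⟨C₁, _, _, _, _, x, _, _, hxq, hxm, hfree, -, -⟩ := hmain i S₁ N₁ f₁ hf₁
    exact exists_piece_baseChange p hp₁ (q i) f₁ hf₁ SA NA f hf x hxq hxm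
  choose C iC iSC iAC tC hCe hCp hCy using hC
  have : IsScalarTower A SA (Π i, C i) := IsScalarTower.of_algebraMap_eq
    (R := A) (S := SA) (A := Π i, C i) fun r => funext fun i => IsScalarTower.algebraMap_apply A SA (C i) r
  refine ⟨Π i, C i, inferInstance, inferInstance, inferInstance, inferInstance, inferInstance,
    projective_pi_tensor C hCp, fun i Q _ hQq hQm => ?_⟩
  obtain ⟨y, hy, hyQ⟩ := hCy i Q hQq hQm
  exact ⟨y.comap (Pi.evalRingHom C i), Ideal.comap_isPrime _ _, by rw [Ideal.comap_comap]; exact hyQ⟩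

set_option maxHeartbeats 1600000 in
/-- Over a local base: flat along the closed fibre and no associated point of a fibre missing it gives
flatness; with a cover of the closed fibre's associated points, projectivity. -/
theorem projective_of_cover_local {A S : Type u} [CommRing A] [IsLocalRing A] [CommRing S]
    [Algebra A S] [Algebra.FiniteType A S] {N : Type u} [AddCommGroup N] [Module S N] [Module A N]
    [IsScalarTower A S N] [Module.Finite S N]
    (hflat : ∀ (Q : Ideal S) [Q.IsPrime], Q.LiesOver (maximalIdeal A) → FlatCA.FlatAt A Q N)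
    (hspec : ∀ (t : Ideal A) [t.IsPrime] (P : Ideal S) [P.IsPrime], P.LiesOver t →
      FlatCA.fiberIdeal t P ∈ associatedPrimes (t.Fiber S) (FlatCA.fiberMod t S N) →
      ∃ W : Ideal S, W.IsPrime ∧ P ≤ W ∧ W.LiesOver (maximalIdeal A))
    {C : Type u} [CommRing C] [Algebra S C] [Algebra A C] [IsScalarTower A S C] [Module.Flat S C]
    [Module.Projective A (C ⊗[S] N)]
    (hcov : ∀ (Q : Ideal S) [Q.IsPrime], Q.LiesOver (maximalIdeal A) →
      FlatCA.fiberIdeal (maximalIdeal A) Q ∈
        associatedPrimes ((maximalIdeal A).Fiber S) (FlatCA.fiberMod (maximalIdeal A) S N) →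
      ∃ y : Ideal C, y.IsPrime ∧ y.comap (algebraMap S C) = Q) :
    Module.Projective A N := by
  have hfl : ∀ (t : Ideal A) [t.IsPrime] (P : Ideal S) [P.IsPrime], P.LiesOver t →
      FlatCA.fiberIdeal t P ∈ associatedPrimes (t.Fiber S) (FlatCA.fiberMod t S N) →
      FlatCA.FlatAt A P N := fun t _ P _ hPt hass => by
    obtain ⟨W, hW, hPW, hWm⟩ := hspec t P hPt hass
    exact flatAt_of_le hPW (hflat W hWm)
  have hall : ∀ (Q : Ideal S) [Q.IsPrime], FlatCA.FlatAt A Q N := fun Q _ => by
    have : Q.LiesOver (Q.comap (algebraMap A S)) := ⟨rfl⟩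
    exact flatAt_of_assFibre (Q.comap (algebraMap A S)) Q fun P _ _ hPt hass => hfl _ P hPt hass
  have : Module.Flat A N := by
    have h1 : Module.Flat A (LocalizedModule (Submonoid.powers (1 : S)) N) :=
      (flat_away_iff (1 : S)).2 fun P _ _ => hall P
    have : IsLocalizedModule (Submonoid.powers (1 : S)) (LinearMap.id : N →ₗ[S] N) :=
      { map_units := fun ⟨c, k, hk⟩ => by
          simp only [one_pow] at hk
          subst hk
          simp
        surj := fun z => ⟨(z, 1), one_smul _ z⟩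
        exists_of_eq := fun {a b} hab => ⟨1, congrArg ((1 : Submonoid.powers (1 : S)) • ·) hab⟩ }
    exact Module.Flat.of_linearEquiv ((IsLocalizedModule.iso (Submonoid.powers (1 : S))
      (LinearMap.id : N →ₗ[S] N)).restrictScalars A).symm
  have hcover : ∀ (t : Ideal A) [t.IsPrime] (P : Ideal S) [P.IsPrime], (1 : A) ∉ t → P.LiesOver t →
      FlatCA.fiberIdeal t P ∈ associatedPrimes (t.Fiber S) (FlatCA.fiberMod t S N) →
      ∃ y : Ideal C, y.IsPrime ∧ y.comap (algebraMap S C) = P := by
    intro t _ P _ _ hPt hass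
    obtain ⟨W, hW, hPW, hWm⟩ := hspec t P hPt hass
    obtain ⟨Q, hQ, hPQ, -, hQm, hQass⟩ := exists_assFibre_specialization (maximalIdeal A) t P hass
      ⟨W, hW⟩ hWm.over.symm hPW (hall W)
    obtain ⟨y, hy, hyQ⟩ := hcov Q hQm hQass
    have : y.LiesOver Q := ⟨hyQ.symm⟩
    obtain ⟨P', -, hP', hP'over⟩ := Ideal.exists_ideal_le_liesOver_of_le y hPQ
    exact ⟨P', hP', hP'over.over.symm⟩
  have : IsLocalization.Away (1 : A) A :=
    IsLocalization.away_of_isUnit_of_bijective _ isUnit_one bijective_id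
  have : Module.Projective A (A ⊗[A] N) := projective_away_of_cover (S' := C) (1 : A) hcover A
  exact Module.Projective.of_equiv (TensorProduct.lid A N)

end Groth.Agent.FlatMorDevissage
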