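import Groth.Agent.FlatMorDevissage.ProjectiveNhd
import Groth.Agent.CommAlg4.UnivInjCompl

/-!
# Projectivity survives localisation at elements regular on all fibres
-/

set_option autoImplicit false
set_option backward.isDefEq.respectTransparency false

universe u

open TensorProduct Function

namespace Groth.Agent.FlatMorDevissage

open Groth.Agent

set_option maxHeartbeats 1000000 in
/-- A projective module stays projective after inverting an element regular on all fibres. -/
theorem projective_localized_of_regular {R S P : Type u} [CommRing R] [CommRing S] [Algebra R S]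
    [Algebra.FiniteType R S] [AddCommGroup P] [Module S P] [Module R P] [IsScalarTower R S P]
    [Module.Finite S P] [Module.Projective R P] (g : S)
    (hreg : ∀ (K : Type u) [Field K] [Algebra R K],
      Injective (((LinearMap.lsmul S P g).restrictScalars R).lTensor K)) :
    Module.Projective R (LocalizedModule (Submonoid.powers g) P) := by
  obtain ⟨hinj, hflat⟩ := injective_flat_coker_of_fibres ((LinearMap.lsmul S P g).restrictScalars R)
    fun m _ => hreg m.ResidueField
  have hg : ∀ (Q : Type u) [AddCommGroup Q] [Module R Q] (z : P ⊗[R] Q), g • z = 0 → z = 0 := by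
    intro Q _ _ z hz
    let u := (LinearMap.lsmul S P g).restrictScalars R
    have : Injective (u.rTensor Q) := (LinearMap.lTensor_inj_iff_rTensor_inj _ _).1
      (LinearMap.lTensor_injective_of_exact_of_flat (LinearMap.range u).mkQ
        (Submodule.mkQ_surjective _) u hinj (LinearMap.exact_map_mkQ_range u) Q)
    refine (injective_iff_map_eq_zero _).1 this z ?_
    rw [← hz]
    clear hz
    induction z with
    | zero => simp
    | tmul a b => simp [u, TensorProduct.smul_tmul']
    | add x y hx hy => simp only [map_add, smul_add, hx, hy]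
  have hpow : ∀ (Q : Type u) [AddCommGroup Q] [Module R Q] (k : ℕ) (z : P ⊗[R] Q),
      g ^ k • z = 0 → z = 0 := by
    intro Q _ _ k
    induction k with
    | zero => intro z hz; rwa [pow_zero, one_smul] at hz
    | succ k ih =>
      intro z hz
      exact ih z (hg Q _ (by rwa [← mul_smul, ← pow_succ']))
  let P' := LocalizedModule (Submonoid.powers g) P
  let ι := LocalizedModule.mkLinearMap (Submonoid.powers g) P
  have hml : CAlg.IsMittagLeffler R P' := by
    refine CAlgML.ml_iff_zero.2 fun κ Q _ _ x hx => ?_
    let jQ : P ⊗[R] (∀ i, Q i) →ₗ[S] P' ⊗[R] (∀ i, Q i) :=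
      AlgebraTensorModule.rTensor R (∀ i, Q i) ι
    have : IsLocalizedModule (Submonoid.powers g) jQ :=
      inferInstanceAs (IsLocalizedModule _ (AlgebraTensorModule.rTensor R (∀ i, Q i) ι))
    obtain ⟨⟨y, t⟩, hy⟩ := IsLocalizedModule.surj (Submonoid.powers g) jQ x
    have hnat : ∀ (i : κ) (z : P ⊗[R] (∀ i, Q i)), piRightHom R R P' Q (jQ z) i =
        AlgebraTensorModule.rTensor R (Q i) ι (piRightHom R R P Q z i) := by
      intro i z
      induction z with
      | zero => simp
      | tmul a b => simp [jQ]; rfl
      | add u v hu hv => simp only [map_add, Pi.add_apply, hu, hv]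
    have hsm : ∀ (i : κ) (w : P' ⊗[R] (∀ i, Q i)),
        piRightHom R R P' Q ((t : S) • w) i = (t : S) • piRightHom R R P' Q w i := by
      intro i w
      induction w with
      | zero => simp
      | tmul a b => simp [TensorProduct.smul_tmul']
      | add u v hu hv => simp only [smul_add, map_add, Pi.add_apply, hu, hv]
    have hy0 : y = 0 := by
      refine CAlgML.ml_iff_zero.1 (CAlgML.ml_of_projective (R := R) (M := P)) κ Q y fun i => ?_
      have h0 : AlgebraTensorModule.rTensor R (Q i) ι (piRightHom R R P Q y i) = 0 := by
        rw [← hnat, ← hy, Submonoid.smul_def, hsm, hx i, smul_zero]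
      have hloc : IsLocalizedModule (Submonoid.powers g) (AlgebraTensorModule.rTensor R (Q i) ι) :=
        inferInstance
      obtain ⟨⟨_, k, rfl⟩, hk⟩ := (IsLocalizedModule.eq_zero_iff (Submonoid.powers g)
        (AlgebraTensorModule.rTensor R (Q i) ι)).1 h0
      exact hpow (Q i) k _ hk
    rw [hy0, map_zero] at hy
    exact IsLocalizedModule.smul_injective jQ t (hy.trans (smul_zero _).symm)
  have : Module.Flat R P' := flat_localized_iff_kerKilled _ |>.2 fun A B _ _ _ _ i hi z hz =>
    ⟨1, Submonoid.one_mem _, by
      rw [one_smul]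
      exact (injective_iff_map_eq_zero _).1
        (Module.Flat.lTensor_preserves_injective_linearMap (M := P) i hi) z hz⟩
  have : Algebra.FinitePresentation S (Localization.Away g) :=
    IsLocalization.Away.finitePresentation g
  have : Algebra.FiniteType R (Localization.Away g) :=
    Algebra.FiniteType.trans (S := S) inferInstance inferInstance
  exact CAlgML.projective_of_flat_ml hml
    (CommAlg4.isCountablyGenerated_of_finiteType (R := R) (S := Localization.Away g) (N := P'))

section Regular

variable {R S N : Type u} [CommRing R] [CommRing S] [Algebra R S]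
  [AddCommGroup N] [Module S N] [Module R N] [IsScalarTower R S N]
  {p : Ideal R} [p.IsPrime] (D : FlatCA.CompleteDevissage R S N p) {q : Ideal S} [q.IsPrime]
  (hD : FlatCA.CompleteDevissageAt R S N p q D)

include hD in
/-- An element outside the point of a dévissage is regular on the nearby fibres where the maps of the
dévissage are injective. -/
theorem exists_forall_regular_of_injective {f : R} (hf : f ∉ p)
    (hα : ∀ i < D.n, ∀ (K : Type u) [Field K] [Algebra R K], IsUnit (algebraMap R K f) →
      Injective (((D.α i).restrictScalars R).lTensor K)) (g : S) (hg : g ∉ q) :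
    ∃ f ∉ p, ∀ (K : Type u) [Field K] [Algebra R K], IsUnit (algebraMap R K f) →
      Injective (((LinearMap.lsmul S N g).restrictScalars R).lTensor K) := by
  classical
  have := hD.hqA
  have := hD.hqB
  have := hD.overA
  have := hD.overB
  have : IsScalarTower R S (D.M 0) := isScalarTower_of_top R S (D.A 0) (D.M 0)
  suffices key : ∀ j i, i + j + 1 = D.n → ∀ c : D.A i, c ∉ hD.qA i → ∃ f' ∉ p,
      ∀ (K : Type u) [Field K] [Algebra R K], IsUnit (algebraMap R K (f * f')) →
        Injective (((LinearMap.lsmul (D.A i) (D.M i) c).restrictScalars R).lTensor K) by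
    obtain ⟨f', hf', h⟩ := key (D.n - 1) 0 (by have := D.pos; omega) (algebraMap S (D.A 0) g)
      (fun hm => hg (by rw [← hD.q0]; exact hm))
    refine ⟨f * f', p.primeCompl.mul_mem hf hf', fun K _ _ hu => ?_⟩
    let ε := (D.isoN.restrictScalars R).lTensor K
    have hcomm : ∀ z, ε (((LinearMap.lsmul S N g).restrictScalars R).lTensor K z) =
        ((LinearMap.lsmul (D.A 0) (D.M 0) (algebraMap S (D.A 0) g)).restrictScalars R).lTensor K
          (ε z) := by
      intro z
      induction z with
      | zero => simp
      | tmul a b => simp [ε]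
      | add x y hx hy => simp only [map_add, hx, hy]
    intro a b hab
    exact ε.injective (h K hu (by rw [← hcomm, ← hcomm, hab]))
  intro j
  induction j with
  | zero =>
    intro i hi c hc
    have := D.finiteBA i (by omega)
    have : Algebra.IsIntegral (D.B i) (D.A i) := Algebra.IsIntegral.of_finite _ _
    obtain ⟨c', d, hd, hcd⟩ := dividesBase_of_finite (hD.qB i) (hD.qA i)
      (fun Q _ h => hD.uniq i (by omega) Q h) c hc
    have := D.smooth i (by omega)
    obtain ⟨f₂, hf₂, hlift⟩ := exists_notMem_forall_lift p (hD.qB i) d hd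
    refine ⟨f₂, hf₂, fun K _ _ hu => (injective_iff_map_eq_zero _).2 fun z hz => ?_⟩
    rw [map_mul, IsUnit.mul_iff] at hu
    have hs := D.cokerLast
    rw [show D.n - 1 = i by omega] at hs
    obtain ⟨x, rfl⟩ :=
      LinearMap.lTensor_surjective K (g := (D.α i).restrictScalars R) hs z
    have hdx : (((d • LinearMap.id : (Fin (D.r i) → D.B i) →ₗ[D.B i] Fin (D.r i) → D.B i)).restrictScalars
        R).lTensor K x = 0 := by
      refine (injective_iff_map_eq_zero _).1 (hα i (by omega) K hu.1) _ ?_
      have e : (D.α i).restrictScalars R ∘ₗ (d • LinearMap.id :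
          (Fin (D.r i) → D.B i) →ₗ[D.B i] Fin (D.r i) → D.B i).restrictScalars R =
          (LinearMap.lsmul (D.A i) (D.M i) c').restrictScalars R ∘ₗ
            (LinearMap.lsmul (D.A i) (D.M i) c).restrictScalars R ∘ₗ (D.α i).restrictScalars R := by
        refine LinearMap.ext fun v => ?_
        show D.α i (d • v) = c' • c • D.α i v
        rw [map_smul, smul_smul, mul_comm, hcd, algebraMap_smul]
      rw [← LinearMap.comp_apply, ← LinearMap.lTensor_comp, e, LinearMap.lTensor_comp,
        LinearMap.lTensor_comp, LinearMap.comp_apply, LinearMap.comp_apply, hz, map_zero]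
    have hx := (injective_iff_map_eq_zero _).1
      (injective_lTensor_field (fibresDomain_of_smooth_geomIrred (D.geomIrred i (by omega)))
        (d • LinearMap.id) d LinearMap.id (LinearMap.id_comp _) f₂ hlift K hu.2) x hdx
    rw [hx, map_zero]
  | succ j ih =>
    intro i hi c hc
    have := D.finiteBA i (by omega)
    have : Algebra.IsIntegral (D.B i) (D.A i) := Algebra.IsIntegral.of_finite _ _
    obtain ⟨c', d, hd, hcd⟩ := dividesBase_of_finite (hD.qB i) (hD.qA i)
      (fun Q _ h => hD.uniq i (by omega) Q h) c hc
    have := D.smooth i (by omega)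
    obtain ⟨f₂, hf₂, hlift⟩ := exists_notMem_forall_lift p (hD.qB i) d hd
    obtain ⟨f₃, hf₃, hnext⟩ := ih (i + 1) (by omega) (algebraMap (D.B i) (D.A (i + 1)) d)
      (fun hm => hd (by rw [← hD.qStep i (by omega)]; exact hm))
    refine ⟨f₂ * f₃, p.primeCompl.mul_mem hf₂ hf₃, fun K _ _ hu =>
      (injective_iff_map_eq_zero _).2 fun z hz => ?_⟩
    rw [map_mul, map_mul, IsUnit.mul_iff, IsUnit.mul_iff] at hu
    let δ := ((LinearMap.lsmul (D.B i) (D.M i) d).restrictScalars R).lTensor K
    have hδ : δ z = 0 := by
      have e : (LinearMap.lsmul (D.B i) (D.M i) d).restrictScalars R =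
          (LinearMap.lsmul (D.A i) (D.M i) c').restrictScalars R ∘ₗ
            (LinearMap.lsmul (D.A i) (D.M i) c).restrictScalars R := by
        refine LinearMap.ext fun v => ?_
        show d • v = c' • c • v
        rw [smul_smul, mul_comm, hcd, algebraMap_smul]
      simp only [δ]
      rw [e, LinearMap.lTensor_comp, LinearMap.comp_apply, hz, map_zero]
    have : IsScalarTower R (D.B i) (D.M (i + 1)) :=
      isScalarTower_of_top R (D.B i) (D.A (i + 1)) (D.M (i + 1))
    let γ : D.M i →ₗ[R] D.M (i + 1) :=
      ((D.isoCoker i (by omega)).toLinearMap ∘ₗ (LinearMap.range (D.α i)).mkQ).restrictScalars R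
    have hexγ : Exact ((D.α i).restrictScalars R) γ := fun v => by
      show D.isoCoker i (by omega) (Submodule.Quotient.mk v) = 0 ↔ v ∈ Set.range (D.α i)
      rw [LinearEquiv.map_eq_zero_iff, Submodule.Quotient.mk_eq_zero]
      rfl
    have hsγ : Surjective γ :=
      (D.isoCoker i (by omega)).surjective.comp (Submodule.mkQ_surjective _)
    have hγz : γ.lTensor K z = 0 := by
      refine (injective_iff_map_eq_zero _).1
        (hnext K (by rw [map_mul, IsUnit.mul_iff]; exact ⟨hu.1, hu.2.2⟩)) _ ?_
      have e : (LinearMap.lsmul (D.A (i + 1)) (D.M (i + 1))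
          (algebraMap (D.B i) (D.A (i + 1)) d)).restrictScalars R ∘ₗ γ =
          γ ∘ₗ (LinearMap.lsmul (D.B i) (D.M i) d).restrictScalars R := by
        refine LinearMap.ext fun v => ?_
        show algebraMap (D.B i) (D.A (i + 1)) d • D.isoCoker i (by omega) (Submodule.Quotient.mk v) =
          D.isoCoker i (by omega) (Submodule.Quotient.mk (d • v))
        rw [algebraMap_smul, ← map_smul, Submodule.Quotient.mk_smul]
      rw [← LinearMap.comp_apply, ← LinearMap.lTensor_comp, e, LinearMap.lTensor_comp,
        LinearMap.comp_apply]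
      show γ.lTensor K (δ z) = 0
      rw [hδ, map_zero]
    obtain ⟨x, rfl⟩ := ((lTensor_exact K hexγ hsγ) z).1 hγz
    have hdx : (((d • LinearMap.id : (Fin (D.r i) → D.B i) →ₗ[D.B i] Fin (D.r i) → D.B i)).restrictScalars
        R).lTensor K x = 0 := by
      refine (injective_iff_map_eq_zero _).1 (hα i (by omega) K hu.1) _ ?_
      have e : (D.α i).restrictScalars R ∘ₗ (d • LinearMap.id :
          (Fin (D.r i) → D.B i) →ₗ[D.B i] Fin (D.r i) → D.B i).restrictScalars R =
          (LinearMap.lsmul (D.B i) (D.M i) d).restrictScalars R ∘ₗ (D.α i).restrictScalars R := by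
        refine LinearMap.ext fun v => ?_
        show D.α i (d • v) = d • D.α i v
        rw [map_smul]
      rw [← LinearMap.comp_apply, ← LinearMap.lTensor_comp, e, LinearMap.lTensor_comp,
        LinearMap.comp_apply]
      exact hδ
    have hx := (injective_iff_map_eq_zero _).1
      (injective_lTensor_field (fibresDomain_of_smooth_geomIrred (D.geomIrred i (by omega)))
        (d • LinearMap.id) d LinearMap.id (LinearMap.id_comp _) f₂ hlift K hu.2.1) x hdx
    rw [hx, map_zero]

include hD in
/-- An element outside the point of a dévissage of a flat module is regular on the nearby fibres. -/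
theorem exists_forall_regular [Algebra.FinitePresentation R S] [Module.FinitePresentation S N]
    {f₀ : R} (hf₀ : f₀ ∉ p)
    (hflat : ∀ (L : Type u) [CommRing L] [Algebra R L], IsUnit (algebraMap R L f₀) →
      Module.Flat L (L ⊗[R] N)) (g : S) (hg : g ∉ q) :
    ∃ f ∉ p, ∀ (K : Type u) [Field K] [Algebra R K], IsUnit (algebraMap R K f) →
      Injective (((LinearMap.lsmul S N g).restrictScalars R).lTensor K) := by
  obtain ⟨f, hf, -, hinj⟩ := exists_forall_injective D hf₀ hflat
  refine exists_forall_regular_of_injective D hD hf (fun i hi K _ _ hu => ?_) g hg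
  rw [← LinearMap.baseChange_eq_ltensor]
  exact hinj i hi K hu

end Regular

end Groth.Agent.FlatMorDevissage
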