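import Groth.Agent.FlatMorDevissage.ProjectiveNhd
import Groth.Agent.FlatMorDevissage.RegularShrink
import Groth.Agent.FlatMorDevissage.CoverDescent

/-!
# Projectivity on an open of the base change to an etale neighbourhood
-/

set_option autoImplicit false
set_option backward.isDefEq.respectTransparency false

universe u

open TensorProduct Function

namespace Groth.Agent.FlatMorDevissage

open Groth.Agent

attribute [local instance] Algebra.TensorProduct.rightAlgebra

set_option maxHeartbeats 2000000 in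
/-- Flatness at a point gives etale neighbourhoods on which the module is flat and has a complete
dévissage at the point. -/
theorem exists_flat_devissage_nhd {R S : Type u} [CommRing R] [CommRing S] [Algebra R S]
    [Algebra.FinitePresentation R S] (N : Type u) [AddCommGroup N] [Module S N] [Module R N]
    [IsScalarTower R S N] [Module.FinitePresentation S N] (p : Ideal R) [p.IsPrime] (q : Ideal S)
    [q.IsPrime] [q.LiesOver p] (hflat : FlatCA.FlatAt R q N) (hNq : Module.annihilator S N ≤ q) :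
    ∃ (R₀ S₀ : Type u) (_ : CommRing R₀) (_ : CommRing S₀) (_ : Algebra R R₀) (_ : Algebra S S₀)
      (_ : Algebra R₀ S₀) (_ : Algebra R S₀) (_ : IsScalarTower R R₀ S₀) (_ : IsScalarTower R S S₀)
      (p₀ : Ideal R₀) (q₀ : Ideal S₀) (_ : p₀.IsPrime) (_ : q₀.IsPrime),
      FlatCA.IsEtaleNhd R R₀ p p₀ ∧ FlatCA.IsEtaleNhd S S₀ q q₀ ∧ q₀.LiesOver p₀ ∧
      Algebra.FinitePresentation R₀ S₀ ∧ Module.Flat R₀ (S₀ ⊗[S] N) ∧
      FlatCA.HasCompleteDevissageAt R₀ S₀ (S₀ ⊗[S] N) p₀ q₀ := by
  -- a chain after an etale localisation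
  obtain ⟨n, hd⟩ : ∃ n : ℕ, ∀ w : PrimeSpectrum S, EGA43.FibDepth.trd R w ≤ n := by
    obtain ⟨s, f, hf⟩ :=
      Algebra.FiniteType.iff_quotient_mvPolynomial''.1 (inferInstance : Algebra.FiniteType R S)
    refine ⟨s, fun w => ?_⟩
    rw [← EGA43.FibDepth.trd_comap_of_surjectiveOnStalks f
      (RingHom.surjectiveOnStalks_of_surjective hf) w]
    exact EGA43.FibDepth.trd_mvPolynomial_le _
  obtain ⟨R', S', _, _, _, _, _, _, _, _, p', q', _, _, hR, hS, ho, hch⟩ :=
    exists_hasChainNhd n N p q (fun w _ _ _ => hd w) hNq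
  have := hR.1
  have := hR.2.1
  have := hS.1
  have := hS.2.1
  let N' := S' ⊗[S] N
  have : Algebra.FinitePresentation R S' := Algebra.FinitePresentation.trans R S S'
  have : Algebra.FinitePresentation R' S' :=
    Algebra.FinitePresentation.of_restrict_scalars_finitePresentation R R' S'
  have : Module.FinitePresentation S' N' := inferInstance
  have : IsScalarTower R R' N' := .of_algebraMap_smul fun r x => by
    rw [← algebraMap_smul S' (algebraMap R R' r), ← IsScalarTower.algebraMap_apply, algebraMap_smul]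
  have hflat' : FlatCA.FlatAt R' q' N' := by
    refine (S1231.result (R := R) (T := R') (C := S') N' q').1.1 ?_
    refine (flatAt_tensor_iff q').2 ?_
    simp only [show q'.comap (algebraMap S S') = q from hS.2.1.over.symm]
    exact hflat
  have hopen := EGA43.FlatDescent.isOpen_setOf_flat (A := R') (S := S') (N := N')
  obtain ⟨_, ⟨g, rfl⟩, hgq, hg⟩ :=
    PrimeSpectrum.isTopologicalBasis_basic_opens.exists_subset_of_mem_open
      (show (⟨q', inferInstance⟩ : PrimeSpectrum S') ∈ {x : PrimeSpectrum S' |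
        Module.Flat R' (LocalizedModule x.asIdeal.primeCompl N')} from hflat') hopen
  obtain ⟨f, hf, h, hh, hgh, htr⟩ :=
    (hch N' (TensorProduct.mk S S' N 1) (TensorProduct.isBaseChange S N S')).transport g hgq
  -- shrink
  obtain ⟨p₀, _, hR₀⟩ := isEtaleNhd_away (L := Localization.Away f) f p' hf
  let R₀ := Localization.Away f
  obtain ⟨hR₀e, hR₀o, hR₀b⟩ := id hR₀
  let T := R₀ ⊗[R'] S'
  let t : T := (1 : R₀) ⊗ₜ[R'] h
  let S₀ := Localization.Away t
  have : IsScalarTower S' T S₀ := inferInstance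
  have : IsScalarTower R' S' S₀ := .of_algebraMap_eq fun r => by
    rw [IsScalarTower.algebraMap_apply S' T S₀, IsScalarTower.algebraMap_apply R' T S₀]
    congr 1
    exact (Algebra.TensorProduct.includeRight.commutes r).symm
  obtain ⟨q₀, _, hS₀, hq₀p⟩ := exists_prime_away_tensor p' p₀ hR₀ q' hh S₀
  have := hS₀.1
  have := hS₀.2.1
  let N₀ := S₀ ⊗[S'] N'
  have hchain : Chain R₀ p₀ S₀ N₀ q₀ := htr R₀ p₀ hR₀b (IsLocalization.Away.algebraMap_isUnit f)
    S₀ q₀ N₀ (TensorProduct.mk S' S₀ N' 1) (TensorProduct.isBaseChange S' N' S₀)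
  have : Algebra.FinitePresentation R' S₀ := Algebra.FinitePresentation.trans R' S' S₀
  have : Algebra.FinitePresentation R₀ S₀ :=
    Algebra.FinitePresentation.of_restrict_scalars_finitePresentation R' R₀ S₀
  have : Module.FinitePresentation S₀ N₀ := inferInstance
  have : IsScalarTower R' R₀ N₀ := .of_algebraMap_smul fun r x => by
    rw [← algebraMap_smul S₀ (algebraMap R' R₀ r), ← IsScalarTower.algebraMap_apply, algebraMap_smul]
  have hflat₀ : Module.Flat R₀ N₀ := by
    refine (S1231.result (R := R') (T := R₀) (C := S₀) N₀ q₀).2.1 ?_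
    refine flat_of_forall_flatAt (B := S₀) fun P _ => (flatAt_tensor_iff P).2 ?_
    refine hg (show (⟨P.comap (algebraMap S' S₀), inferInstance⟩ : PrimeSpectrum S') ∈
      PrimeSpectrum.basicOpen g from fun hgP => ?_)
    refine ‹P.IsPrime›.ne_top (P.eq_top_of_isUnit_mem hgP (isUnit_of_dvd_unit (map_dvd _ hgh) ?_))
    rw [IsScalarTower.algebraMap_apply S' T S₀]
    exact IsLocalization.Away.algebraMap_isUnit t
  let _ : Algebra S S₀ := ((algebraMap S' S₀).comp (algebraMap S S')).toAlgebra
  have : IsScalarTower S S' S₀ := .of_algebraMap_eq' rfl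
  have : IsScalarTower R S S₀ := IsScalarTower.of_algebraMap_eq (R := R) (S := S) (A := S₀) fun r => by
    rw [IsScalarTower.algebraMap_apply R R₀ S₀, IsScalarTower.algebraMap_apply R R' R₀,
      ← IsScalarTower.algebraMap_apply R' R₀ S₀, IsScalarTower.algebraMap_apply R' S' S₀,
      ← IsScalarTower.algebraMap_apply R R' S', IsScalarTower.algebraMap_apply R S S',
      ← IsScalarTower.algebraMap_apply S S' S₀]
  let ε : N₀ ≃ₗ[S₀] S₀ ⊗[S] N :=
    TensorProduct.AlgebraTensorModule.cancelBaseChange S S' S₀ S₀ N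
  exact ⟨R₀, S₀, inferInstance, inferInstance, inferInstance, inferInstance, inferInstance,
    inferInstance, inferInstance, inferInstance, p₀, q₀, inferInstance, inferInstance,
    isEtaleNhd_comp hR hR₀, isEtaleNhd_comp hS hS₀, hq₀p, inferInstance,
    Module.Flat.of_linearEquiv (ε.restrictScalars R₀).symm,
    (hchain.congr ε.symm).hasCompleteDevissageAt⟩

/-- Universal injectivity goes up along base changes. -/
theorem ui_baseChange {R L M N : Type u} [CommRing R] [CommRing L] [Algebra R L] [AddCommGroup M]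
    [Module R M] [AddCommGroup N] [Module R N] (u : M →ₗ[R] N) (h : CAlgX.UniversallyInjective R u) :
    CAlgX.UniversallyInjective L (u.baseChange L) := by
  refine (CAlgML.ui_iff_lTensor _).2 fun Q _ _ => ?_
  let _ := Module.compHom Q (algebraMap R L)
  have : IsScalarTower R L Q := .of_algebraMap_smul fun _ _ => rfl
  have e : ∀ z : Q ⊗[L] (L ⊗[R] M),
      TensorProduct.AlgebraTensorModule.cancelBaseChange R L L Q N ((u.baseChange L).lTensor Q z) =
        u.lTensor Q (TensorProduct.AlgebraTensorModule.cancelBaseChange R L L Q M z) := by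
    intro z
    induction z with
    | zero => simp
    | add x y hx hy => simp only [map_add, hx, hy]
    | tmul a w =>
      induction w with
      | zero => simp
      | add x y hx hy => simp only [tmul_add, map_add, hx, hy]
      | tmul t x => simp
  intro a b hab
  apply (TensorProduct.AlgebraTensorModule.cancelBaseChange R L L Q M).injective
  apply (CAlgML.ui_iff_lTensor u).1 h
  rw [← e, ← e]
  exact congrArg _ hab

set_option maxHeartbeats 1000000 in
/-- Projectivity descends from an etale algebra to a basic open in its image. -/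
theorem projective_open_of_regular {S R₁ S₁ T N : Type u} [CommRing S] [CommRing R₁]
    [CommRing S₁] [CommRing T] [Algebra R₁ T] [Algebra S T] [Algebra R₁ S₁] [Algebra S S₁]
    [Algebra T S₁] [IsScalarTower R₁ T S₁] [IsScalarTower S T S₁] [Algebra.Etale T S₁]
    [Algebra.FiniteType R₁ T] [AddCommGroup N] [Module S N] [Module.Finite S N]
    [Module.Projective R₁ (S₁ ⊗[S] N)] (g : T)
    (himg : ∀ (P : Ideal T), P.IsPrime → g ∉ P →
      ∃ Q : Ideal S₁, Q.IsPrime ∧ Q.comap (algebraMap T S₁) = P)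
    (hreg : ∀ (K : Type u) [Field K] [Algebra R₁ K],
      Injective (((LinearMap.lsmul S₁ (S₁ ⊗[S] N) (algebraMap T S₁ g)).restrictScalars R₁).lTensor K)) :
    Module.Projective R₁ (Localization.Away g ⊗[S] N) := by
  let A := Localization.Away g
  let B := Localization.Away (algebraMap T S₁ g)
  have : Algebra.FinitePresentation T A := IsLocalization.Away.finitePresentation g
  have : Algebra.FiniteType R₁ A := Algebra.FiniteType.trans (S := T) inferInstance inferInstance
  have : Algebra.FiniteType R₁ S₁ := Algebra.FiniteType.trans (S := T) inferInstance inferInstance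
  let φ : A →+* B := IsLocalization.Away.lift (S := A) g
    (g := (algebraMap S₁ B).comp (algebraMap T S₁))
    (IsLocalization.Away.algebraMap_isUnit (algebraMap T S₁ g))
  let _ : Algebra A B := φ.toAlgebra
  have hφ : ∀ t, φ (algebraMap T A t) = algebraMap S₁ B (algebraMap T S₁ t) := fun t =>
    IsLocalization.Away.lift_eq _ _ _
  have : IsScalarTower T A B := IsScalarTower.of_algebraMap_eq (R := T) (S := A) (A := B) fun t => by
    rw [IsScalarTower.algebraMap_apply T S₁ B]; exact (hφ t).symm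
  have : IsScalarTower R₁ A B := IsScalarTower.of_algebraMap_eq (R := R₁) (S := A) (A := B) fun r => by
    rw [IsScalarTower.algebraMap_apply R₁ T A, IsScalarTower.algebraMap_apply R₁ S₁ B,
      IsScalarTower.algebraMap_apply R₁ T S₁]
    exact (hφ _).symm
  have : IsScalarTower S A B := IsScalarTower.of_algebraMap_eq (R := S) (S := A) (A := B) fun r => by
    rw [IsScalarTower.algebraMap_apply S T A, IsScalarTower.algebraMap_apply S S₁ B,
      IsScalarTower.algebraMap_apply S T S₁]
    exact (hφ _).symm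
  have : Algebra.Etale S₁ B := Algebra.Etale.of_isLocalizationAway (algebraMap T S₁ g)
  have : Algebra.Etale T B := Algebra.Etale.comp T S₁ B
  have : Algebra.Etale T A := Algebra.Etale.of_isLocalizationAway g
  have : Algebra.Etale A B := Algebra.Etale.of_restrictScalars T _ _
  have : Module.FaithfullyFlat A B := Module.FaithfullyFlat.of_comap_surjective fun P => by
    have hgP : g ∉ P.asIdeal.comap (algebraMap T A) := fun h =>
      P.isPrime.ne_top (P.asIdeal.eq_top_of_isUnit_mem h (IsLocalization.Away.algebraMap_isUnit g))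
    obtain ⟨Q, hQ, hQP⟩ := himg _ inferInstance hgP
    have hgQ : (⟨Q, hQ⟩ : PrimeSpectrum S₁) ∈
        Set.range (PrimeSpectrum.comap (algebraMap S₁ B)) := by
      rw [PrimeSpectrum.localization_away_comap_range B (algebraMap T S₁ g)]
      exact fun h => hgP (hQP ▸ h)
    obtain ⟨Q', hQ'⟩ := hgQ
    refine ⟨Q', PrimeSpectrum.localization_comap_injective A (Submonoid.powers g) ?_⟩
    refine PrimeSpectrum.ext ?_
    show (Q'.asIdeal.comap φ).comap (algebraMap T A) = P.asIdeal.comap (algebraMap T A)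
    rw [Ideal.comap_comap, show φ.comp (algebraMap T A) = (algebraMap S₁ B).comp (algebraMap T S₁)
      from RingHom.ext hφ, ← Ideal.comap_comap, ← hQP]
    exact congrArg (Ideal.comap _) (congrArg PrimeSpectrum.asIdeal hQ')
  let P₁ := S₁ ⊗[S] N
  have hloc := projective_localized_of_regular (P := P₁) (algebraMap T S₁ g) hreg
  have hPB : Module.Projective R₁ (B ⊗[S] N) := Module.Projective.of_equiv
    (((LocalizedModule.equivTensorProduct (Submonoid.powers (algebraMap T S₁ g)) P₁).trans
      (TensorProduct.AlgebraTensorModule.cancelBaseChange S S₁ B B N)).restrictScalars R₁)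
  have : Module.Projective R₁ (B ⊗[A] (A ⊗[S] N)) := Module.Projective.of_equiv
    ((TensorProduct.AlgebraTensorModule.cancelBaseChange S A B B N).restrictScalars R₁).symm
  exact projective_of_faithfullyFlat_cover (B := A) (C := B)

/-- Transport of fibrewise regularity to a base change. -/
theorem injective_lTensor_of_baseChange {R₀ L S₁ P₀ P₁ : Type u} [CommRing R₀] [CommRing L]
    [CommRing S₁] [Algebra R₀ L] [Algebra L S₁] [AddCommGroup P₀] [Module R₀ P₀] [AddCommGroup P₁]
    [Module L P₁] (e : L ⊗[R₀] P₀ ≃ₗ[L] P₁) (u₀ : P₀ →ₗ[R₀] P₀) (u₁ : P₁ →ₗ[L] P₁)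
    (hu : ∀ x, u₁ (e ((1 : L) ⊗ₜ x)) = e ((1 : L) ⊗ₜ u₀ x)) (K : Type u) [CommRing K] [Algebra L K]
    [Algebra R₀ K] [IsScalarTower R₀ L K] (h : Injective (u₀.lTensor K)) :
    Injective (u₁.lTensor K) := by
  have hcomm : ∀ z, u₁ (e z) = e (u₀.baseChange L z) := by
    intro z
    induction z with
    | zero => simp
    | tmul t x =>
      rw [← mul_one t, ← smul_eq_mul, ← TensorProduct.smul_tmul', map_smul, map_smul, hu, map_smul,
        map_smul, LinearMap.baseChange_tmul]
    | add x y hx hy => simp only [map_add, hx, hy]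
  have h' := injective_lTensor_baseChange (L := L) (K := K) u₀ h
  have key : ∀ w, u₁.lTensor K (e.lTensor K w) = e.lTensor K ((u₀.baseChange L).lTensor K w) := by
    intro w
    induction w with
    | zero => simp
    | tmul a b => simp [hcomm]
    | add x y hx hy => simp only [map_add, hx, hy]
  intro a b hab
  obtain ⟨a, rfl⟩ := (e.lTensor K).surjective a
  obtain ⟨b, rfl⟩ := (e.lTensor K).surjective b
  rw [key, key] at hab
  rw [h' ((e.lTensor K).injective hab)]

set_option maxHeartbeats 2000000 in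
/-- Raynaud-Gruson: flatness at a point gives projectivity over an etale neighbourhood of the base on
a basic open of the base change through the point. -/
theorem exists_projective_open_nhd {R S : Type u} [CommRing R] [CommRing S] [Algebra R S]
    [Algebra.FinitePresentation R S] (N : Type u) [AddCommGroup N] [Module S N] [Module R N]
    [IsScalarTower R S N] [Module.FinitePresentation S N] (p : Ideal R) [p.IsPrime] (q : Ideal S)
    [q.IsPrime] [q.LiesOver p] (hflat : FlatCA.FlatAt R q N) :
    ∃ (R' : Type u) (_ : CommRing R') (_ : Algebra R R') (p' : Ideal R') (_ : p'.IsPrime),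
      FlatCA.IsEtaleNhd R R' p p' ∧
      ∀ (T : Type u) [CommRing T] [Algebra R T] [Algebra S T] [Algebra R' T] [IsScalarTower R S T]
        [IsScalarTower R R' T] [Algebra.IsPushout R S R' T],
        ∃ (g : T) (Q : Ideal T), Q.IsPrime ∧ g ∉ Q ∧ Q.LiesOver q ∧ Q.LiesOver p' ∧
          Module.Projective R' (Localization.Away g ⊗[S] N) := by
  classical
  by_cases hNq : Module.annihilator S N ≤ q
  swap
  · obtain ⟨a, haN, haq⟩ := SetLike.not_le_iff_exists.1 hNq
    obtain ⟨p', _, hR⟩ := isEtaleNhd_away (L := Localization.Away (1 : R)) (1 : R) p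
      (Ideal.one_notMem p)
    refine ⟨_, inferInstance, inferInstance, p', inferInstance, hR, fun T _ _ _ _ _ _ _ => ?_⟩
    obtain ⟨he, ho, hb⟩ := id hR
    have : Algebra.IsPushout R (Localization.Away (1 : R)) S T := Algebra.IsPushout.symm ‹_›
    obtain ⟨Q, hQ, hQq, hQp⟩ := exists_prime_isPushout (S' := T) p p' hb q
    have haQ : algebraMap S T a ∉ Q := fun h => haq (by rw [hQq.over]; exact h)
    refine ⟨algebraMap S T a, Q, hQ, haQ, hQq, hQp, ?_⟩
    have hu : IsUnit (algebraMap S (Localization.Away (algebraMap S T a)) a) := by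
      rw [IsScalarTower.algebraMap_apply S T (Localization.Away (algebraMap S T a))]
      exact IsLocalization.Away.algebraMap_isUnit _
    have : Subsingleton (Localization.Away (algebraMap S T a) ⊗[S] N) :=
      subsingleton_tensor_of_isUnit haN hu
    exact Module.Projective.of_free
  obtain ⟨R₀, S₀, _, _, _, _, _, _, _, _, p₀, q₀, _, _, hR, hS, ho, hfp, hfl, hdev⟩ :=
    exists_flat_devissage_nhd N p q hflat hNq
  obtain ⟨hRe, hRo, hRb⟩ := id hR
  obtain ⟨hSe, hSo, hSb⟩ := id hS
  obtain ⟨D, ⟨hD⟩⟩ := hdev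
  -- the point in the base change and a basic open in the image
  let T₀ := R₀ ⊗[R] S
  let θ : T₀ →ₐ[R₀] S₀ := Algebra.TensorProduct.lift (Algebra.ofId R₀ S₀)
    (IsScalarTower.toAlgHom R S S₀) fun _ _ => .all _ _
  let _ : Algebra T₀ S₀ := θ.toRingHom.toAlgebra
  have : IsScalarTower R₀ T₀ S₀ := .of_algebraMap_eq fun r => (θ.commutes r).symm
  have : IsScalarTower S T₀ S₀ := .of_algebraMap_eq fun b => by
    show _ = θ ((1 : R₀) ⊗ₜ[R] b)
    rw [Algebra.TensorProduct.lift_tmul, map_one, one_mul]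
    rfl
  have : Algebra.Etale S T₀ := etale_rightAlgebra
  have : Algebra.Etale T₀ S₀ := Algebra.Etale.of_restrictScalars S _ _
  have hopen := PrimeSpectrum.isOpenMap_comap_of_hasGoingDown_of_finitePresentation
    (R := T₀) (S := S₀) _ isOpen_univ
  obtain ⟨_, ⟨g₀, rfl⟩, hgx, hsub⟩ :=
    PrimeSpectrum.isTopologicalBasis_basic_opens.exists_subset_of_mem_open
      (show PrimeSpectrum.comap (algebraMap T₀ S₀) ⟨q₀, inferInstance⟩ ∈
        PrimeSpectrum.comap (algebraMap T₀ S₀) '' (Set.univ : Set (PrimeSpectrum S₀))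
        from ⟨_, trivial, rfl⟩) hopen
  have hflat₀ : ∀ (L : Type u) [CommRing L] [Algebra R₀ L], IsUnit (algebraMap R₀ L 1) →
      Module.Flat L (L ⊗[R₀] (S₀ ⊗[S] N)) := fun L _ _ _ => inferInstance
  have h1 : (1 : R₀) ∉ p₀ := fun hm => ‹p₀.IsPrime›.ne_top ((Ideal.eq_top_iff_one p₀).2 hm)
  have : Module.FinitePresentation S₀ (S₀ ⊗[S] N) := inferInstance
  obtain ⟨f₁, hf₁, -, hproj⟩ := exists_projective D h1 hflat₀
  obtain ⟨f₂, hf₂, hreg⟩ := exists_forall_regular D hD h1 hflat₀ (algebraMap T₀ S₀ g₀) hgx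
  obtain ⟨p₁, _, hL⟩ := isEtaleNhd_away (L := Localization.Away (f₁ * f₂)) (f₁ * f₂) p₀
    (p₀.primeCompl.mul_mem hf₁ hf₂)
  let L := Localization.Away (f₁ * f₂)
  obtain ⟨hLe, hLo, hLb⟩ := id hL
  refine ⟨L, inferInstance, inferInstance, p₁, inferInstance, isEtaleNhd_comp hR hL, ?_⟩
  intro T _ _ _ _ _ _ _
  -- the maps
  let _ : Algebra R₀ T := ((algebraMap L T).comp (algebraMap R₀ L)).toAlgebra
  have : IsScalarTower R₀ L T := .of_algebraMap_eq' rfl
  have : IsScalarTower R R₀ T := .of_algebraMap_eq fun r => by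
    rw [IsScalarTower.algebraMap_apply R₀ L T, ← IsScalarTower.algebraMap_apply R R₀ L,
      ← IsScalarTower.algebraMap_apply R L T]
  let ι : T₀ →ₐ[R₀] T := Algebra.TensorProduct.lift (Algebra.ofId R₀ T)
    (IsScalarTower.toAlgHom R S T) fun _ _ => .all _ _
  let _ : Algebra T₀ T := ι.toRingHom.toAlgebra
  have : IsScalarTower R₀ T₀ T := .of_algebraMap_eq fun r => (ι.commutes r).symm
  have : IsScalarTower S T₀ T := .of_algebraMap_eq fun b => by
    show _ = ι ((1 : R₀) ⊗ₜ[R] b)
    rw [Algebra.TensorProduct.lift_tmul, map_one, one_mul]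
    rfl
  have : Algebra.IsPushout R L S T := Algebra.IsPushout.symm ‹_›
  have : IsScalarTower R T₀ T := .of_algebraMap_eq fun r => by
    rw [IsScalarTower.algebraMap_apply R R₀ T₀, ← IsScalarTower.algebraMap_apply R₀ T₀ T,
      ← IsScalarTower.algebraMap_apply R R₀ T]
  have hTp : Algebra.IsPushout R₀ L T₀ T := (Algebra.IsPushout.comp_iff R R₀ S T₀).1 inferInstance
  let S₁ := L ⊗[R₀] S₀
  have : IsScalarTower R L S₁ := inferInstance
  have : IsScalarTower R S₀ S₁ := IsScalarTower.of_algebraMap_eq (R := R) (S := S₀) (A := S₁) fun r => by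
    rw [IsScalarTower.algebraMap_apply R R₀ S₀, ← IsScalarTower.algebraMap_apply R₀ S₀ S₁,
      IsScalarTower.algebraMap_apply R₀ L S₁, ← IsScalarTower.algebraMap_apply R R₀ L,
      ← IsScalarTower.algebraMap_apply R L S₁]
  let κ₁ : T →ₐ[R] S₁ := Algebra.pushoutDesc T (IsScalarTower.toAlgHom R L S₁)
    ((IsScalarTower.toAlgHom R S₀ S₁).comp (IsScalarTower.toAlgHom R S S₀)) fun _ _ => mul_comm _ _
  let _ : Algebra T S₁ := κ₁.toRingHom.toAlgebra
  have : IsScalarTower L T S₁ := IsScalarTower.of_algebraMap_eq (R := L) (S := T) (A := S₁) fun l => by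
    show _ = κ₁ (algebraMap L T l)
    simp only [κ₁, Algebra.pushoutDesc_left]
    rfl
  let _ : Algebra S S₁ := ((algebraMap S₀ S₁).comp (algebraMap S S₀)).toAlgebra
  have : IsScalarTower S S₀ S₁ := .of_algebraMap_eq' rfl
  have : IsScalarTower S T S₁ := IsScalarTower.of_algebraMap_eq (R := S) (S := T) (A := S₁) fun b => by
    show _ = κ₁ (algebraMap S T b)
    simp only [κ₁, Algebra.pushoutDesc_right]
    rfl
  have hκ : ∀ t : T₀, algebraMap T S₁ (algebraMap T₀ T t) = algebraMap S₀ S₁ (algebraMap T₀ S₀ t) := by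
    intro t
    induction t using TensorProduct.induction_on with
    | zero => simp
    | tmul r b =>
      show κ₁ (algebraMap R₀ T r * algebraMap S T b) =
        algebraMap S₀ S₁ (algebraMap R₀ S₀ r * algebraMap S S₀ b)
      rw [map_mul, map_mul]
      refine congr_arg₂ (· * ·) ?_ ?_
      · show κ₁ (algebraMap R₀ T r) = algebraMap S₀ S₁ (algebraMap R₀ S₀ r)
        rw [IsScalarTower.algebraMap_apply R₀ L T, ← IsScalarTower.algebraMap_apply R₀ S₀ S₁,
          IsScalarTower.algebraMap_apply R₀ L S₁]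
        exact (IsScalarTower.algebraMap_apply L T S₁ _).symm
      · show κ₁ (algebraMap S T b) = algebraMap S₀ S₁ (algebraMap S S₀ b)
        exact ((IsScalarTower.algebraMap_apply S T S₁ b).symm.trans
          (IsScalarTower.algebraMap_apply S S₀ S₁ b))
    | add x y hx hy => simp only [map_add, hx, hy]
  have : Algebra.Etale S T := by
    have : Algebra.Etale R L := (isEtaleNhd_comp hR hL).1
    exact Algebra.Etale.of_equiv (Algebra.IsPushout.equiv R S L T)
  have : Algebra.Etale S₀ S₁ := etale_rightAlgebra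
  have : Algebra.Etale S S₁ := Algebra.Etale.comp S S₀ S₁
  have : Algebra.Etale T S₁ := Algebra.Etale.of_restrictScalars S _ _
  obtain ⟨q₁, _, hq₁, hq₁p⟩ := exists_prime_isPushout (S' := S₁) p₀ p₁ hLb q₀
  let g := algebraMap T₀ T g₀
  have hgQ : g ∉ q₁.comap (algebraMap T S₁) := fun h => hgx (by
    rw [Ideal.mem_comap, hκ] at h
    rw [PrimeSpectrum.comap_asIdeal, Ideal.mem_comap]
    exact (Ideal.mem_of_liesOver q₁ q₀ _).2 h)
  refine ⟨g, q₁.comap (algebraMap T S₁), inferInstance, hgQ, ⟨?_⟩, ⟨?_⟩, ?_⟩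
  · rw [Ideal.under, Ideal.comap_comap, ← IsScalarTower.algebraMap_eq,
      IsScalarTower.algebraMap_eq S S₀ S₁, ← Ideal.comap_comap]
    exact hS.2.1.over.trans (congrArg _ hq₁.over)
  · rw [Ideal.under, Ideal.comap_comap, ← IsScalarTower.algebraMap_eq]
    exact hq₁p.over
  obtain ⟨hP, -⟩ := hproj L (isUnit_of_dvd_unit (map_dvd _ (dvd_mul_right f₁ f₂))
    (IsLocalization.Away.algebraMap_isUnit (f₁ * f₂)))
  let e₁ : S₁ ⊗[S₀] (S₀ ⊗[S] N) ≃ₗ[L] L ⊗[R₀] (S₀ ⊗[S] N) :=
    Algebra.IsPushout.cancelBaseChange R₀ L S₀ S₁ (S₀ ⊗[S] N)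
  let e₂ : S₁ ⊗[S₀] (S₀ ⊗[S] N) ≃ₗ[S₁] S₁ ⊗[S] N :=
    TensorProduct.AlgebraTensorModule.cancelBaseChange S S₀ S₁ S₁ N
  let e := e₁.symm.trans (e₂.restrictScalars L)
  have : Module.Projective L (S₁ ⊗[S] N) := Module.Projective.of_equiv e
  have : Algebra.FiniteType L T := by
    have : Algebra.FiniteType L (L ⊗[R] S) := inferInstance
    exact this.equiv (Algebra.IsPushout.equiv R L S T)
  refine projective_open_of_regular (R₁ := L) (S := S) (T := T) (N := N) (S₁ := S₁) g (fun P hP hgP => ?_) fun K _ _ => ?_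
  · obtain ⟨Q₀, -, hQ₀⟩ := hsub (show (⟨P.comap (algebraMap T₀ T), inferInstance⟩ :
      PrimeSpectrum T₀) ∈ PrimeSpectrum.basicOpen g₀ from hgP)
    let P₀ := P.comap (algebraMap T₀ T)
    have hQ₀' : Q₀.asIdeal.LiesOver P₀ := ⟨(congrArg PrimeSpectrum.asIdeal hQ₀).symm⟩
    let p₀' := P₀.comap (algebraMap R₀ T₀)
    have : (P.comap (algebraMap L T)).LiesOver p₀' := ⟨by
      simp only [p₀', P₀, Ideal.under, Ideal.comap_comap, ← IsScalarTower.algebraMap_eq]⟩
    have : P₀.LiesOver p₀' := ⟨rfl⟩
    have : P.LiesOver P₀ := ⟨rfl⟩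
    have : P.LiesOver (P.comap (algebraMap L T)) := ⟨rfl⟩
    have hb₀ := bijective_residueField_isPushout (S := T₀) (S' := T) p₀' (P.comap (algebraMap L T))
      ((RingHom.surjectiveOnStalks_of_isLocalization (M := Submonoid.powers (f₁ * f₂))
        L).residueFieldMap_bijective p₀' _ ((P.comap (algebraMap L T)).over_def p₀')) P₀ P
    let _ : Algebra T₀ S₁ := ((algebraMap S₀ S₁).comp (algebraMap T₀ S₀)).toAlgebra
    have : IsScalarTower T₀ S₀ S₁ := .of_algebraMap_eq' rfl
    have : IsScalarTower T₀ T S₁ := IsScalarTower.of_algebraMap_eq (R := T₀) (S := T) (A := S₁)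
      fun t => (hκ t).symm
    have : Algebra.IsPushout R₀ T₀ L T := hTp.symm
    have : IsScalarTower R₀ T S₁ := IsScalarTower.of_algebraMap_eq (R := R₀) (S := T) (A := S₁) fun r => by
      rw [IsScalarTower.algebraMap_apply R₀ L T, ← IsScalarTower.algebraMap_apply L T S₁,
        ← IsScalarTower.algebraMap_apply R₀ L S₁]
    have hS₁ : Algebra.IsPushout R₀ L S₀ S₁ := inferInstance
    have : Algebra.IsPushout R₀ S₀ L S₁ := hS₁.symm
    have : Algebra.IsPushout T₀ T S₀ S₁ :=
      ((Algebra.IsPushout.comp_iff R₀ T₀ L T).1 inferInstance).symm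
    obtain ⟨Q, hQ, -, hQP⟩ := exists_prime_isPushout (S' := S₁) P₀ P hb₀ Q₀.asIdeal
    exact ⟨Q, hQ, hQP.over.symm⟩
  · let _ : Algebra R₀ K := ((algebraMap L K).comp (algebraMap R₀ L)).toAlgebra
    have : IsScalarTower R₀ L K := .of_algebraMap_eq' rfl
    refine injective_lTensor_of_baseChange (L := L) (S₁ := S₁) (P₁ := S₁ ⊗[S] N) e _ _ (fun x => ?_) K
      (hreg K (isUnit_of_dvd_unit (map_dvd _ (dvd_mul_left f₂ f₁))
        ((IsLocalization.Away.algebraMap_isUnit (f₁ * f₂)).map (algebraMap L K))))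
    have he : ∀ y : S₀ ⊗[S] N, e ((1 : L) ⊗ₜ y) = e₂ ((1 : S₁) ⊗ₜ y) := fun y => by
      refine congrArg e₂ ?_
      exact e₁.injective ((e₁.apply_symm_apply _).trans (Algebra.IsPushout.cancelBaseChange_tmul ..).symm)
    show algebraMap T S₁ (algebraMap T₀ T g₀) • e ((1 : L) ⊗ₜ x) = e ((1 : L) ⊗ₜ (algebraMap T₀ S₀ g₀ • x))
    rw [he, he, ← map_smul, hκ, algebraMap_smul]
    exact congrArg e₂ (TensorProduct.tmul_smul _ _ _).symm

end Groth.Agent.FlatMorDevissage
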