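import Groth.Agent.FlatMorDevissage.Fibres
import Groth.Agent.S1203
import Groth.Agent.CAlgML.Projective
import Groth.Agent.AdicRing.ComplHom
import Groth.Agent.EGA43.FlatDescent.GenFreeGeneral

/-!
# Flat algebras with integral fibres over Noetherian rings are projective
-/

set_option autoImplicit false
set_option backward.isDefEq.respectTransparency false

universe u

open TensorProduct Function

namespace Groth.Agent.FlatMorDevissage

open Groth.Agent

attribute [local instance] Algebra.TensorProduct.rightAlgebra

/-- Projectivity goes up along algebra maps. -/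
theorem projective_baseChange_tower {A B C : Type u} [CommRing A] [CommRing B] [CommRing C]
    [Algebra A B] [Algebra A C] [Algebra B C] [IsScalarTower A B C] {M : Type u} [AddCommGroup M]
    [Module A M] [Module.Projective B (B ⊗[A] M)] : Module.Projective C (C ⊗[A] M) :=
  Module.Projective.of_equiv (TensorProduct.AlgebraTensorModule.cancelBaseChange A B C C M)

/-- Projectivity goes up along ring maps compatible with the algebra structures. -/
theorem projective_of_ringHom {A B C : Type u} [CommRing A] [CommRing B] [CommRing C]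
    [Algebra A B] [Algebra A C] (ψ : B →+* C) (h : ψ.comp (algebraMap A B) = algebraMap A C)
    {M : Type u} [AddCommGroup M]
    [Module A M] [Module.Projective B (B ⊗[A] M)] : Module.Projective C (C ⊗[A] M) := by
  let _ := ψ.toAlgebra
  have : IsScalarTower A B C := .of_algebraMap_eq' h.symm
  exact projective_baseChange_tower (B := B)

/-- In a domain of fibres, every prime of the base modulo `I` has a point above. -/
theorem map_sup_ne_top_of_fibresDomain {A D : Type u} [CommRing A] [CommRing D] [Algebra A D]
    (hdom : ∀ (K : Type u) [Field K] [Algebra A K], IsDomain (K ⊗[A] D)) (I : Ideal A)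
    (hI : I ≤ (⊥ : Ideal A).jacobson) (p : Ideal A) [p.IsPrime] (q : Ideal D) [q.IsPrime]
    [q.LiesOver p]
    (hq : ∀ Q : Ideal D, Q.IsPrime → p ≤ Q.comap (algebraMap A D) →
      Q.comap (algebraMap A D) = p → q ≤ Q)
    [Module.Flat A D] : I.map (algebraMap A D) ⊔ q ≠ ⊤ := by
  obtain ⟨m, hm, hpm⟩ := p.exists_le_maximal ‹p.IsPrime›.ne_top
  have hIm : I ≤ m := hI.trans (sInf_le ⟨bot_le, hm⟩)
  have := hdom m.ResidueField
  obtain ⟨P, hP⟩ := Ideal.exists_maximal (m.ResidueField ⊗[A] D)
  let Q := P.comap (algebraMap D (m.ResidueField ⊗[A] D))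
  have hQm : Q.comap (algebraMap A D) = m :=
    (EGA43.FibDepth.comap_algebraMap_eq (R := D) m ⟨P, hP.isPrime⟩).symm
  have : Q.LiesOver m := ⟨hQm.symm⟩
  obtain ⟨Q₀, hQ₀Q, hQ₀, hQ₀p⟩ := Ideal.exists_ideal_le_liesOver_of_le (p := p) (q := m) Q hpm
  refine fun htop => (inferInstance : Q.IsPrime).ne_top (top_le_iff.1 (htop ▸ sup_le ?_ ?_))
  · rw [Ideal.map_le_iff_le_comap, hQm]
    exact hIm
  · exact (hq Q₀ hQ₀ hQ₀p.over.le hQ₀p.over.symm).trans hQ₀Q

/-- An associated point of a domain fibre lies below every point of that fibre. -/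
theorem le_of_mem_associatedPrimes {A D : Type u} [CommRing A] [CommRing D] [Algebra A D]
    (p : Ideal A) [p.IsPrime] [IsDomain (p.Fiber D)] (q : Ideal D) [q.IsPrime]
    (h : FlatCA.fiberIdeal p q ∈ associatedPrimes (p.Fiber D) (FlatCA.fiberMod p D D))
    (Q : Ideal D) [Q.IsPrime] (hQ : Q.comap (algebraMap A D) = p) : q ≤ Q := by
  obtain ⟨P, hP⟩ := EGA43.FibDepth.exists_prime_over (A := A) (p := p) (p.Fiber D)
    ⟨Q, inferInstance⟩ hQ.symm
  let e : FlatCA.fiberMod p D D ≃ₗ[p.Fiber D] p.Fiber D := TensorProduct.AlgebraTensorModule.rid D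
    (p.Fiber D) (p.Fiber D)
  obtain ⟨hprime, x, hx⟩ := h
  intro b hb
  have hmem : algebraMap D (p.Fiber D) b ∈ FlatCA.fiberIdeal p q := Ideal.mem_map_of_mem _ hb
  by_cases hx0 : x = 0
  · subst hx0
    exact absurd (Ideal.eq_top_iff_one _ |>.2 (by rw [hx]; exact Ideal.le_radical (by simp)))
      hprime.ne_top
  have h0 : algebraMap D (p.Fiber D) b = 0 := by
    rw [hx] at hmem
    obtain ⟨k, hk⟩ := hmem
    rw [Submodule.mem_colon_singleton, Submodule.mem_bot] at hk
    have h1 := congrArg e hk
    rw [map_smul, map_zero, smul_eq_mul, mul_eq_zero] at h1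
    exact pow_eq_zero_iff (n := k) (fun hk0 => by
      subst hk0
      rw [pow_zero, one_smul] at hk
      exact hx0 hk) |>.1 (h1.resolve_right fun h2 => hx0 (e.map_eq_zero_iff.1 h2))
  have : algebraMap D (p.Fiber D) b ∈ P.asIdeal := h0 ▸ P.asIdeal.zero_mem
  exact (congrArg PrimeSpectrum.asIdeal hP).le this

/-- Projective modulo a Jacobson ideal for which the base is complete gives projective. -/
theorem projective_of_complete {A D : Type u} [CommRing A] [CommRing D] [Algebra A D]
    [IsNoetherianRing A] [Algebra.FiniteType A D] [Module.Flat A D] (I : Ideal A)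
    [IsAdicComplete I A] [Module.Projective (A ⧸ I) ((A ⧸ I) ⊗[A] D)]
    (hdom : FibresDomain A D) : Module.Projective A D := by
  have : Module.Projective (A ⧸ I) (D ⧸ (I • ⊤ : Submodule A D)) := by
    refine Module.Projective.of_equiv (M := (A ⧸ I) ⊗[A] D)
      ((TensorProduct.quotTensorEquivQuotSMul D I).extendScalarsOfSurjective
        Ideal.Quotient.mk_surjective)
  refine S1203.result I D (S := D) fun p q _ _ _ h => ?_
  have : IsDomain (p.Fiber D) := hdom p.ResidueField
  exact map_sup_ne_top_of_fibresDomain hdom I (IsAdicComplete.le_jacobson_bot I) p q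
    fun Q hQ _ hQp => le_of_mem_associatedPrimes p q h Q hQp

/-- A product of flat modules is flat. -/
theorem flat_prod (A M₁ M₂ : Type u) [CommRing A] [AddCommGroup M₁] [Module A M₁] [AddCommGroup M₂]
    [Module A M₂] [Module.Flat A M₁] [Module.Flat A M₂] : Module.Flat A (M₁ × M₂) := by
  refine Module.Flat.iff_rTensor_preserves_injective_linearMap.2 fun N N' _ _ _ _ i hi => ?_
  have key : (TensorProduct.prodRight A A N' M₁ M₂).toLinearMap ∘ₗ i.rTensor (M₁ × M₂) =
      LinearMap.prodMap (i.rTensor M₁) (i.rTensor M₂) ∘ₗ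
        (TensorProduct.prodRight A A N M₁ M₂).toLinearMap :=
    TensorProduct.ext' fun n m => by simp
  intro a b hab
  apply (TensorProduct.prodRight A A N M₁ M₂).injective
  have h := congrArg (TensorProduct.prodRight A A N' M₁ M₂) hab
  rw [← LinearEquiv.coe_coe, ← LinearMap.comp_apply, ← LinearMap.comp_apply, key] at h
  exact Prod.ext (Module.Flat.rTensor_preserves_injective_linearMap i hi (congrArg Prod.fst h))
    (Module.Flat.rTensor_preserves_injective_linearMap i hi (congrArg Prod.snd h))

/-- Projective over a ring which is projective over `P` gives projective over `P`. -/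
theorem projective_trans (P R M : Type u) [CommRing P] [CommRing R] [Algebra P R] [AddCommGroup M]
    [Module R M] [Module P M] [IsScalarTower P R M] [Module.Projective P R] [Module.Projective R M] :
    Module.Projective P M := by
  classical
  obtain ⟨s, hs⟩ := (Module.projective_def (R := R) (P := M)).1 ‹_›
  have : Module.Projective P (M →₀ R) :=
    Module.Projective.of_equiv (M := Π₀ _ : M, R) (finsuppLequivDFinsupp P).symm
  exact Module.Projective.of_split (s.restrictScalars P)
    ((Finsupp.linearCombination R (id : M → M)).restrictScalars P) (LinearMap.ext hs)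

/-- Projectivity over a product of two rings. -/
theorem projective_prod_baseChange {A P₁ P₂ D : Type u} [CommRing A] [CommRing P₁] [CommRing P₂]
    [Algebra A P₁] [Algebra A P₂] [AddCommGroup D] [Module A D]
    [Module.Projective P₁ (P₁ ⊗[A] D)] [Module.Projective P₂ (P₂ ⊗[A] D)] :
    Module.Projective (P₁ × P₂) ((P₁ × P₂) ⊗[A] D) := by
  let _ : Algebra (P₁ × P₂) P₁ := (RingHom.fst P₁ P₂).toAlgebra
  let _ : Algebra (P₁ × P₂) P₂ := (RingHom.snd P₁ P₂).toAlgebra
  have : IsScalarTower A (P₁ × P₂) P₁ := .of_algebraMap_eq fun _ => rfl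
  have : IsScalarTower A (P₁ × P₂) P₂ := .of_algebraMap_eq fun _ => rfl
  have : Module.Projective (P₁ × P₂) P₁ := Module.Projective.of_split (M := P₁ × P₂)
    { toFun := fun r => (r, 0), map_add' := fun a b => Prod.ext rfl (add_zero _).symm,
      map_smul' := fun c r => Prod.ext rfl (mul_zero c.2).symm }
    { toFun := fun c => c.1, map_add' := fun _ _ => rfl, map_smul' := fun _ _ => rfl } rfl
  have : Module.Projective (P₁ × P₂) P₂ := Module.Projective.of_split (M := P₁ × P₂)
    { toFun := fun r => (0, r), map_add' := fun a b => Prod.ext (add_zero _).symm rfl,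
      map_smul' := fun c r => Prod.ext (mul_zero c.1).symm rfl }
    { toFun := fun c => c.2, map_add' := fun _ _ => rfl, map_smul' := fun _ _ => rfl } rfl
  have := projective_trans (P₁ × P₂) P₁ (P₁ ⊗[A] D)
  have := projective_trans (P₁ × P₂) P₂ (P₂ ⊗[A] D)
  let F₁ : P₁ × P₂ →ₗ[P₁ × P₂] P₁ :=
    { toFun := fun c => c.1, map_add' := fun _ _ => rfl, map_smul' := fun _ _ => rfl }
  let F₂ : P₁ × P₂ →ₗ[P₁ × P₂] P₂ :=
    { toFun := fun c => c.2, map_add' := fun _ _ => rfl, map_smul' := fun _ _ => rfl }
  let e : (P₁ × P₂) ≃ₗ[P₁ × P₂] P₁ × P₂ :=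
    LinearEquiv.ofBijective (F₁.prod F₂) ⟨fun a b h => h, fun a => ⟨a, rfl⟩⟩
  exact Module.Projective.of_equiv (((TensorProduct.AlgebraTensorModule.congr e
    (LinearEquiv.refl A D)).trans (TensorProduct.prodLeft A (P₁ × P₂) P₁ P₂ D)).symm)

/-- Projectivity is inherited from `A[1/f]` and `A/f`. -/
theorem projective_of_away_of_quotient {A D : Type u} [CommRing A] [CommRing D] [Algebra A D]
    [IsNoetherianRing A] [Algebra.FiniteType A D] [Module.Flat A D] (hdom : FibresDomain A D) (f : A)
    (h₁ : Module.Projective (Localization.Away f) (Localization.Away f ⊗[A] D))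
    (h₂ : Module.Projective (A ⧸ Ideal.span {f}) ((A ⧸ Ideal.span {f}) ⊗[A] D)) :
    Module.Projective A D := by
  let K : Ideal A := Ideal.span {f}
  have hK : K.FG := ⟨{f}, by simp [K]⟩
  let A' := AdicCompletion K A
  let I : Ideal A' := K.map (algebraMap A A')
  have : IsNoetherianRing A' := AdicRing.isNoetherianRing_completion K hK
  have : IsAdicComplete I A' := AdicCompletion.isAdicComplete_self K hK
  let _ : Algebra (A ⧸ K) (A' ⧸ I) :=
    (Ideal.quotientMap I (algebraMap A A') Ideal.le_comap_map).toAlgebra
  have : IsScalarTower A (A ⧸ K) (A' ⧸ I) := .of_algebraMap_eq fun a => rfl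
  have : Module.Projective (A' ⧸ I) ((A' ⧸ I) ⊗[A] D) :=
    projective_baseChange_tower (B := A ⧸ K) (M := D)
  have hdom' : FibresDomain A' (A' ⊗[A] D) := by
    intro L _ _
    let _ : Algebra A L := ((algebraMap A' L).comp (algebraMap A A')).toAlgebra
    have : IsScalarTower A A' L := .of_algebraMap_eq' rfl
    have := hdom L
    exact (Algebra.TensorProduct.cancelBaseChange A A' L L D).toMulEquiv.isDomain _
  have : Module.Projective (A' ⧸ I) ((A' ⧸ I) ⊗[A'] (A' ⊗[A] D)) :=
    Module.Projective.of_equiv
      (TensorProduct.AlgebraTensorModule.cancelBaseChange A A' (A' ⧸ I) (A' ⧸ I) D).symm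
  have hA' : Module.Projective A' (A' ⊗[A] D) := projective_of_complete I hdom'
  let P := Localization.Away f × A'
  have : Module.Flat A P := flat_prod A (Localization.Away f) A'
  have : Module.FaithfullyFlat A P := by
    refine Module.FaithfullyFlat.of_comap_surjective fun p => ?_
    by_cases hp : f ∈ p.asIdeal
    · have hI : I ≤ (⊥ : Ideal A').jacobson := IsAdicComplete.le_jacobson_bot I
      let P₁ : Ideal (A' ⧸ I) := (p.asIdeal.map (algebraMap A A')).map (Ideal.Quotient.mk I)
      have hKp : K ≤ p.asIdeal := (Ideal.span_singleton_le_iff_mem _).2 hp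
      have hsurj : Surjective ((Ideal.Quotient.mk I).comp (algebraMap A A')) :=
        AdicRing.surjective_mk_algebraMap_completion K hK
      have hker : RingHom.ker ((Ideal.Quotient.mk I).comp (algebraMap A A')) ≤ p.asIdeal := by
        intro a ha
        refine hKp ?_
        rw [RingHom.mem_ker, RingHom.comp_apply, Ideal.Quotient.eq_zero_iff_mem] at ha
        have h2 : algebraMap A A' a ∈ RingHom.ker (AdicCompletion.evalₐ K 1).toRingHom := by
          rw [FSchLib.ker_evalₐ K hK 1, pow_one]
          exact ha
        have h3 : AdicCompletion.evalₐ K 1 (algebraMap A A' a) = 0 := h2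
        rwa [FSchLib.evalₐ_algebraMap, Ideal.Quotient.eq_zero_iff_mem, pow_one] at h3
      have hQ := Ideal.map_isPrime_of_surjective hsurj hker
      refine ⟨PrimeSpectrum.comap ((Ideal.Quotient.mk I).comp (RingHom.snd (Localization.Away f) A'))
        ⟨p.asIdeal.map ((Ideal.Quotient.mk I).comp (algebraMap A A')), hQ⟩, PrimeSpectrum.ext ?_⟩
      show Ideal.comap _ (Ideal.comap _ _) = _
      rw [Ideal.comap_comap]
      exact (Ideal.comap_map_of_surjective _ hsurj p.asIdeal).trans (sup_eq_left.2 hker)
    · obtain ⟨Q, hQ⟩ : p ∈ Set.range (PrimeSpectrum.comap (algebraMap A (Localization.Away f))) := by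
        rw [PrimeSpectrum.localization_away_comap_range (Localization.Away f) f]
        exact hp
      exact ⟨PrimeSpectrum.comap (RingHom.fst (Localization.Away f) A') Q,
        (congrFun (PrimeSpectrum.comap_comp _ _).symm Q).trans hQ⟩
  have : Module.Projective P (P ⊗[A] D) := projective_prod_baseChange
  exact CAlgML.projective_descent (S := P)

/-- Raynaud-Gruson: over a Noetherian ring a flat algebra of finite type with integral fibres is
projective. -/
theorem projective_of_noetherian {A D : Type u} [CommRing A] [CommRing D] [Algebra A D]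
    [IsNoetherianRing A] [Algebra.FiniteType A D] [Module.Flat A D] (hdom : FibresDomain A D) :
    Module.Projective A D := by
  suffices key : ∀ I : Ideal A, Module.Projective (A ⧸ I) ((A ⧸ I) ⊗[A] D) by
    have := key ⊥
    let e : A ≃+* A ⧸ (⊥ : Ideal A) := (RingEquiv.quotientBot A).symm
    have : Module.FaithfullyFlat A (A ⧸ (⊥ : Ideal A)) :=
      Module.FaithfullyFlat.of_linearEquiv A A
        (LinearEquiv.ofBijective (Algebra.linearMap A (A ⧸ (⊥ : Ideal A))) e.bijective).symm
    exact CAlgML.projective_descent (S := A ⧸ (⊥ : Ideal A))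
  intro I
  induction I using WellFoundedGT.induction with
  | _ I IH =>
    let B := A ⧸ I
    let DB := B ⊗[A] D
    have hB : FibresDomain B DB := by
      intro L _ _
      let _ : Algebra A L := ((algebraMap B L).comp (algebraMap A B)).toAlgebra
      have : IsScalarTower A B L := .of_algebraMap_eq' rfl
      have := hdom L
      exact (Algebra.TensorProduct.cancelBaseChange A B L L D).toMulEquiv.isDomain _
    by_cases hnt : Nontrivial B
    swap
    · have : Subsingleton B := not_nontrivial_iff_subsingleton.1 hnt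
      have : Subsingleton DB := Module.subsingleton B DB
      exact Module.Projective.of_free
    have hquot : ∀ c : B, c ≠ 0 →
        Module.Projective (B ⧸ Ideal.span {c}) ((B ⧸ Ideal.span {c}) ⊗[B] DB) := by
      intro c hc
      obtain ⟨c, rfl⟩ := Ideal.Quotient.mk_surjective c
      let J := I ⊔ Ideal.span {c}
      have hlt : I < J := lt_of_le_of_ne le_sup_left fun h => hc (Ideal.Quotient.eq_zero_iff_mem.2
        (h ▸ Ideal.mem_sup_right (Ideal.mem_span_singleton_self c)))
      have := IH J hlt
      let ψ : A ⧸ J →+* B ⧸ Ideal.span {Ideal.Quotient.mk I c} :=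
        Ideal.Quotient.lift J (algebraMap A _) fun a ha => by
          obtain ⟨x, hx, y, hy, rfl⟩ := Submodule.mem_sup.1 ha
          obtain ⟨d, rfl⟩ := Ideal.mem_span_singleton'.1 hy
          show Ideal.Quotient.mk _ (Ideal.Quotient.mk I (x + d * c)) = 0
          rw [map_add, Ideal.Quotient.eq_zero_iff_mem.2 hx, zero_add, Ideal.Quotient.eq_zero_iff_mem,
            map_mul]
          exact Ideal.mul_mem_left _ _ (Ideal.mem_span_singleton_self _)
      let _ := ψ.toAlgebra
      have : IsScalarTower A (A ⧸ J) (B ⧸ Ideal.span {Ideal.Quotient.mk I c}) :=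
        .of_algebraMap_eq fun _ => rfl
      have : Module.Projective (B ⧸ Ideal.span {Ideal.Quotient.mk I c})
          ((B ⧸ Ideal.span {Ideal.Quotient.mk I c}) ⊗[A] D) :=
        projective_baseChange_tower (B := A ⧸ J) (M := D)
      exact Module.Projective.of_equiv (TensorProduct.AlgebraTensorModule.cancelBaseChange A B
        (B ⧸ Ideal.span {Ideal.Quotient.mk I c}) (B ⧸ Ideal.span {Ideal.Quotient.mk I c}) D).symm
    by_cases hdomB : IsDomain B
    · obtain ⟨⟨f, hf, hfree⟩, -⟩ :=
        EGA43.FlatDescent.gFree_general (R := B) (S := DB) (M := DB)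
      exact projective_of_away_of_quotient hB f inferInstance (hquot f hf)
    · obtain ⟨a, b, hab, ha, hb⟩ : ∃ a b : B, a * b = 0 ∧ a ≠ 0 ∧ b ≠ 0 := by
        by_contra! h
        have : NoZeroDivisors B := ⟨fun {a b} hab => or_iff_not_imp_left.2 fun ha => h a b hab ha⟩
        exact hdomB (NoZeroDivisors.to_isDomain B)
      refine projective_of_away_of_quotient hB a ?_ (hquot a ha)
      have := hquot b hb
      have hb0 : algebraMap B (Localization.Away a) b = 0 :=
        (IsLocalization.Away.algebraMap_isUnit a).mul_right_eq_zero.1 (by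
          rw [← map_mul, hab, map_zero])
      let ψ : B ⧸ Ideal.span {b} →+* Localization.Away a :=
        Ideal.Quotient.lift _ (algebraMap B (Localization.Away a)) fun x hx => by
          obtain ⟨d, rfl⟩ := Ideal.mem_span_singleton'.1 hx
          rw [map_mul, hb0, mul_zero]
      exact projective_of_ringHom ψ (RingHom.ext fun _ => rfl) (M := DB)

end Groth.Agent.FlatMorDevissage
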