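import Groth.Agent.FlatMorDevissage.PureLocal
import Groth.Agent.FlatMorDevissage.FlatTransfer
import Groth.Agent.FlatMorDevissage.ProjectiveNhd

/-!
# Purity tested on an etale pure cover
-/

set_option autoImplicit false
set_option backward.isDefEq.respectTransparency false

universe u

open TensorProduct Function IsLocalRing

namespace Groth.Agent.FlatMorDevissage

open Groth.Agent

attribute [local instance] Algebra.TensorProduct.rightAlgebra

set_option maxHeartbeats 1600000 in
/-- A flat algebra over which the module is projective and which meets the associated points of all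
fibres gives projectivity. -/
theorem projective_of_cover_all {A S : Type u} [CommRing A] [CommRing S]
    [Algebra A S] [Algebra.FiniteType A S] {N : Type u} [AddCommGroup N] [Module S N] [Module A N]
    [IsScalarTower A S N] [Module.Finite S N]
    {C : Type u} [CommRing C] [Algebra S C] [Algebra A C] [IsScalarTower A S C] [Module.Flat S C]
    [Module.Projective A (C ⊗[S] N)]
    (hcov : ∀ (t : Ideal A) [t.IsPrime] (P : Ideal S) [P.IsPrime], P.LiesOver t →
      FlatCA.fiberIdeal t P ∈ associatedPrimes (t.Fiber S) (FlatCA.fiberMod t S N) →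
      ∃ y : Ideal C, y.IsPrime ∧ y.comap (algebraMap S C) = P) :
    Module.Projective A N := by
  have hall : ∀ (Q : Ideal S) [Q.IsPrime], FlatCA.FlatAt A Q N := fun Q _ => by
    have : Q.LiesOver (Q.comap (algebraMap A S)) := ⟨rfl⟩
    refine flatAt_of_assFibre (Q.comap (algebraMap A S)) Q fun P _ _ hPt hass => ?_
    obtain ⟨y, hy, rfl⟩ := hcov _ P hPt hass
    exact (flatAt_tensor_iff y).1 (flatAt_of_flat (R := A) (C ⊗[S] N) y)
  have : Module.Flat A N := flat_of_forall_flatAt fun Q _ => hall Q
  have : IsLocalization.Away (1 : A) A :=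
    IsLocalization.away_of_isUnit_of_bijective _ isUnit_one bijective_id
  have : Module.Projective A (A ⊗[A] N) :=
    projective_away_of_cover (S' := C) (1 : A) (fun t _ P _ _ hPt hass => hcov t P hPt hass) A
  exact Module.Projective.of_equiv (TensorProduct.lid A N)

/-- A `B`-etale algebra under the base change of `B` to an etale algebra is etale over it. -/
theorem etale_of_cover {A A' B B' BA : Type u} [CommRing A] [CommRing A'] [CommRing B] [CommRing B']
    [CommRing BA] [Algebra A A'] [Algebra A B] [Algebra B BA] [Algebra A' BA] [Algebra A BA]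
    [IsScalarTower A B BA] [IsScalarTower A A' BA] [Algebra.IsPushout A B A' BA] [Algebra B B']
    [Algebra BA B'] [IsScalarTower B BA B'] [Algebra.Etale A A'] [Algebra.Etale B B'] :
    Algebra.Etale BA B' := by
  have : Algebra.Etale B BA := Algebra.Etale.of_equiv (Algebra.IsPushout.equiv A B A' BA)
  have : Algebra.FormallyEtale BA B' := Algebra.FormallyEtale.of_restrictScalars (R := B)
  exact ⟨inferInstance, Algebra.FinitePresentation.of_restrict_scalars_finitePresentation B BA B'⟩

section Cover

variable {A B : Type u} [CommRing A] [CommRing B] [Algebra A B] [Algebra.FiniteType A B]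
  {N : Type u} [AddCommGroup N] [Module B N] [Module A N] [IsScalarTower A B N] [Module.Finite B N]
  (p : Ideal A) [p.IsPrime]
  (hflat : ∀ (q : Ideal B) [q.IsPrime], q.LiesOver p → FlatCA.FlatAt A q N)
  {A' : Type u} [CommRing A'] [Algebra A A'] (p' : Ideal A') [p'.IsPrime]
  (het : FlatCA.IsEtaleNhd A A' p p')
  {B' : Type u} [CommRing B'] [Algebra B B'] [Algebra A' B'] [Algebra.Etale B B']
  {N' : Type u} [AddCommGroup N'] [Module B' N'] [Module B N'] [IsScalarTower B B' N'] [Module A' N']
  [IsScalarTower A' B' N'] {f : N →ₗ[B] N'} (hf : IsBaseChange B' f)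
  {BA NA : Type u} [CommRing BA] [Algebra B BA] [Algebra A' BA] [Algebra A BA] [IsScalarTower A B BA]
  [IsScalarTower A A' BA] [Algebra.IsPushout A B A' BA] [Algebra BA B'] [IsScalarTower B BA B']
  [IsScalarTower A' BA B'] [AddCommGroup NA] [Module BA NA] [Module B NA] [IsScalarTower B BA NA]
  [Module A' NA] [IsScalarTower A' BA NA] (fA : N →ₗ[B] NA) (hfA : IsBaseChange BA fA)

omit [Algebra.FiniteType A B] [Algebra.Etale B B'] [Algebra A' B'] [Algebra BA B'] [IsScalarTower B BA B']
  [IsScalarTower A' BA B'] in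
include hflat hfA in
theorem flatAt_of_fibre_baseChange (hp' : p'.LiesOver p) (W : Ideal BA) [W.IsPrime]
    (hW : W.LiesOver p') : FlatCA.FlatAt A' W NA := by
  refine FlatMor12.FlatAtBC.flatAt_baseChange (R := A) fA hfA W (hflat _ ⟨?_⟩)
  rw [Ideal.under_def, Ideal.comap_comap, ← IsScalarTower.algebraMap_eq,
    IsScalarTower.algebraMap_eq A A' BA, ← Ideal.comap_comap]
  exact hp'.over.trans (congrArg (Ideal.comap (algebraMap A A')) hW.over)

set_option maxHeartbeats 1600000 in
include hflat het hf hfA in
/-- The "if" direction: the etale pure cover meets all associated points of the nearby fibres. -/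
theorem isPureAlong_of_cover [Algebra.FiniteType A' B'] (hpure : FlatCA.IsPureAlong A' B' N' p')
    (hcov : ∀ (t' : Ideal A') [t'.IsPrime], t' ≤ p' → ∀ (Q : Ideal BA) [Q.IsPrime], Q.LiesOver t' →
      FlatCA.fiberIdeal t' Q ∈ associatedPrimes (t'.Fiber BA) (FlatCA.fiberMod t' BA NA) →
      ∃ Q' : Ideal B', Q'.IsPrime ∧ Q'.comap (algebraMap BA B') = Q) :
    FlatCA.IsPureAlong A B N p := by
  have := het.1
  have := etale_of_cover (A := A) (A' := A') (B := B) (B' := B') (BA := BA)
  have : Module.Flat BA B' := inferInstance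
  let _ : Module BA N' := Module.compHom N' (algebraMap BA B')
  have : IsScalarTower BA B' N' := .of_algebraMap_smul fun _ _ => rfl
  have : IsScalarTower B BA N' := .of_algebraMap_smul fun b y => by
    show algebraMap BA B' (algebraMap B BA b) • y = b • y
    rw [← IsScalarTower.algebraMap_apply B BA B', algebraMap_smul]
  have hf' : IsBaseChange B' (hfA.lift f) := hfA.of_comp (by rw [hfA.lift_comp]; exact hf)
  have : Algebra.IsPushout A A' B BA := Algebra.IsPushout.symm ‹_›
  have : Algebra.FiniteType A' BA :=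
    Algebra.FiniteType.equiv (Algebra.FiniteType.baseChange (A := B) A') (Algebra.IsPushout.equiv A A' B BA)
  have : Module.Finite BA NA := Module.Finite.equiv hfA.equiv
  have : Module.Finite B' N' := Module.Finite.equiv hf.equiv
  have hflat' : ∀ (q' : Ideal B') [q'.IsPrime], q'.LiesOver p' → FlatCA.FlatAt A' q' N' := fun q' _ hq' => by
    refine (flatAt_baseChange_iff hf' q').2 (flatAt_of_fibre_baseChange p hflat p' fA hfA het.2.1 _ ⟨?_⟩)
    rw [Ideal.under_def, Ideal.comap_comap, ← IsScalarTower.algebraMap_eq]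
    exact hq'.over
  obtain ⟨R'', _, _, p'', _, hR'', hproj⟩ := exists_local_projective_of_pure N' p' hflat' hpure
  obtain ⟨hmp, -⟩ := bijective_residueField_localRing hR''
  let L := Localization.AtPrime p''
  obtain ⟨BL, NL, _, _, _, _, _, _, _, _, _, _, _, _, _, g, hg⟩ := exists_model A' L BA NA
  have : Algebra.IsPushout A' L BA BL := Algebra.IsPushout.symm ‹_›
  have : Algebra.FiniteType L BL :=
    Algebra.FiniteType.equiv (Algebra.FiniteType.baseChange (A := BA) L) (Algebra.IsPushout.equiv A' L BA BL)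
  have : Module.Finite BL NL := Module.Finite.equiv hg.equiv
  let C := BL ⊗[BA] B'
  let e : C ⊗[BL] NL ≃ₗ[L] L ⊗[A'] N' :=
    (((((AlgebraTensorModule.congr (LinearEquiv.refl C C) hg.equiv.symm).trans
        (AlgebraTensorModule.cancelBaseChange BA BL C C NA)).restrictScalars BL).trans
      (AlgebraTensorModule.assoc BA BA BL BL B' NA)).restrictScalars L |>.trans
      (Algebra.IsPushout.cancelBaseChange A' L BA BL (B' ⊗[BA] NA))).trans
      (AlgebraTensorModule.congr (LinearEquiv.refl L L) (hf'.equiv.restrictScalars A'))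
  have : Module.Projective L (C ⊗[BL] NL) := Module.Projective.of_equiv e.symm
  have : Module.Projective L NL := by
    refine projective_of_cover_all (S := BL) (N := NL) (C := C) fun t _ P _ hPt hass => ?_
    have : t.LiesOver (t.comap (algebraMap A' L)) := ⟨rfl⟩
    obtain ⟨hQ, hass'⟩ := assFibre_comap (S₂ := BL) g hg (t.comap (algebraMap A' L)) t P hass
    obtain ⟨Q', hQ', hQ'Q⟩ := hcov _ ((Ideal.comap_mono (IsLocalRing.le_maximalIdeal ‹t.IsPrime›.ne_top)).trans
      hmp.over.symm.le) _ hQ hass'
    obtain ⟨y, hy, hyP, -⟩ := FlatMor12.FlatAtDescent.exists_prime_over (R := BA) (S := B') P Q' hQ'Q.symm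
    exact ⟨y, hy, hyP⟩
  have := het.2.1
  let eA : A' ⊗[A] N ≃ₗ[A'] NA :=
    (Algebra.IsPushout.cancelBaseChange A A' B BA N).symm.trans (hfA.equiv.restrictScalars A')
  let eL : L ⊗[A'] NA ≃ₗ[L] NL :=
    (Algebra.IsPushout.cancelBaseChange A' L BA BL NA).symm.trans (hg.equiv.restrictScalars L)
  let _ : Algebra A L := ((algebraMap A' L).comp (algebraMap A A')).toAlgebra
  have : IsScalarTower A A' L := .of_algebraMap_eq' rfl
  let eN : NL ≃ₗ[L] L ⊗[A] N :=
    (eL.symm.trans (AlgebraTensorModule.congr (LinearEquiv.refl L L) eA.symm)).trans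
      (AlgebraTensorModule.cancelBaseChange A A' L L N)
  have : Module.Projective L (L ⊗[A] N) := Module.Projective.of_equiv eN
  have := het.1
  have := hR''.1
  have : Module.Flat A' L := Module.Flat.trans A' R'' L
  have : Module.Flat A L := Module.Flat.trans A A' L
  have hLp : (IsLocalRing.maximalIdeal L).comap (algebraMap A L) = p := by
    rw [IsScalarTower.algebraMap_eq A A' L, ← Ideal.comap_comap]
    exact (congrArg (Ideal.comap (algebraMap A A')) hmp.over.symm).trans het.2.1.over.symm
  have hu := isUnivPureAlong_of_local (B := B) (L := L) (N := N) p hLp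
  intro A₂ B₂ N₂ _ _ _ _ _ _ _ _ _ _ _ _ _ _ g₂ t₂' t₂ _ _ P₂ _ _
  exact hu A₂ B₂ N₂ g₂ t₂' t₂ P₂

set_option maxHeartbeats 1600000 in
include hflat het hfA in
/-- The "only if" direction: pure modules have the associated points of nearby fibres in the image. -/
theorem cover_of_isPureAlong (hpureN : FlatCA.IsPureAlong A B N p)
    (hcov : ∀ (q : Ideal B) [q.IsPrime], q.LiesOver p →
      FlatCA.fiberIdeal p q ∈ associatedPrimes (p.Fiber B) (FlatCA.fiberMod p B N) →
      ∃ q' : Ideal B', q'.IsPrime ∧ q'.comap (algebraMap B B') = q ∧ q'.comap (algebraMap A' B') = p')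
    (t' : Ideal A') [t'.IsPrime] (htt : t' ≤ p') (Q : Ideal BA) [Q.IsPrime] (hQt : Q.LiesOver t')
    (hass : FlatCA.fiberIdeal t' Q ∈ associatedPrimes (t'.Fiber BA) (FlatCA.fiberMod t' BA NA)) :
    ∃ Q' : Ideal B', Q'.IsPrime ∧ Q'.comap (algebraMap BA B') = Q := by
  have := het.1
  have := etale_of_cover (A := A) (A' := A') (B := B) (B' := B') (BA := BA)
  have : Module.Flat BA B' := inferInstance
  have : Algebra.IsPushout A A' B BA := Algebra.IsPushout.symm ‹_›
  have : Algebra.FiniteType A' BA :=
    Algebra.FiniteType.equiv (Algebra.FiniteType.baseChange (A := B) A') (Algebra.IsPushout.equiv A A' B BA)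
  have : Module.Finite BA NA := Module.Finite.equiv hfA.equiv
  obtain ⟨W, hW, hQW, hWp⟩ : ∃ W : Ideal BA, W.IsPrime ∧ Q ≤ W ∧ W.LiesOver p' := by
    by_contra! hno
    exact hpureN A' BA NA fA t' p' Q het
      ⟨inferInstance, hfA, htt, het.2.1, hQt, hass, fun W hW hQW => hno W hW hQW⟩
  have := het.2.1
  obtain ⟨Q₁, _, hQQ₁, -, hQ₁p, hass₁⟩ := exists_assFibre_specialization p' t' Q hass ⟨W, hW⟩
    hWp.over.symm hQW (flatAt_of_fibre_baseChange p hflat p' fA hfA het.2.1 W hWp)
  obtain ⟨hqp, hassq⟩ := assFibre_comap (S₂ := BA) fA hfA p p' Q₁ hass₁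
  obtain ⟨q', _, hq'B, hq'A⟩ := hcov _ hqp hassq
  have : (q'.comap (algebraMap BA B')).LiesOver p' := ⟨by
    rw [Ideal.under_def, Ideal.comap_comap, ← IsScalarTower.algebraMap_eq]
    exact hq'A.symm⟩
  have heq : q'.comap (algebraMap BA B') = Q₁ := eq_of_isPushout (S := B) p p' het.2.2 _ _ (by
    rw [Ideal.comap_comap, ← IsScalarTower.algebraMap_eq B BA B']
    exact hq'B)
  have : q'.LiesOver Q₁ := ⟨heq.symm⟩
  obtain ⟨P', -, hP', hP'over⟩ := Ideal.exists_ideal_le_liesOver_of_le q' hQQ₁
  exact ⟨P', hP', hP'over.over.symm⟩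

end Cover

end Groth.Agent.FlatMorDevissage
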