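import Groth.Agent.FlatMorDevissage.PureLocal

/-!
# Impurities lift along a base change flat at the point
-/

set_option autoImplicit false
set_option backward.isDefEq.respectTransparency false

universe u

open TensorProduct

namespace Groth.Agent.FlatMorDevissage

open Groth.Agent

attribute [local instance] Algebra.TensorProduct.rightAlgebra

/-- Over a flat local algebra a specialisation lifts to the tensor product of any two algebras. -/
theorem exists_primes_over {A A' Aa : Type u} [CommRing A] [CommRing A'] [CommRing Aa] [Algebra A A']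
    [Algebra A Aa] (p : Ideal A) [p.IsPrime] (p' : Ideal A') [p'.IsPrime] [p'.LiesOver p]
    [Module.Flat A (Localization.AtPrime p')] (t' t : Ideal Aa) [t'.IsPrime] [t.IsPrime]
    [t.LiesOver p] (htt : t' ≤ t) :
    ∃ (t₂' t₂ : Ideal (A' ⊗[A] Aa)) (_ : t₂'.IsPrime) (_ : t₂.IsPrime), t₂' ≤ t₂ ∧
      t₂.LiesOver p' ∧ t₂.LiesOver t ∧ t₂'.LiesOver t' := by
  let L := Localization.AtPrime p'
  obtain ⟨Q, hQ, hQt, hQm⟩ := FlatMor12.FlatAtDescent.exists_prime_over (R := A) (L := Aa) (S := L) t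
    (IsLocalRing.maximalIdeal L) (by
      rw [IsScalarTower.algebraMap_eq A A' L, ← Ideal.comap_comap, ← Ideal.under_def A',
        IsLocalization.AtPrime.under_maximalIdeal L p']
      exact ((‹t.LiesOver p›).over.symm.trans (‹p'.LiesOver p›).over))
  let ψ : A' ⊗[A] Aa →ₐ[A] Aa ⊗[A] L := Algebra.TensorProduct.lift
    ((Algebra.TensorProduct.includeRight : L →ₐ[A] Aa ⊗[A] L).comp (IsScalarTower.toAlgHom A A' L))
    (Algebra.TensorProduct.includeLeft : Aa →ₐ[A] Aa ⊗[A] L) (fun _ _ => Commute.all _ _)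
  have hA' : ∀ a : A', ψ (algebraMap A' (A' ⊗[A] Aa) a) = 1 ⊗ₜ algebraMap A' L a := fun a => by
    show ψ (a ⊗ₜ[A] (1 : Aa)) = _
    simp [ψ]
  have hAa : ∀ a : Aa, ψ (algebraMap Aa (A' ⊗[A] Aa) a) = algebraMap Aa (Aa ⊗[A] L) a := fun a => by
    show ψ ((1 : A') ⊗ₜ[A] a) = a ⊗ₜ[A] (1 : L)
    simp [ψ]
  have hQt' : Q.LiesOver t := ⟨hQt.symm⟩
  obtain ⟨Q', hle, hQ', hQ't⟩ := Q.exists_ideal_le_liesOver_of_le (p := t') (q := t) htt
  refine ⟨Q'.comap ψ, Q.comap ψ, inferInstance, inferInstance, Ideal.comap_mono hle, ⟨?_⟩, ⟨?_⟩, ⟨?_⟩⟩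
  · ext a
    rw [Ideal.under_def, Ideal.mem_comap, Ideal.mem_comap, hA']
    exact (Iff.of_eq (congrArg (a ∈ ·) (IsLocalization.AtPrime.under_maximalIdeal L p').symm)).trans
      (Iff.of_eq (congrArg (algebraMap A' L a ∈ ·) hQm.symm))
  · ext a
    rw [Ideal.under_def, Ideal.mem_comap, Ideal.mem_comap, hAa, hQt'.over]
    rfl
  · ext a
    rw [Ideal.under_def, Ideal.mem_comap, Ideal.mem_comap, hAa, hQ't.over]
    rfl

/-- An elementary étale neighbourhood base changes to one. -/
theorem isEtaleNhd_tensor {A A' Aa : Type u} [CommRing A] [CommRing A'] [CommRing Aa] [Algebra A A']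
    [Algebra A Aa] (p : Ideal A) [p.IsPrime] (p' : Ideal A') [p'.IsPrime] [p'.LiesOver p]
    (t : Ideal Aa) [t.IsPrime] (ht : FlatCA.IsEtaleNhd A Aa p t) (t₂ : Ideal (A' ⊗[A] Aa))
    [t₂.IsPrime] [h₁ : t₂.LiesOver p'] [h₂ : t₂.LiesOver t] :
    FlatCA.IsEtaleNhd A' (A' ⊗[A] Aa) p' t₂ := by
  obtain ⟨het, hto, hbij⟩ := ht
  refine ⟨inferInstance, h₁, RingHom.injective _, ?_⟩
  let g := (Ideal.ResidueField.mapₐ p' t₂ (Algebra.ofId A' (A' ⊗[A] Aa)) h₁.over).toRingHom
  let κ := t₂.ResidueField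
  have hg : ∀ a : A', g (algebraMap A' p'.ResidueField a) = algebraMap (A' ⊗[A] Aa) κ (algebraMap A' (A' ⊗[A] Aa) a) :=
    fun a => Ideal.ResidueField.map_algebraMap p' t₂ (algebraMap A' (A' ⊗[A] Aa)) h₁.over a
  have hall : ∀ x : A' ⊗[A] Aa, algebraMap (A' ⊗[A] Aa) κ x ∈ g.range := fun x => by
    induction x using TensorProduct.induction_on with
    | zero => rw [map_zero]; exact zero_mem _
    | add x y hx hy => rw [map_add]; exact add_mem hx hy
    | tmul a b =>
      rw [show a ⊗ₜ[A] b = algebraMap A' (A' ⊗[A] Aa) a * algebraMap Aa (A' ⊗[A] Aa) b by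
        show a ⊗ₜ[A] b = (a ⊗ₜ[A] (1 : Aa)) * ((1 : A') ⊗ₜ[A] b)
        simp, map_mul]
      refine mul_mem ⟨_, hg a⟩ ?_
      obtain ⟨c, hc⟩ := hbij.2 (algebraMap Aa t.ResidueField b)
      let m : p.ResidueField →+* p'.ResidueField := Ideal.ResidueField.map p p' _ (‹p'.LiesOver p›).over
      let mt : t.ResidueField →+* κ := Ideal.ResidueField.map t t₂ _ h₂.over
      have e : g.comp m = mt.comp (Ideal.ResidueField.mapₐ p t (Algebra.ofId A Aa) hto.over).toRingHom := by
        refine Ideal.ResidueField.ringHom_ext (RingHom.ext fun r => ?_)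
        show g (m (algebraMap A p.ResidueField r)) =
          mt (Ideal.ResidueField.mapₐ p t (Algebra.ofId A Aa) hto.over (algebraMap A p.ResidueField r))
        rw [AlgHom.commutes, Ideal.ResidueField.map_algebraMap, hg,
          IsScalarTower.algebraMap_apply A Aa t.ResidueField, Ideal.ResidueField.map_algebraMap]
        congr 1
        show ((algebraMap A A' r) ⊗ₜ[A] (1 : Aa)) = (1 : A') ⊗ₜ[A] algebraMap A Aa r
        rw [Algebra.algebraMap_eq_smul_one, Algebra.algebraMap_eq_smul_one, TensorProduct.smul_tmul]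
      refine ⟨m c, (congr($e c)).trans ?_⟩
      show mt (Ideal.ResidueField.mapₐ p t (Algebra.ofId A Aa) hto.over c) = _
      rw [hc, Ideal.ResidueField.map_algebraMap]
  intro z
  obtain ⟨x, y, hy, rfl⟩ := IsFractionRing.div_surjective ((A' ⊗[A] Aa) ⧸ t₂) z
  obtain ⟨x, rfl⟩ := Ideal.Quotient.mk_surjective x
  obtain ⟨y, rfl⟩ := Ideal.Quotient.mk_surjective y
  obtain ⟨cx, hcx⟩ := hall x
  obtain ⟨cy, hcy⟩ := hall y
  refine ⟨cx / cy, ?_⟩
  show g (cx / cy) = _
  rw [map_div₀, hcx, hcy]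
  rfl

set_option maxHeartbeats 800000 in
/-- An impurity over the base gives one over a base change flat at the point. -/
theorem exists_impurity_baseChange {A B : Type u} [CommRing A] [CommRing B] [Algebra A B]
    [Algebra.FiniteType A B] (N : Type u) [AddCommGroup N] [Module B N] (p : Ideal A) [p.IsPrime]
    (A' B' N' : Type u) [CommRing A'] [CommRing B'] [Algebra A A'] [Algebra B B'] [Algebra A' B']
    [Algebra A B'] [IsScalarTower A B B'] [IsScalarTower A A' B'] [Algebra.IsPushout A B A' B']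
    [AddCommGroup N'] [Module B' N'] [Module B N'] [IsScalarTower B B' N'] (f : N →ₗ[B] N')
    (hf : IsBaseChange B' f) (p' : Ideal A') [p'.IsPrime] [p'.LiesOver p]
    [Module.Flat A (Localization.AtPrime p')]
    (Q : ∀ (C : Type u) [CommRing C] [Algebra A C], Ideal C → Prop)
    (Q' : ∀ (C : Type u) [CommRing C] [Algebra A' C], Ideal C → Prop)
    (hQ : ∀ (Aa : Type u) [CommRing Aa] [Algebra A Aa] (t : Ideal Aa) [t.IsPrime]
      (t₂ : Ideal (A' ⊗[A] Aa)) [t₂.IsPrime], t.LiesOver p → t₂.LiesOver p' → t₂.LiesOver t →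
      Q Aa t → Q' (A' ⊗[A] Aa) t₂)
    (h : FlatCA.HasImpurity A B N p Q) : FlatCA.HasImpurity A' B' N' p' Q' := by
  obtain ⟨Aa, Ba, Na, _, _, _, _, _, _, _, _, _, _, _, _, _, _, fa, t', t, _, _, P, _,
    ⟨hpo, hfa, htt, htp, hover, hass, hno⟩, hQt⟩ := h
  obtain ⟨t₂', t₂, _, _, hle, h1, h2, h3⟩ := exists_primes_over p p' t' t htt
  let A'a := A' ⊗[A] Aa
  have : Algebra.IsPushout A Aa B Ba := hpo.symm
  have : Algebra.FiniteType Aa Ba :=
    Algebra.FiniteType.equiv (Algebra.FiniteType.baseChange (A := B) Aa)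
      (Algebra.IsPushout.equiv A Aa B Ba)
  obtain ⟨B'a, N'a, _, _, _, _, _, _, hpo2, _, _, _, _, _, _, g, hg⟩ := exists_model Aa A'a Ba Na
  have : Algebra.IsPushout Aa A'a Ba B'a := hpo2.symm
  have : Algebra.FiniteType A'a B'a :=
    Algebra.FiniteType.equiv (Algebra.FiniteType.baseChange (A := Ba) A'a)
      (Algebra.IsPushout.equiv Aa A'a Ba B'a)
  letI : Algebra B B'a := ((algebraMap Ba B'a).comp (algebraMap B Ba)).toAlgebra
  have : IsScalarTower B Ba B'a := .of_algebraMap_eq' rfl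
  letI : Algebra A B'a := ((algebraMap A'a B'a).comp (algebraMap A A'a)).toAlgebra
  have : IsScalarTower A A'a B'a := .of_algebraMap_eq' rfl
  have : IsScalarTower A B B'a := .of_algebraMap_eq fun a => by
    show algebraMap A'a B'a (algebraMap A A'a a) = algebraMap Ba B'a (algebraMap B Ba (algebraMap A B a))
    rw [← IsScalarTower.algebraMap_apply A B Ba, IsScalarTower.algebraMap_apply A Aa Ba,
      ← IsScalarTower.algebraMap_apply Aa Ba B'a, IsScalarTower.algebraMap_apply Aa A'a B'a,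
      ← IsScalarTower.algebraMap_apply A Aa A'a]
  have : IsScalarTower A Ba B'a := .of_algebraMap_eq fun a => by
    rw [IsScalarTower.algebraMap_apply A B B'a, IsScalarTower.algebraMap_apply A B Ba]
    rfl
  let u : A' →ₐ[A] B'a := (IsScalarTower.toAlgHom A A'a B'a).comp
    (IsScalarTower.toAlgHom A A' A'a)
  let d : B' →ₐ[A] B'a := Algebra.pushoutDesc (R := A) (S := B) (R' := A') B'
    (IsScalarTower.toAlgHom A B B'a) u (fun _ _ => mul_comm _ _)
  letI : Algebra B' B'a := d.toRingHom.toAlgebra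
  have : IsScalarTower B B' B'a := .of_algebraMap_eq fun b =>
    (Algebra.pushoutDesc_left B' (IsScalarTower.toAlgHom A B B'a) u (fun _ _ => mul_comm _ _) b).symm
  letI : Algebra A' B'a := ((algebraMap A'a B'a).comp (algebraMap A' A'a)).toAlgebra
  have : IsScalarTower A' A'a B'a := .of_algebraMap_eq' rfl
  have : IsScalarTower A' B' B'a := .of_algebraMap_eq fun a =>
    (Algebra.pushoutDesc_right B' (IsScalarTower.toAlgHom A B B'a) u (fun _ _ => mul_comm _ _) a).symm
  have : IsScalarTower A B' B'a := .of_algebraMap_eq fun a => (d.commutes a).symm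
  have : Algebra.IsPushout A A'a B B'a :=
    (Algebra.IsPushout.comp_iff A Aa B Ba).2 ‹Algebra.IsPushout Aa A'a Ba B'a›
  have : Algebra.IsPushout A A' B B' := Algebra.IsPushout.symm ‹Algebra.IsPushout A B A' B'›
  have hpo3 : Algebra.IsPushout A' A'a B' B'a :=
    (Algebra.IsPushout.comp_iff A A' B B').1 ‹Algebra.IsPushout A A'a B B'a›
  letI : Module B N'a := Module.compHom N'a (algebraMap B Ba)
  have : IsScalarTower B Ba N'a := .of_algebraMap_smul fun _ _ => rfl
  have : IsScalarTower B B'a N'a := .of_algebraMap_smul fun b m => by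
    show algebraMap Ba B'a (algebraMap B Ba b) • m = algebraMap B Ba b • m
    rw [algebraMap_smul]
  letI : Module B' N'a := Module.compHom N'a (algebraMap B' B'a)
  have : IsScalarTower B' B'a N'a := .of_algebraMap_smul fun _ _ => rfl
  have : IsScalarTower B B' N'a := .of_algebraMap_smul fun b m => by
    show algebraMap B' B'a (algebraMap B B' b) • m = b • m
    rw [← IsScalarTower.algebraMap_apply B B' B'a, algebraMap_smul]
  let h0 : N →ₗ[B] N'a := (g.restrictScalars B) ∘ₗ fa
  have hh0 : IsBaseChange B'a h0 := IsBaseChange.comp hfa hg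
  have hl : ((hf.lift h0).restrictScalars B) ∘ₗ f = h0 := hf.lift_comp h0
  have hF : IsBaseChange B'a (hf.lift h0) := IsBaseChange.of_comp hf (hl.symm ▸ hh0)
  obtain ⟨P₂, hP₂, hP₂t, hP₂P, hass₂⟩ := exists_assFibre_over g hg t' t₂' P hass
  refine ⟨A'a, B'a, N'a, inferInstance, inferInstance, inferInstance, inferInstance, inferInstance,
    inferInstance, inferInstance, inferInstance, inferInstance, inferInstance, inferInstance,
    inferInstance, inferInstance, inferInstance, hf.lift h0, t₂', t₂, inferInstance, inferInstance, P₂, hP₂,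
    ⟨hpo3.symm, hF, hle, h1, hP₂t, hass₂, fun P₃ _ hP₃ hP₃t => ?_⟩, hQ Aa t t₂ htp h1 h2 hQt⟩
  refine hno (P₃.comap (algebraMap Ba B'a)) (hP₂P ▸ Ideal.comap_mono hP₃) ⟨?_⟩
  rw [Ideal.under_def, Ideal.comap_comap, ← IsScalarTower.algebraMap_eq,
    IsScalarTower.algebraMap_eq Aa A'a B'a, ← Ideal.comap_comap]
  exact h2.over.trans (congrArg (Ideal.comap (algebraMap Aa A'a)) hP₃t.over)

end Groth.Agent.FlatMorDevissage
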