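import Groth.Agent.FlatMorDevissage.ProjectivePure
import Groth.Agent.FlatMorDevissage.AssBase
import Groth.Agent.FlatMorDevissage.LocalPure
import Groth.Agent.FlatMor12.FlatAtBC
import Groth.Agent.FlatMor12.FlatAtDescent

/-!
# Purity from projectivity over a flat local algebra
-/

set_option autoImplicit false
set_option backward.isDefEq.respectTransparency false

universe u

open TensorProduct Function IsLocalRing

namespace Groth.Agent.FlatMorDevissage

open Groth.Agent

attribute [local instance] Algebra.TensorProduct.rightAlgebra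

set_option maxHeartbeats 800000 in
/-- If the module becomes projective over a flat local algebra centred at `t`, associated points of
the fibres over `t' ≤ t` specialize to the fibre over `t`. -/
theorem exists_specialization_of_local {A B N L : Type u} [CommRing A] [CommRing B] [Algebra A B]
    [Algebra.FiniteType A B] [AddCommGroup N] [Module B N] [Module A N] [IsScalarTower A B N]
    [CommRing L] [Algebra A L] [IsLocalRing L] [Module.Flat A L] [Module.Projective L (L ⊗[A] N)]
    (t' t : Ideal A) [t'.IsPrime] [t.IsPrime] (hLt : (IsLocalRing.maximalIdeal L).comap (algebraMap A L) = t)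
    (htt : t' ≤ t) (P : Ideal B) [P.IsPrime] [P.LiesOver t']
    (hass : FlatCA.fiberIdeal t' P ∈ associatedPrimes (t'.Fiber B) (FlatCA.fiberMod t' B N)) :
    ∃ Q : Ideal B, Q.IsPrime ∧ P ≤ Q ∧ Q.LiesOver t := by
  by_contra! hno
  obtain ⟨a, haP, s, hs, has⟩ : ∃ a ∈ P, ∃ s ∉ t, a - algebraMap A B s ∈ t.map (algebraMap A B) := by
    by_contra! h
    have hdisj : Disjoint ((P ⊔ t.map (algebraMap A B) : Ideal B) : Set B)
        (Algebra.algebraMapSubmonoid B t.primeCompl : Set B) := Set.disjoint_left.2 fun x hx hx' => by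
      obtain ⟨a, ha, b, hb, rfl⟩ := Submodule.mem_sup.1 hx
      obtain ⟨s, hs, hsx⟩ := hx'
      refine h a ha s hs ?_
      rw [hsx, sub_add_cancel_left]
      exact neg_mem hb
    obtain ⟨Q, hQ, hle, hQd⟩ := Ideal.exists_le_prime_disjoint _ _ hdisj
    refine hno Q hQ (le_sup_left.trans hle) ⟨le_antisymm
      (Ideal.map_le_iff_le_comap.1 (le_sup_right.trans hle)) fun x hx => ?_⟩
    by_contra hxt
    exact Set.disjoint_left.1 hQd hx ⟨x, hxt, rfl⟩
  let m := IsLocalRing.maximalIdeal L
  let u : N →ₗ[A] N := (LinearMap.lsmul B N a).restrictScalars A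
  let v : L ⊗[A] N →ₗ[L] L ⊗[A] N := u.baseChange L
  have hsu : IsUnit (algebraMap A L s) := by
    by_contra h
    exact hs (hLt ▸ ((IsLocalRing.mem_maximalIdeal _).2 h : s ∈ Ideal.comap (algebraMap A L) (IsLocalRing.maximalIdeal L)))
  have hv : ∀ (m' : Ideal L) [m'.IsMaximal], Injective (v.lTensor (L ⧸ m')) := fun m' hm' => by
    obtain rfl : m' = m := IsLocalRing.eq_maximalIdeal hm'
    have hzero : ∀ (k : L ⧸ m) (x : L ⊗[A] N), x ∈ m • (⊤ : Submodule L (L ⊗[A] N)) → k ⊗ₜ[L] x = 0 :=
      fun k x hx => by
        refine Submodule.smul_induction_on hx (fun c hc y _ => ?_) (fun a b ha hb => by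
          rw [TensorProduct.tmul_add, ha, hb, add_zero])
        rw [← TensorProduct.smul_tmul, Algebra.smul_def, Ideal.Quotient.algebraMap_eq,
          Ideal.Quotient.eq_zero_iff_mem.2 hc, zero_mul, TensorProduct.zero_tmul]
    have hkey : ∀ y : (L ⧸ m) ⊗[L] (L ⊗[A] N), v.lTensor (L ⧸ m) y = algebraMap A L s • y := fun y => by
      induction y using TensorProduct.induction_on with
      | zero => simp
      | add x y hx hy => rw [map_add, smul_add, hx, hy]
      | tmul k x =>
        induction x using TensorProduct.induction_on with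
        | zero => simp
        | add x y hx hy => simp only [TensorProduct.tmul_add, map_add, smul_add, hx, hy]
        | tmul l n =>
          rw [LinearMap.lTensor_tmul, ← TensorProduct.tmul_smul, ← sub_eq_zero, ← TensorProduct.tmul_sub,
            LinearMap.baseChange_tmul, TensorProduct.smul_tmul', algebraMap_smul, ← TensorProduct.smul_tmul',
            ← TensorProduct.tmul_smul, ← TensorProduct.tmul_sub]
          apply hzero
          have h1 : u n - s • n ∈ t • (⊤ : Submodule A N) := by
            rw [smul_top_restrict (B := B)]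
            show a • n - s • n ∈ _
            rw [← algebraMap_smul B s n, ← sub_smul]
            exact Submodule.smul_mem_smul has trivial
          refine Submodule.smul_induction_on h1 (fun c hc w _ => ?_) (fun x y hx hy => by
            rw [TensorProduct.tmul_add]; exact add_mem hx hy)
          rw [TensorProduct.tmul_smul, ← algebraMap_smul L c]
          refine Submodule.smul_mem_smul ?_ trivial
          exact (hLt.ge hc : c ∈ Ideal.comap (algebraMap A L) (IsLocalRing.maximalIdeal L))
    intro x y hxy
    rw [hkey, hkey] at hxy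
    exact hsu.smul_left_cancel.1 hxy
  have hrefl : Reflects v := reflects_of_content v
    (fun x => exists_content_of_projective (R := L) x) hv
  have : IsNoetherianRing (t'.Fiber B) := Algebra.FiniteType.isNoetherianRing t'.ResidueField _
  obtain ⟨-, w, hw⟩ := isAssociatedPrime_iff.1 hass
  obtain ⟨n, hn⟩ := CAlgH3.FiberMod.exists_annEl_eq_toFiberMod (S := B) t' w
  have hann : CAlgH3.annEl B (FlatCA.toFiberMod t' B N n) = P := by
    rw [hn, CAlgH3.FiberMod.annEl_fiber, ← CAlgH3.colon_bot_singleton, ← hw, comap_fiberIdeal]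
  have han : FlatCA.toFiberMod t' B N (a • n) = 0 := by
    rw [map_smul]
    exact CAlgH3.mem_annEl.1 (hann.ge haP)
  obtain ⟨r, hr, hran⟩ := (CAlgH3.FiberMod.toFiberMod_eq_zero_iff N t' _).1 han
  rw [smul_comm, algebraMap_smul, ← smul_top_restrict] at hran
  let j : N →ₗ[A] L ⊗[A] N := TensorProduct.mk A L N 1
  have hvj : v (j (r • n)) ∈ (t'.map (algebraMap A L)) • (⊤ : Submodule L (L ⊗[A] N)) := by
    rw [← smul_top_restrict]
    exact map_mem_smul_top j t' hran
  have h2 := hrefl _ _ hvj
  rw [← smul_top_restrict] at h2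
  let W := N ⧸ (t' • (⊤ : Submodule A N))
  have hz : (1 : L) ⊗ₜ[A] (Submodule.Quotient.mk (r • n) : W) = 0 := by
    refine Submodule.smul_induction_on (p := fun x => (Submodule.mkQ (t' • (⊤ : Submodule A N))).lTensor L x = 0)
      h2 (fun c hc y hy0 => ?_) (fun x y hx hy => by rw [map_add, hx, hy, add_zero])
    clear hy0
    induction y using TensorProduct.induction_on with
    | zero => simp
    | add x y hx hy => rw [smul_add, map_add, hx, hy, add_zero]
    | tmul l k =>
      rw [← TensorProduct.tmul_smul, LinearMap.lTensor_tmul, Submodule.mkQ_apply,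
        (Submodule.Quotient.mk_eq_zero _).2 (Submodule.smul_mem_smul hc Submodule.mem_top), TensorProduct.tmul_zero]
  obtain ⟨c, hc, hct⟩ := SetLike.not_le_iff_exists.1
    (not_annEl_le_comap (Submodule.Quotient.mk (r • n) : W) hz (IsLocalRing.maximalIdeal L))
  rw [hLt] at hct
  have hc0 : c • (r • n) ∈ t' • (⊤ : Submodule A N) :=
    (Submodule.Quotient.mk_eq_zero _).1 (CAlgH3.mem_annEl.1 hc)
  have h3 : FlatCA.toFiberMod t' B N n = 0 :=
    (CAlgH3.FiberMod.toFiberMod_eq_zero_iff N t' n).2 ⟨c * r,
      fun h => ((Ideal.IsPrime.mem_or_mem ‹t'.IsPrime› h).elim (fun h => hct (htt h)) hr), by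
        rw [algebraMap_smul, ← smul_top_restrict, mul_smul]
        exact hc0⟩
  exact (‹P.IsPrime›).ne_top (hann.symm.trans ((CAlgH3.annEl_eq_top (R := B)).2 h3))

set_option maxHeartbeats 1600000 in
/-- **Projectivity over a flat local algebra centred at `p` gives universal purity along `p`.** -/
theorem isUnivPureAlong_of_local {A B N L : Type u} [CommRing A] [CommRing B] [Algebra A B]
    [Algebra.FiniteType A B] [AddCommGroup N] [Module B N] [Module A N] [IsScalarTower A B N]
    [CommRing L] [Algebra A L] [IsLocalRing L] [Module.Flat A L] [Module.Projective L (L ⊗[A] N)]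
    (p : Ideal A) [p.IsPrime] (hLp : (IsLocalRing.maximalIdeal L).comap (algebraMap A L) = p) :
    FlatCA.IsUnivPureAlong A B N p := by
  intro A' B' N' _ _ _ _ _ _ _ _ _ _ _ _ _ _ f t' t _ _ P _ ⟨hpo, hf, htt, htp, hover, hass, hno⟩
  have : Algebra.IsPushout A A' B B' := hpo.symm
  have : Algebra.FiniteType A' B' :=
    Algebra.FiniteType.equiv (Algebra.FiniteType.baseChange (A := B) A')
      (Algebra.IsPushout.equiv A A' B B')
  obtain ⟨W, hW, hWt, hWL⟩ := FlatMor12.FlatAtDescent.exists_prime_over (R := A) (S := L) t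
    (IsLocalRing.maximalIdeal L) (htp.over.symm.trans hLp.symm)
  let L' := Localization.AtPrime W
  have : IsScalarTower A L L' := .of_algebraMap_eq fun a => by
    rw [IsScalarTower.algebraMap_apply L (A' ⊗[A] L) L', IsScalarTower.algebraMap_apply A (A' ⊗[A] L) L',
      ← IsScalarTower.algebraMap_apply A L (A' ⊗[A] L)]
  have : IsScalarTower A A' L' := .of_algebraMap_eq fun a => by
    rw [IsScalarTower.algebraMap_apply A' (A' ⊗[A] L) L', IsScalarTower.algebraMap_apply A (A' ⊗[A] L) L',
      ← IsScalarTower.algebraMap_apply A A' (A' ⊗[A] L)]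
  have : Module.Flat A' L' := Module.Flat.trans A' (A' ⊗[A] L) L'
  have hL't : (IsLocalRing.maximalIdeal L').comap (algebraMap A' L') = t := by
    rw [IsScalarTower.algebraMap_eq A' (A' ⊗[A] L) L', ← Ideal.comap_comap, ← Ideal.under_def (A' ⊗[A] L),
      IsLocalization.AtPrime.under_maximalIdeal L' W]
    exact hWt
  let e : A' ⊗[A] N ≃ₗ[A'] N' :=
    (Algebra.IsPushout.cancelBaseChange A A' B B' N).symm.trans (hf.equiv.restrictScalars A')
  let e' : L' ⊗[L] (L ⊗[A] N) ≃ₗ[L'] L' ⊗[A'] N' :=
    ((AlgebraTensorModule.cancelBaseChange A L L' L' N).trans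
      (AlgebraTensorModule.cancelBaseChange A A' L' L' N).symm).trans
      (AlgebraTensorModule.congr (LinearEquiv.refl L' L') e)
  have : Module.Projective L' (L' ⊗[A'] N') := Module.Projective.of_equiv e'
  obtain ⟨Q, hQ, hPQ, hQt⟩ := exists_specialization_of_local (L := L') t' t hL't htt P hass
  exact hno Q hPQ hQt

set_option maxHeartbeats 1600000 in
/-- **Pure and flat along a fibre: projective over the local ring of an etale neighbourhood.** -/
theorem exists_local_projective_of_pure {R S : Type u} [CommRing R] [CommRing S] [Algebra R S]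
    [Algebra.FiniteType R S] (N : Type u) [AddCommGroup N] [Module S N] [Module R N]
    [IsScalarTower R S N] [Module.Finite S N] (p : Ideal R) [p.IsPrime]
    (hflat : ∀ (q : Ideal S) [q.IsPrime], q.LiesOver p → FlatCA.FlatAt R q N)
    (hpure : FlatCA.IsPureAlong R S N p) :
    ∃ (R' : Type u) (_ : CommRing R') (_ : Algebra R R') (p' : Ideal R') (_ : p'.IsPrime),
      FlatCA.IsEtaleNhd R R' p p' ∧
      Module.Projective (Localization.AtPrime p') (Localization.AtPrime p' ⊗[R] N) := by
  classical
  have : IsNoetherianRing (p.Fiber S) := Algebra.FiniteType.isNoetherianRing p.ResidueField _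
  have : Module.Finite (p.Fiber S) (FlatCA.fiberMod p S N) :=
    inferInstanceAs (Module.Finite (p.Fiber S) ((p.Fiber S) ⊗[S] N))
  let Z := {q : Ideal S | q.IsPrime ∧ q.LiesOver p ∧
    FlatCA.fiberIdeal p q ∈ associatedPrimes (p.Fiber S) (FlatCA.fiberMod p S N)}
  have hZ : Z.Finite :=
    ((associatedPrimes.finite (p.Fiber S) (FlatCA.fiberMod p S N)).image
      (Ideal.comap (algebraMap S (p.Fiber S)))).subset fun q hq =>
      ⟨_, hq.2.2, by have := hq.1; have := hq.2.1; exact comap_fiberIdeal p q⟩
  obtain ⟨k, q, -, hq⟩ := hZ.fin_param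
  have hqZ : ∀ i, q i ∈ Z := fun i => hq ▸ Set.mem_range_self i
  have : ∀ i, (q i).IsPrime := fun i => (hqZ i).1
  have : ∀ i, (q i).LiesOver p := fun i => (hqZ i).2.1
  obtain ⟨R', _, _, p', _, hR', hmain⟩ := exists_local_cover N p k q
    fun i => hflat _ (hqZ i).2.1
  refine ⟨R', inferInstance, inferInstance, p', inferInstance, hR', ?_⟩
  obtain ⟨hmp, hbij⟩ := bijective_residueField_localRing hR'
  let A₁ := Localization.AtPrime p'
  obtain ⟨S', N', _, _, _, _, _, _, _, _, _, _, _, _, _, g, hg⟩ := exists_model R R' S N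
  obtain ⟨SA, NA, _, _, _, _, _, _, _, _, _, _, _, _, _, g', hg'⟩ := exists_model R' A₁ S' N'
  let _ : Algebra S SA := ((algebraMap S' SA).comp (algebraMap S S')).toAlgebra
  have : IsScalarTower S S' SA := .of_algebraMap_eq' rfl
  let _ : Algebra R SA := ((algebraMap R' SA).comp (algebraMap R R')).toAlgebra
  have : IsScalarTower R R' SA := .of_algebraMap_eq' rfl
  have : IsScalarTower R A₁ SA := .of_algebraMap_eq fun r => by
    show algebraMap R' SA (algebraMap R R' r) = _
    rw [IsScalarTower.algebraMap_apply R R' A₁, ← IsScalarTower.algebraMap_apply R' A₁ SA]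
  have : IsScalarTower R S SA := .of_algebraMap_eq fun r => by
    show algebraMap R' SA (algebraMap R R' r) = algebraMap S' SA (algebraMap S S' (algebraMap R S r))
    rw [← IsScalarTower.algebraMap_apply R S S', IsScalarTower.algebraMap_apply R R' S',
      ← IsScalarTower.algebraMap_apply R' S' SA]
  have : IsScalarTower R S' SA := .of_algebraMap_eq fun r => by
    show algebraMap R' SA (algebraMap R R' r) = _
    rw [IsScalarTower.algebraMap_apply R R' S', ← IsScalarTower.algebraMap_apply R' S' SA]
  have h₁ : Algebra.IsPushout R R' S S' := Algebra.IsPushout.symm ‹_›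
  have h₂ : Algebra.IsPushout R' A₁ S' SA := Algebra.IsPushout.symm ‹_›
  have h₃ : Algebra.IsPushout R A₁ S SA := (Algebra.IsPushout.comp_iff R R' S S').2 h₂
  have : Algebra.IsPushout R S A₁ SA := h₃.symm
  let _ : Module S NA := Module.compHom NA (algebraMap S SA)
  have : IsScalarTower S SA NA := .of_algebraMap_smul fun _ _ => rfl
  have : IsScalarTower S S' NA := .of_algebraMap_smul fun a y => by
    rw [← algebraMap_smul SA (algebraMap S S' a) y, ← IsScalarTower.algebraMap_apply S S' SA, algebraMap_smul]
  let f : N →ₗ[S] NA := (g'.restrictScalars S).comp g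
  have hf : IsBaseChange SA f := hg.comp hg'
  have : Algebra.FiniteType R' S' :=
    Algebra.FiniteType.equiv (Algebra.FiniteType.baseChange (A := S) R') (Algebra.IsPushout.equiv R R' S S')
  have : Algebra.FiniteType A₁ SA :=
    Algebra.FiniteType.equiv (Algebra.FiniteType.baseChange (A := S) A₁) (Algebra.IsPushout.equiv R A₁ S SA)
  have : Module.Finite SA NA := Module.Finite.equiv hf.equiv
  obtain ⟨C, _, _, _, _, _, hCproj, hCcov⟩ := hmain SA NA f hf
  let eA : NA ≃ₗ[A₁] A₁ ⊗[R] N := (hf.equiv.restrictScalars A₁).symm.trans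
    (Algebra.IsPushout.cancelBaseChange R A₁ S SA N)
  suffices Module.Projective A₁ NA from Module.Projective.of_equiv eA
  refine projective_of_cover_local (S := SA) (N := NA) (C := C) (fun Q _ hQm => ?_) (fun t _ P _ hPt hass => ?_)
    (fun Q _ hQm hass => ?_)
  · refine FlatMor12.FlatAtBC.flatAt_baseChange (R := R) f hf Q (hflat _ ⟨?_⟩)
    rw [Ideal.under_def, Ideal.comap_comap, ← IsScalarTower.algebraMap_eq,
      IsScalarTower.algebraMap_eq R A₁ SA, ← Ideal.comap_comap]
    exact hmp.over.trans (congrArg (Ideal.comap (algebraMap R A₁)) hQm.over)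
  · let t'' := t.comap (algebraMap R' A₁)
    have : t.LiesOver t'' := ⟨rfl⟩
    obtain ⟨hP't, hass'⟩ := assFibre_comap (S₂ := SA) g' hg' t'' t P hass
    have htp : t'' ≤ p' :=
      (Ideal.comap_mono (IsLocalRing.le_maximalIdeal ‹t.IsPrime›.ne_top)).trans
        (IsLocalization.AtPrime.under_maximalIdeal A₁ p').le
    by_contra! hno
    refine hpure R' S' N' g t'' p' (P.comap (algebraMap S' SA)) hR'
      ⟨inferInstance, hg, htp, hR'.2.1, hP't, hass', fun W' _ hPW' hW' => ?_⟩
    have : IsLocalization (Algebra.algebraMapSubmonoid S' p'.primeCompl) SA :=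
      (Algebra.isLocalization_iff_isPushout p'.primeCompl A₁).2 inferInstance
    have hd : Disjoint (Algebra.algebraMapSubmonoid S' p'.primeCompl : Set S') (W' : Set S') :=
      Set.disjoint_left.2 fun x hx hxW => by
        obtain ⟨c, hc, rfl⟩ := hx
        exact hc (hW'.over.ge hxW)
    have hWc := IsLocalization.comap_map_of_isPrime_disjoint _ SA ‹W'.IsPrime› hd
    have hWp := IsLocalization.isPrime_of_isPrime_disjoint _ SA W' ‹W'.IsPrime› hd
    refine hno _ hWp ?_ ⟨?_⟩
    · exact (IsLocalization.map_comap (Algebra.algebraMapSubmonoid S' p'.primeCompl) SA P).ge.trans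
        (Ideal.map_mono hPW')
    · have h : ((W'.map (algebraMap S' SA)).comap (algebraMap A₁ SA)).comap (algebraMap R' A₁) = p' := by
        rw [Ideal.comap_comap, ← IsScalarTower.algebraMap_eq, IsScalarTower.algebraMap_eq R' S' SA,
          ← Ideal.comap_comap]
        exact (congrArg (Ideal.comap (algebraMap R' S')) hWc).trans hW'.over.symm
      rw [Ideal.under_def, ← IsLocalization.map_comap p'.primeCompl A₁
        ((W'.map (algebraMap S' SA)).comap (algebraMap A₁ SA)), Ideal.under_def, h]
      exact (Localization.AtPrime.map_eq_maximalIdeal).symm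
  · have : (IsLocalRing.maximalIdeal A₁).LiesOver p := hmp
    obtain ⟨hQp, hass'⟩ := assFibre_comap (S₂ := SA) f hf p (IsLocalRing.maximalIdeal A₁) Q hass
    obtain ⟨i, hi⟩ : Q.comap (algebraMap S SA) ∈ Set.range q := by
      rw [hq]
      exact ⟨inferInstance, hQp, hass'⟩
    exact hCcov i Q ⟨hi⟩ hQm

end Groth.Agent.FlatMorDevissage
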