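import Groth.Agent.FlatMorDevissage.NhdLemmas
import Groth.Agent.FlatMorDevissage.Local
import Groth.Agent.FlatMorDevissage.AssSpec
import Mathlib.RingTheory.Etale.QuasiFinite
import Mathlib.RingTheory.Finiteness.Descent

/-!
# Quasi-finite algebras all of whose points specialise are finite
-/

set_option autoImplicit false
set_option backward.isDefEq.respectTransparency false

universe u

open TensorProduct Function

namespace Groth.Agent.FlatMorDevissage.QFPure

attribute [local instance] Algebra.TensorProduct.rightAlgebra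

/-- Generisations of points of elementary etale neighbourhoods specialise. -/
def Specializes (A C : Type u) [CommRing A] [CommRing C] [Algebra A C] (p : Ideal A) [p.IsPrime] :
    Prop :=
  ∀ (A' : Type u) [CommRing A'] [Algebra A A'] (t : Ideal A') [t.IsPrime],
    FlatCA.IsEtaleNhd A A' p t → ∀ W : Ideal (A' ⊗[A] C), W.IsPrime →
      W.comap (algebraMap A' (A' ⊗[A] C)) ≤ t →
      ∃ W' : Ideal (A' ⊗[A] C), W'.IsPrime ∧ W ≤ W' ∧ W'.comap (algebraMap A' (A' ⊗[A] C)) = t

theorem isEtaleNhd_self {A : Type u} [CommRing A] (p : Ideal A) [p.IsPrime] :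
    FlatCA.IsEtaleNhd A A p p := by
  have h : p.LiesOver p := ⟨(Ideal.comap_id p).symm⟩
  refine ⟨inferInstance, h, ?_⟩
  have e : Ideal.ResidueField.mapₐ p p (Algebra.ofId A A) h.over = AlgHom.id A p.ResidueField :=
    Ideal.ResidueField.algHom_ext
      (by ext)
  rw [e]
  exact bijective_id

theorem subsingleton_of_empty {A C : Type u} [CommRing A] [CommRing C] [Algebra A C] (p : Ideal A)
    [p.IsPrime] (hC : Specializes A C p) (h0 : p.primesOver C = ∅) :
    Subsingleton (Localization.AtPrime p ⊗[A] C) := by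
  by_contra hns
  have : Nontrivial (Localization.AtPrime p ⊗[A] C) := not_subsingleton_iff_nontrivial.1 hns
  obtain ⟨Q, hQ⟩ := Ideal.exists_maximal (Localization.AtPrime p ⊗[A] C)
  let ι : A ⊗[A] C →ₐ[A] Localization.AtPrime p ⊗[A] C :=
    Algebra.TensorProduct.map (Algebra.ofId A (Localization.AtPrime p)) (AlgHom.id A C)
  let W : Ideal (A ⊗[A] C) := Q.comap ι.toRingHom
  have hW : W.comap (algebraMap A (A ⊗[A] C)) ≤ p := fun a ha => by
    by_contra hap
    refine hQ.ne_top (Q.eq_top_of_isUnit_mem (x := algebraMap A _ a) ?_ ?_)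
    · show algebraMap A (Localization.AtPrime p ⊗[A] C) a ∈ Q
      rw [← ι.commutes a]
      exact ha
    · rw [IsScalarTower.algebraMap_apply A (Localization.AtPrime p) (Localization.AtPrime p ⊗[A] C)]
      exact (IsLocalization.map_units (Localization.AtPrime p) (⟨a, hap⟩ : p.primeCompl)).map _
  obtain ⟨W', hW', -, hW'p⟩ := hC A p (isEtaleNhd_self p) W inferInstance hW
  refine Set.eq_empty_iff_forall_notMem.1 h0
    (W'.comap (Algebra.TensorProduct.includeRight : C →ₐ[A] A ⊗[A] C).toRingHom)
    ⟨inferInstance, ⟨?_⟩⟩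
  refine hW'p.symm.trans ?_
  rw [Ideal.under_def, Ideal.comap_comap]
  congr 1
  exact (Algebra.TensorProduct.includeRight : C →ₐ[A] A ⊗[A] C).comp_algebraMap.symm

theorem finite_quotient_of_away {A X : Type u} [CommRing A] [CommRing X] [Algebra A X] (e : X)
    [Module.Finite A (Localization.Away e)] :
    Module.Finite A (X ⧸ Ideal.span ({1 - e} : Set X)) := by
  have h1 : IsUnit (algebraMap X (X ⧸ Ideal.span ({1 - e} : Set X)) e) := by
    rw [show algebraMap X (X ⧸ Ideal.span ({1 - e} : Set X)) e = 1 from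
      ((map_one (Ideal.Quotient.mk _)).symm.trans
        (Ideal.Quotient.eq.2 (Ideal.mem_span_singleton_self _))).symm]
    exact isUnit_one
  let g := IsLocalization.Away.lift (S := Localization.Away e) e h1
  let gA : Localization.Away e →ₐ[A] X ⧸ Ideal.span ({1 - e} : Set X) :=
    { g with
      commutes' := fun a => by
        show g (algebraMap A _ a) = _
        rw [IsScalarTower.algebraMap_apply A X (Localization.Away e), IsLocalization.Away.lift_eq,
          ← IsScalarTower.algebraMap_apply] }
  refine Module.Finite.of_surjective gA.toLinearMap fun z => ?_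
  obtain ⟨x, rfl⟩ := Ideal.Quotient.mk_surjective z
  exact ⟨algebraMap X _ x, IsLocalization.Away.lift_eq e h1 x⟩

theorem finite_tensor_of_idempotent {A L X : Type u} [CommRing A] [CommRing X] [Algebra A X]
    [CommRing L] [Algebra A L] (e : X) (he : IsIdempotentElem e)
    [Module.Finite A (X ⧸ Ideal.span ({1 - e} : Set X))]
    [Module.Finite L (L ⊗[A] (X ⧸ Ideal.span ({e} : Set X)))] : Module.Finite L (L ⊗[A] X) := by
  let f : X →ₐ[A] (X ⧸ Ideal.span ({1 - e} : Set X)) × (X ⧸ Ideal.span ({e} : Set X)) :=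
    (Ideal.Quotient.mkₐ A _).prod (Ideal.Quotient.mkₐ A _)
  have hinj : Injective f := fun x y h => by
    obtain ⟨h1, h2⟩ := Prod.ext_iff.1 h
    obtain ⟨a, ha⟩ := Ideal.mem_span_singleton'.1 (Ideal.Quotient.eq.1 h1)
    obtain ⟨b, hb⟩ := Ideal.mem_span_singleton'.1 (Ideal.Quotient.eq.1 h2)
    have h3 : x - y = (x - y) * (1 - e) + (x - y) * e := by ring
    rw [← sub_eq_zero, h3]
    nth_rw 1 [← hb]
    rw [← ha]
    linear_combination (-(a + b)) * he.eq
  have hsurj : Surjective f := fun ⟨u, v⟩ => by
    obtain ⟨x, rfl⟩ := Ideal.Quotient.mk_surjective u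
    obtain ⟨y, rfl⟩ := Ideal.Quotient.mk_surjective v
    refine ⟨e * x + (1 - e) * y, Prod.ext (Ideal.Quotient.eq.2 (Ideal.mem_span_singleton'.2 ⟨y - x, ?_⟩))
      (Ideal.Quotient.eq.2 (Ideal.mem_span_singleton'.2 ⟨x - y, ?_⟩))⟩ <;> ring
  let eX := LinearEquiv.ofBijective f.toLinearMap ⟨hinj, hsurj⟩
  exact Module.Finite.equiv ((AlgebraTensorModule.congr (LinearEquiv.refl L L) eX).trans
    (TensorProduct.prodRight A L L _ _)).symm

theorem specializes_quotient {A A' C : Type u} [CommRing A] [CommRing A'] [CommRing C] [Algebra A A']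
    [Algebra A C] (p : Ideal A) [p.IsPrime] (P : Ideal A') [P.IsPrime]
    (hP : FlatCA.IsEtaleNhd A A' p P) (hC : Specializes A C p) (I : Ideal (A' ⊗[A] C)) :
    Specializes A' ((A' ⊗[A] C) ⧸ I) P := by
  intro A'' _ _ t _ ht W hW hWt
  let _ : Algebra A A'' := ((algebraMap A' A'').comp (algebraMap A A')).toAlgebra
  have : IsScalarTower A A' A'' := .of_algebraMap_eq' rfl
  let φ : A'' ⊗[A'] (A' ⊗[A] C) →ₐ[A''] A'' ⊗[A'] ((A' ⊗[A] C) ⧸ I) :=
    Algebra.TensorProduct.map (AlgHom.id A'' A'') (Ideal.Quotient.mkₐ A' I)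
  let c := Algebra.TensorProduct.cancelBaseChange A A' A'' A'' C
  let ψ : A'' ⊗[A] C →ₐ[A''] A'' ⊗[A'] ((A' ⊗[A] C) ⧸ I) := φ.comp c.symm.toAlgHom
  have hψ : Surjective ψ.toRingHom := fun z => by
    obtain ⟨y, rfl⟩ := LinearMap.lTensor_surjective A''
      (g := (Ideal.Quotient.mkₐ A' I).toLinearMap) Ideal.Quotient.mk_surjective z
    refine ⟨c y, ?_⟩
    show φ (c.symm (c y)) = _
    rw [AlgEquiv.symm_apply_apply]
    rfl
  obtain ⟨W', hW', hle, hW't⟩ := hC A'' t (isEtaleNhd_comp hP ht) (W.comap ψ.toRingHom) inferInstance (by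
    rw [Ideal.comap_comap, show ψ.toRingHom.comp (algebraMap A'' (A'' ⊗[A] C)) = algebraMap A'' _ from
      ψ.comp_algebraMap]
    exact hWt)
  have hker : RingHom.ker ψ.toRingHom ≤ W' := fun x hx =>
    hle (show ψ.toRingHom x ∈ W by rw [RingHom.mem_ker.1 hx]; exact W.zero_mem)
  have hback : (W'.map ψ.toRingHom).comap ψ.toRingHom = W' := by
    rw [Ideal.comap_map_of_surjective _ hψ, ← RingHom.ker_eq_comap_bot, sup_eq_left]
    exact hker
  refine ⟨W'.map ψ.toRingHom, Ideal.map_isPrime_of_surjective hψ hker, ?_, ?_⟩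
  · conv_lhs => rw [← Ideal.map_comap_of_surjective ψ.toRingHom hψ W]
    exact Ideal.map_mono hle
  · rw [← hW't, show algebraMap A'' (A'' ⊗[A'] ((A' ⊗[A] C) ⧸ I)) =
      ψ.toRingHom.comp (algebraMap A'' (A'' ⊗[A] C)) from ψ.comp_algebraMap.symm, ← Ideal.comap_comap,
      hback]

set_option maxHeartbeats 1600000 in
theorem finite_localized_aux : ∀ (n : ℕ) {A C : Type u} [CommRing A] [CommRing C] [Algebra A C]
    [Algebra.FiniteType A C] [Algebra.QuasiFinite A C] (p : Ideal A) [p.IsPrime],
    (p.primesOver C).ncard = n → Specializes A C p →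
      Module.Finite (Localization.AtPrime p) (Localization.AtPrime p ⊗[A] C) := by
  intro n
  induction n using Nat.strong_induction_on with
  | h n ih =>
    intro A C _ _ _ _ _ p _ hn hC
    by_cases h0 : p.primesOver C = ∅
    · have := subsingleton_of_empty p hC h0
      infer_instance
    obtain ⟨q, hq, hqp⟩ := Set.nonempty_iff_ne_empty.2 h0
    have := hq
    have := hqp
    obtain ⟨A', _, _, _, P, _, hPp, e, he, P', hP', hP'P, hP'q, heP', hbij, hfin, huniq⟩ :=
      Algebra.exists_etale_isIdempotentElem_forall_liesOver_eq p q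
    have hnhd : FlatCA.IsEtaleNhd A A' p P := ⟨‹_›, hPp, hbij⟩
    let X := A' ⊗[A] C
    let I : Ideal X := Ideal.span {e}
    let Y := X ⧸ I
    have : Algebra.QuasiFinite A' X := inferInstance
    have : Algebra.QuasiFinite A' Y := inferInstance
    have : Algebra.FiniteType A' Y :=
      Algebra.FiniteType.of_surjective (Ideal.Quotient.mkₐ A' I) Ideal.Quotient.mk_surjective
    let π : C →+* Y := (Ideal.Quotient.mk I).comp (algebraMap C X)
    have hlt : (P.primesOver Y).ncard < n := by
      rw [← hn]
      refine lt_of_le_of_lt (Set.ncard_le_ncard_of_injOn (fun J => J.comap π)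
        (t := p.primesOver C \ {q}) ?_ ?_ ((Algebra.QuasiFinite.finite_primesOver p).sdiff)) ?_
      · intro J hJ
        have := hJ.1
        have := hJ.2
        have hJP : (J.comap (Ideal.Quotient.mk I)).LiesOver P := ⟨by
          rw [Ideal.under_def, Ideal.comap_comap, Ideal.Quotient.mk_comp_algebraMap]
          exact hJ.2.over⟩
        refine ⟨⟨inferInstance, ⟨?_⟩⟩, fun hJq => ?_⟩
        · rw [Ideal.under_def, Ideal.comap_comap]
          refine hPp.over.trans ?_
          rw [Ideal.under_def, hJP.over, Ideal.under_def, Ideal.comap_comap, Ideal.comap_comap]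
          congr 1
          simp only [π, RingHom.comp_assoc, ← IsScalarTower.algebraMap_eq]
        · have heq : J.comap (Ideal.Quotient.mk I) = P' := by
            refine eq_of_isPushout (S := C) (S' := X) p P hbij _ P' ?_
            rw [Ideal.comap_comap]
            exact (Set.mem_singleton_iff.1 hJq).trans hP'q.symm
          refine heP' (heq ▸ ?_)
          rw [Ideal.mem_comap, Ideal.Quotient.eq_zero_iff_mem.2 (Ideal.mem_span_singleton_self e)]
          exact zero_mem _
      · intro J₁ h₁ J₂ h₂ h
        have := h₁.1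
        have := h₂.1
        have o : ∀ J : Ideal Y, J.LiesOver P → (J.comap (Ideal.Quotient.mk I)).LiesOver P := fun J hJ => ⟨by
          rw [Ideal.under_def, Ideal.comap_comap, Ideal.Quotient.mk_comp_algebraMap]
          exact hJ.over⟩
        have := o J₁ h₁.2
        have := o J₂ h₂.2
        refine Ideal.comap_injective_of_surjective _ Ideal.Quotient.mk_surjective
          (eq_of_isPushout (S := C) (S' := X) p P hbij (J₁.comap (Ideal.Quotient.mk I))
            (J₂.comap (Ideal.Quotient.mk I)) ?_)
        rw [Ideal.comap_comap, Ideal.comap_comap]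
        exact h
      · exact Set.ncard_sdiff_singleton_lt_of_mem ⟨hq, hqp⟩ (Algebra.QuasiFinite.finite_primesOver p)
    let L := Localization.AtPrime p
    let L' := Localization.AtPrime P
    have : Module.Finite L' (L' ⊗[A'] Y) := ih _ hlt P rfl (specializes_quotient p P hnhd hC I)
    have : Module.Finite A' (X ⧸ Ideal.span ({1 - e} : Set X)) := finite_quotient_of_away e
    have : Module.Finite L' (L' ⊗[A'] X) := finite_tensor_of_idempotent e he
    have hpP : p = P.comap (algebraMap A A') := hPp.over
    let _ : Algebra L L' := (Localization.localRingHom p P (algebraMap A A') hpP).toAlgebra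
    have : IsScalarTower A L L' := .of_algebraMap_eq fun a => by
      rw [RingHom.algebraMap_toAlgebra, Localization.localRingHom_to_map,
        ← IsScalarTower.algebraMap_apply]
    have : IsLocalHom (algebraMap L L') := Localization.isLocalHom_localRingHom p P _ hpP
    have : Module.Flat A L' := Module.Flat.trans A A' L'
    have : Module.Flat L L' :=
      (Module.flat_iff_of_isLocalization L p.primeCompl L').2 ‹_›
    have : Module.FaithfullyFlat L L' := Module.FaithfullyFlat.of_flat_of_isLocalHom
    have : Module.Finite L' (L' ⊗[L] (L ⊗[A] C)) := Module.Finite.equiv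
      ((AlgebraTensorModule.cancelBaseChange A A' L' L' C).trans
        (AlgebraTensorModule.cancelBaseChange A L L' L' C).symm)
    exact Module.Finite.of_finite_tensorProduct_of_faithfullyFlat L'

/-- **Quasi-finite algebras all of whose points specialise are finite.** -/
theorem finite_of_specializes {A C : Type u} [CommRing A] [CommRing C] [Algebra A C]
    [Algebra.FiniteType A C] [Algebra.QuasiFinite A C]
    (h : ∀ (p : Ideal A) [p.IsPrime], Specializes A C p) : Module.Finite A C := by
  suffices Algebra.IsIntegral A C from Algebra.IsIntegral.finite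
  refine ⟨fun x => ?_⟩
  let M : ℕ → Submodule A C := fun n => Submodule.span A ((fun i => x ^ i) '' Set.Iio n)
  let J : Ideal A :=
    { carrier := {a | ∃ n, a • x ^ n ∈ M n}
      zero_mem' := ⟨0, by simp⟩
      add_mem' := by
        rintro a b ⟨n, hn⟩ ⟨m, hm⟩
        have hup : ∀ {c : A} {k d : ℕ}, c • x ^ k ∈ M k → c • x ^ (k + d) ∈ M (k + d) := by
          intro c k d hk
          have h1 := Submodule.mem_map_of_mem (f := LinearMap.mulLeft A (x ^ d)) hk
          rw [Submodule.map_span, LinearMap.mulLeft_apply, mul_smul_comm, ← pow_add, add_comm] at h1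
          refine Submodule.span_mono ?_ h1
          rintro _ ⟨_, ⟨i, hi, rfl⟩, rfl⟩
          exact ⟨d + i, by simp only [Set.mem_Iio] at hi ⊢; omega, pow_add x d i⟩
        refine ⟨n + m, ?_⟩
        rw [add_smul]
        exact add_mem (hup hn) (by rw [add_comm n m]; exact hup hm)
      smul_mem' := by
        rintro c a ⟨n, hn⟩
        exact ⟨n, by rw [smul_eq_mul, mul_smul]; exact Submodule.smul_mem _ c hn⟩ }
  have hJ : J = ⊤ := by
    by_contra hne
    obtain ⟨p, hp, hJp⟩ := Ideal.exists_le_maximal J hne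
    let L := Localization.AtPrime p
    have : Module.Finite L (L ⊗[A] C) := finite_localized_aux _ p rfl (h p)
    let x' : L ⊗[A] C := 1 ⊗ₜ x
    obtain ⟨⟨s, hs⟩, hint⟩ := IsIntegral.exists_multiple_integral_of_isLocalization p.primeCompl
      (Rₘ := L) x' (IsIntegral.of_finite L x')
    obtain ⟨g, hg, hgx⟩ := hint
    have hgx' : (1 : L) ⊗ₜ[A] (Polynomial.aeval (s • x) g) = 0 := by
      rw [← hgx]
      show (Algebra.TensorProduct.includeRight : C →ₐ[A] L ⊗[A] C) _ = _
      rw [← Polynomial.aeval_algHom_apply, map_smul]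
      rfl
    obtain ⟨⟨u, hu⟩, hu0⟩ := (IsLocalizedModule.eq_zero_iff p.primeCompl
      (f := TensorProduct.mk A L C 1)).1 hgx'
    have hmem : (u * s ^ g.natDegree) • x ^ g.natDegree ∈ M g.natDegree := by
      have h0 : u • Polynomial.aeval (s • x) g = 0 := hu0
      rw [Polynomial.aeval_eq_sum_range, Finset.sum_range_succ, hg.coeff_natDegree, one_smul,
        smul_add] at h0
      rw [mul_smul, ← smul_pow, eq_neg_of_add_eq_zero_right h0]
      refine neg_mem (Submodule.smul_mem _ u (Submodule.sum_mem _ fun i hi => ?_))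
      rw [smul_pow, smul_smul]
      exact Submodule.smul_mem _ _ (Submodule.subset_span ⟨i, Finset.mem_range.1 hi, rfl⟩)
    exact p.primeCompl.mul_mem hu (pow_mem hs _) (hJp ⟨_, hmem⟩)
  obtain ⟨n, hn⟩ : (1 : A) ∈ J := hJ ▸ Submodule.mem_top
  rw [one_smul] at hn
  obtain ⟨c, hc⟩ := (Submodule.mem_span_image_finset_iff_exists_fun' A).1
    ((by rwa [Finset.coe_range]) : x ^ n ∈ Submodule.span A ((fun i => x ^ i) '' ↑(Finset.range n)))
  refine ⟨Polynomial.X ^ n - ∑ i : Finset.range n, Polynomial.C (c i) * Polynomial.X ^ (i : ℕ),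
    Polynomial.monic_X_pow_sub ?_, ?_⟩
  · refine (Polynomial.degree_sum_le _ _).trans_lt ((Finset.sup_lt_iff (WithBot.bot_lt_coe n)).2 fun i _ => ?_)
    exact (Polynomial.degree_C_mul_X_pow_le _ _).trans_lt (WithBot.coe_lt_coe.2 (Finset.mem_range.1 i.2))
  · rw [← Polynomial.aeval_def, map_sub, map_pow, Polynomial.aeval_X, map_sum, ← hc, sub_eq_zero]
    rw [← Finset.sum_coe_sort]
    simp [Algebra.smul_def]

theorem ker_map {A A' B C : Type u} [CommRing A] [CommRing A'] [CommRing B] [CommRing C] [Algebra A A']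
    [Algebra A B] [Algebra A C] (g : B →ₐ[A] C) (hg : Surjective g) (I : Ideal B)
    (hI : RingHom.ker g.toRingHom = I) :
    RingHom.ker (Algebra.TensorProduct.map (AlgHom.id A' A') g).toRingHom =
      I.map (algebraMap B (A' ⊗[A] B)) := by
  have h := Algebra.TensorProduct.lTensor_ker (A := A') g hg
  refine Eq.trans ?_ (h.trans ?_)
  · ext x
    rw [RingHom.mem_ker, RingHom.mem_ker]
    rfl
  · rw [show RingHom.ker g = I from hI]
    rfl

set_option maxHeartbeats 1600000 in
/-- Pure modules with finite fibre supports: their points specialise. -/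
theorem specializes_of_pure {A B : Type u} [CommRing A] [CommRing B] [Algebra A B]
    [Algebra.FiniteType A B] (N : Type u) [AddCommGroup N] [Module B N] [Module.Finite B N]
    [Algebra.QuasiFinite A (B ⧸ Module.annihilator B N)] (p : Ideal A) [p.IsPrime]
    (hpure : FlatCA.IsPureAlong A B N p) : Specializes A (B ⧸ Module.annihilator B N) p := by
  intro A' _ _ t _ ht W hW hWt
  let C := B ⧸ Module.annihilator B N
  let B' := A' ⊗[A] B
  let N' := B' ⊗[B] N
  let π : B' →ₐ[A'] A' ⊗[A] C :=
    Algebra.TensorProduct.map (AlgHom.id A' A') (Ideal.Quotient.mkₐ A (Module.annihilator B N))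
  have hπ : Surjective π.toRingHom := fun z =>
    LinearMap.lTensor_surjective A' (g := (Ideal.Quotient.mkₐ A (Module.annihilator B N)).toLinearMap)
      Ideal.Quotient.mk_surjective z
  let P : Ideal B' := W.comap π.toRingHom
  let t' : Ideal A' := P.comap (algebraMap A' B')
  have : P.LiesOver t' := ⟨rfl⟩
  have htt : t' ≤ t := by
    refine le_of_eq_of_le ?_ hWt
    show Ideal.comap (algebraMap A' B') (Ideal.comap π.toRingHom W) = _
    rw [Ideal.comap_comap]
    congr 1
  have hker : RingHom.ker π.toRingHom = (Module.annihilator B N).map (algebraMap B B') :=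
    ker_map (Ideal.Quotient.mkₐ A (Module.annihilator B N)) Ideal.Quotient.mk_surjective _
      Ideal.mk_ker
  have hsupp : ∀ U : Ideal B', U.IsPrime →
      (Module.annihilator B' N' ≤ U ↔ RingHom.ker π.toRingHom ≤ U) := fun U hU => by
    rw [hker, Ideal.map_le_iff_le_comap]
    exact (Module.mem_support_iff_of_finite (p := (⟨U, hU⟩ : PrimeSpectrum B'))).symm.trans
      ((FlatCrit.mem_support_baseChange_iff N _).trans Module.mem_support_iff_of_finite)
  have hincomp : ∀ U V : Ideal B', U.IsPrime → V.IsPrime → RingHom.ker π.toRingHom ≤ U → U ≤ V →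
      U.comap (algebraMap A' B') = V.comap (algebraMap A' B') → U = V := by
    intro U V hU hV hkU hUV heq
    have h1 : (U.map π.toRingHom).comap π.toRingHom = U := by
      rw [Ideal.comap_map_of_surjective _ hπ, ← RingHom.ker_eq_comap_bot, sup_eq_left]; exact hkU
    have h2 : (V.map π.toRingHom).comap π.toRingHom = V := by
      rw [Ideal.comap_map_of_surjective _ hπ, ← RingHom.ker_eq_comap_bot, sup_eq_left]
      exact hkU.trans hUV
    have := Ideal.map_isPrime_of_surjective hπ hkU
    have := Ideal.map_isPrime_of_surjective hπ (hkU.trans hUV)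
    rw [← h1, ← h2, Algebra.QuasiFinite.eq_of_le_of_under_eq (R := A') (U.map π.toRingHom)
      (V.map π.toRingHom) (Ideal.map_mono hUV) (by
        have hc : algebraMap A' (A' ⊗[A] C) = π.toRingHom.comp (algebraMap A' B') :=
          π.comp_algebraMap.symm
        rw [Ideal.under_def, Ideal.under_def, hc, ← Ideal.comap_comap, ← Ideal.comap_comap, h1, h2, heq])]
  have hPk : RingHom.ker π.toRingHom ≤ P := Ideal.ker_le_comap _
  have : IsNoetherianRing (t'.Fiber B') := Algebra.FiniteType.isNoetherianRing t'.ResidueField _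
  have : Module.Finite (t'.Fiber B') (FlatCA.fiberMod t' B' N') :=
    inferInstanceAs (Module.Finite (t'.Fiber B') ((t'.Fiber B') ⊗[B'] N'))
  obtain ⟨Q, hQ⟩ := EGA43.FibDepth.exists_prime_over (A := A') (p := t') (t'.Fiber B')
    (⟨P, inferInstance⟩ : PrimeSpectrum B') rfl
  have hQP : Q.asIdeal.comap (algebraMap B' (t'.Fiber B')) = P := congrArg PrimeSpectrum.asIdeal hQ
  have hfib : FlatCA.fiberIdeal t' P = Q.asIdeal := by
    have := (fiberPrime_spec t' Q.asIdeal).2
    rwa [hQP] at this
  have hass : FlatCA.fiberIdeal t' P ∈ associatedPrimes (t'.Fiber B') (FlatCA.fiberMod t' B' N') := by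
    rw [hfib]
    refine Module.associatedPrimes.minimalPrimes_annihilator_subset_associatedPrimes
      (t'.Fiber B') _ ⟨⟨inferInstance, ?_⟩, ?_⟩
    · exact Module.mem_support_iff_of_finite.1 ((mem_support_fiberMod_iff N' t' Q).2
        (by rw [PrimeSpectrum.comap_asIdeal, hQP]; exact (hsupp P inferInstance).2 hPk))
    · rintro U ⟨hU, hUann⟩ hUQ
      refine le_of_eq ?_
      have hUs : Module.annihilator B' N' ≤ U.comap (algebraMap B' (t'.Fiber B')) :=
        (mem_support_fiberMod_iff N' t' ⟨U, hU⟩).1 (Module.mem_support_iff_of_finite.2 hUann)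
      have h3 := hincomp _ P inferInstance inferInstance ((hsupp _ inferInstance).1 hUs)
        ((Ideal.comap_mono hUQ).trans_eq hQP) (by
          exact ((fiberPrime_spec t' U).1.over).symm.trans rfl)
      have h4 := (fiberPrime_spec t' U).2
      rw [h3, hfib] at h4
      exact h4
  obtain ⟨hte, hto, -⟩ := id ht
  have h : ∃ P'' : Ideal B', P''.IsPrime ∧ P ≤ P'' ∧ P''.LiesOver t := by
    by_contra! hno
    exact hpure A' B' N' (TensorProduct.mk B B' N 1) t' t P ht
      ⟨inferInstance, TensorProduct.isBaseChange B N B', htt, hto, inferInstance, hass,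
        fun P'' _ hle hov => hno P'' inferInstance hle hov⟩
  obtain ⟨P'', hP'', hle, hov⟩ := h
  have hk'' : RingHom.ker π.toRingHom ≤ P'' := hPk.trans hle
  refine ⟨P''.map π.toRingHom, Ideal.map_isPrime_of_surjective hπ hk'', ?_, ?_⟩
  · conv_lhs => rw [← Ideal.map_comap_of_surjective π.toRingHom hπ W]
    exact Ideal.map_mono hle
  · rw [show algebraMap A' (A' ⊗[A] C) = π.toRingHom.comp (algebraMap A' B') from π.comp_algebraMap.symm,
      ← Ideal.comap_comap, Ideal.comap_map_of_surjective _ hπ, ← RingHom.ker_eq_comap_bot,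
      sup_eq_left.2 hk'']
    exact hov.over.symm

/-- Finite fibre supports give a quasi-finite support. -/
theorem quasiFinite_of_finite_support {A B : Type u} [CommRing A] [CommRing B] [Algebra A B]
    [Algebra.FiniteType A B] (N : Type u) [AddCommGroup N] [Module B N] [Module A N]
    [IsScalarTower A B N] [Module.Finite B N]
    (hfin : ∀ (p : Ideal A) [p.IsPrime], (Module.support (p.Fiber B) (FlatCA.fiberMod p B N)).Finite) :
    Algebra.QuasiFinite A (B ⧸ Module.annihilator B N) := by
  rw [Algebra.QuasiFinite.iff_finite_primesOver]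
  intro p hp
  have hmk := Ideal.Quotient.mk_surjective (I := Module.annihilator B N)
  refine Set.Finite.of_finite_image (f := fun J => J.comap (Ideal.Quotient.mk _))
    (((hfin p).image fun Q => Q.asIdeal.comap (algebraMap B (p.Fiber B))).subset ?_)
    (Ideal.comap_injective_of_surjective _ hmk).injOn
  rintro _ ⟨J, ⟨hJ, hJp⟩, rfl⟩
  have := hJ
  obtain ⟨Q, hQ⟩ := EGA43.FibDepth.exists_prime_over (A := A) (p := p) (p.Fiber B)
    (⟨J.comap (Ideal.Quotient.mk _), inferInstance⟩ : PrimeSpectrum B) (by
      show p = Ideal.comap (algebraMap A B) (Ideal.comap (Ideal.Quotient.mk _) J)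
      rw [Ideal.comap_comap, Ideal.Quotient.mk_comp_algebraMap]
      exact hJp.over)
  refine ⟨Q, (mem_support_fiberMod_iff N p Q).2 ?_, congrArg PrimeSpectrum.asIdeal hQ⟩
  rw [hQ]
  exact fun a ha => by
    show Ideal.Quotient.mk _ a ∈ J
    rw [Ideal.Quotient.eq_zero_iff_mem.2 ha]
    exact J.zero_mem

end Groth.Agent.FlatMorDevissage.QFPure
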