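import Groth.Agent.FlatMorDevissage.ProjectiveNhd
import Groth.Agent.EGA43.FlatDescent.SchemeOpen
import Mathlib.AlgebraicGeometry.ResidueField
import Mathlib.AlgebraicGeometry.Morphisms.Etale

/-!
# Scheme-theoretic glue for etale neighbourhoods
-/

set_option autoImplicit false
set_option backward.isDefEq.respectTransparency false

universe u

open CategoryTheory AlgebraicGeometry

namespace Groth.Agent.FlatMorDevissage

open Groth.Agent

/-- A surjection of residue fields of rings gives one of the spectra. -/
theorem surjective_residueFieldMap_Spec {R S : CommRingCat.{u}} (φ : R ⟶ S) (Q : Spec S)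
    (h : Function.Surjective (Ideal.ResidueField.map (Spec.map φ Q).asIdeal Q.asIdeal φ.hom rfl)) :
    Function.Surjective ((Spec.map φ).residueFieldMap Q) := by
  let Q₀ : Spec R := Spec.map φ Q
  let eR := (Scheme.Spec.residueFieldIso R Q₀).symm.commRingCatIsoToRingEquiv
  let eS := (Scheme.Spec.residueFieldIso S Q).symm.commRingCatIsoToRingEquiv
  have key : ((Spec.map φ).residueFieldMap Q).hom.comp eR.toRingHom =
      eS.toRingHom.comp (Ideal.ResidueField.map Q₀.asIdeal Q.asIdeal φ.hom rfl) := by
    refine Ideal.ResidueField.ringHom_ext (RingHom.ext fun a => ?_)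
    show (Spec.map φ).residueFieldMap Q ((Scheme.Spec.residueFieldIso R Q₀).inv (algebraMap R _ a)) =
      (Scheme.Spec.residueFieldIso S Q).inv (Ideal.ResidueField.map _ _ φ.hom rfl (algebraMap R _ a))
    rw [Ideal.ResidueField.map_algebraMap]
    have h1 := ConcreteCategory.congr_hom (Scheme.Spec.algebraMap_residueFieldIso_inv R Q₀) a
    have h2 := ConcreteCategory.congr_hom (Scheme.Spec.algebraMap_residueFieldIso_inv S Q) (φ a)
    refine (congrArg _ h1).trans (Eq.trans ?_ h2.symm)
    show (Spec.map φ).residueFieldMap Q ((Spec R).Γevaluation _ ((Scheme.ΓSpecIso R).inv a)) =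
      (Spec S).Γevaluation Q ((Scheme.ΓSpecIso S).inv (φ a))
    rw [Scheme.Γevaluation_naturality_apply (Spec.map φ) Q]
    refine congrArg _ ?_
    exact (ConcreteCategory.congr_hom (Scheme.ΓSpecIso_inv_naturality φ) a).symm
  intro z
  obtain ⟨w, hw⟩ := h (eS.symm z)
  refine ⟨eR w, ?_⟩
  have := RingHom.congr_fun key w
  rw [RingHom.comp_apply, RingHom.comp_apply, hw] at this
  exact this.trans (eS.apply_symm_apply z)

theorem surjective_residueFieldMap_comp {X Y Z : Scheme.{u}} (f : X ⟶ Y) (g : Y ⟶ Z) (x : X)
    (hf : Function.Surjective (f.residueFieldMap x))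
    (hg : Function.Surjective (g.residueFieldMap (f x))) :
    Function.Surjective ((f ≫ g).residueFieldMap x) := by
  rw [Scheme.residueFieldMap_comp]
  exact hf.comp hg

theorem surjective_residueFieldMap_of_isOpenImmersion {X Y : Scheme.{u}} (f : X ⟶ Y)
    [IsOpenImmersion f] (x : X) : Function.Surjective (f.residueFieldMap x) :=
  (ConcreteCategory.bijective_of_isIso (f.residueFieldMap x)).2

/-- Projectivity along isomorphisms of rings. -/
theorem projective_of_ringEquiv_square {A A' B B' : Type u} [CommRing A] [CommRing A'] [CommRing B]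
    [CommRing B'] [Algebra A B] [Algebra A' B'] (eA : A ≃+* A') (eB : B ≃+* B')
    (h : ∀ a, eB (algebraMap A B a) = algebraMap A' B' (eA a)) [Module.Projective A B] :
    Module.Projective A' B' := by
  have := RingHomInvPair.of_ringEquiv eA
  have := RingHomInvPair.symm (eA : A →+* A') (eA.symm : A' →+* A)
  exact Module.Projective.of_equiv (σ := (eA : A →+* A')) (σ' := (eA.symm : A' →+* A))
    { eB.toAddEquiv with
      map_smul' := fun a b => by
        show eB (a • b) = eA a • eB b
        rw [Algebra.smul_def, map_mul, h, Algebra.smul_def] }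

end Groth.Agent.FlatMorDevissage
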