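import Groth.Agent.EGA43.InjFibre.RegularSeq
import Groth.Agent.CAlgML.MLProps
import Groth.Agent.CAlgML.Countable
import Groth.Agent.CAlgML.Projective
import Groth.Agent.CommAlg4.UnivInjCompl
import Groth.Agent.Matlis6.CompletionNoetherian
import Groth.Agent.S1198
import Mathlib.RingTheory.Smooth.NoetherianDescent
import Mathlib.RingTheory.AdicCompletion.LocalRing
import Mathlib.RingTheory.AdicCompletion.Noetherian

/-!
# Smooth algebras with integral fibres over a local ring are free

`D` smooth over a local ring `R` such that `D ⊗ K` is a domain for every field `K` over `R`: then `D`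
is a free `R`-module. The Mittag-Leffler property comes from a Noetherian model over a complete local
ring, where `D` maps into its completion with kernel killed by elements regular on all fibres.
-/

set_option autoImplicit false
set_option backward.isDefEq.respectTransparency false

universe u

open TensorProduct IsLocalRing

namespace Groth.Agent.FlatMorDevissage

open Groth.Agent CAlg EGA43.InjFibre

/-- All base changes to fields are domains. -/
def FibresDomain (R D : Type u) [CommRing R] [CommRing D] [Algebra R D] : Prop :=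
  ∀ (K : Type u) [Field K] [Algebra R K], IsDomain (K ⊗[R] D)

/-- An element nonzero in all fibres of a flat finitely presented algebra with integral fibres is
universally regular. -/
theorem eq_zero_of_smul_eq_zero {T B : Type u} [CommRing T] [CommRing B] [Algebra T B]
    [Algebra.FinitePresentation T B] [Module.Flat T B]
    (hdom : ∀ (p : Ideal T) [p.IsPrime], IsDomain (B ⊗[T] p.ResidueField)) (c : B)
    (hc : ∀ (p : Ideal T) [p.IsPrime], c ⊗ₜ[T] (1 : p.ResidueField) ≠ 0)
    {X : Type u} [AddCommGroup X] [Module T X] (z : B ⊗[T] X) (h : c • z = 0) : z = 0 := by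
  by_contra hz
  obtain ⟨q, hq, hle⟩ := Ideal.exists_le_maximal (Ideal.torsionOf B _ z)
    (fun htop => hz (by
      have : (1 : B) ∈ Ideal.torsionOf B _ z := htop ▸ Submodule.mem_top
      rwa [Ideal.mem_torsionOf_iff, one_smul] at this))
  have hflat : Module.Flat T (LocalizedModule q.primeCompl B) := by
    have : Module.Flat B (Localization q.primeCompl) := IsLocalization.flat _ q.primeCompl
    have : Module.Flat B (LocalizedModule q.primeCompl B) := Module.Flat.of_linearEquiv
      (IsLocalizedModule.iso q.primeCompl (Algebra.linearMap B (Localization q.primeCompl)))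
    exact Module.Flat.trans T B _
  let p := q.comap (algebraMap T B)
  have := hdom p
  have hreg : IsSMulRegular (FibLoc (A := T) q B) c := by
    suffices key : ∀ w : FibLoc (A := T) q B, c • w = 0 → w = 0 by
      intro x y hxy
      exact sub_eq_zero.1 (key _ (by rw [smul_sub, sub_eq_zero]; exact hxy))
    intro w hw
    induction w using LocalizedModule.induction_on with
    | h m s =>
      rw [LocalizedModule.smul'_mk, ← LocalizedModule.zero_mk (1 : q.primeCompl),
        LocalizedModule.mk_eq] at hw
      obtain ⟨s', hs', hsm⟩ : ∃ s' ∈ q.primeCompl, s' • c • m = 0 := by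
        obtain ⟨v, hv⟩ := hw
        refine ⟨v.1, v.2, ?_⟩
        rw [one_smul, smul_zero, smul_zero] at hv
        exact hv
      suffices hm0 : m = 0 by rw [hm0, LocalizedModule.zero_mk]
      have hmul : ∀ (b : B) (x : B ⊗[T] p.ResidueField), b • x = (b ⊗ₜ 1) * x := by
        intro b x
        induction x with
        | zero => simp
        | tmul y k => rw [smul_tmul', smul_eq_mul, Algebra.TensorProduct.tmul_mul_tmul, one_mul]
        | add x y hx hy => rw [smul_add, mul_add, hx, hy]
      rw [hmul, hmul] at hsm
      have hs0 : (s' ⊗ₜ[T] (1 : p.ResidueField)) ≠ 0 := fun h0 => by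
        obtain ⟨d, hd, hds⟩ := (mk_tmul_eq_zero_iff (A := T) q (M := B) s').1 (by rw [h0, map_zero])
        have : d • s' ∈ q := by
          refine Submodule.smul_induction_on (p := fun x => x ∈ q) hds (fun a ha x _ => ?_)
            fun x y hx hy => q.add_mem hx hy
          rw [Algebra.smul_def]
          exact q.mul_mem_right _ ha
        exact (hq.isPrime.mem_or_mem (show d * s' ∈ q from this)).elim hd hs'
      exact ((mul_eq_zero.1 hsm).resolve_left hs0 |> mul_eq_zero.1).resolve_left (hc p)
  have hU := uInjAt_of_fibInjAt (q := ⟨q, inferInstance⟩) hflat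
    (fibInjAt_lsmul (A := T) q c hreg)
  have hz' : AlgebraTensorModule.rTensor T X (LinearMap.lsmul B B c) z = 0 := by
    rw [← h]
    clear h hz hle hU
    induction z with
    | zero => simp
    | tmul b x => rw [AlgebraTensorModule.rTensor_tmul, smul_tmul']; rfl
    | add x y hx hy => rw [map_add, smul_add, hx, hy]
  obtain ⟨d, hd, hdz⟩ := hU z hz'
  exact hd (hle ((Ideal.mem_torsionOf_iff _ _).2 hdz))

/-- Mittag-Leffler property of a base change from an injective map into a Mittag-Leffler module. -/
theorem ml_tensor_of_injective {A T : Type u} [CommRing A] [CommRing T] [Algebra A T]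
    {N C : Type u} [AddCommGroup N] [Module A N] [AddCommGroup C] [Module A C] (ι : N →ₗ[A] C)
    (hC : IsMittagLeffler A C)
    (h : ∀ (X : Type u) [AddCommGroup X] [Module T X] [Module A X] [IsScalarTower A T X],
      Function.Injective (ι.rTensor X)) :
    IsMittagLeffler T (T ⊗[A] N) := by
  rw [CAlgML.ml_iff_zero]
  intro ι' Q _ _ x hx
  let _ : ∀ i, Module A (Q i) := fun i => Module.compHom (Q i) (algebraMap A T)
  have : ∀ i, IsScalarTower A T (Q i) := fun i => IsScalarTower.of_algebraMap_smul fun r m => rfl
  obtain ⟨y, rfl⟩ := (CAlgML.baseChangeTensor (S := T) (M := N) (∀ i, Q i)).symm.surjective x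
  have key : ∀ (y : N ⊗[A] (∀ i, Q i)) (i : ι'),
      piRightHom T T (T ⊗[A] N) Q ((CAlgML.baseChangeTensor _).symm y) i =
        (CAlgML.baseChangeTensor (Q i)).symm (piRightHom A A N Q y i) := by
    intro y i
    induction y with
    | zero => simp
    | tmul p q => simp
    | add p q hp hq => simp only [map_add, Pi.add_apply, hp, hq]
  have hy : ∀ i, piRightHom A A N Q y i = 0 := fun i => by
    apply (CAlgML.baseChangeTensor (S := T) (M := N) (Q i)).symm.injective
    rw [← key, hx i, map_zero]
  have h1 : ι.rTensor _ y = 0 := CAlgML.ml_iff_zero.1 hC ι' Q _ fun i => by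
    rw [CAlgML.piRightHom_rTensor, hy, map_zero]
  rw [h (∀ i, Q i) (h1.trans (map_zero _).symm), map_zero]

/-- The Mittag-Leffler property over a Noetherian complete local base. -/
theorem ml_of_complete {A T N : Type u} [CommRing A] [IsLocalRing A] [IsNoetherianRing A]
    [IsAdicComplete (maximalIdeal A) A] [CommRing T] [Algebra A T] [CommRing N] [Algebra A N]
    [Algebra.FinitePresentation A N] [Module.Flat A N]
    (hdom : ∀ (K : Type u) [Field K] [Algebra T K] [Algebra A K] [IsScalarTower A T K],
      IsDomain (N ⊗[A] K))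
    (hQ : ∃ Q : Ideal N, Q.IsPrime ∧ (maximalIdeal A).map (algebraMap A N) ≤ Q) :
    IsMittagLeffler T (T ⊗[A] N) := by
  have : IsNoetherianRing N := Algebra.FiniteType.isNoetherianRing A N
  have : Module.Projective (A ⧸ maximalIdeal A) (N ⧸ (maximalIdeal A • ⊤ : Submodule A N)) := by
    let _ := Ideal.Quotient.field (maximalIdeal A)
    exact Module.Projective.of_free
  obtain ⟨hCflat, hCml⟩ := S1198.result A (maximalIdeal A) N
  refine ml_tensor_of_injective (AdicCompletion.of (maximalIdeal A) N) hCml fun X _ _ _ _ => ?_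
  refine (injective_iff_map_eq_zero _).2 fun z hz => ?_
  obtain ⟨X₁, hX₁, hsub⟩ := TensorProduct.exists_finite_submodule_right_of_setFinite
    ({z} : Set (N ⊗[A] X)) (Set.finite_singleton z)
  obtain ⟨y, rfl⟩ := hsub rfl
  have hy : (AdicCompletion.of (maximalIdeal A) N).rTensor X₁ y = 0 := by
    refine Module.Flat.lTensor_preserves_injective_linearMap (M := AdicCompletion (maximalIdeal A) N)
      X₁.subtype X₁.injective_subtype ?_
    rw [map_zero, ← hz, ← LinearMap.comp_apply, ← LinearMap.comp_apply,
      LinearMap.lTensor_comp_rTensor, LinearMap.rTensor_comp_lTensor]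
  have := CommAlg4.finite_tensor (R := A) (S := N) (N := N) X₁
  obtain ⟨r, hr⟩ := ((maximalIdeal A).map (algebraMap A N)).mem_iInf_smul_pow_eq_bot_iff y |>.1
    (CommAlg4.mem_iInf_of_completion_tensor_eq_zero (S := N) (maximalIdeal A) y hy)
  let b : N := 1 - (r : N)
  let z := X₁.subtype.lTensor N y
  have hbz : b • z = 0 := by
    have h0 : b • y = 0 := by
      show (1 - (r : N)) • y = 0
      exact ((sub_smul (1 : N) (r : N) y).trans (by rw [one_smul, hr, sub_self]))
    have hlin : ∀ w, X₁.subtype.lTensor N (b • w) = b • X₁.subtype.lTensor N w := by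
      intro w
      induction w with
      | zero => simp
      | tmul p x => simp [smul_tmul']
      | add p x hp hx => simp only [smul_add, map_add, hp, hx]
    rw [← hlin, h0, map_zero]
  obtain ⟨Qm, hQm, hQle⟩ := hQ
  have hbQ : b ∉ Qm := fun hb => hQm.ne_top ((Ideal.eq_top_iff_one _).2 (by
    simpa [b] using Qm.add_mem hb (hQle r.2)))
  let B := T ⊗[A] N
  have : Module.Flat T B := inferInstance
  let c : B := 1 ⊗ₜ b
  have hsymm : ∀ w : N ⊗[A] X, (CAlgML.baseChangeTensor (S := T) (M := N) X).symm (b • w) =
      c • (CAlgML.baseChangeTensor (S := T) (M := N) X).symm w := by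
    intro w
    induction w with
    | zero => simp
    | tmul p x =>
      simp only [smul_tmul', CAlgML.baseChangeTensor_symm_tmul, smul_eq_mul, c]
      rw [Algebra.TensorProduct.tmul_mul_tmul, one_mul]
    | add p x hp hx => simp only [smul_add, map_add, hp, hx]
  apply (CAlgML.baseChangeTensor (S := T) (M := N) X).symm.injective
  rw [map_zero]
  refine eq_zero_of_smul_eq_zero (fun P _ => ?_) c (fun P _ => ?_) _
    (by rw [← hsymm, hbz, map_zero])
  · let e : B ⊗[T] P.ResidueField ≃ₐ[A] N ⊗[A] P.ResidueField :=
      ((Algebra.TensorProduct.comm T B P.ResidueField).restrictScalars A).trans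
        (((Algebra.TensorProduct.cancelBaseChange A T T P.ResidueField N).restrictScalars A).trans
          (Algebra.TensorProduct.comm A P.ResidueField N))
    have := hdom P.ResidueField
    exact e.toRingEquiv.toMulEquiv.isDomain _
  · intro h0
    have h1 : b ⊗ₜ[A] (1 : P.ResidueField) = 0 := by
      apply (CAlgML.baseChangeTensor (S := T) (M := N) P.ResidueField).symm.injective
      rw [map_zero, CAlgML.baseChangeTensor_symm_tmul]
      exact h0
    let t : Ideal A := P.comap (algebraMap A T)
    let j : t.ResidueField →ₐ[A] P.ResidueField :=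
      Ideal.ResidueField.mapₐ t P (Algebra.ofId A T) rfl
    have h2 : b ⊗ₜ[A] (1 : t.ResidueField) = 0 := by
      refine Module.Flat.lTensor_preserves_injective_linearMap (M := N) j.toLinearMap
        j.toRingHom.injective ?_
      rw [map_zero, LinearMap.lTensor_tmul, AlgHom.toLinearMap_apply, map_one, h1]
    have : (Qm.comap (algebraMap A N)).IsPrime := inferInstance
    have hm : Qm.comap (algebraMap A N) = maximalIdeal A :=
      ((maximalIdeal.isMaximal A).eq_of_le this.ne_top (Ideal.map_le_iff_le_comap.1 hQle)).symm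
    have : Qm.LiesOver (maximalIdeal A) := ⟨hm.symm⟩
    obtain ⟨q₀, hq₀, hq₀p, hq₀t⟩ := Ideal.exists_ideal_le_liesOver_of_le (R := A) (S := N)
      Qm (p := t) (q := maximalIdeal A) (le_maximalIdeal (Ideal.IsPrime.ne_top inferInstance))
    let g : t.ResidueField →ₐ[A] q₀.ResidueField :=
      Ideal.ResidueField.mapₐ t q₀ (Algebra.ofId A N) (q₀.over_def t)
    have h3 := congrArg (Algebra.TensorProduct.lift (IsScalarTower.toAlgHom A N q₀.ResidueField) g
      fun _ _ => .all _ _) h2
    rw [map_zero, Algebra.TensorProduct.lift_tmul, map_one, mul_one] at h3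
    exact hbQ (hq₀ (Ideal.algebraMap_residueField_eq_zero.1 h3))

theorem fibresDomain_of_algEquiv {R D D' : Type u} [CommRing R] [CommRing D] [CommRing D']
    [Algebra R D] [Algebra R D'] (e : D ≃ₐ[R] D') (h : FibresDomain R D) : FibresDomain R D' := by
  intro K _ _
  have := h K
  exact (Algebra.TensorProduct.congr (AlgEquiv.refl (R := K) (A₁ := K)) e).symm.toRingEquiv.toMulEquiv.isDomain _

set_option maxHeartbeats 1000000 in
set_option synthInstance.maxHeartbeats 100000 in
/-- Descending to a complete local base. -/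
theorem ml_of_model {R R₁ B₁ : Type u} [CommRing R] [IsLocalRing R] [CommRing R₁] [IsLocalRing R₁]
    [IsNoetherianRing R₁] [Algebra R₁ R] [IsLocalHom (algebraMap R₁ R)] [CommRing B₁]
    [Algebra R₁ B₁] [Algebra.Smooth R₁ B₁] (hdom : FibresDomain R (R ⊗[R₁] B₁)) :
    IsMittagLeffler R (R ⊗[R₁] B₁) := by
  let A := AdicCompletion (maximalIdeal R₁) R₁
  have : IsNoetherianRing A := Matlis6.isNoetherianRing_adicCompletion _
  have : Module.FaithfullyFlat R₁ A := by
    have : Module.Flat R₁ A := AdicCompletion.flat_of_isNoetherian _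
    exact Module.FaithfullyFlat.of_flat_of_isLocalHom
  let T := R ⊗[R₁] A
  let _ : Algebra A T := Algebra.TensorProduct.rightAlgebra
  have : IsScalarTower R₁ A T := .of_algebraMap_eq fun a => by
    show algebraMap R T (algebraMap R₁ R a) = Algebra.TensorProduct.includeRight (algebraMap R₁ A a)
    rw [AlgHom.commutes, ← IsScalarTower.algebraMap_apply]
  let N := A ⊗[R₁] B₁
  let ε : T ⊗[R] (R ⊗[R₁] B₁) ≃ₐ[T] T ⊗[A] N :=
    (Algebra.TensorProduct.cancelBaseChange R₁ R T T B₁).trans
      (Algebra.TensorProduct.cancelBaseChange R₁ A T T B₁).symm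
  have hdom' : ∀ (K : Type u) [Field K] [Algebra T K] [Algebra A K] [IsScalarTower A T K],
      IsDomain (N ⊗[A] K) := by
    intro K _ _ _ _
    let _ : Algebra R K := ((algebraMap T K).comp (algebraMap R T)).toAlgebra
    have : IsScalarTower R T K := ⟨fun r t x => by
      rw [show r • t = algebraMap R T r * t from Algebra.smul_def r t]
      rw [Algebra.smul_def (algebraMap R T r * t) x, Algebra.smul_def r, Algebra.smul_def t, map_mul,
        mul_assoc]
      rfl⟩
    let _ : Algebra R₁ K := ((algebraMap R K).comp (algebraMap R₁ R)).toAlgebra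
    have : IsScalarTower R₁ R K := .of_algebraMap_eq' rfl
    have : IsScalarTower R₁ A K := .of_algebraMap_eq fun a => by
      rw [IsScalarTower.algebraMap_apply A T K, ← IsScalarTower.algebraMap_apply R₁ A T,
        IsScalarTower.algebraMap_apply R₁ R T]
      rfl
    let f : K ⊗[R] (R ⊗[R₁] B₁) ≃ₐ[K] K ⊗[A] N :=
      (Algebra.TensorProduct.cancelBaseChange R₁ R K K B₁).trans
        (Algebra.TensorProduct.cancelBaseChange R₁ A K K B₁).symm
    have := hdom K
    have : IsDomain (K ⊗[A] N) := f.symm.toRingEquiv.toMulEquiv.isDomain _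
    exact (Algebra.TensorProduct.comm A N K).toRingEquiv.toMulEquiv.isDomain _
  have hQ : ∃ Q : Ideal N, Q.IsPrime ∧ (maximalIdeal A).map (algebraMap A N) ≤ Q := by
    obtain ⟨⟨P, hP⟩, hPR⟩ := PrimeSpectrum.comap_surjective_of_faithfullyFlat (A := R) (B := T)
      ⟨maximalIdeal R, inferInstance⟩
    let K := P.ResidueField
    have := hdom' K
    let g : N →ₐ[A] N ⊗[A] K := Algebra.TensorProduct.includeLeft
    obtain ⟨⟨M, hM⟩⟩ := (inferInstance : Nonempty (PrimeSpectrum (N ⊗[A] K)))
    refine ⟨M.comap g.toRingHom, Ideal.comap_isPrime g.toRingHom M, Ideal.map_le_iff_le_comap.2 fun a ha => ?_⟩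
    show g (algebraMap A N a) ∈ M
    rw [AlgHom.commutes, Algebra.TensorProduct.algebraMap_apply']
    have hPA : P.comap (algebraMap A T) = maximalIdeal A := by
      refine ((maximalIdeal.isMaximal A).eq_of_le (Ideal.IsPrime.ne_top inferInstance) ?_).symm
      rw [AdicCompletion.maximalIdeal_eq_map, Ideal.map_le_iff_le_comap, Ideal.comap_comap,
        ← IsScalarTower.algebraMap_eq, IsScalarTower.algebraMap_eq R₁ R T, ← Ideal.comap_comap]
      have : P.comap (algebraMap R T) = maximalIdeal R := congrArg PrimeSpectrum.asIdeal hPR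
      rw [this, IsLocalRing.maximalIdeal_comap]
    have : algebraMap A K a = 0 := by
      rw [IsScalarTower.algebraMap_apply A T K, Ideal.algebraMap_residueField_eq_zero]
      exact (SetLike.ext_iff.1 hPA a).2 ha
    rw [this, tmul_zero]
    exact M.zero_mem
  have hml : IsMittagLeffler T (T ⊗[R] (R ⊗[R₁] B₁)) :=
    CAlgML.ml_of_linearEquiv ε.toLinearEquiv (ml_of_complete hdom' hQ)
  exact CAlgML.ml_descent hml

theorem ml_of_iso {A₀ R₁ R B₀ D : Type u} [CommRing A₀] [CommRing R₁] [IsLocalRing R₁]
    [IsNoetherianRing R₁] [CommRing R] [IsLocalRing R] [CommRing B₀] [CommRing D]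
    [Algebra A₀ R₁] [Algebra A₀ R] [Algebra R₁ R] [IsScalarTower A₀ R₁ R]
    [IsLocalHom (algebraMap R₁ R)] [Algebra A₀ B₀] [Algebra.Smooth A₀ B₀] [Algebra R D]
    (e : D ≃ₐ[R] R ⊗[A₀] B₀) (hdom : FibresDomain R D) : IsMittagLeffler R D := by
  let e' : D ≃ₐ[R] R ⊗[R₁] (R₁ ⊗[A₀] B₀) :=
    e.trans (Algebra.TensorProduct.cancelBaseChange A₀ R₁ R R B₀).symm
  exact CAlgML.ml_of_linearEquiv e'.toLinearEquiv (ml_of_model (fibresDomain_of_algEquiv e' hdom))

set_option maxHeartbeats 1000000 in
/-- A smooth algebra with integral fibres over a local ring is free. -/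
theorem free_of_fibresDomain {R D : Type u} [CommRing R] [IsLocalRing R] [CommRing D] [Algebra R D]
    [Algebra.Smooth R D] (hdom : FibresDomain R D) : Module.Free R D := by
  obtain ⟨A₀, B₀, _, _, hA₀, _, ⟨e⟩⟩ := Algebra.Smooth.exists_subalgebra_fg ℤ R D
  have : Algebra.FiniteType ℤ A₀ := ⟨A₀.fg_top.mpr hA₀⟩
  have : IsNoetherianRing A₀ := Algebra.FiniteType.isNoetherianRing ℤ A₀
  let p₀ : Ideal A₀ := (maximalIdeal R).comap (algebraMap A₀ R)
  have hu : ∀ s : p₀.primeCompl, IsUnit (algebraMap A₀ R s) := fun s =>
    IsLocalRing.notMem_maximalIdeal.1 s.2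
  let _ : Algebra (Localization.AtPrime p₀) R :=
    (IsLocalization.lift (S := Localization.AtPrime p₀) hu).toAlgebra
  have : IsScalarTower A₀ (Localization.AtPrime p₀) R :=
    .of_algebraMap_eq' (IsLocalization.lift_comp _).symm
  have : IsNoetherianRing (Localization.AtPrime p₀) :=
    IsLocalization.isNoetherianRing p₀.primeCompl _ inferInstance
  have : IsLocalHom (algebraMap (Localization.AtPrime p₀) R) := by
    refine ⟨fun x hx => ?_⟩
    obtain ⟨⟨a, s⟩, hs⟩ := IsLocalization.surj p₀.primeCompl x
    by_contra hnu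
    have ha : algebraMap A₀ (Localization.AtPrime p₀) a ∈ maximalIdeal _ :=
      hs ▸ Ideal.mul_mem_right _ _ ((IsLocalRing.mem_maximalIdeal _).2 hnu)
    rw [IsLocalization.AtPrime.to_map_mem_maximal_iff (Localization.AtPrime p₀) p₀] at ha
    have h2 := congrArg (algebraMap (Localization.AtPrime p₀) R) hs
    rw [map_mul, ← IsScalarTower.algebraMap_apply, ← IsScalarTower.algebraMap_apply] at h2
    exact (IsLocalRing.mem_maximalIdeal _).1 ha (h2 ▸ hx.mul (hu s))
  have hml : IsMittagLeffler R D := ml_of_iso (R₁ := Localization.AtPrime p₀) e hdom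
  have := CAlgML.projective_of_flat_ml hml
    (CommAlg4.isCountablyGenerated_of_finiteType (R := R) (S := D) (N := D))
  exact CAlgML.free_of_projective

end Groth.Agent.FlatMorDevissage
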