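import Groth.Agent.FlatMorDevissage.ProjectiveNoeth
import Groth.Agent.FlatMorDevissage.FibresDomain
import Groth.Agent.FlatMorGeomIrr.Model
import Groth.Agent.FlatMorGeomIrr.CountOne
import Groth.Agent.FlatMorApprox.Refine
import Groth.Agent.FlatMor12.GeomDescent
import Mathlib.RingTheory.Smooth.NoetherianDescent

/-!
# Smooth algebras with geometrically irreducible fibres are projective modules
-/

set_option autoImplicit false
set_option backward.isDefEq.respectTransparency false

universe u

open TensorProduct Function AlgebraicGeometry CategoryTheory Limits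

namespace Groth.Agent.FlatMorDevissage

open Groth.Agent

/-- Geometric irreducibility of the fibres of a base change at a point. -/
theorem fibre_irreducible_tensor_iff {A₀ A D₀ : Type u} [CommRing A₀] [CommRing A] [CommRing D₀]
    [Algebra A₀ A] [Algebra A₀ D₀] (y : ↥(Spec (CommRingCat.of A))) :
    GeometricallyIrreducible ((Spec.map (CommRingCat.ofHom
        (algebraMap A (A ⊗[A₀] D₀)))).fiberToSpecResidueField y) ↔
      GeometricallyIrreducible ((Spec.map (CommRingCat.ofHom
        (algebraMap A₀ D₀))).fiberToSpecResidueField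
          (Spec.map (CommRingCat.ofHom (algebraMap A₀ A)) y)) :=
  FlatMor12.fibre_irreducible_iff
    ((isPullback_SpecMap_of_isPushout _ _ _ _
      (CommRingCat.isPushout_tensorProduct A₀ A D₀)).flip) y

set_option maxHeartbeats 1000000 in
/-- Raynaud-Gruson: a smooth algebra with geometrically irreducible fibres is projective. -/
theorem projective_of_smooth_geomIrred {R D : Type u} [CommRing R] [CommRing D] [Algebra R D]
    [Algebra.Smooth R D] (h : FlatCA.GeomIrredFibres R D) : Module.Projective R D := by
  obtain ⟨R₀, D₀, _, _, hfg, hsm, ⟨e⟩⟩ :=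
    Algebra.Smooth.exists_subalgebra_fg (R := ℤ) (A := R) (B := D)
  let f₀ := Spec.map (CommRingCat.ofHom (algebraMap R₀ D₀))
  let fR := Spec.map (CommRingCat.ofHom (algebraMap R (R ⊗[R₀] D₀)))
  have hR : GeometricallyIrreducible fR := by
    have he : Spec.map (CommRingCat.ofHom (algebraMap R D)) =
        (Scheme.Spec.mapIso (RingEquiv.toCommRingCatIso e.symm.toRingEquiv).op).hom ≫ fR := by
      simp only [fR, Functor.mapIso_hom, Iso.op_hom, RingEquiv.toCommRingCatIso_hom,
        AlgebraicGeometry.Scheme.Spec_map, Quiver.Hom.unop_op]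
      rw [← Spec.map_comp]
      congr 1
      ext r
      exact (e.symm.commutes r).symm
    have h' : GeometricallyIrreducible (Spec.map (CommRingCat.ofHom (algebraMap R D))) := h
    rw [he] at h'
    exact (MorphismProperty.cancel_left_of_respectsIso @GeometricallyIrreducible _ fR).1 h'
  let C : Set (PrimeSpectrum R₀) := {y | GeometricallyIrreducible (f₀.fiberToSpecResidueField y)}
  have : LocallyOfFinitePresentation f₀ := by
    rw [HasRingHomProperty.Spec_iff (P := @LocallyOfFinitePresentation)]
    exact RingHom.finitePresentation_algebraMap.2 inferInstance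
  have hC : Topology.IsConstructible C := by
    have h2 : Topology.IsConstructible (X := ↥(Spec (CommRingCat.of R₀)))
        {y | MoreMor.nGeomIrredComp f₀ y = 1} :=
      (FlatMorGeomIrr.isLocallyConstructible_counts f₀ 1).1.isConstructible
    have e₁ : C = {y : ↥(Spec (CommRingCat.of R₀)) | MoreMor.nGeomIrredComp f₀ y = 1} :=
      Set.ext fun y => FlatMorGeomIrr.geometricallyIrreducible_iff_count f₀ y
    exact (e₁ ▸ h2 : _)
  have hmem : ∀ p : PrimeSpectrum R, PrimeSpectrum.comap (algebraMap R₀ R) p ∈ C := fun p =>
    (fibre_irreducible_tensor_iff (A₀ := R₀) (D₀ := D₀) p).1 inferInstance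
  have hft : (algebraMap ℤ R₀).FiniteType :=
    RingHom.finiteType_algebraMap.2 ((Subalgebra.fg_iff_finiteType R₀).1 hfg)
  obtain ⟨R₁, _, α, β, hβ, hft₁, hgood⟩ :=
    FlatMorApprox.exists_fg_refinement (algebraMap R₀ R) hft C hC hmem
  let _ := α.toAlgebra
  let _ := β.toAlgebra
  have : IsScalarTower R₀ R₁ R := .of_algebraMap_eq' hβ.symm
  let _ : Algebra ℤ R₁ := Ring.toIntAlgebra R₁
  have : Algebra.FiniteType ℤ R₁ := RingHom.finiteType_algebraMap.1 hft₁
  have : IsNoetherianRing R₁ := Algebra.FiniteType.isNoetherianRing ℤ R₁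
  let D₁ := R₁ ⊗[R₀] D₀
  have hirr : FlatCA.GeomIrredFibres R₁ D₁ :=
    (GeometricallyIrreducible.iff_geometricallyIrreducible_fiber _).2 fun y =>
      (fibre_irreducible_tensor_iff (A₀ := R₀) (D₀ := D₀) y).2 (hgood y)
  have := projective_of_noetherian (A := R₁) (D := D₁) (fibresDomain_of_smooth_geomIrred hirr)
  exact Module.Projective.of_equiv
    ((Algebra.TensorProduct.cancelBaseChange R₀ R₁ R R D₀).trans e.symm).toLinearEquiv

end Groth.Agent.FlatMorDevissage
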