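import Groth.Agent.FlatMorDevissage.HullPoint
import Groth.Agent.FlatMorDevissage.OpenNhd
import Groth.Agent.FlatMorDevissage.FPOpen

/-!
# Elements of flat modules killed by a prime of the base lie in the socle of the point hull
-/

set_option autoImplicit false
set_option backward.isDefEq.respectTransparency false

universe u

open TensorProduct Function

namespace Groth.Agent.FlatMorDevissage

open Groth.Agent

attribute [local instance] Algebra.TensorProduct.rightAlgebra

theorem coeff_mem_annihilator {H P : Type u} [CommRing H] [AddCommGroup P] [Module H P]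
    [Module.Projective H P] (m : Ideal H) (v : P) (hv : ∀ z ∈ m, z • v = 0) :
    v ∈ (Submodule.annihilator m : Ideal H) • (⊤ : Submodule H P) := by
  obtain ⟨s, hs⟩ := (Module.projective_def (R := H) (P := P)).1 ‹_›
  rw [← hs v, Finsupp.linearCombination_apply]
  refine Submodule.sum_mem _ fun i _ =>
    Submodule.smul_mem_smul (Submodule.mem_annihilator.2 fun z hz => ?_) Submodule.mem_top
  have : z * s v i = 0 := by
    rw [← smul_eq_mul, ← Finsupp.smul_apply, ← map_smul, hv z hz, map_zero, Finsupp.zero_apply]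
  rwa [smul_eq_mul, mul_comm]

variable {R : Type u} [CommRing R] {p : Ideal R} [p.IsPrime] {H : Type u} [CommRing H]
  [Algebra R H] {m : Ideal H}

/-- Near a point of flatness over `p`, an element killed by `p` vanishes modulo the socle. -/
theorem killed_at_socle (hH : IsPointHull R p H m) (hJ : Submodule.annihilator m ≤ m)
    {S : Type u} [CommRing S] [Algebra R S] [Algebra.FinitePresentation R S] (N : Type u)
    [AddCommGroup N] [Module S N] [Module R N] [IsScalarTower R S N] [Module.FinitePresentation S N]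
    (q : Ideal S) [q.IsPrime] [q.LiesOver p] (hflat : FlatCA.FlatAt R q N) (x : N)
    (hx : ∀ b ∈ p, ∃ t ∉ q, t • (algebraMap R S b • x) = 0)
    (D : Type u) [CommRing D] [Algebra (H ⧸ Submodule.annihilator m) D] [Algebra S D] [Algebra R D]
    [IsScalarTower R (H ⧸ Submodule.annihilator m) D] [IsScalarTower R S D]
    [Algebra.IsPushout R (H ⧸ Submodule.annihilator m) S D] (Q : Ideal D) [Q.IsPrime]
    [Q.LiesOver q]
    (hQm : Q.comap (algebraMap (H ⧸ Submodule.annihilator m) D) =
      m.map (Ideal.Quotient.mk (Submodule.annihilator m))) :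
    ∃ s ∉ Q, s • ((1 : D) ⊗ₜ[S] x) = 0 := by
  by_cases hNq : Module.annihilator S N ≤ q
  swap
  · obtain ⟨a, haN, haq⟩ := SetLike.not_le_iff_exists.1 hNq
    refine ⟨algebraMap S D a, fun h => haq (by rw [Q.over_def q]; exact h), ?_⟩
    rw [algebraMap_smul, ← TensorProduct.tmul_smul, Module.mem_annihilator.1 haN, TensorProduct.tmul_zero]
  obtain ⟨R₀, S₀, _, _, _, _, _, _, _, _, p₀, q₀, _, _, hR, hS, ho, hfp, hfl, hdev⟩ :=
    exists_flat_devissage_nhd N p q hflat hNq
  obtain ⟨hRe, hRo, hRb⟩ := id hR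
  obtain ⟨hSe, hSo, hSb⟩ := id hS
  obtain ⟨D₀, ⟨hD₀⟩⟩ := hdev
  obtain ⟨φ, hφ⟩ := hH.factor R₀ p₀ hR
  let J : Ideal H := Submodule.annihilator m
  let Hb := H ⧸ J
  let mb : Ideal Hb := m.map (Ideal.Quotient.mk J)
  have hHb : IsPointHull R p Hb mb := hH.quotient J hJ
  have := hH.isPrime
  have := hHb.isPrime
  have := hH.over
  have := hHb.over
  let _ : Algebra R₀ H := φ.toRingHom.toAlgebra
  have : IsScalarTower R R₀ H := .of_algebraMap_eq fun r => (φ.commutes r).symm
  let _ : Algebra R₀ Hb := ((Ideal.Quotient.mk J).comp φ.toRingHom).toAlgebra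
  have : IsScalarTower R₀ H Hb := .of_algebraMap_eq' rfl
  have : IsScalarTower R R₀ Hb := IsScalarTower.of_algebraMap_eq (R := R) (S := R₀) (A := Hb) fun r => by
    show Ideal.Quotient.mk J (algebraMap R H r) = Ideal.Quotient.mk J (φ (algebraMap R R₀ r))
    rw [AlgHom.commutes]
  have : m.LiesOver p₀ := ⟨hφ.symm⟩
  have hmb : mb.LiesOver p₀ := ⟨by
    rw [Ideal.under, IsScalarTower.algebraMap_eq R₀ H Hb, ← Ideal.comap_comap,
      Ideal.Quotient.algebraMap_eq, Ideal.comap_map_mk hJ]
    exact hφ.symm⟩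
  -- regularity on the projective base change
  have hflat₀ : ∀ (L : Type u) [CommRing L] [Algebra R₀ L], IsUnit (algebraMap R₀ L 1) →
      Module.Flat L (L ⊗[R₀] (S₀ ⊗[S] N)) := fun L _ _ _ => inferInstance
  have h1 : (1 : R₀) ∉ p₀ := fun hm => ‹p₀.IsPrime›.ne_top ((Ideal.eq_top_iff_one p₀).2 hm)
  have : Module.FinitePresentation S₀ (S₀ ⊗[S] N) := inferInstance
  obtain ⟨f₁, hf₁, -, hproj⟩ := exists_projective D₀ h1 hflat₀
  have hunit : ∀ f ∉ p₀, IsUnit (algebraMap R₀ H f) := fun f hf =>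
    hH.le_jacobson _ fun h => hf (hφ ▸ h)
  obtain ⟨hP, -⟩ := hproj H (hunit f₁ hf₁)
  let v : H ⊗[R₀] (S₀ ⊗[S] N) := (1 : H) ⊗ₜ ((1 : S₀) ⊗ₜ x)
  have hmv : ∀ z ∈ m, z • v = 0 := by
    intro z hz
    rw [hH.eq_map, Ideal.map] at hz
    induction hz using Submodule.span_induction with
    | zero => exact zero_smul _ _
    | add a b _ _ ha hb => rw [add_smul, ha, hb, add_zero]
    | smul a b _ hb => rw [smul_eq_mul, mul_smul, hb, smul_zero]
    | mem z hz =>
      obtain ⟨b, hb, rfl⟩ := hz
      obtain ⟨t, ht, htx⟩ := hx b hb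
      have htq : algebraMap S S₀ t ∉ q₀ := fun h => ht (by rw [hSo.over]; exact h)
      obtain ⟨f₂, hf₂, hreg⟩ := exists_forall_regular D₀ hD₀ h1 hflat₀ _ htq
      let u := (LinearMap.lsmul S₀ (S₀ ⊗[S] N) (algebraMap S S₀ t)).restrictScalars R₀
      have hu : Injective (u.baseChange H) := by
        refine (injective_flat_coker_of_fibres (u.baseChange H) fun m' _ => ?_).1
        exact injective_lTensor_baseChange (L := H) (K := m'.ResidueField) u
          (hreg _ (by
            rw [IsScalarTower.algebraMap_apply R₀ H m'.ResidueField]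
            exact (hunit f₂ hf₂).map _))
      apply hu
      rw [map_zero, map_smul, LinearMap.baseChange_tmul, IsScalarTower.algebraMap_apply R R₀ H,
        algebraMap_smul, ← TensorProduct.tmul_smul]
      have h0 : algebraMap R R₀ b • u ((1 : S₀) ⊗ₜ[S] x) = 0 := by
        show algebraMap R R₀ b • (algebraMap S S₀ t • ((1 : S₀) ⊗ₜ[S] x)) = 0
        rw [← algebraMap_smul S₀ (algebraMap R R₀ b), ← IsScalarTower.algebraMap_apply,
          IsScalarTower.algebraMap_apply R S S₀, TensorProduct.smul_tmul', smul_eq_mul, mul_one,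
          TensorProduct.smul_tmul', smul_eq_mul, ← map_mul, Algebra.algebraMap_eq_smul_one,
          TensorProduct.smul_tmul, mul_comm, mul_smul, htx, TensorProduct.tmul_zero]
      rw [h0, TensorProduct.tmul_zero]
  have hvJ := coeff_mem_annihilator m v hmv
  have hv0 : ((Algebra.linearMap H Hb).restrictScalars R₀).rTensor (S₀ ⊗[S] N) v = 0 := by
    refine Submodule.smul_induction_on hvJ (fun a ha y _ => ?_) fun a b ha hb => by
      rw [map_add, ha, hb, add_zero]
    induction y using TensorProduct.induction_on with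
    | zero => rw [smul_zero, map_zero]
    | add a b ha hb => rw [smul_add, map_add, ha trivial, hb trivial, add_zero]
    | tmul c n =>
      rw [TensorProduct.smul_tmul', LinearMap.rTensor_tmul]
      show Ideal.Quotient.mk J (a * c) ⊗ₜ[R₀] n = 0
      rw [map_mul, show Ideal.Quotient.mk J a = 0 from Ideal.Quotient.eq_zero_iff_mem.2 ha, zero_mul,
        TensorProduct.zero_tmul]
  -- the etale algebra over `D`
  let T₀ := R₀ ⊗[R] S
  let θ : T₀ →ₐ[R₀] S₀ := Algebra.TensorProduct.lift (Algebra.ofId R₀ S₀)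
    (IsScalarTower.toAlgHom R S S₀) fun _ _ => .all _ _
  let _ : Algebra T₀ S₀ := θ.toRingHom.toAlgebra
  have : IsScalarTower R₀ T₀ S₀ := .of_algebraMap_eq fun r => (θ.commutes r).symm
  have : IsScalarTower S T₀ S₀ := .of_algebraMap_eq fun b => by
    show _ = θ ((1 : R₀) ⊗ₜ[R] b)
    rw [Algebra.TensorProduct.lift_tmul, map_one, one_mul]
    rfl
  have : Algebra.Etale S T₀ := etale_rightAlgebra
  have : Algebra.Etale T₀ S₀ := Algebra.Etale.of_restrictScalars S _ _
  let S' := Hb ⊗[R₀] S₀
  let _ : Algebra S S' := ((algebraMap S₀ S').comp (algebraMap S S₀)).toAlgebra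
  have : IsScalarTower S S₀ S' := .of_algebraMap_eq' rfl
  have : IsScalarTower R S₀ S' := IsScalarTower.of_algebraMap_eq (R := R) (S := S₀) (A := S') fun r => by
    rw [IsScalarTower.algebraMap_apply R R₀ S₀, ← IsScalarTower.algebraMap_apply R₀ S₀ S',
      IsScalarTower.algebraMap_apply R₀ Hb S', ← IsScalarTower.algebraMap_apply R R₀ Hb,
      ← IsScalarTower.algebraMap_apply R Hb S']
  have : IsScalarTower R S S' := IsScalarTower.of_algebraMap_eq (R := R) (S := S) (A := S') fun r => by
    rw [IsScalarTower.algebraMap_apply S S₀ S', ← IsScalarTower.algebraMap_apply R S S₀,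
      ← IsScalarTower.algebraMap_apply R S₀ S']
  let κ : D →ₐ[R] S' := Algebra.pushoutDesc D (IsScalarTower.toAlgHom R Hb S')
    (IsScalarTower.toAlgHom R S S') fun _ _ => mul_comm _ _
  let _ : Algebra D S' := κ.toRingHom.toAlgebra
  have : IsScalarTower Hb D S' := IsScalarTower.of_algebraMap_eq (R := Hb) (S := D) (A := S') fun l => by
    show _ = κ (algebraMap Hb D l)
    simp only [κ, Algebra.pushoutDesc_left]
    rfl
  have : IsScalarTower S D S' := IsScalarTower.of_algebraMap_eq (R := S) (S := D) (A := S') fun b => by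
    show _ = κ (algebraMap S D b)
    simp only [κ, Algebra.pushoutDesc_right]
    rfl
  let _ : Algebra R₀ D := ((algebraMap Hb D).comp (algebraMap R₀ Hb)).toAlgebra
  have : IsScalarTower R₀ Hb D := .of_algebraMap_eq' rfl
  have : IsScalarTower R R₀ D := IsScalarTower.of_algebraMap_eq (R := R) (S := R₀) (A := D) fun r => by
    rw [IsScalarTower.algebraMap_apply R₀ Hb D, ← IsScalarTower.algebraMap_apply R R₀ Hb,
      ← IsScalarTower.algebraMap_apply R Hb D]
  let ι : T₀ →ₐ[R₀] D := Algebra.TensorProduct.lift (Algebra.ofId R₀ D)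
    (IsScalarTower.toAlgHom R S D) fun _ _ => .all _ _
  let _ : Algebra T₀ D := ι.toRingHom.toAlgebra
  have : IsScalarTower R₀ T₀ D := .of_algebraMap_eq fun r => (ι.commutes r).symm
  have : IsScalarTower S T₀ D := .of_algebraMap_eq fun b => by
    show _ = ι ((1 : R₀) ⊗ₜ[R] b)
    rw [Algebra.TensorProduct.lift_tmul, map_one, one_mul]
    rfl
  have : IsScalarTower R T₀ D := .of_algebraMap_eq fun r => by
    rw [IsScalarTower.algebraMap_apply R R₀ T₀, ← IsScalarTower.algebraMap_apply R₀ T₀ D,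
      ← IsScalarTower.algebraMap_apply R R₀ D]
  have hDp : Algebra.IsPushout R₀ Hb T₀ D :=
    (Algebra.IsPushout.comp_iff R R₀ S T₀).1 ‹Algebra.IsPushout R Hb S D›
  let _ : Algebra T₀ S' := ((algebraMap S₀ S').comp (algebraMap T₀ S₀)).toAlgebra
  have : IsScalarTower T₀ S₀ S' := .of_algebraMap_eq' rfl
  have : IsScalarTower R₀ T₀ S' := IsScalarTower.of_algebraMap_eq (R := R₀) (S := T₀) (A := S') fun r => by
    rw [IsScalarTower.algebraMap_apply T₀ S₀ S', ← IsScalarTower.algebraMap_apply R₀ T₀ S₀,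
      ← IsScalarTower.algebraMap_apply R₀ S₀ S']
  have : IsScalarTower R₀ D S' := IsScalarTower.of_algebraMap_eq (R := R₀) (S := D) (A := S') fun r => by
    rw [IsScalarTower.algebraMap_apply R₀ Hb D, ← IsScalarTower.algebraMap_apply Hb D S',
      ← IsScalarTower.algebraMap_apply R₀ Hb S']
  have : IsScalarTower T₀ D S' := IsScalarTower.of_algebraMap_eq (R := T₀) (S := D) (A := S') fun t => by
    induction t using TensorProduct.induction_on with
    | zero => simp
    | tmul r b =>
      show algebraMap S₀ S' (algebraMap R₀ S₀ r * algebraMap S S₀ b) =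
        algebraMap D S' (algebraMap R₀ D r * algebraMap S D b)
      rw [map_mul, map_mul, ← IsScalarTower.algebraMap_apply R₀ S₀ S',
        ← IsScalarTower.algebraMap_apply R₀ D S', ← IsScalarTower.algebraMap_apply S S₀ S',
        ← IsScalarTower.algebraMap_apply S D S']
    | add a b ha hb => simp only [map_add, ha, hb]
  have : Algebra.IsPushout R₀ T₀ Hb D := hDp.symm
  have hsq : Algebra.IsPushout R₀ S₀ Hb S' := inferInstance
  have hsq' : Algebra.IsPushout T₀ S₀ D S' := (Algebra.IsPushout.comp_iff R₀ T₀ Hb D).1 hsq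
  have : Algebra.IsPushout T₀ D S₀ S' := hsq'.symm
  have : Algebra.Etale D S' := Algebra.Etale.of_equiv (Algebra.IsPushout.equiv T₀ D S₀ S')
  -- the element vanishes in `S' ⊗ N`
  have hz : (1 : S') ⊗ₜ[S] x = 0 := by
    let e₁ : S' ⊗[S₀] (S₀ ⊗[S] N) ≃ₗ[Hb] Hb ⊗[R₀] (S₀ ⊗[S] N) :=
      Algebra.IsPushout.cancelBaseChange R₀ Hb S₀ S' (S₀ ⊗[S] N)
    let e₂ : S' ⊗[S₀] (S₀ ⊗[S] N) ≃ₗ[S'] S' ⊗[S] N :=
      TensorProduct.AlgebraTensorModule.cancelBaseChange S S₀ S' S' N
    have h0 : e₁ ((1 : S') ⊗ₜ ((1 : S₀) ⊗ₜ x)) = 0 := by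
      rw [← hv0]
      simp only [e₁, v]
      simp
    have h2 := congrArg e₂ ((map_eq_zero_iff e₁ e₁.injective).1 h0)
    rw [map_zero] at h2
    simpa [e₂] using h2
  have hz' : (1 : S') ⊗ₜ[D] ((1 : D) ⊗ₜ[S] x) = 0 := by
    apply (TensorProduct.AlgebraTensorModule.cancelBaseChange S D S' S' N).injective
    rw [map_zero, TensorProduct.AlgebraTensorModule.cancelBaseChange_tmul, one_smul, hz]
  -- the prime of `S'`
  have hres₀ : ∀ y : Hb, ∃ a s : R₀, s ∉ p₀ ∧ algebraMap R₀ Hb s * y - algebraMap R₀ Hb a ∈ mb := by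
    intro y
    obtain ⟨a, s, hs, h⟩ := hHb.res y
    refine ⟨algebraMap R R₀ a, algebraMap R R₀ s, fun h' => hs (by rw [hRo.over]; exact h'), ?_⟩
    rwa [← IsScalarTower.algebraMap_apply, ← IsScalarTower.algebraMap_apply]
  have : q₀.LiesOver p₀ := ho
  obtain ⟨X, hX, hXq, hXm⟩ := exists_prime_isPushout (R' := Hb) (S' := S') p₀ mb
    (bijective_residueField_of_res p₀ mb hres₀) q₀
  have : X.LiesOver q := Ideal.LiesOver.trans X q₀ q
  have hXQ : X.comap (algebraMap D S') = Q := by
    have : Q.LiesOver mb := ⟨hQm.symm⟩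
    have : (X.comap (algebraMap D S')).LiesOver mb := ⟨by
      rw [Ideal.under, Ideal.comap_comap, ← IsScalarTower.algebraMap_eq]
      exact hXm.over⟩
    refine eq_of_isPushout (S := S) (S' := D) p mb (bijective_residueField_of_res p mb hHb.res) _ Q ?_
    rw [Ideal.comap_comap, ← IsScalarTower.algebraMap_eq]
    exact (X.over_def q).symm.trans (Q.over_def q)
  have : Module.Flat D S' := inferInstance
  obtain ⟨s, hs, hsx⟩ := exists_smul_eq_zero_of_tmul X ((1 : D) ⊗ₜ[S] x) (X.one_notMem) hz'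
  exact ⟨s, hXQ ▸ hs, hsx⟩

end Groth.Agent.FlatMorDevissage
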