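import Groth.Agent.FlatMorDevissage.Socle

/-!
# The socle of the point hull captures elements killed by a prime; injectivity
-/

set_option autoImplicit false
set_option backward.isDefEq.respectTransparency false

universe u

open TensorProduct Function

namespace Groth.Agent.FlatMorDevissage

open Groth.Agent

attribute [local instance] Algebra.TensorProduct.rightAlgebra

variable {R : Type u} [CommRing R] {S : Type u} [CommRing S] [Algebra R S]

/-- Flatness at a prime is stable under base change. -/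
theorem flatAt_of_isPushout {H D : Type u} [CommRing H] [CommRing D] [Algebra R H] [Algebra H D]
    [Algebra S D] [Algebra R D] [IsScalarTower R H D] [IsScalarTower R S D]
    [Algebra.IsPushout R H S D] (N : Type u) [AddCommGroup N] [Module S N] [Module R N]
    [IsScalarTower R S N]
    (Q : Ideal D) [Q.IsPrime] (h : FlatCA.FlatAt R (Q.comap (algebraMap S D)) N) :
    FlatCA.FlatAt H Q (D ⊗[S] N) := by
  refine (flatAt_iff_kerKilled Q).2 fun A B _ _ _ _ i hi x hx => ?_
  let _ : Module R A := Module.compHom A (algebraMap R H)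
  let _ : Module R B := Module.compHom B (algebraMap R H)
  have : IsScalarTower R H A := .of_algebraMap_smul fun _ _ => rfl
  have : IsScalarTower R H B := .of_algebraMap_smul fun _ _ => rfl
  let c : D ⊗[S] N ≃ₗ[H] H ⊗[R] N := Algebra.IsPushout.cancelBaseChange R H S D N
  let E : ∀ (A : Type u) [AddCommGroup A] [Module H A] [Module R A] [IsScalarTower R H A],
      (D ⊗[S] N) ⊗[H] A ≃+ N ⊗[R] A := fun A _ _ _ _ =>
    (((TensorProduct.congr c (LinearEquiv.refl H A)).trans (TensorProduct.comm H _ _)).trans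
      (TensorProduct.AlgebraTensorModule.cancelBaseChange R H H A N)).toAddEquiv.trans
      (TensorProduct.comm R A N).toAddEquiv
  have hEt : ∀ (A : Type u) [AddCommGroup A] [Module H A] [Module R A] [IsScalarTower R H A]
      (n : N) (a : A), E A (((1 : D) ⊗ₜ n) ⊗ₜ a) = n ⊗ₜ a := fun A _ _ _ _ n a => by
    simp [E, c]
  have hsurj : ∀ (A : Type u) [AddCommGroup A] [Module H A] [Module R A] [IsScalarTower R H A]
      (w : N ⊗[R] A) (t : S), algebraMap S D t • (E A).symm w = (E A).symm (t • w) := by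
    intro A _ _ _ _ w t
    induction w using TensorProduct.induction_on with
    | zero => simp
    | add a b ha hb => simp only [map_add, smul_add, ha, hb]
    | tmul n a =>
      rw [show t • (n ⊗ₜ[R] a) = (t • n) ⊗ₜ[R] a from TensorProduct.smul_tmul' t n a, ← hEt A n a,
        ← hEt A (t • n) a, AddEquiv.symm_apply_apply, AddEquiv.symm_apply_apply,
        TensorProduct.smul_tmul', algebraMap_smul, ← TensorProduct.tmul_smul]
  have hnat : E B (i.lTensor _ x) = (i.restrictScalars R).lTensor N (E A x) := by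
    obtain ⟨w, rfl⟩ := (E A).symm.surjective x
    clear hx
    induction w using TensorProduct.induction_on with
    | zero => simp
    | add a b ha hb => simp only [map_add, ha, hb]
    | tmul n a =>
      rw [AddEquiv.apply_symm_apply, ← hEt A n a, AddEquiv.symm_apply_apply, LinearMap.lTensor_tmul,
        hEt, hEt, LinearMap.lTensor_tmul]
      rfl
  obtain ⟨t, ht, htx⟩ := (flatAt_iff_kerKilled (Q.comap (algebraMap S D))).1 h (i.restrictScalars R) hi
    (E A x) (by rw [← hnat, hx, map_zero])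
  refine ⟨algebraMap S D t, ht, ?_⟩
  rw [← (E A).symm_apply_apply x, hsurj, htx, map_zero]

/-- An element killed by `p` after localisation lies in the socle of a point hull. -/
theorem exists_socle [Algebra.FinitePresentation R S] (N : Type u) [AddCommGroup N] [Module S N]
    [Module R N] [IsScalarTower R S N] [Module.FinitePresentation S N] (T : Submonoid S)
    (hflat : ∀ (q : Ideal S) [q.IsPrime], Disjoint (T : Set S) (q : Set S) → FlatCA.FlatAt R q N)
    (p : Ideal R) [p.IsPrime] (x : N) (hx : ∀ b ∈ p, ∃ t ∈ T, t • (algebraMap R S b • x) = 0)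
    {H : Type u} [CommRing H] [Algebra R H] {m : Ideal H} (hH : IsPointHull R p H m) :
    ∃ t ∈ T, (1 : H ⧸ Submodule.annihilator m) ⊗ₜ[R] (t • x) = 0 := by
  classical
  let Hb := H ⧸ (Submodule.annihilator m : Ideal H)
  let D := Hb ⊗[R] S
  let W := D ⊗[S] N
  let w : W := (1 : D) ⊗ₜ x
  let mb : Ideal Hb := m.map (Ideal.Quotient.mk (Submodule.annihilator m))
  suffices hall : ∀ (Q : Ideal D), Q.IsPrime → Disjoint (T : Set S) (Q.comap (algebraMap S D) : Set S) →
      ∃ s ∉ Q, s • w = 0 by
    have hnd : ¬ Disjoint ((CAlgH3.annEl D w : Ideal D) : Set D)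
        (T.map (algebraMap S D) : Set D) := fun hd => by
      obtain ⟨Q, hQ, hle, hQT⟩ := Ideal.exists_le_prime_disjoint _ _ hd
      obtain ⟨s, hs, hsw⟩ := hall Q hQ (Set.disjoint_left.2 fun t ht htQ =>
        Set.disjoint_left.1 hQT htQ ⟨t, ht, rfl⟩)
      exact hs (hle (CAlgH3.mem_annEl.2 hsw))
    obtain ⟨_, hwI, t, ht, rfl⟩ := Set.not_disjoint_iff.1 hnd
    refine ⟨t, ht, ?_⟩
    have h1 : algebraMap S D t • w = 0 := CAlgH3.mem_annEl.1 hwI
    rw [algebraMap_smul, ← TensorProduct.tmul_smul] at h1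
    have h2 := congrArg (Algebra.IsPushout.cancelBaseChange R Hb S D N) h1
    rw [map_zero] at h2
    rw [Algebra.IsPushout.cancelBaseChange_tmul] at h2
    exact h2
  have hJm : ∀ (Q : Ideal D), Q.IsPrime → (Submodule.annihilator m : Ideal H) ≤ m ∧
      Q.comap (algebraMap Hb D) ≤ mb := fun Q hQ => by
    have h1 : ∀ a : H, Ideal.Quotient.mk _ a ∈ Q.comap (algebraMap Hb D) → a ∈ m := fun a ha => by
      by_contra ham
      exact (Ideal.IsPrime.comap (algebraMap Hb D) : (Q.comap (algebraMap Hb D)).IsPrime).ne_top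
        (Ideal.eq_top_of_isUnit_mem _ ha ((hH.le_jacobson a ham).map _))
    refine ⟨fun a ha => h1 a ?_, fun y hy => ?_⟩
    · rw [Ideal.Quotient.eq_zero_iff_mem.2 ha]; exact zero_mem _
    · obtain ⟨a, rfl⟩ := Ideal.Quotient.mk_surjective y
      exact Ideal.mem_map_of_mem _ (h1 a hy)
  -- primes away from the closed fibre
  have hgen : ∀ (Q : Ideal D), Q.IsPrime → Disjoint (T : Set S) (Q.comap (algebraMap S D) : Set S) →
      Q.comap (algebraMap Hb D) ≠ mb → ∃ s ∉ Q, s • w = 0 := by
    intro Q hQ hd hne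
    obtain ⟨b, hb, hbQ⟩ : ∃ b ∈ p, algebraMap R D b ∉ Q := by
      by_contra! h
      refine hne (le_antisymm (hJm Q hQ).2 ?_)
      rw [show mb = (p.map (algebraMap R H)).map (Ideal.Quotient.mk _) by rw [← hH.eq_map],
        Ideal.map_map, Ideal.map_le_iff_le_comap]
      intro b hb
      show algebraMap Hb D (Ideal.Quotient.mk _ (algebraMap R H b)) ∈ Q
      rw [show Ideal.Quotient.mk _ (algebraMap R H b) = algebraMap R Hb b from rfl,
        ← IsScalarTower.algebraMap_apply]
      exact h b hb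
    obtain ⟨t, ht, htx⟩ := hx b hb
    refine ⟨algebraMap S D (t * algebraMap R S b), ?_, ?_⟩
    · rw [map_mul, ← IsScalarTower.algebraMap_apply]
      exact Q.primeCompl.mul_mem (fun h => Set.disjoint_left.1 hd ht h) hbQ
    · rw [algebraMap_smul, ← TensorProduct.tmul_smul, mul_smul, htx, TensorProduct.tmul_zero]
  have hkill : ∀ (P : Ideal D), P.IsPrime → Disjoint (T : Set S) (P.comap (algebraMap S D) : Set S) →
      P.comap (algebraMap Hb D) = mb → ∀ [(P.comap (algebraMap S D)).LiesOver p], ∃ s ∉ P, s • w = 0 := by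
    intro P hP hd hPm _
    exact killed_at_socle hH (hJm P hP).1 N (P.comap (algebraMap S D)) (hflat _ hd) x
      (fun b hb => by
        obtain ⟨t, ht, htx⟩ := hx b hb
        exact ⟨t, fun h => Set.disjoint_left.1 hd ht h, htx⟩) D P hPm
  intro Q hQ hd
  by_cases hQm : Q.comap (algebraMap Hb D) = mb
  swap
  · exact hgen Q hQ hd hQm
  have hmb : mb.IsPrime := hQm ▸ Ideal.IsPrime.comap _
  obtain ⟨Z, hZp, hZ⟩ := exists_fibre_primes (S := D) mb W
  have hover : ∀ P : Ideal D, P.comap (algebraMap Hb D) = mb →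
      (P.comap (algebraMap S D)).LiesOver p := fun P hP => ⟨by
    rw [(hH.quotient _ (hJm Q hQ).1).over.over]
    show mb.comap (algebraMap R Hb) = (P.comap (algebraMap S D)).comap (algebraMap R S)
    rw [Ideal.comap_comap, ← IsScalarTower.algebraMap_eq, IsScalarTower.algebraMap_eq R Hb D,
      ← Ideal.comap_comap, hP]⟩
  have hPk : ∀ P ∈ Z, P ≤ Q → ∃ s ∉ P, s • w = 0 := fun P hP hPQ => by
    have := hZp P hP
    have hdP : Disjoint (T : Set S) (P.comap (algebraMap S D) : Set S) :=
      Set.disjoint_left.2 fun t ht h => Set.disjoint_left.1 hd ht (hPQ h)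
    by_cases hPm : P.comap (algebraMap Hb D) = mb
    · exact @hkill P this hdP hPm (hover P hPm)
    · exact hgen P this hdP hPm
  obtain ⟨t, htI, htP⟩ : ∃ t ∈ CAlgH3.annEl D w, ∀ P ∈ Z.filter (· ≤ Q), t ∉ P := by
    by_contra! hc
    obtain ⟨P, hP, hIP⟩ := (Ideal.subset_union_prime (f := fun P => P) ⊥ ⊥
      (fun P hP _ _ => hZp P (Finset.mem_filter.1 hP).1)).1 (fun y hy => by
        obtain ⟨P, hP, hyP⟩ := hc y hy
        exact Set.mem_iUnion₂.2 ⟨P, hP, hyP⟩)
    obtain ⟨hP, hPQ⟩ := Finset.mem_filter.1 hP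
    obtain ⟨s, hs, hsw⟩ := hPk P hP hPQ
    exact hs (hIP (CAlgH3.mem_annEl.2 hsw))
  have hfib :=
    fibInjAt_lsmul hZp hZ ⟨Q, hQ⟩ hQm t fun P hP hPQ => htP P (Finset.mem_filter.2 ⟨hP, hPQ⟩)
  exact (EGA43.InjFibre.uInjAt_of_fibInjAt (q := ⟨Q, hQ⟩)
    (flatAt_of_isPushout N Q (hflat _ hd)) hfib).exists_smul_eq_zero (CAlgH3.mem_annEl.1 htI)

end Groth.Agent.FlatMorDevissage
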