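import Groth.Agent.FlatMorDevissage.SpreadLemmas
import Groth.Agent.FlatMorDevissage.SmoothProjective
import Groth.Agent.FlatMorDevissage.CompleteFree

/-!
# Complete dévissages of flat modules give projectivity over a neighbourhood in the base
-/

set_option autoImplicit false
set_option backward.isDefEq.respectTransparency false

universe u

open TensorProduct Function

namespace Groth.Agent.FlatMorDevissage

open Groth.Agent

/-- Finite powers of a projective module. -/
theorem projective_pi_fin (R B : Type u) [CommRing R] [AddCommGroup B] [Module R B]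
    [Module.Projective R B] (r : ℕ) : Module.Projective R (Fin r → B) :=
  Module.Projective.of_equiv (M := Π₀ _ : Fin r, B) DFinsupp.linearEquivFunOnFintype

/-- Split sequences along a descending chain. -/
theorem exists_equiv_pi_projective {L : Type u} [CommRing L] :
    ∀ (n : ℕ) (G X : ℕ → Type u) [∀ i, AddCommGroup (G i)] [∀ i, Module L (G i)]
      [∀ i, AddCommGroup (X i)] [∀ i, Module L (X i)], (∀ i, i ≤ n → Module.Projective L (X i)) →
      (∀ i, i < n → Module.Projective L (G (i + 1)) → Nonempty (G i ≃ₗ[L] X i × G (i + 1))) →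
      Nonempty (G n ≃ₗ[L] X n) →
      Module.Projective L (G 0) ∧ Nonempty (G 0 ≃ₗ[L] ∀ j : Fin (n + 1), X j) := by
  intro n
  induction n with
  | zero =>
    intro G X _ _ _ _ hX _ hlast
    obtain ⟨e⟩ := hlast
    have := hX 0 le_rfl
    let _ : Unique (Fin (0 + 1)) := inferInstanceAs (Unique (Fin 1))
    exact ⟨Module.Projective.of_equiv e.symm,
      ⟨e.trans (LinearEquiv.piUnique L (fun j : Fin (0 + 1) => X j)).symm⟩⟩
  | succ n ih =>
    intro G X _ _ _ _ hX hstep hlast
    obtain ⟨hp, ⟨e⟩⟩ := ih (fun i => G (i + 1)) (fun i => X (i + 1))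
      (fun i hi => hX (i + 1) (by omega)) (fun i hi hf => hstep (i + 1) (by omega) hf) hlast
    obtain ⟨e₀⟩ := hstep 0 (by omega) hp
    have := hX 0 (by omega)
    exact ⟨Module.Projective.of_equiv e₀.symm, ⟨e₀.trans ((LinearEquiv.prodCongr
      (LinearEquiv.refl L _) e).trans (Fin.consLinearEquiv L fun j : Fin (n + 1 + 1) => X j))⟩⟩

/-- Flatness after inverting an element gives flatness at primes avoiding it. -/
theorem flatAt_of_flat_away {R B M : Type u} [CommRing R] [CommRing B] [Algebra R B] [AddCommGroup M]
    [Module B M] [Module R M] [IsScalarTower R B M] (f : R) (P : Ideal B) [P.IsPrime]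
    (hf : algebraMap R B f ∉ P)
    [Module.Flat (Localization.Away f) (Localization.Away f ⊗[R] M)] : FlatCA.FlatAt R P M := by
  have : Module.Flat R (Localization.Away f ⊗[R] M) :=
    Module.Flat.trans R (Localization.Away f) _
  have h1 : Module.Flat R (LocalizedModule (Submonoid.powers f) M) := Module.Flat.of_linearEquiv
    ((LocalizedModule.equivTensorProduct (Submonoid.powers f) M).restrictScalars R)
  rw [flat_localized_algebraMap_iff (S := B), Submonoid.map_powers] at h1
  exact (flat_away_iff (algebraMap R B f)).1 h1 P hf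

/-- Injectivity on the fibre of a base change. -/
theorem injective_lTensor_baseChange {R L K X Y : Type u} [CommRing R] [CommRing L] [CommRing K]
    [Algebra R L] [Algebra L K] [Algebra R K] [IsScalarTower R L K] [AddCommGroup X] [Module R X]
    [AddCommGroup Y] [Module R Y] (u : X →ₗ[R] Y) (h : Injective (u.lTensor K)) :
    Injective ((u.baseChange L).lTensor K) := by
  have e : ∀ z : K ⊗[L] (L ⊗[R] X),
      TensorProduct.AlgebraTensorModule.cancelBaseChange R L L K Y ((u.baseChange L).lTensor K z) =
        u.lTensor K (TensorProduct.AlgebraTensorModule.cancelBaseChange R L L K X z) := by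
    intro z
    induction z with
    | zero => simp
    | add x y hx hy => simp only [map_add, hx, hy]
    | tmul a w =>
      induction w with
      | zero => simp
      | add x y hx hy => simp only [tmul_add, map_add, hx, hy]
      | tmul t x => simp
  intro a b hab
  apply (TensorProduct.AlgebraTensorModule.cancelBaseChange R L L K X).injective
  apply h
  rw [← e, ← e]
  exact congrArg _ hab

section Main

variable {R S N : Type u} [CommRing R] [CommRing S] [Algebra R S] [Algebra.FinitePresentation R S]
  [AddCommGroup N] [Module S N] [Module R N] [IsScalarTower R S N] [Module.FinitePresentation S N]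
  {p : Ideal R} [p.IsPrime] (D : FlatCA.CompleteDevissage R S N p)

/-- The modules of a complete dévissage of a finitely presented module are finitely presented. -/
theorem finitePresentation_step (i : ℕ) (hi : i < D.n) :
    Algebra.FinitePresentation R (D.A i) ∧ Module.FinitePresentation (D.B i) (D.M i) := by
  suffices h : Algebra.FinitePresentation R (D.A i) ∧ Module.FinitePresentation (D.A i) (D.M i) by
    obtain ⟨h1, h2⟩ := h
    have := D.finiteBA i hi
    have := D.smooth i hi
    have : Algebra.FinitePresentation (D.B i) (D.A i) :=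
      Algebra.FinitePresentation.of_restrict_scalars_finitePresentation R (D.B i) (D.A i)
    have := Module.FinitePresentation.of_finite_of_finitePresentation (D.B i) (D.A i)
    exact ⟨h1, Module.FinitePresentation.trans (D.B i) (D.M i) (D.A i)⟩
  induction i with
  | zero =>
    have := D.fpSA
    have : Module.Finite S (D.A 0) :=
      Module.Finite.of_surjective (Algebra.linearMap S (D.A 0)) D.surjSA
    have : Module.FinitePresentation S (D.M 0) := Module.FinitePresentation.of_equiv D.isoN
    exact ⟨Algebra.FinitePresentation.trans R S (D.A 0),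
      finitePresentation_of_restrictScalars S (D.A 0) (D.M 0)⟩
  | succ i ih =>
    obtain ⟨h1, h2⟩ := ih (by omega)
    have := D.finiteBA i (by omega)
    have := D.smooth i (by omega)
    have : Algebra.FinitePresentation (D.B i) (D.A i) :=
      Algebra.FinitePresentation.of_restrict_scalars_finitePresentation R (D.B i) (D.A i)
    have := Module.FinitePresentation.of_finite_of_finitePresentation (D.B i) (D.A i)
    have := Module.FinitePresentation.trans (D.B i) (D.M i) (D.A i)
    have := D.fpBA' i hi
    have : Module.Finite (D.B i) (D.A (i + 1)) :=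
      Module.Finite.of_surjective (Algebra.linearMap (D.B i) (D.A (i + 1))) (D.surjBA' i hi)
    have : Module.FinitePresentation (D.B i) (D.M i ⧸ LinearMap.range (D.α i)) :=
      Module.finitePresentation_of_surjective _ (Submodule.mkQ_surjective _)
        (by rw [Submodule.ker_mkQ]; rw [LinearMap.range_eq_map]; exact Module.Finite.fg_top.map _)
    have := Module.FinitePresentation.of_equiv (D.isoCoker i hi)
    exact ⟨Algebra.FinitePresentation.trans R (D.B i) (D.A (i + 1)),
      finitePresentation_of_restrictScalars (D.B i) (D.A (i + 1)) (D.M (i + 1))⟩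

instance isScalarTower_step (i : ℕ) : IsScalarTower R (D.A i) (D.M i) :=
  isScalarTower_of_three R (D.B i) (D.A i) (D.M i)

/-- The generic point of the fibre of a step lies over `p`. -/
theorem comap_map_step (i : ℕ) (hi : i < D.n) :
    (p.map (algebraMap R (D.B i))).comap (algebraMap R (D.B i)) = p := by
  have := D.smooth i hi
  have := fibresDomain_of_smooth_geomIrred (D.geomIrred i hi) p.ResidueField
  obtain ⟨P, hP⟩ := Ideal.exists_maximal (p.ResidueField ⊗[R] D.B i)
  let _ : Algebra (D.B i) (p.ResidueField ⊗[R] D.B i) := Algebra.TensorProduct.rightAlgebra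
  have h : (P.comap (algebraMap (D.B i) (p.ResidueField ⊗[R] D.B i))).comap
      (algebraMap R (D.B i)) = p :=
    (EGA43.FibDepth.comap_algebraMap_eq (R := D.B i) p ⟨P, hP.isPrime⟩).symm
  exact le_antisymm ((Ideal.comap_mono (Ideal.map_le_iff_le_comap.2 h.ge)).trans_eq h)
    Ideal.le_comap_map

set_option maxHeartbeats 2000000 in
/-- One step: after shrinking, the map is injective with flat cokernel. -/
theorem step_spread (i : ℕ) (hi : i < D.n) (f : R) (hf : f ∉ p)
    (hflat : ∀ (L : Type u) [CommRing L] [Algebra R L], IsUnit (algebraMap R L f) →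
      Module.Flat L (L ⊗[R] D.M i)) :
    ∃ f' ∉ p, f ∣ f' ∧ ∀ (L : Type u) [CommRing L] [Algebra R L],
      IsUnit (algebraMap R L f') → Injective (((D.α i).restrictScalars R).baseChange L) ∧
        Module.Flat L (L ⊗[R] (D.M i ⧸ LinearMap.range (D.α i))) := by
  have := D.smooth i hi
  obtain ⟨-, hfp⟩ := finitePresentation_step D i hi
  have hξ := comap_map_step D i hi
  have := hflat (Localization.Away f) (IsLocalization.Away.algebraMap_isUnit f)
  have hat : FlatCA.FlatAt R (p.map (algebraMap R (D.B i))) (D.M i) :=
    flatAt_of_flat_away f _ (fun h => hf (hξ.le h))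
  obtain ⟨e, γ, he, hγ⟩ := exists_inverse_mul p (D.α i) hξ (D.fibreIso i hi) hat
  have : (p.map (algebraMap R (D.B i))).LiesOver p := ⟨hξ.symm⟩
  obtain ⟨f₂, hf₂, hlift⟩ := exists_notMem_forall_lift p (p.map (algebraMap R (D.B i))) e he
  refine ⟨f * f₂, p.primeCompl.mul_mem hf hf₂, dvd_mul_right f f₂, fun L _ _ hu => ?_⟩
  rw [map_mul, IsUnit.mul_iff] at hu
  have := hflat L hu.1
  have := projective_of_smooth_geomIrred (D.geomIrred i hi)
  have := projective_pi_fin R (D.B i) (D.r i)
  let u := ((D.α i).restrictScalars R).baseChange L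
  obtain ⟨hinj, hcoker⟩ := injective_flat_coker_of_fibres u fun m _ =>
    injective_lTensor_baseChange ((D.α i).restrictScalars R)
      (injective_lTensor_field (fibresDomain_of_smooth_geomIrred (D.geomIrred i hi)) (D.α i) e γ hγ f₂
        hlift m.ResidueField (by
          rw [IsScalarTower.algebraMap_apply R L m.ResidueField]
          exact hu.2.map _))
  refine ⟨hinj, ?_⟩
  let q : L ⊗[R] D.M i →ₗ[L] L ⊗[R] (D.M i ⧸ LinearMap.range (D.α i)) :=
    ((LinearMap.range (D.α i)).mkQ.restrictScalars R).baseChange L
  have hex : Exact u q := lTensor_exact L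
    (f := (D.α i).restrictScalars R) (g := (LinearMap.range (D.α i)).mkQ.restrictScalars R)
    (LinearMap.exact_map_mkQ_range (D.α i)) (Submodule.mkQ_surjective _)
  have hsurj : Surjective q := LinearMap.lTensor_surjective L
    (g := (LinearMap.range (D.α i)).mkQ.restrictScalars R) (Submodule.mkQ_surjective _)
  exact Module.Flat.of_linearEquiv ((Submodule.quotEquivOfEq _ _
    (LinearMap.exact_iff.1 hex).symm).trans (q.quotKerEquivOfSurjective hsurj)).symm

variable {f₀ : R} (hf₀ : f₀ ∉ p)
  (hflat : ∀ (L : Type u) [CommRing L] [Algebra R L], IsUnit (algebraMap R L f₀) →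
    Module.Flat L (L ⊗[R] N))

include hf₀ hflat in
/-- The maps of the dévissage are injective over a basic open of the base. -/
theorem exists_forall_injective : ∃ f ∉ p, f₀ ∣ f ∧ ∀ i < D.n,
    ∀ (L : Type u) [CommRing L] [Algebra R L], IsUnit (algebraMap R L f) →
      Injective (((D.α i).restrictScalars R).baseChange L) := by
  have : IsScalarTower R S (D.M 0) := isScalarTower_of_top R S (D.A 0) (D.M 0)
  suffices h : ∀ k < D.n, ∃ f ∉ p, f₀ ∣ f ∧
      ∀ (L : Type u) [CommRing L] [Algebra R L], IsUnit (algebraMap R L f) →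
        Module.Flat L (L ⊗[R] D.M k) ∧
          ∀ i < k, Injective (((D.α i).restrictScalars R).baseChange L) by
    obtain ⟨f, hf, hdvd, hk⟩ := h (D.n - 1) (by have := D.pos; omega)
    obtain ⟨f', hf', hdvd', hlast⟩ :=
      step_spread D (D.n - 1) (by have := D.pos; omega) f hf fun L _ _ hu => (hk L hu).1
    refine ⟨f', hf', hdvd.trans hdvd', fun i hi L _ _ hu => ?_⟩
    rcases Nat.lt_or_ge i (D.n - 1) with h' | h'
    · exact (hk L (isUnit_of_dvd_unit (map_dvd _ hdvd') hu)).2 i h'
    · obtain rfl : i = D.n - 1 := by omega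
      exact (hlast L hu).1
  intro k hk
  induction k with
  | zero =>
    refine ⟨f₀, hf₀, dvd_rfl, fun L _ _ hu => ⟨?_, fun i hi => absurd hi (by omega)⟩⟩
    have := hflat L hu
    exact Module.Flat.of_linearEquiv
      ((D.isoN.restrictScalars R).baseChange (A := L)).symm
  | succ k ih =>
    obtain ⟨f, hf, hdvd, hk'⟩ := ih (by omega)
    obtain ⟨f', hf', hdvd', hstep⟩ := step_spread D k (by omega) f hf fun L _ _ hu => (hk' L hu).1
    refine ⟨f', hf', hdvd.trans hdvd', fun L _ _ hu => ⟨?_, fun i hi => ?_⟩⟩
    · have := (hstep L hu).2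
      have : IsScalarTower R (D.B k) (D.M (k + 1)) :=
        isScalarTower_of_top R (D.B k) (D.A (k + 1)) (D.M (k + 1))
      exact Module.Flat.of_linearEquiv
        (((D.isoCoker k hk).restrictScalars R).baseChange (A := L)).symm
    · rcases Nat.lt_or_ge i k with h' | h'
      · exact (hk' L (isUnit_of_dvd_unit (map_dvd _ hdvd') hu)).2 i h'
      · obtain rfl : i = k := by omega
        exact (hstep L hu).1

include hf₀ hflat in
/-- Raynaud-Gruson: a flat finitely presented module with a complete dévissage over `p` is projective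
over a basic open of the base, a finite product of the free modules over the smooth algebras. -/
theorem exists_projective : ∃ f ∉ p, f₀ ∣ f ∧
    ∀ (L : Type u) [CommRing L] [Algebra R L], IsUnit (algebraMap R L f) →
      Module.Projective L (L ⊗[R] N) ∧
        Nonempty ((L ⊗[R] N) ≃ₗ[L] ∀ i : Fin D.n, L ⊗[R] (Fin (D.r i) → D.B i)) := by
  have : IsScalarTower R S (D.M 0) := isScalarTower_of_top R S (D.A 0) (D.M 0)
  obtain ⟨f, hf, hdvd, hinj⟩ := exists_forall_injective D hf₀ hflat
  refine ⟨f, hf, hdvd, fun L _ _ hu => ?_⟩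
  obtain ⟨n, hn⟩ : ∃ n, D.n = n + 1 := ⟨D.n - 1, by have := D.pos; omega⟩
  have hX : ∀ i, i ≤ n → Module.Projective L (L ⊗[R] (Fin (D.r i) → D.B i)) := fun i hi => by
    have := D.smooth i (by omega)
    have := projective_of_smooth_geomIrred (D.geomIrred i (by omega))
    have := projective_pi_fin R (D.B i) (D.r i)
    infer_instance
  have hstep : ∀ i, i < n → Module.Projective L (L ⊗[R] D.M (i + 1)) →
      Nonempty ((L ⊗[R] D.M i) ≃ₗ[L] (L ⊗[R] (Fin (D.r i) → D.B i)) × (L ⊗[R] D.M (i + 1))) := by
    intro i hi hproj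
    have : IsScalarTower R (D.B i) (D.M (i + 1)) :=
      isScalarTower_of_top R (D.B i) (D.A (i + 1)) (D.M (i + 1))
    let g₀ : D.M i →ₗ[R] D.M (i + 1) :=
      ((D.isoCoker i (by omega)).toLinearMap ∘ₗ (LinearMap.range (D.α i)).mkQ).restrictScalars R
    have hex₀ : Exact ((D.α i).restrictScalars R) g₀ := fun x => by
      show D.isoCoker i (by omega) (Submodule.Quotient.mk x) = 0 ↔ x ∈ Set.range (D.α i)
      rw [LinearEquiv.map_eq_zero_iff, Submodule.Quotient.mk_eq_zero]
      rfl
    have hs₀ : Surjective g₀ :=
      (D.isoCoker i (by omega)).surjective.comp (Submodule.mkQ_surjective _)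
    have hex : Exact (((D.α i).restrictScalars R).baseChange L) (g₀.baseChange L) :=
      lTensor_exact L hex₀ hs₀
    obtain ⟨l, hl⟩ := Module.projective_lifting_property (g₀.baseChange L) LinearMap.id
      (LinearMap.lTensor_surjective L hs₀)
    exact ⟨(hex.splitSurjectiveEquiv (hinj i (by omega) L hu) ⟨l, hl⟩).1⟩
  have hlast : Nonempty ((L ⊗[R] D.M n) ≃ₗ[L] (L ⊗[R] (Fin (D.r n) → D.B n))) := by
    have hs := D.cokerLast
    rw [show D.n - 1 = n by omega] at hs
    exact ⟨(LinearEquiv.ofBijective (((D.α n).restrictScalars R).baseChange L)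
      ⟨hinj n (by omega) L hu, LinearMap.lTensor_surjective L
        (g := (D.α n).restrictScalars R) hs⟩).symm⟩
  obtain ⟨hproj, ⟨e⟩⟩ := exists_equiv_pi_projective n (fun i => L ⊗[R] D.M i)
    (fun i => L ⊗[R] (Fin (D.r i) → D.B i)) hX hstep hlast
  let e₀ : L ⊗[R] N ≃ₗ[L] L ⊗[R] D.M 0 := (D.isoN.restrictScalars R).baseChange (A := L)
  refine ⟨Module.Projective.of_equiv e₀.symm, ?_⟩
  rw [hn]
  exact ⟨e₀.trans e⟩

end Main

end Groth.Agent.FlatMorDevissage
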