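import Groth.Agent.FlatMorDevissage.Reflect
import Groth.Agent.FlatMorDevissage.FlatTransfer
import Groth.Agent.FlatMorDevissage.Transport
import Groth.Agent.EGA43.InjFibre.General
import Groth.Agent.CAlgML.Projective

/-!
# Spreading one step of a complete dévissage over the base
-/

set_option autoImplicit false
set_option backward.isDefEq.respectTransparency false

universe u

open TensorProduct Function

namespace Groth.Agent.FlatMorDevissage

open Groth.Agent

section Point

variable {R B M : Type u} [CommRing R] [CommRing B] [Algebra R B] [Algebra.FinitePresentation R B]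
  [AddCommGroup M] [Module B M] [Module R M] [IsScalarTower R B M] [Module.FinitePresentation B M]
  (p : Ideal R) [(p.map (algebraMap R B)).IsPrime]

/-- At the generic point of the fibre, a map from a free module inducing an isomorphism on residue
fields into a flat finitely presented module has an inverse up to a scalar. -/
theorem exists_inverse_mul {r : ℕ} (α : (Fin r → B) →ₗ[B] M)
    (hp : (p.map (algebraMap R B)).comap (algebraMap R B) = p)
    (hbij : Bijective (α.baseChange (p.map (algebraMap R B)).ResidueField))
    (hflat : FlatCA.FlatAt R (p.map (algebraMap R B)) M) :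
    ∃ (e : B) (γ : M →ₗ[B] Fin r → B), e ∉ p.map (algebraMap R B) ∧ γ ∘ₗ α = e • LinearMap.id := by
  classical
  let ξ := p.map (algebraMap R B)
  let K := ξ.ResidueField
  have hzero : ∀ g ∈ p • (⊤ : Submodule R M), (1 : K) ⊗ₜ[B] g = 0 := by
    intro g hg
    refine Submodule.smul_induction_on hg (fun a ha w _ => ?_)
      fun v w hv hw => by rw [tmul_add, hv, hw, add_zero]
    rw [← algebraMap_smul B a w, ← TensorProduct.smul_tmul, Algebra.smul_def, mul_one,
      (Ideal.algebraMap_residueField_eq_zero).2 (Ideal.mem_map_of_mem _ ha), zero_tmul]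
  have hfib : EGA43.InjFibre.FibInjAt R B α ⟨ξ, inferInstance⟩ := by
    intro m hm
    simp only [ξ, hp] at hm ⊢
    obtain ⟨c, hc, hcm⟩ := hm
    have h1 : algebraMap B K c • α.baseChange K ((1 : K) ⊗ₜ m) = 0 := by
      rw [LinearMap.baseChange_tmul, algebraMap_smul, ← tmul_smul]
      exact hzero _ hcm
    have hcK : algebraMap B K c ≠ 0 := fun h => hc (Ideal.algebraMap_residueField_eq_zero.1 h)
    have h2 : (1 : K) ⊗ₜ[B] m = 0 :=
      hbij.1 (((smul_eq_zero.1 h1).resolve_left hcK).trans (map_zero _).symm)
    refine ⟨1, ξ.primeCompl.one_mem, ?_⟩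
    rw [one_smul, ← Finset.univ_sum_single m]
    refine Submodule.sum_mem _ fun i _ => ?_
    have h3 := congrArg (fun w => TensorProduct.rid B K
      ((LinearMap.proj (R := B) (φ := fun _ : Fin r => B) i).lTensor K w)) h2
    simp only [LinearMap.lTensor_tmul, LinearMap.proj_apply, TensorProduct.rid_tmul, map_zero] at h3
    rw [Algebra.smul_def, mul_one] at h3
    have h4 : m i ∈ p • (⊤ : Submodule R B) := by
      rw [Ideal.smul_top_eq_map]
      exact Ideal.algebraMap_residueField_eq_zero.1 h3
    exact (Submodule.map_smul'' p ⊤ (LinearMap.single R (fun _ : Fin r => B) i)).trans_le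
      (Submodule.smul_mono le_rfl le_top) (Submodule.mem_map_of_mem h4)
  have hU := EGA43.InjFibre.uInjAt_of_fibInjAt (u := α) (q := ⟨ξ, inferInstance⟩) hflat hfib
  have hinj : ∀ x, α x = 0 → ∃ c ∉ ξ, c • x = 0 := by
    intro x hx
    obtain ⟨c, hc, h⟩ := hU (X := R) (x ⊗ₜ 1)
      (by rw [AlgebraTensorModule.rTensor_tmul, hx, zero_tmul])
    refine ⟨c, hc, ?_⟩
    have h' : (c • x) ⊗ₜ[R] (1 : R) = 0 := by rw [← TensorProduct.smul_tmul', h]
    simpa using congrArg (TensorProduct.rid R _) h'
  have hcok : ⟨ξ, inferInstance⟩ ∉ Module.support B (M ⧸ LinearMap.range α) := by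
    rw [Module.mem_support_iff_nontrivial_residueField_tensorProduct, not_nontrivial_iff_subsingleton]
    refine subsingleton_of_forall_eq 0 fun z => ?_
    obtain ⟨w, rfl⟩ := LinearMap.lTensor_surjective K (Submodule.mkQ_surjective (LinearMap.range α)) z
    obtain ⟨v, rfl⟩ := hbij.2 w
    rw [LinearMap.baseChange_eq_ltensor, ← LinearMap.comp_apply, ← LinearMap.lTensor_comp,
      LinearMap.range_mkQ_comp, LinearMap.lTensor_zero, LinearMap.zero_apply]
  let f := LocalizedModule.mkLinearMap ξ.primeCompl (Fin r → B)
  let g := LocalizedModule.mkLinearMap ξ.primeCompl M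
  have hl : Bijective (IsLocalizedModule.map ξ.primeCompl f g α) := by
    refine ⟨(injective_iff_map_eq_zero _).2 fun z hz => ?_, fun w => ?_⟩
    · obtain ⟨⟨x, s⟩, rfl⟩ := IsLocalizedModule.mk'_surjective ξ.primeCompl f z
      simp only [uncurry_apply_pair] at hz ⊢
      rw [IsLocalizedModule.map_mk', IsLocalizedModule.mk'_eq_zero'] at hz
      obtain ⟨c, hc⟩ := hz
      obtain ⟨d, hd, hdx⟩ := hinj (c • x) (by rw [LinearMap.map_smul_of_tower]; exact hc)
      rw [IsLocalizedModule.mk'_eq_zero']
      exact ⟨⟨d, hd⟩ * c, by rw [mul_smul]; exact hdx⟩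
    · obtain ⟨⟨y, s⟩, rfl⟩ := IsLocalizedModule.mk'_surjective ξ.primeCompl g w
      obtain ⟨t, ht, hty⟩ := Module.notMem_support_iff'.1 hcok (Submodule.Quotient.mk y)
      rw [← Submodule.Quotient.mk_smul, Submodule.Quotient.mk_eq_zero] at hty
      obtain ⟨x, hx⟩ := hty
      refine ⟨IsLocalizedModule.mk' f x (⟨t, ht⟩ * s), ?_⟩
      rw [IsLocalizedModule.map_mk', hx, uncurry_apply_pair]
      exact IsLocalizedModule.mk'_cancel_left g y ⟨t, ht⟩ s
  let E := LinearEquiv.ofBijective _ hl
  obtain ⟨l', s₀, H⟩ := Module.FinitePresentation.exists_lift_of_isLocalizedModule ξ.primeCompl f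
    (E.symm.toLinearMap.comp g)
  have H₂ : f ∘ₗ l' ∘ₗ α = f ∘ₗ (s₀ • LinearMap.id) := by
    refine LinearMap.ext fun x => ?_
    have h := LinearMap.congr_fun H (α x)
    rw [LinearMap.comp_apply, LinearMap.smul_apply, LinearMap.comp_apply,
      ← IsLocalizedModule.map_apply ξ.primeCompl f g α x] at h
    rw [LinearMap.comp_apply, LinearMap.comp_apply, h, LinearMap.comp_apply, LinearMap.smul_apply,
      LinearMap.id_apply, LinearMap.map_smul_of_tower]
    exact congrArg _ (E.symm_apply_apply _)
  obtain ⟨s₂, hs₂⟩ := Module.Finite.exists_smul_of_comp_eq_of_isLocalizedModule ξ.primeCompl f _ _ H₂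
  refine ⟨(s₂ * s₀ : ξ.primeCompl), (s₂ : B) • l', (s₂ * s₀).2, ?_⟩
  rw [LinearMap.smul_comp, Submonoid.coe_mul, mul_smul]
  exact hs₂

end Point

/-- An element nonzero in every fibre over `f` is regular on free modules tensored with fields
over `f`. -/
theorem injective_lTensor_field {R B M : Type u} [CommRing R] [CommRing B] [Algebra R B]
    [AddCommGroup M] [Module B M] [Module R M] [IsScalarTower R B M] (hdom : FibresDomain R B)
    {r : ℕ} (α : (Fin r → B) →ₗ[B] M) (e : B) (γ : M →ₗ[B] Fin r → B)
    (hγ : γ ∘ₗ α = e • LinearMap.id) (f : R)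
    (hlift : ∀ p₀ : Ideal R, p₀.IsPrime → f ∉ p₀ → ∃ Q : Ideal B, Q.IsPrime ∧
      Q.comap (algebraMap R B) = p₀ ∧ e ∉ Q)
    (K : Type u) [Field K] [Algebra R K] (hf : IsUnit (algebraMap R K f)) :
    Injective ((α.restrictScalars R).lTensor K) := by
  classical
  have := hdom K
  obtain ⟨Q, hQ, hQover, heQ⟩ := hlift _ (RingHom.ker_isPrime (algebraMap R K))
    (fun h => hf.ne_zero h)
  have hne : (1 : K) ⊗ₜ[R] e ≠ 0 := one_tmul_ne_zero_of_notMem K Q hQover heQ
  refine (injective_iff_map_eq_zero _).2 fun z hz => ?_
  have h1 : (((e • LinearMap.id : (Fin r → B) →ₗ[B] Fin r → B)).restrictScalars R).lTensor K z = 0 := by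
    rw [← hγ]
    have : ((γ ∘ₗ α).restrictScalars R) = γ.restrictScalars R ∘ₗ α.restrictScalars R := rfl
    rw [this, LinearMap.lTensor_comp, LinearMap.comp_apply, hz, map_zero]
  have key : ∀ (i : Fin r) (w : K ⊗[R] (Fin r → B)),
      (LinearMap.proj (R := R) (φ := fun _ : Fin r => B) i).lTensor K
        ((((e • LinearMap.id : (Fin r → B) →ₗ[B] Fin r → B)).restrictScalars R).lTensor K w) =
      ((1 : K) ⊗ₜ[R] e) * (LinearMap.proj (R := R) (φ := fun _ : Fin r => B) i).lTensor K w := by
    intro i w
    induction w with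
    | zero => simp
    | tmul a x => simp
    | add x y hx hy => simp only [map_add, hx, hy, mul_add]
  apply (TensorProduct.piRight R R K fun _ : Fin r => B).injective
  refine (funext fun i => ?_ : _ = _)
  have h2 := key i z
  rw [h1, map_zero] at h2
  have h3 := (mul_eq_zero.1 h2.symm).resolve_left hne
  rw [map_zero, Pi.zero_apply, ← h3]
  clear h1 h2 h3 hz
  induction z with
  | zero => simp
  | tmul a x => simp
  | add x y hx hy => simp only [map_add, Pi.add_apply, hx, hy]

section Local

variable {L : Type u} [CommRing L] {F M : Type u} [AddCommGroup F] [Module L F] [AddCommGroup M]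
  [Module L M]

/-- A map from a projective module into a flat one, injective on all closed fibres, is injective with
flat cokernel. -/
theorem injective_flat_coker_of_fibres [Module.Projective L F] [Module.Flat L M] (u : F →ₗ[L] M)
    (h : ∀ (m : Ideal L) [m.IsMaximal], Injective (u.lTensor m.ResidueField)) :
    Injective u ∧ Module.Flat L (M ⧸ LinearMap.range u) := by
  have key : ∀ (m : Ideal L) [m.IsMaximal], Reflects (u.baseChange (Localization.AtPrime m)) := by
    intro m _
    let T := Localization.AtPrime m
    have : Module.Free T (T ⊗[L] F) := CAlgML.free_of_projective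
    refine reflects_of_free _ ?_
    have e : ∀ z : m.ResidueField ⊗[T] (T ⊗[L] F),
        TensorProduct.AlgebraTensorModule.cancelBaseChange L T T m.ResidueField M
          ((u.baseChange T).lTensor m.ResidueField z) =
        u.lTensor m.ResidueField
          (TensorProduct.AlgebraTensorModule.cancelBaseChange L T T m.ResidueField F z) := by
      intro z
      induction z with
      | zero => simp
      | add x y hx hy => simp only [map_add, hx, hy]
      | tmul a w =>
        induction w with
        | zero => simp
        | add x y hx hy => simp only [tmul_add, map_add, hx, hy]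
        | tmul t x => simp
    intro a b hab
    apply (TensorProduct.AlgebraTensorModule.cancelBaseChange L T T m.ResidueField F).injective
    apply h m
    rw [← e, ← e]
    exact congrArg _ hab
  refine ⟨(injective_iff_map_eq_zero u).2 fun x hx => ?_, ?_⟩
  · refine Module.eq_zero_of_localization_maximal (fun P _ => Localization.AtPrime P ⊗[L] F)
      (fun P _ => TensorProduct.mk L (Localization.AtPrime P) F 1) x fun P _ => ?_
    refine (key P).injective ?_
    rw [map_zero, TensorProduct.mk_apply, LinearMap.baseChange_tmul, hx, tmul_zero]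
  · refine Module.flat_of_isLocalized_maximal L (M ⧸ LinearMap.range u)
      (fun P _ => Localization.AtPrime P ⊗[L] (M ⧸ LinearMap.range u))
      (fun P _ => TensorProduct.mk L (Localization.AtPrime P) _ 1) fun P _ => ?_
    let T := Localization.AtPrime P
    have := (key P).flat_coker
    let q : T ⊗[L] M →ₗ[T] T ⊗[L] (M ⧸ LinearMap.range u) :=
      (LinearMap.range u).mkQ.baseChange T
    have hex : Exact (u.baseChange T) q :=
      lTensor_exact T (LinearMap.exact_map_mkQ_range u) (Submodule.mkQ_surjective _)
    have hsurj : Surjective q := LinearMap.lTensor_surjective T (Submodule.mkQ_surjective _)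
    have : Module.Flat T (T ⊗[L] (M ⧸ LinearMap.range u)) := Module.Flat.of_linearEquiv
      ((Submodule.quotEquivOfEq _ _ (LinearMap.exact_iff.1 hex).symm).trans
        (q.quotKerEquivOfSurjective hsurj)).symm
    exact Module.Flat.trans L T _

end Local

end Groth.Agent.FlatMorDevissage
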