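import Groth.Agent.FlatMorDevissage.WeakAssTensor
import Groth.Agent.CAlgH.WeakAssFlat
import Groth.Agent.FlatMorDevissage.SocleGlobal
import Mathlib.RingTheory.Unramified.LocalRing

/-!
# Weakly associated primes of a tensor product with a flat module: down to the base
-/

set_option autoImplicit false
set_option backward.isDefEq.respectTransparency false

universe u

open TensorProduct Function

namespace Groth.Agent.FlatMorDevissage

open Groth.Agent

attribute [local instance] Algebra.TensorProduct.rightAlgebra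

variable {R S : Type u} [CommRing R] [CommRing S] [Algebra R S]

theorem injective_rTensor_of_flat_coker {L P P' : Type u} [CommRing L] [AddCommGroup P] [Module L P]
    [Module R P] [AddCommGroup P'] [Module L P'] [Module R P'] [LinearMap.CompatibleSMul P P' R L]
    [SMul R L] [IsScalarTower R L P'] (u : P →ₗ[L] P') (hu : Injective u)
    [Module.Flat R (P' ⧸ LinearMap.range u)] (M : Type u) [AddCommGroup M] [Module R M] :
    Injective ((u.restrictScalars R).rTensor M) := by
  let g : P' →ₗ[R] (P' ⧸ LinearMap.range u) := (LinearMap.range u).mkQ.restrictScalars R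
  have hg : Surjective g := Submodule.Quotient.mk_surjective _
  have hex : Exact (u.restrictScalars R) g := fun y => LinearMap.exact_map_mkQ_range u y
  exact (LinearMap.lTensor_inj_iff_rTensor_inj M (u.restrictScalars R)).1
    (LinearMap.lTensor_injective_of_exact_of_flat g hg (u.restrictScalars R) hu hex M)

set_option maxHeartbeats 1600000 in
/-- A weakly associated prime of `N ⊗ M` where `N` is flat lies over one of `M` (finite
presentation). -/
theorem base_mem_weakAss_fp [Algebra.FinitePresentation R S] {N : Type u} [AddCommGroup N]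
    [Module S N] [Module R N] [IsScalarTower R S N] [Module.FinitePresentation S N] {M : Type u}
    [AddCommGroup M] [Module R M] (p : Ideal R) [p.IsPrime] (q : Ideal S) [q.IsPrime] [q.LiesOver p]
    (hflat : FlatCA.FlatAt R q N) (hq : q ∈ FlatCA.weakAss S (N ⊗[R] M)) :
    p ∈ FlatCA.weakAss R M := by
  obtain ⟨z, hz⟩ := CAlgH3.mem_weakAss.1 hq
  have hNq : Module.annihilator S N ≤ q := fun a ha => hz.1.2 (CAlgH3.mem_annEl.2 (by
    induction z using TensorProduct.induction_on with
    | zero => exact smul_zero _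
    | tmul n m => rw [TensorProduct.smul_tmul', Module.mem_annihilator.1 ha, TensorProduct.zero_tmul]
    | add x y hx hy =>
      have : ∀ w : N ⊗[R] M, a • w = 0 := fun w => by
        induction w using TensorProduct.induction_on with
        | zero => exact smul_zero _
        | tmul n m => rw [TensorProduct.smul_tmul', Module.mem_annihilator.1 ha, TensorProduct.zero_tmul]
        | add x y hx hy => rw [smul_add, hx, hy, add_zero]
      exact this _))
  obtain ⟨R₀, S₀, _, _, _, _, _, _, _, _, p₀, q₀, _, _, hR, hS, ho, hfp, hfl, hdev⟩ :=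
    exists_flat_devissage_nhd N p q hflat hNq
  obtain ⟨hRe, hRo, hRb⟩ := id hR
  obtain ⟨hSe, hSo, hSb⟩ := id hS
  obtain ⟨D₀, ⟨hD₀⟩⟩ := hdev
  have hflat₀ : ∀ (L : Type u) [CommRing L] [Algebra R₀ L], IsUnit (algebraMap R₀ L 1) →
      Module.Flat L (L ⊗[R₀] (S₀ ⊗[S] N)) := fun L _ _ _ => inferInstance
  have h1 : (1 : R₀) ∉ p₀ := p₀.one_notMem
  obtain ⟨f₁, hf₁, -, hproj⟩ := exists_projective D₀ h1 hflat₀
  let L := Localization.AtPrime p₀
  have hunit : ∀ f ∉ p₀, IsUnit (algebraMap R₀ L f) := fun f hf =>
    IsLocalization.map_units L (⟨f, hf⟩ : p₀.primeCompl)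
  obtain ⟨hP, -⟩ := hproj L (hunit f₁ hf₁)
  let N' := S₀ ⊗[S] N
  let P := L ⊗[R₀] N'
  let j : N' →ₗ[R₀] P := TensorProduct.mk R₀ L N' 1
  let i₀ : N →ₗ[S] N' := TensorProduct.mk S S₀ N 1
  let ψ : N →ₗ[R] P := j.restrictScalars R ∘ₗ i₀.restrictScalars R
  have : Module.Flat R L := Module.Flat.trans R R₀ L
  have : IsLocalizedModule p₀.primeCompl j :=
    (isLocalizedModule_iff_isBaseChange p₀.primeCompl L j).2 (TensorProduct.isBaseChange R₀ N' L)
  let v : P ⊗[R] M := ψ.rTensor M z
  -- multiplication by an element outside `q`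
  have hkill : ∀ r ∈ p, ∃ k : ℕ, algebraMap R L r ^ k • v = 0 := fun r hr => by
    have hrq : algebraMap R S r ∈ q := by rwa [← Ideal.mem_comap, ← Ideal.under_def, ← Ideal.over_def q p]
    obtain ⟨t, ht, k, hk⟩ := exists_mul_pow_mem_of_minimal hz hrq
    refine ⟨k, ?_⟩
    have htq : algebraMap S S₀ t ∉ q₀ := fun h => ht (by rw [hSo.over]; exact h)
    obtain ⟨f₂, hf₂, hreg⟩ := exists_forall_regular D₀ hD₀ h1 hflat₀ _ htq
    let u := (LinearMap.lsmul S₀ N' (algebraMap S S₀ t)).restrictScalars R₀
    obtain ⟨hinj, hflc⟩ := injective_flat_coker_of_fibres (u.baseChange L) fun m' _ =>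
      injective_lTensor_baseChange (L := L) (K := m'.ResidueField) u
        (hreg _ (by
          rw [IsScalarTower.algebraMap_apply R₀ L m'.ResidueField]
          exact (hunit f₂ hf₂).map _))
    let U := (u.baseChange L).restrictScalars R
    have : Module.Flat R (P ⧸ LinearMap.range (u.baseChange L)) := Module.Flat.trans R L _
    have hU : Injective (U.rTensor M) := injective_rTensor_of_flat_coker (R := R) (u.baseChange L) hinj M
    refine hU ?_
    rw [map_zero, ← map_pow, algebraMap_smul, map_smul]
    have h2 : U.rTensor M v = ψ.rTensor M (t • z) := by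
      show U.rTensor M (ψ.rTensor M z) = _
      clear hk hz hq hNq
      induction z using TensorProduct.induction_on with
      | zero => simp
      | add a b ha hb => simp only [map_add, smul_add, ha, hb]
      | tmul n m =>
        rw [TensorProduct.smul_tmul', LinearMap.rTensor_tmul, LinearMap.rTensor_tmul,
          LinearMap.rTensor_tmul]
        congr 1
        show (u.baseChange L) ((1 : L) ⊗ₜ[R₀] i₀ n) = (1 : L) ⊗ₜ[R₀] i₀ (t • n)
        rw [LinearMap.baseChange_tmul, map_smul, ← algebraMap_smul S₀ t (i₀ n)]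
        rfl
    rw [h2, ← map_smul, ← algebraMap_smul S (r ^ k), smul_smul, map_pow, mul_comm,
      CAlgH3.mem_annEl.1 hk, map_zero]
  have hv0 : v ≠ 0 := fun hv => by
    have : IsLocalizedModule p₀.primeCompl (AlgebraTensorModule.rTensor R M j) := inferInstance
    have hv' : AlgebraTensorModule.rTensor R M j ((i₀.restrictScalars R).rTensor M z) = 0 := by
      rw [← hv]
      show (j.restrictScalars R).rTensor M ((i₀.restrictScalars R).rTensor M z) = _
      rw [← LinearMap.comp_apply, ← LinearMap.rTensor_comp]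
    obtain ⟨⟨c, hc⟩, hcz⟩ :=
      (IsLocalizedModule.eq_zero_iff p₀.primeCompl (AlgebraTensorModule.rTensor R M j)).1 hv'
    let e := AlgebraTensorModule.assoc R S S S₀ N M
    have h3 : algebraMap R₀ S₀ c ⊗ₜ[S] z = 0 := by
      have h4 : ∀ w : N ⊗[R] M, e (c • (i₀.restrictScalars R).rTensor M w) = algebraMap R₀ S₀ c ⊗ₜ[S] w := by
        intro w
        induction w using TensorProduct.induction_on with
        | zero => simp
        | add a b ha hb => rw [map_add, smul_add, map_add, ha, hb, TensorProduct.tmul_add]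
        | tmul n m =>
          rw [LinearMap.rTensor_tmul, TensorProduct.smul_tmul']
          show e ((c • ((1 : S₀) ⊗ₜ[S] n)) ⊗ₜ[R] m) = _
          rw [TensorProduct.smul_tmul', Algebra.smul_def, mul_one]
          rfl
      have hcz' : c • (i₀.restrictScalars R).rTensor M z = 0 := hcz
      rw [← h4, hcz', map_zero]
    have hcq : algebraMap R₀ S₀ c ∉ q₀ := fun h => hc (by rw [ho.over]; exact h)
    obtain ⟨t, ht, htz⟩ := exists_smul_eq_zero_of_tmul q₀ z hcq h3
    rw [← Ideal.under_def, ← hSo.over] at ht
    exact ht (hz.1.2 (CAlgH3.mem_annEl.2 htz))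
  -- coordinates
  obtain ⟨s, hs⟩ := (Module.projective_def (R := L) (P := P)).1 hP
  classical
  let co : P ⊗[R] M →ₗ[L] (P →₀ L ⊗[R] M) :=
    (TensorProduct.finsuppLeft R L L M P).toLinearMap ∘ₗ AlgebraTensorModule.rTensor R M s
  have hco : Injective co := by
    rw [LinearMap.coe_comp]
    refine (LinearEquiv.injective _).comp (Function.LeftInverse.injective
      (g := AlgebraTensorModule.rTensor R M (Finsupp.linearCombination L (id : P → P))) fun w => ?_)
    induction w using TensorProduct.induction_on with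
    | zero => simp
    | add a b ha hb => simp only [map_add, ha, hb]
    | tmul x m => rw [AlgebraTensorModule.rTensor_tmul, AlgebraTensorModule.rTensor_tmul, hs x]
  obtain ⟨i, hi⟩ : ∃ i, co v i ≠ 0 := by
    by_contra! h
    exact hv0 (hco ((Finsupp.ext h).trans (map_zero co).symm))
  have hmax : (IsLocalRing.maximalIdeal L) = p.map (algebraMap R L) := by
    have := hRe
    let := Localization.AtPrime.algebraOfLiesOver p p₀
    exact ((Algebra.isUnramifiedAt_iff_map_eq R p p₀).1 inferInstance).2.symm
  have hL : IsLocalRing.maximalIdeal L ∈ FlatCA.weakAss L (L ⊗[R] M) := by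
    refine CAlgH3.mem_weakAss.2 ⟨co v i, CAlgH.WeakAssFlat.maximal_minimalPrimes
      (fun h => hi (CAlgH3.annEl_eq_top.1 h)) ?_⟩
    rw [hmax, Ideal.map_le_iff_le_comap]
    intro r hr
    obtain ⟨k, hk⟩ := hkill r hr
    refine ⟨k, CAlgH3.mem_annEl.2 ?_⟩
    rw [← Finsupp.smul_apply, ← map_smul, hk, map_zero, Finsupp.zero_apply]
  rw [← Localization.AtPrime.map_eq_maximalIdeal] at hL
  exact (CAlgH.WeakAssFlat.mem_iff_of_etale M p p₀).1
    ((CAlgH.WeakAssFlat.tensor_localized_iff p₀.primeCompl L M p₀
      (Set.disjoint_left.2 fun x hx hx' => hx hx')).2 hL)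

set_option maxHeartbeats 800000 in
/-- A weakly associated prime of `N ⊗ M` where `N` is flat lies over one of `M`. -/
theorem base_mem_weakAss [Algebra.FiniteType R S] {N : Type u} [AddCommGroup N] [Module S N]
    [Module R N] [IsScalarTower R S N] [Module.Finite S N] {M : Type u} [AddCommGroup M] [Module R M]
    (p : Ideal R) [p.IsPrime] (q : Ideal S) [q.IsPrime] [hqp : q.LiesOver p]
    (hflat : FlatCA.FlatAt R q N) (hq : q ∈ FlatCA.weakAss S (N ⊗[R] M)) :
    p ∈ FlatCA.weakAss R M := by
  obtain ⟨k, π, hπ⟩ := Algebra.FiniteType.iff_quotient_mvPolynomial''.1 ‹Algebra.FiniteType R S›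
  let P := MvPolynomial (Fin k) R
  let _ : Algebra P S := π.toRingHom.toAlgebra
  have : IsScalarTower R P S := .of_algebraMap_eq fun r => (π.commutes r).symm
  let _ : Module P N := Module.compHom N π.toRingHom
  have : IsScalarTower P S N := .of_algebraMap_smul fun _ _ => rfl
  have : IsScalarTower R P N := .of_algebraMap_smul fun a n => by
    show π (algebraMap R P a) • n = a • n
    rw [π.commutes, algebraMap_smul]
  have : Module.Finite P S := Module.Finite.of_surjective (Algebra.linearMap P S) hπ
  have : Module.Finite P N := Module.Finite.trans S N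
  let t : Ideal P := q.comap (algebraMap P S)
  have : t.LiesOver p := ⟨by
    rw [Ideal.under_def, Ideal.comap_comap, ← IsScalarTower.algebraMap_eq]
    exact hqp.over⟩
  have hflat' : FlatCA.FlatAt R t N :=
    (EGA43.FlatDescent.flat_localized_iff π.toRingHom hπ (LinearEquiv.refl R N) (fun _ _ => rfl) q).2 hflat
  obtain ⟨z, hz⟩ := CAlgH3.mem_weakAss.1 hq
  have htz : t ∈ (CAlgH3.annEl P z).minimalPrimes := by
    rw [CAlgH3.annEl_restrictScalars (A := S), Ideal.comap_minimalPrimes_eq_of_surjective (f := algebraMap P S) hπ]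
    exact ⟨q, hz, rfl⟩
  have hwt : t ∈ FlatCA.weakAss P (N ⊗[R] M) := CAlgH3.mem_weakAss.2 ⟨z, htz⟩
  let T := t.primeCompl
  let L := Localization T
  let j := LocalizedModule.mkLinearMap T N
  have : Module.FinitePresentation L (LocalizedModule T N) := fp_localization_of_flatAt N t hflat'
  obtain ⟨N₀, _, _, φ, _, hloc⟩ :=
    EGA43.Cons.exists_fp_model_module (C := P) (S' := L) (M := LocalizedModule T N) T
  let _ : Module R N₀ := Module.compHom N₀ (algebraMap R P)
  have : IsScalarTower R P N₀ := .of_algebraMap_smul fun _ _ => rfl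
  have hA₀ : FlatCA.FlatAt R t N₀ :=
    @Module.Flat.of_linearEquiv R (LocalizedModule T N) (LocalizedModule T N₀) _ _ _ _ _ hflat'
      ((IsLocalizedModule.iso T φ).restrictScalars R)
  have hd : Disjoint (T : Set P) (t : Set P) := Set.disjoint_left.2 fun x hx hx' => hx hx'
  have h1 := (CAlgH3.weakAss_localized_iff T L (AlgebraTensorModule.rTensor R M j) t inferInstance hd).1 hwt
  exact base_mem_weakAss_fp p t hA₀
    ((CAlgH3.weakAss_localized_iff T L (AlgebraTensorModule.rTensor R M φ) t inferInstance hd).2 h1)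

/-- **Weakly associated primes of a tensor product with a flat module.** -/
theorem mem_weakAss_tensor_iff [Algebra.FiniteType R S] {N : Type u} [AddCommGroup N] [Module S N]
    [Module R N] [IsScalarTower R S N] [Module.Finite S N] {M : Type u} [AddCommGroup M] [Module R M]
    (p : Ideal R) [p.IsPrime] (q : Ideal S) [q.IsPrime] [q.LiesOver p]
    (hflat : FlatCA.FlatAt R q N) :
    q ∈ FlatCA.weakAss S (N ⊗[R] M) ↔ (p ∈ FlatCA.weakAss R M ∧
      FlatCA.fiberIdeal p q ∈ associatedPrimes (p.Fiber S) (FlatCA.fiberMod p S N)) := by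
  refine ⟨fun h => ⟨base_mem_weakAss p q hflat h, ?_⟩, fun h => mem_weakAss_tensor p q hflat h.1 h.2⟩
  obtain ⟨z, hz⟩ := CAlgH3.mem_weakAss.1 h
  exact fiberIdeal_mem_of_minimal z q hz p hflat

end Groth.Agent.FlatMorDevissage
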