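import Groth.Agent.FlatMorDevissage.AssSpec

/-!
# Weakly associated primes of a tensor product with a flat module: from the base and the fibre
-/

set_option autoImplicit false
set_option backward.isDefEq.respectTransparency false

universe u

open TensorProduct Function

namespace Groth.Agent.FlatMorDevissage

open Groth.Agent

attribute [local instance] Algebra.TensorProduct.rightAlgebra

theorem exists_mul_pow_mem_of_minimal {A : Type u} [CommRing A] {I P : Ideal A}
    (hP : P ∈ I.minimalPrimes) {s : A} (hs : s ∈ P) : ∃ y ∉ P, ∃ m : ℕ, y * s ^ m ∈ I := by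
  have := hP.1.1
  by_contra! h
  obtain ⟨Q, hQ, hIQ, hdisj⟩ := Ideal.exists_le_prime_disjoint I
    (P.primeCompl ⊔ Submonoid.powers s) (Set.disjoint_left.2 fun x hx hx' => by
      obtain ⟨y, hy, _, ⟨m, rfl⟩, rfl⟩ := Submonoid.mem_sup.1 hx'
      exact h y hy m hx)
  have hQP : Q ≤ P := fun x hx => by
    by_contra hxP
    exact Set.disjoint_left.1 hdisj hx (Submonoid.mem_sup_left hxP)
  exact Set.disjoint_left.1 hdisj (hP.2 ⟨hQ, hIQ⟩ hQP hs) (Submonoid.mem_sup_right ⟨1, pow_one s⟩)

variable {R S : Type u} [CommRing R] [CommRing S] [Algebra R S]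

/-- Finitely many elements of a weakly associated prime can be killed together. -/
theorem exists_scalar_killing {M : Type u} [AddCommGroup M] [Module R M] {p : Ideal R} [p.IsPrime]
    {m : M} (hm : p ∈ (CAlgH3.annEl R m).minimalPrimes) (C : Finset R) (hC : ∀ c ∈ C, c ∈ p) :
    ∃ e : R, (∀ b ∉ p, b • e • m ≠ 0) ∧ ∀ c ∈ C, ∃ b ∉ p, b • c • e • m = 0 := by
  classical
  induction C using Finset.induction_on with
  | empty =>
    refine ⟨1, fun b hb h => hb (hm.1.2 (CAlgH3.mem_annEl.2 ?_)), fun c hc => absurd hc (by simp)⟩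
    rwa [one_smul] at h
  | insert c C hcC ih =>
    obtain ⟨e, he, heC⟩ := ih fun c' hc' => hC c' (Finset.mem_insert_of_mem hc')
    have hIp : CAlgH3.annEl R (e • m) ≤ p := fun b hb => by
      by_contra hbp
      exact he b hbp (CAlgH3.mem_annEl.1 hb)
    have hmin : p ∈ (CAlgH3.annEl R (e • m)).minimalPrimes := CAlgH3.minimalPrimes_anti hm
      (fun b hb => CAlgH3.mem_annEl.2 (by rw [smul_comm, CAlgH3.mem_annEl.1 hb, smul_zero])) hIp
    obtain ⟨y, hy, k, hk⟩ := exists_mul_pow_mem_of_minimal hmin (hC c (Finset.mem_insert_self c C))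
    have hex : ∃ k : ℕ, ∃ b ∉ p, b • c ^ k • e • m = 0 :=
      ⟨k, y, hy, by rw [smul_smul]; exact CAlgH3.mem_annEl.1 hk⟩
    obtain ⟨b, hb, hbk⟩ := Nat.find_spec hex
    cases hk0 : Nat.find hex with
    | zero =>
      rw [hk0, pow_zero, one_smul] at hbk
      exact absurd hbk (he b hb)
    | succ j =>
      rw [hk0] at hbk
      refine ⟨c ^ j * e, fun b' hb' h => Nat.find_min hex (m := j) (by omega) ⟨b', hb', ?_⟩,
        fun c' hc' => ?_⟩
      · rwa [mul_smul] at h
      · rcases Finset.mem_insert.1 hc' with rfl | hc'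
        · refine ⟨b, hb, ?_⟩
          rw [pow_succ', mul_smul] at hbk
          rwa [mul_smul]
        · obtain ⟨b', hb', h⟩ := heC c' hc'
          refine ⟨b', hb', ?_⟩
          rw [mul_smul, smul_comm c' (c ^ j), smul_comm b' (c ^ j), h, smul_zero]

theorem exists_finset_smul_mem {N : Type u} [AddCommGroup N] [Module R N] {p : Ideal R} {x : N}
    (hx : x ∈ p • (⊤ : Submodule R N)) :
    ∃ C : Finset R, (∀ c ∈ C, c ∈ p) ∧ x ∈ Ideal.span (C : Set R) • (⊤ : Submodule R N) := by
  classical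
  refine Submodule.smul_induction_on hx (fun a ha n _ => ?_) (fun a b ha hb => ?_)
  · exact ⟨{a}, by simpa using ha, Submodule.smul_mem_smul (Ideal.subset_span (by simp)) trivial⟩
  · obtain ⟨C₁, h₁, m₁⟩ := ha
    obtain ⟨C₂, h₂, m₂⟩ := hb
    refine ⟨C₁ ∪ C₂, fun c hc => (Finset.mem_union.1 hc).elim (h₁ c) (h₂ c), add_mem ?_ ?_⟩
    · exact Submodule.smul_mono_left (Ideal.span_mono (Finset.coe_subset.2 Finset.subset_union_left)) m₁
    · exact Submodule.smul_mono_left (Ideal.span_mono (Finset.coe_subset.2 Finset.subset_union_right)) m₂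

set_option maxHeartbeats 800000 in
/-- `p` weakly associated to `M` and `q` associated in its fibre give `q` weakly associated to
`N ⊗ M`. -/
theorem mem_weakAss_tensor [Algebra.FiniteType R S] {N : Type u} [AddCommGroup N] [Module S N]
    [Module R N] [IsScalarTower R S N] {M : Type u} [AddCommGroup M] [Module R M] (p : Ideal R)
    [p.IsPrime] (q : Ideal S) [q.IsPrime] [hq : q.LiesOver p] (hflat : FlatCA.FlatAt R q N)
    (hp : p ∈ FlatCA.weakAss R M)
    (hass : FlatCA.fiberIdeal p q ∈ associatedPrimes (p.Fiber S) (FlatCA.fiberMod p S N)) :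
    q ∈ FlatCA.weakAss S (N ⊗[R] M) := by
  classical
  have : IsNoetherianRing (p.Fiber S) := Algebra.FiniteType.isNoetherianRing p.ResidueField _
  obtain ⟨m, hm⟩ := CAlgH3.mem_weakAss.1 hp
  obtain ⟨-, w, hw⟩ := isAssociatedPrime_iff.1 hass
  obtain ⟨n, hn⟩ := CAlgH3.FiberMod.exists_annEl_eq_toFiberMod (S := S) p w
  have hann : CAlgH3.annEl S (FlatCA.toFiberMod p S N n) = q := by
    rw [hn, CAlgH3.FiberMod.annEl_fiber, ← CAlgH3.colon_bot_singleton, ← hw, comap_fiberIdeal]
  -- generators of `q` modulo `p` after localizing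
  obtain ⟨G, hG⟩ := IsNoetherian.noetherian (FlatCA.fiberIdeal p q)
  choose a ha t ht using fun g : p.Fiber S => CAlgH3.FiberMod.exists_ι_mul_eq p g
  let F : Finset S := G.image t
  have hF : ∀ f ∈ F, f ∈ q := fun f hf => by
    obtain ⟨g, hg, rfl⟩ := Finset.mem_image.1 hf
    rw [← comap_fiberIdeal p q, Ideal.mem_comap, ← ht]
    exact Ideal.mul_mem_left _ _ (hG ▸ Submodule.subset_span hg)
  have hgen : ∀ s ∈ q, ∃ r ∉ p, algebraMap R S r * s ∈
      p.map (algebraMap R S) ⊔ Ideal.span (F : Set S) := fun s hs => by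
    let J := Ideal.span (F : Set S)
    let mk : S →ₗ[S] S ⧸ J := Submodule.mkQ J
    have h1 : algebraMap S (p.Fiber S) s ∈ J.map (algebraMap S (p.Fiber S)) := by
      have h2 : algebraMap S (p.Fiber S) s ∈ FlatCA.fiberIdeal p q := Ideal.mem_map_of_mem _ hs
      rw [← hG] at h2
      refine (Submodule.span_le (p := J.map (algebraMap S (p.Fiber S)))).2 (fun g hg => ?_) h2
      refine (Ideal.unit_mul_mem_iff_mem _ (CAlgH3.FiberMod.isUnit_ι (S := S) p (ha g))).1 ?_
      rw [ht]
      exact Ideal.mem_map_of_mem _ (Ideal.subset_span (Finset.mem_image_of_mem t hg))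
    have h3 : J.map (algebraMap S (p.Fiber S)) ≤
        CAlgH3.annEl (p.Fiber S) (FlatCA.toFiberMod p S (S ⧸ J) (mk 1)) := by
      refine Ideal.map_le_iff_le_comap.2 fun j hj => ?_
      rw [Ideal.mem_comap, CAlgH3.mem_annEl, ← CAlgH3.FiberMod.smul_fiberMod, ← map_smul, ← map_smul,
        smul_eq_mul, mul_one, show mk j = 0 from (Submodule.Quotient.mk_eq_zero J).2 hj, map_zero]
    have h4 := CAlgH3.mem_annEl.1 (h3 h1)
    rw [← CAlgH3.FiberMod.smul_fiberMod, ← map_smul, ← map_smul, smul_eq_mul, mul_one,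
      CAlgH3.FiberMod.toFiberMod_eq_zero_iff, ← Submodule.range_mkQ J, ← Submodule.map_top,
      ← Submodule.map_smul''] at h4
    obtain ⟨r, hr, hrs⟩ := h4
    rw [← map_smul] at hrs
    obtain ⟨y, hy, hys⟩ := Submodule.mem_map.1 hrs
    refine ⟨r, hr, ?_⟩
    rw [Ideal.smul_eq_mul, Ideal.mul_top] at hy
    have h5 : algebraMap R S r * s - y ∈ J := by
      have h6 := hys.symm
      rwa [Submodule.mkQ_apply, Submodule.mkQ_apply, Submodule.Quotient.eq] at h6
    rw [show algebraMap R S r * s = y + (algebraMap R S r * s - y) by ring]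
    exact Submodule.add_mem_sup hy h5
  -- coefficients
  have hcoef : ∀ f ∈ F, ∃ r ∉ p, ∃ C : Finset R, (∀ c ∈ C, c ∈ p) ∧
      algebraMap R S r • f • n ∈ Ideal.span (C : Set R) • (⊤ : Submodule R N) := fun f hf => by
    have h1 : FlatCA.toFiberMod p S N (f • n) = 0 := by
      rw [map_smul]
      exact CAlgH3.mem_annEl.1 (hann.ge (hF f hf))
    obtain ⟨r, hr, hrn⟩ := (CAlgH3.FiberMod.toFiberMod_eq_zero_iff N p _).1 h1
    exact ⟨r, hr, exists_finset_smul_mem ((smul_top_restrict (B := S) p _).2 hrn)⟩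
  choose! r hr C hC hrC using hcoef
  obtain ⟨e, he, heC⟩ := exists_scalar_killing hm (F.biUnion C) fun c hc => by
    obtain ⟨f, hf, hc⟩ := Finset.mem_biUnion.1 hc
    exact hC f hf c hc
  let z : N ⊗[R] M := n ⊗ₜ (e • m)
  -- the annihilator is inside `q`
  have hzq : CAlgH3.annEl S z ≤ q := fun c hc => by
    by_contra hcq
    let T := q.primeCompl
    let j := LocalizedModule.mkLinearMap T N
    let I := CAlgH3.annEl R (e • m)
    have hIp : I ≤ p := fun b hb => by
      by_contra hbp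
      exact he b hbp (CAlgH3.mem_annEl.1 hb)
    let g : (R ⧸ I) →ₗ[R] M := Submodule.liftQ I (LinearMap.toSpanSingleton R M (e • m))
      fun b hb => CAlgH3.mem_annEl.1 hb
    have hg : Injective g := by
      rw [← LinearMap.ker_eq_bot,
        Submodule.ker_liftQ_eq_bot _ _ _ fun b hb => CAlgH3.mem_annEl.2 (LinearMap.mem_ker.1 hb)]
    have : Module.Flat R (LocalizedModule T N) := hflat
    have h1 : (j.restrictScalars R).rTensor M (c • z) = 0 := by
      rw [CAlgH3.mem_annEl.1 hc, map_zero]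
    have h2 : j (c • n) ⊗ₜ[R] (1 : R ⧸ I) = 0 := by
      refine Module.Flat.lTensor_preserves_injective_linearMap (M := LocalizedModule T N) g hg ?_
      rw [LinearMap.lTensor_tmul, map_zero]
      show j (c • n) ⊗ₜ[R] g (Submodule.Quotient.mk 1) = 0
      rw [Submodule.liftQ_apply, LinearMap.toSpanSingleton_apply, one_smul]
      rw [TensorProduct.smul_tmul', LinearMap.rTensor_tmul] at h1
      exact h1
    rw [EGA43.InjFibre.tmul_one_quotient_eq_zero_iff] at h2
    have h3 : j (c • n) ∈ p.map (algebraMap R S) • (⊤ : Submodule S (LocalizedModule T N)) :=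
      (smul_top_restrict p _).1 (Submodule.smul_mono_left hIp h2)
    obtain ⟨d, hd⟩ := exists_smul_mem_of_map_mem T j _ _ h3
    have h4 : (d : S) * c ∈ q := by
      rw [← hann, CAlgH3.mem_annEl, ← map_smul, mul_smul]
      exact CAlgH3.FiberMod.toFiberMod_mk_eq_zero p hd
    exact (Ideal.IsPrime.mem_or_mem ‹q.IsPrime› h4).elim d.2 hcq
  refine CAlgH3.mem_weakAss.2 ⟨z, ⟨⟨inferInstance, hzq⟩, fun Q hQ hQq => ?_⟩⟩
  have := hQ.1
  have hunit : ∀ b ∉ p, algebraMap R S b ∉ Q := fun b hb h => hb (by rw [hq.over]; exact hQq h)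
  have hpQ : ∀ b ∈ p, algebraMap R S b ∈ Q := fun b hb => by
    obtain ⟨y, hy, k, hk⟩ := exists_mul_pow_mem_of_minimal hm hb
    have h1 : algebraMap R S (y * b ^ k) ∈ Q := hQ.2 (CAlgH3.mem_annEl.2 (by
      rw [algebraMap_smul, ← TensorProduct.tmul_smul, smul_comm, CAlgH3.mem_annEl.1 hk, smul_zero,
        TensorProduct.tmul_zero]))
    rw [map_mul, map_pow] at h1
    exact hQ.1.mem_of_pow_mem k ((hQ.1.mem_or_mem h1).resolve_left (hunit y hy))
  have hspan : ∀ c ∈ Ideal.span (↑(F.biUnion C) : Set R), ∃ b ∉ p, b • c • e • m = 0 := fun c hc => by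
    induction hc using Submodule.span_induction with
    | zero => exact ⟨1, p.one_notMem, by simp⟩
    | mem c hc => exact heC c hc
    | add c c' _ _ hc hc' =>
      obtain ⟨b, hb, h⟩ := hc
      obtain ⟨b', hb', h'⟩ := hc'
      refine ⟨b * b', p.primeCompl.mul_mem hb hb', ?_⟩
      rw [add_smul, smul_add, mul_smul, mul_smul, smul_comm b b' (c • e • m), h, h', smul_zero,
        smul_zero, add_zero]
    | smul a c _ hc =>
      obtain ⟨b, hb, h⟩ := hc
      exact ⟨b, hb, by rw [smul_eq_mul, mul_smul, smul_comm, h, smul_zero]⟩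
  have hkill : ∀ x ∈ Ideal.span (↑(F.biUnion C) : Set R) • (⊤ : Submodule R N),
      ∃ b ∉ p, b • (x ⊗ₜ[R] (e • m)) = 0 := fun x hx => by
    refine Submodule.smul_induction_on hx (fun c hc y _ => ?_) (fun x y hx hy => ?_)
    · obtain ⟨b, hb, h⟩ := hspan c hc
      exact ⟨b, hb, by rw [TensorProduct.smul_tmul, ← TensorProduct.tmul_smul, h, TensorProduct.tmul_zero]⟩
    · obtain ⟨b, hb, h⟩ := hx
      obtain ⟨b', hb', h'⟩ := hy
      refine ⟨b * b', p.primeCompl.mul_mem hb hb', ?_⟩
      rw [TensorProduct.add_tmul, smul_add, mul_smul, mul_smul, smul_comm b b' (x ⊗ₜ[R] (e • m)), h,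
        h', smul_zero, smul_zero, add_zero]
  have hFQ : Ideal.span (F : Set S) ≤ Q := Ideal.span_le.2 fun f hf => by
    obtain ⟨b, hb, hbz⟩ := hkill _ (Submodule.smul_mono_left
      (Ideal.span_mono (Finset.coe_subset.2 (Finset.subset_biUnion_of_mem C hf))) (hrC f hf))
    have h1 : algebraMap R S (b * r f) * f ∈ Q := hQ.2 (CAlgH3.mem_annEl.2 (by
      rw [map_mul, mul_smul, mul_smul, algebraMap_smul, ← hbz, TensorProduct.smul_tmul',
        TensorProduct.smul_tmul']))
    exact (hQ.1.mem_or_mem h1).resolve_left (hunit _ (p.primeCompl.mul_mem hb (hr f hf)))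
  intro s hs
  obtain ⟨r', hr', hrs⟩ := hgen s hs
  have hle : p.map (algebraMap R S) ⊔ Ideal.span (F : Set S) ≤ Q :=
    sup_le (Ideal.map_le_iff_le_comap.2 hpQ) hFQ
  exact (hQ.1.mem_or_mem (hle hrs)).resolve_left (hunit r' hr')

end Groth.Agent.FlatMorDevissage
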