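import Groth.Agent.FlatMorDevissage.Chain

/-!
# The dévissage of the zero module
-/

set_option autoImplicit false
set_option backward.isDefEq.respectTransparency false

universe u

open TensorProduct Function

namespace Groth.Agent.FlatMorDevissage

open Groth.Agent

theorem map_algebraMap_self {R : Type u} [CommRing R] (p : Ideal R) :
    p.map (algebraMap R R) = p := Ideal.map_id p

/-- The zero module has a complete dévissage, with one step on the zero ring. -/
theorem nonempty_completeDevissage_of_subsingleton (R S : Type u) [CommRing R] [CommRing S]
    [Algebra R S] (N : Type u) [AddCommGroup N] [Module S N] [Subsingleton N] (p : Ideal R)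
    [p.IsPrime] : Nonempty (FlatCA.CompleteDevissage R S N p) := by
  have hξ : (p.map (algebraMap R R)).IsPrime := (map_algebraMap_self p).symm ▸ inferInstance
  exact ⟨{
    n := 1
    pos := one_pos
    A := fun _ => S ⧸ (⊤ : Ideal S)
    B := fun _ => R
    M := fun _ => PUnit.{u + 1}
    r := fun _ => 0
    hp := fun _ => hξ
    aBA' := fun _ => inferInstance
    α := fun _ => 0
    surjSA := Ideal.Quotient.mk_surjective
    fpSA := Algebra.FinitePresentation.quotient ⟨{1}, by simp⟩
    surjBA' := fun i hi => absurd hi (by omega)
    fpBA' := fun i hi => absurd hi (by omega)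
    finiteBA := fun _ _ => by
      have : Subsingleton (S ⧸ (⊤ : Ideal S)) := Ideal.Quotient.subsingleton_iff.2 rfl
      infer_instance
    smooth := fun _ _ => inferInstance
    geomIrred := fun _ _ => geomIrredFibres_of_fibresDomain fun K _ _ =>
      (Algebra.TensorProduct.rid R K K).toMulEquiv.isDomain _
    finiteM := fun _ _ => inferInstance
    isoN := 0
    isoCoker := fun i hi => absurd hi (by omega)
    fibreIso := fun _ _ => ⟨Function.injective_of_subsingleton _, fun x => ⟨0, Subsingleton.elim _ _⟩⟩
    cokerLast := fun x => ⟨0, Subsingleton.elim _ _⟩ }⟩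

end Groth.Agent.FlatMorDevissage
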